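import Mathlib
import Cfsg.Prelude.Def_ClassificationK
import Cfsg.Prelude.Def_Transfer

/-!
# ODD D5, `n = 6`, `C_G(x)/⟨x⟩ = Aut(A_6)`: the case "symplectic type", part 1 (orders)

`SymT x z`: what is used of `T = C(x) ∩ C(z)`, of order `64`. `SymF z F`: `F` is an extraspecial normal subgroup of
`C(z)` with `C(F) ≤ F`. Result `card_F`: `|F| ∈ {2⁵, 2⁷}`.
-/

set_option autoImplicit false

namespace Cfsg.Agent.OddHalf.D5.SixAut

open Subgroup Cfsg

variable {G : Type*} [Group G]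

/-- `T = C(x) ∩ C(z)` -/
abbrev STT (x z : G) : Subgroup G := centralizer ({x} : Set G) ⊓ centralizer ({z} : Set G)

theorem mem_STT {x z g : G} : g ∈ STT x z ↔ g * x = x * g ∧ g * z = z * g := by
  rw [mem_inf, mem_centralizer_singleton_iff, mem_centralizer_singleton_iff]

/-- what the case "symplectic type" uses of `T = C(x) ∩ C(z)` -/
structure SymT (x z : G) : Prop where
  xx : x * x = 1
  x1 : x ≠ 1
  zz : z * z = 1
  z1 : z ≠ 1
  xz : x * z = z * x
  nxz : x ≠ z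
  card : Nat.card ↥(centralizer ({x} : Set G) ⊓ centralizer ({z} : Set G)) = 64
  wit : ∃ v f r : G, v ∈ STT x z ∧ f ∈ STT x z ∧ r ∈ STT x z ∧
    (r * v * r⁻¹ * v⁻¹) * (r * v * r⁻¹ * v⁻¹) ≠ 1 ∧
    v * (r * v * r⁻¹ * v⁻¹) ≠ (r * v * r⁻¹ * v⁻¹) * v ∧
    (f * v) * (r * v * r⁻¹ * v⁻¹) ≠ (r * v * r⁻¹ * v⁻¹) * (f * v) ∧
    r * f ≠ f * r ∧ (r * v) * f ≠ f * (r * v)

/-- an extraspecial normal subgroup of `C(z)` containing its centralizer -/
structure SymF (z : G) (F : Subgroup G) : Prop where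
  zF : z ∈ F
  leC : ∀ a ∈ F, a * z = z * a
  comm : ∀ a ∈ F, ∀ b ∈ F, a * b = b * a ∨ a * b = z * (b * a)
  sq : ∀ a ∈ F, a * a = 1 ∨ a * a = z
  cen : ∀ a ∈ F, (∀ b ∈ F, a * b = b * a) → a = 1 ∨ a = z
  norm : ∀ g : G, g * z = z * g → ∀ a ∈ F, g * a * g⁻¹ ∈ F
  self : ∀ g : G, (∀ a ∈ F, g * a = a * g) → g ∈ F

namespace SymF

variable {x z : G} {F : Subgroup G}

/-- `{p ∈ F | [x, p] ∈ ⟨z⟩}` -/
def PP (h : SymF z F) (zz : z * z = 1) (_xz : x * z = z * x) : Subgroup G where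
  carrier := {p | p ∈ F ∧ (x * p * x⁻¹ = p ∨ x * p * x⁻¹ = z * p)}
  one_mem' := ⟨F.one_mem, Or.inl (by group)⟩
  mul_mem' := by
    rintro p q ⟨hp, ep⟩ ⟨hq, eq⟩
    refine ⟨F.mul_mem hp hq, ?_⟩
    have e : x * (p * q) * x⁻¹ = (x * p * x⁻¹) * (x * q * x⁻¹) := by group
    rw [e]
    rcases ep with ep | ep <;> rcases eq with eq | eq <;> rw [ep, eq]
    · left; rfl
    · right; rw [← mul_assoc, h.leC p hp, mul_assoc]
    · right; rw [mul_assoc]
    · left
      calc z * p * (z * q) = z * (p * z) * q := by group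
        _ = (z * z) * (p * q) := by rw [h.leC p hp]; group
        _ = p * q := by rw [zz, one_mul]
  inv_mem' := by
    rintro p ⟨hp, ep⟩
    refine ⟨F.inv_mem hp, ?_⟩
    have e : x * p⁻¹ * x⁻¹ = (x * p * x⁻¹)⁻¹ := by group
    have hz : z⁻¹ = z := inv_eq_of_mul_eq_one_left zz
    rcases ep with ep | ep
    · left; rw [e, ep]
    · right
      rw [e, ep, mul_inv_rev, hz]
      have h1 := h.leC p⁻¹ (F.inv_mem hp)
      exact h1

theorem mem_PP (h : SymF z F) (zz : z * z = 1) (xz : x * z = z * x) {p : G} :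
    p ∈ h.PP zz xz ↔ p ∈ F ∧ (x * p * x⁻¹ = p ∨ x * p * x⁻¹ = z * p) := Iff.rfl

/-- `N = C_F(x)` -/
abbrev NN (F : Subgroup G) (x : G) : Subgroup G := F ⊓ centralizer ({x} : Set G)

theorem mem_NN {g : G} : g ∈ NN F x ↔ g ∈ F ∧ g * x = x * g := by
  rw [mem_inf, mem_centralizer_singleton_iff]

theorem NN_le_PP (h : SymF z F) (zz : z * z = 1) (xz : x * z = z * x) : NN F x ≤ h.PP zz xz := by
  intro g hg
  rw [mem_NN] at hg
  refine ⟨hg.1, Or.inl ?_⟩
  rw [← hg.2]; group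

theorem card_PP_le [Finite G] (h : SymF z F) (zz : z * z = 1) (xz : x * z = z * x) :
    Nat.card ↥(h.PP zz xz) ≤ 2 * Nat.card ↥(NN F x) := by
  classical
  by_cases hP : ∃ p0 ∈ h.PP zz xz, x * p0 * x⁻¹ = z * p0
  · obtain ⟨p0, hp0, e0⟩ := hP
    have key : ∀ p ∈ h.PP zz xz, ¬ p ∈ NN F x → p * p0⁻¹ ∈ NN F x := by
      intro p hp hn
      rw [mem_NN]
      refine ⟨F.mul_mem hp.1 (F.inv_mem hp0.1), ?_⟩
      have ep : x * p * x⁻¹ = z * p := by
        rcases hp.2 with e | e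
        · exfalso
          apply hn
          rw [mem_NN]
          refine ⟨hp.1, ?_⟩
          exact (mul_inv_eq_iff_eq_mul.1 e).symm
        · exact e
      have e1 : x * (p * p0⁻¹) * x⁻¹ = p * p0⁻¹ := by
        calc x * (p * p0⁻¹) * x⁻¹ = (x * p * x⁻¹) * (x * p0 * x⁻¹)⁻¹ := by group
          _ = z * (p * p0⁻¹) * z⁻¹ := by rw [ep, e0]; group
          _ = (p * p0⁻¹) * z * z⁻¹ := by rw [h.leC _ (F.mul_mem hp.1 (F.inv_mem hp0.1))]
          _ = _ := by group
      exact (mul_inv_eq_iff_eq_mul.1 e1).symm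
    let φ : ↥(h.PP zz xz) → ↥(NN F x) × Bool := fun p =>
      if hp : (p : G) ∈ NN F x then (⟨p, hp⟩, false) else (⟨p * p0⁻¹, key p p.2 hp⟩, true)
    have hφ : Function.Injective φ := by
      intro p q e
      simp only [φ] at e
      split_ifs at e with h1 h2 h2
      · have := congrArg (fun t : ↥(NN F x) × Bool => (t.1 : G)) e
        exact Subtype.ext this
      · exact absurd (congrArg Prod.snd e) Bool.false_ne_true
      · exact absurd (congrArg Prod.snd e).symm Bool.false_ne_true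
      · have := congrArg (fun t : ↥(NN F x) × Bool => (t.1 : G)) e
        exact Subtype.ext (mul_right_cancel this)
    have := Nat.card_le_card_of_injective φ hφ
    rw [Nat.card_prod, Nat.card_eq_fintype_card (α := Bool), Fintype.card_bool, mul_comm] at this
    exact this
  · push Not at hP
    have hle : h.PP zz xz ≤ NN F x := by
      intro p hp
      rw [mem_NN]
      refine ⟨hp.1, ?_⟩
      rcases hp.2 with e | e
      · exact (mul_inv_eq_iff_eq_mul.1 e).symm
      · exact absurd e (hP p hp)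
    have := Nat.card_le_card_of_injective _ (Subgroup.inclusion_injective hle)
    omega

theorem comm_mem_PP (h : SymF z F) (zz : z * z = 1) (xx : x * x = 1) (xz : x * z = z * x) {f : G} (hf : f ∈ F) :
    x * f * x⁻¹ * f⁻¹ ∈ h.PP zz xz := by
  have hxi : x⁻¹ = x := inv_eq_of_mul_eq_one_left xx
  have hmem : x * f * x⁻¹ * f⁻¹ ∈ F := F.mul_mem (h.norm x xz f hf) (F.inv_mem hf)
  refine ⟨hmem, ?_⟩
  set g := x * f * x⁻¹ * f⁻¹ with hg
  have e1 : x * g * x⁻¹ = g⁻¹ := by
    calc x * g * x⁻¹ = (x * x) * f * x⁻¹ * f⁻¹ * x⁻¹ := by rw [hg]; group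
      _ = f * x⁻¹ * f⁻¹ * x⁻¹ := by rw [xx, one_mul]
      _ = f * x * f⁻¹ * x⁻¹ := by rw [hxi]
      _ = g⁻¹ := by rw [hg]; group
  rw [e1]
  have hz : z⁻¹ = z := inv_eq_of_mul_eq_one_left zz
  rcases h.sq g hmem with e | e
  · left; exact inv_eq_of_mul_eq_one_left e
  · right
    have e2 : g⁻¹ * (g * g) = g⁻¹ * z := by rw [e]
    rw [inv_mul_cancel_left] at e2
    -- g = g⁻¹ z
    have e3 : g⁻¹ * z = z * g⁻¹ := h.leC _ (F.inv_mem hmem)
    calc g⁻¹ = (z * z) * g⁻¹ := by rw [zz, one_mul]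
      _ = z * (z * g⁻¹) := by group
      _ = z * (g⁻¹ * z) := by rw [e3]
      _ = z * g := by rw [← e2]

/-- the map `f ↦ [x, f]` on `F/N` -/
noncomputable def psi (h : SymF z F) (zz : z * z = 1) (xx : x * x = 1) (xz : x * z = z * x) :
    ↥F ⧸ (NN F x).subgroupOf F → ↥(h.PP zz xz) :=
  fun q => ⟨x * (q.out : ↥F) * x⁻¹ * ((q.out : ↥F) : G)⁻¹, h.comm_mem_PP zz xx xz (q.out : ↥F).2⟩

theorem psi_inj (h : SymF z F) (zz : z * z = 1) (xx : x * x = 1) (xz : x * z = z * x) :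
    Function.Injective (h.psi zz xx xz) := by
  intro p q e
  have e1 : x * ((p.out : ↥F) : G) * x⁻¹ * ((p.out : ↥F) : G)⁻¹ = x * ((q.out : ↥F) : G) * x⁻¹ * ((q.out : ↥F) : G)⁻¹ :=
    congrArg Subtype.val e
  rw [← QuotientGroup.out_eq' p, ← QuotientGroup.out_eq' q, QuotientGroup.eq, mem_subgroupOf, mem_NN]
  refine ⟨SetLike.coe_mem _, ?_⟩
  show (((p.out : ↥F) : G)⁻¹ * ((q.out : ↥F) : G)) * x = x * (((p.out : ↥F) : G)⁻¹ * ((q.out : ↥F) : G))
  generalize ((p.out : ↥F) : G) = a at e1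
  generalize ((q.out : ↥F) : G) = b at e1
  have e2 : a * x⁻¹ * a⁻¹ = b * x⁻¹ * b⁻¹ := by
    calc a * x⁻¹ * a⁻¹ = x⁻¹ * (x * a * x⁻¹ * a⁻¹) := by group
      _ = x⁻¹ * (x * b * x⁻¹ * b⁻¹) := by rw [e1]
      _ = b * x⁻¹ * b⁻¹ := by group
  have e3 : a * x * a⁻¹ = b * x * b⁻¹ := by
    have := congrArg (·⁻¹) e2
    simpa [mul_assoc] using this
  calc (a⁻¹ * b) * x = a⁻¹ * (b * x * b⁻¹) * b := by group
    _ = a⁻¹ * (a * x * a⁻¹) * b := by rw [e3]
    _ = x * (a⁻¹ * b) := by group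

theorem card_F_eq [Finite G] (F : Subgroup G) (x : G) :
    Nat.card ↥F = Nat.card (↥F ⧸ (NN F x).subgroupOf F) * Nat.card ↥(NN F x) := by
  rw [Subgroup.card_eq_card_quotient_mul_card_subgroup ((NN F x).subgroupOf F)]
  congr 1
  exact Nat.card_congr (subgroupOfEquivOfLe inf_le_left).toEquiv

theorem card_le [Finite G] (h : SymF z F) (zz : z * z = 1) (xx : x * x = 1) (xz : x * z = z * x) :
    Nat.card ↥F ≤ Nat.card ↥(h.PP zz xz) * Nat.card ↥(NN F x) := by
  rw [card_F_eq F x]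
  exact Nat.mul_le_mul_right _ (Nat.card_le_card_of_injective _ (h.psi_inj zz xx xz))

/-- `|F| ≤ 2 |C_F(x)|²` -/
theorem card_le' [Finite G] (h : SymF z F) (zz : z * z = 1) (xx : x * x = 1) (xz : x * z = z * x) :
    Nat.card ↥F ≤ 2 * Nat.card ↥(NN F x) * Nat.card ↥(NN F x) :=
  (h.card_le zz xx xz).trans (Nat.mul_le_mul_right _ (h.card_PP_le zz xz))

/-- if `|F| = 2 |C_F(x)|²` then `C_F(x) ≤ [F, x]` -/
theorem surj_of_eq [Finite G] (h : SymF z F) (zz : z * z = 1) (xx : x * x = 1) (xz : x * z = z * x)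
    (he : Nat.card ↥F = 2 * Nat.card ↥(NN F x) * Nat.card ↥(NN F x)) {p : G} (hp : p ∈ NN F x) :
    ∃ f ∈ F, x * f * x⁻¹ * f⁻¹ = p := by
  have h0 : 0 < Nat.card ↥(NN F x) := Nat.card_pos
  have h1 : Nat.card (↥F ⧸ (NN F x).subgroupOf F) = 2 * Nat.card ↥(NN F x) := by
    rw [card_F_eq F x] at he
    exact Nat.eq_of_mul_eq_mul_right h0 he
  have h2 := Nat.card_le_card_of_injective _ (h.psi_inj zz xx xz)
  have h3 := h.card_PP_le zz xz
  have h4 : Function.Bijective (h.psi zz xx xz) :=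
    (Nat.bijective_iff_injective_and_card _).2 ⟨h.psi_inj zz xx xz, by omega⟩
  obtain ⟨q, hq⟩ := h4.2 ⟨p, h.NN_le_PP zz xz hp⟩
  refine ⟨((q.out : ↥F) : G), SetLike.coe_mem _, ?_⟩
  exact congrArg Subtype.val hq

/-- if `|F| = 2 |C_F(x)|²` then `C_F(x)` is abelian -/
theorem abelian_of_eq [Finite G] (h : SymF z F) (zz : z * z = 1) (xx : x * x = 1) (xz : x * z = z * x)
    (he : Nat.card ↥F = 2 * Nat.card ↥(NN F x) * Nat.card ↥(NN F x)) :
    ∀ a ∈ NN F x, ∀ b ∈ NN F x, a * b = b * a := by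
  intro m hm n hn
  obtain ⟨f, hf, e⟩ := h.surj_of_eq zz xx xz he hn
  rw [mem_NN] at hm
  have hmx : x⁻¹ * m = m * x⁻¹ := by
    calc x⁻¹ * m = x⁻¹ * (m * x) * x⁻¹ := by group
      _ = m * x⁻¹ := by rw [hm.2]; group
  -- `m f = f m z^i`
  rcases h.comm m hm.1 f hf with e1 | e1
  · have e2 : m * f⁻¹ = f⁻¹ * m := by
      calc m * f⁻¹ = f⁻¹ * (f * m) * f⁻¹ := by group
        _ = f⁻¹ * m := by rw [← e1]; group
    rw [← e]
    calc m * (x * f * x⁻¹ * f⁻¹) = (m * x) * f * x⁻¹ * f⁻¹ := by group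
      _ = x * (m * f) * x⁻¹ * f⁻¹ := by rw [hm.2]; group
      _ = x * f * (m * x⁻¹) * f⁻¹ := by rw [e1]; group
      _ = x * f * x⁻¹ * (m * f⁻¹) := by rw [← hmx]; group
      _ = x * f * x⁻¹ * f⁻¹ * m := by rw [e2]; group
  · have hzm := h.leC m hm.1
    have hzf := h.leC f hf
    have e2 : m * f⁻¹ = z * (f⁻¹ * m) := by
      have hzf' : f⁻¹ * z = z * f⁻¹ := h.leC _ (F.inv_mem hf)
      calc m * f⁻¹ = (f⁻¹ * z * z) * (f * m) * f⁻¹ := by
            rw [mul_assoc f⁻¹, zz, mul_one]; group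
        _ = f⁻¹ * z * (z * (f * m)) * f⁻¹ := by group
        _ = f⁻¹ * z * m := by rw [← e1]; group
        _ = z * (f⁻¹ * m) := by rw [hzf']; group
    rw [← e]
    calc m * (x * f * x⁻¹ * f⁻¹) = (m * x) * f * x⁻¹ * f⁻¹ := by group
      _ = x * (m * f) * x⁻¹ * f⁻¹ := by rw [hm.2]; group
      _ = (x * z) * f * (m * x⁻¹) * f⁻¹ := by rw [e1]; group
      _ = z * (x * f * x⁻¹ * (m * f⁻¹)) := by rw [← hmx, xz]; group
      _ = z * (x * f * x⁻¹ * (z * (f⁻¹ * m))) := by rw [e2]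
      _ = z * (x * f * (x⁻¹ * z) * (f⁻¹ * m)) := by group
      _ = (x * f * x⁻¹ * f⁻¹) * m := by
        have hxz' : x⁻¹ * z = z * x⁻¹ := by
          calc x⁻¹ * z = x⁻¹ * (z * x) * x⁻¹ := by group
            _ = z * x⁻¹ := by rw [← xz]; group
        calc z * (x * f * (x⁻¹ * z) * (f⁻¹ * m)) = z * (x * (f * z) * x⁻¹ * (f⁻¹ * m)) := by rw [hxz']; group
          _ = z * ((x * z) * f * x⁻¹ * (f⁻¹ * m)) := by rw [hzf]; group
          _ = (z * z) * (x * f * x⁻¹ * (f⁻¹ * m)) := by rw [xz]; group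
          _ = _ := by rw [zz, one_mul]; group

/-- `{1, x} C_F(x)` -/
def NX (F : Subgroup G) (x : G) (xx : x * x = 1) : Subgroup G where
  carrier := {g | g * x = x * g ∧ (g ∈ F ∨ x * g ∈ F)}
  one_mem' := ⟨by group, Or.inl F.one_mem⟩
  mul_mem' := by
    rintro g h ⟨hg, eg⟩ ⟨hh, eh⟩
    refine ⟨by rw [mul_assoc, hh, ← mul_assoc, hg, mul_assoc], ?_⟩
    rcases eg with eg | eg <;> rcases eh with eh | eh
    · left; exact F.mul_mem eg eh
    · right
      have : x * (g * h) = g * (x * h) := by rw [← mul_assoc, ← hg, mul_assoc]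
      rw [this]; exact F.mul_mem eg eh
    · right
      have : x * (g * h) = (x * g) * h := by group
      rw [this]; exact F.mul_mem eg eh
    · left
      have : g * h = (x * g) * (x * h) := by
        calc g * h = (x * x) * (g * h) := by rw [xx, one_mul]
          _ = x * (x * g) * h := by group
          _ = x * (g * x) * h := by rw [hg]
          _ = _ := by group
      rw [this]; exact F.mul_mem eg eh
  inv_mem' := by
    rintro g ⟨hg, eg⟩
    have hxi : x⁻¹ = x := inv_eq_of_mul_eq_one_left xx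
    have hg' : g⁻¹ * x = x * g⁻¹ := by
      calc g⁻¹ * x = g⁻¹ * (x * g) * g⁻¹ := by group
        _ = x * g⁻¹ := by rw [← hg]; group
    refine ⟨hg', ?_⟩
    rcases eg with eg | eg
    · left; exact F.inv_mem eg
    · right
      have : x * g⁻¹ = (x * g)⁻¹ := by rw [mul_inv_rev, hxi, hg']
      rw [this]; exact F.inv_mem eg

theorem mem_NX {g : G} (xx : x * x = 1) : g ∈ NX F x xx ↔ g * x = x * g ∧ (g ∈ F ∨ x * g ∈ F) := Iff.rfl

theorem NX_le (h : SymF z F) (xx : x * x = 1) (xz : x * z = z * x) : NX F x xx ≤ STT x z := by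
  intro g hg
  rw [mem_STT]
  refine ⟨hg.1, ?_⟩
  rcases hg.2 with e | e
  · exact h.leC g e
  · have h1 := h.leC _ e
    -- `x g z = z x g`
    have h2 : x * (g * z) = x * (z * g) := by
      calc x * (g * z) = (x * g) * z := by group
        _ = z * (x * g) := h1
        _ = (z * x) * g := by group
        _ = x * (z * g) := by rw [← xz]; group
    exact mul_left_cancel h2

theorem NN_le_NX (F : Subgroup G) (xx : x * x = 1) : NN F x ≤ NX F x xx := by
  intro g hg
  rw [mem_NN] at hg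
  exact ⟨hg.2, Or.inl hg.1⟩

/-- `|{1,x} N| = 2 |N|` if `x ∉ F` -/
theorem card_NX [Finite G] (xx : x * x = 1) (hxF : x ∉ F) :
    Nat.card ↥(NX F x xx) = 2 * Nat.card ↥(NN F x) := by
  classical
  have hx : x ∈ NX F x xx := ⟨rfl, Or.inr (by rw [xx]; exact F.one_mem)⟩
  have hidx : ((NN F x).subgroupOf (NX F x xx)).index = 2 := by
    rw [Subgroup.index_eq_two_iff]
    refine ⟨⟨x, hx⟩, ?_⟩
    intro b
    rw [mem_subgroupOf, mem_subgroupOf]
    have hbF : ((b * ⟨x, hx⟩ : ↥(NX F x xx)) : G) = x * (b : G) := by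
      show (b : G) * x = x * b
      exact b.2.1
    rw [hbF]
    rcases b.2.2 with e | e
    · right
      refine ⟨mem_NN.2 ⟨e, b.2.1⟩, ?_⟩
      intro hc
      apply hxF
      have := F.mul_mem (mem_NN.1 hc).1 (F.inv_mem e)
      rwa [mul_inv_cancel_right] at this
    · left
      refine ⟨mem_NN.2 ⟨e, ?_⟩, ?_⟩
      · rw [mul_assoc, b.2.1]
      · intro hc
        apply hxF
        have := F.mul_mem e (F.inv_mem (mem_NN.1 hc).1)
        rwa [mul_inv_cancel_right] at this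
  have h1 := Subgroup.card_mul_index ((NN F x).subgroupOf (NX F x xx))
  rw [hidx, Nat.card_congr (subgroupOfEquivOfLe (NN_le_NX F xx)).toEquiv] at h1
  omega

/-- commutators in `{1,x} N` have order at most two -/
theorem comm_NX (h : SymF z F) (_zz : z * z = 1) (xx : x * x = 1) {a b : G}
    (ha : a ∈ NX F x xx) (hb : b ∈ NX F x xx) : a * b * a⁻¹ * b⁻¹ = 1 ∨ a * b * a⁻¹ * b⁻¹ = z := by
  have hxi : x⁻¹ = x := inv_eq_of_mul_eq_one_left xx
  have key : ∀ {c d : G}, c ∈ F → d ∈ F → c * d * c⁻¹ * d⁻¹ = 1 ∨ c * d * c⁻¹ * d⁻¹ = z := by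
    intro c d hc hd
    rcases h.comm c hc d hd with e | e
    · left; rw [e]; group
    · right; rw [e]; group
  have red : ∀ {c d : G}, c * x = x * c → d * x = x * d → (x * c) * d * (x * c)⁻¹ * d⁻¹ = c * d * c⁻¹ * d⁻¹ := by
    intro c d hc hd
    have hx2 : x * (c * d * c⁻¹) * x⁻¹ = c * d * c⁻¹ := by
      have hxc : x * c = c * x := hc.symm
      have hc' : c⁻¹ * x⁻¹ = x⁻¹ * c⁻¹ := by
        rw [← mul_inv_rev, ← mul_inv_rev, hc]
      calc x * (c * d * c⁻¹) * x⁻¹ = (x * c) * d * (c⁻¹ * x⁻¹) := by group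
        _ = c * (x * d) * x⁻¹ * c⁻¹ := by rw [hxc, hc']; group
        _ = c * d * c⁻¹ := by rw [← hd]; group
    calc (x * c) * d * (x * c)⁻¹ * d⁻¹ = (x * (c * d * c⁻¹) * x⁻¹) * d⁻¹ := by group
      _ = c * d * c⁻¹ * d⁻¹ := by rw [hx2]
  have red2 : ∀ {c d : G}, c * x = x * c → d * x = x * d → c * (x * d) * c⁻¹ * (x * d)⁻¹ = c * d * c⁻¹ * d⁻¹ := by
    intro c d hc hd
    have h1 := red hd hc
    have h2 := congrArg (·⁻¹) h1
    simp only [mul_inv_rev, inv_inv] at h2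
    calc c * (x * d) * c⁻¹ * (x * d)⁻¹ = c * (x * d * (c⁻¹ * (d⁻¹ * x⁻¹))) := by group
      _ = c * (d * (c⁻¹ * d⁻¹)) := by rw [h2]
      _ = _ := by group
  rcases ha.2 with ea | ea <;> rcases hb.2 with eb | eb
  · exact key ea eb
  · have h1 := key ea eb
    rwa [red2 ha.1 hb.1] at h1
  · have h1 := key ea eb
    rwa [red ha.1 hb.1] at h1
  · have h1 := key ea eb
    have hxb : (x * b) * x = x * (x * b) := by rw [mul_assoc, hb.1]
    rwa [red ha.1 hxb, red2 ha.1 hb.1] at h1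

/-- if `N` is abelian then so is `{1,x} N` -/
theorem abelian_NX (xx : x * x = 1) (hN : ∀ a ∈ NN F x, ∀ b ∈ NN F x, a * b = b * a) :
    ∀ a ∈ NX F x xx, ∀ b ∈ NX F x xx, a * b = b * a := by
  intro a ha b hb
  have hxm : ∀ {g : G}, g * x = x * g → (x * g) * x = x * (x * g) := fun hg => by rw [mul_assoc, hg]
  rcases ha.2 with ea | ea <;> rcases hb.2 with eb | eb
  · exact hN a (mem_NN.2 ⟨ea, ha.1⟩) b (mem_NN.2 ⟨eb, hb.1⟩)
  · have h1 := hN a (mem_NN.2 ⟨ea, ha.1⟩) (x * b) (mem_NN.2 ⟨eb, hxm hb.1⟩)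
    apply mul_left_cancel (a := x)
    calc x * (a * b) = (x * a) * b := by group
      _ = a * (x * b) := by rw [← ha.1]; group
      _ = x * (b * a) := by rw [h1]; group
  · have h1 := hN (x * a) (mem_NN.2 ⟨ea, hxm ha.1⟩) b (mem_NN.2 ⟨eb, hb.1⟩)
    apply mul_left_cancel (a := x)
    calc x * (a * b) = (x * a) * b := by group
      _ = (b * x) * a := by rw [h1]; group
      _ = x * (b * a) := by rw [hb.1]; group
  · have h1 := hN (x * a) (mem_NN.2 ⟨ea, hxm ha.1⟩) (x * b) (mem_NN.2 ⟨eb, hxm hb.1⟩)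
    have h2 : (x * a) * (x * b) = a * b := by
      calc (x * a) * (x * b) = x * (a * x) * b := by group
        _ = (x * x) * (a * b) := by rw [ha.1]; group
        _ = a * b := by rw [xx, one_mul]
    have h3 : (x * b) * (x * a) = b * a := by
      calc (x * b) * (x * a) = x * (b * x) * a := by group
        _ = (x * x) * (b * a) := by rw [hb.1]; group
        _ = b * a := by rw [xx, one_mul]
    rw [← h2, h1, h3]

end SymF

namespace SymT

variable {x z : G} {F : Subgroup G}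

/-- `T` has no abelian subgroup of index two -/
theorem no_abelian [Finite G] (hT : SymT x z) (A : Subgroup G) (hA : A ≤ STT x z) (hc : Nat.card ↥A = 32)
    (hab : ∀ a ∈ A, ∀ b ∈ A, a * b = b * a) : False := by
  obtain ⟨v, f, r, hv, hf, hr, -, h2, h3, h4, h5⟩ := hT.wit
  have hidx : (A.subgroupOf (STT x z)).index = 2 := by
    have h1 := Subgroup.card_mul_index (A.subgroupOf (STT x z))
    rw [Nat.card_congr (subgroupOfEquivOfLe hA).toEquiv, hc, hT.card] at h1
    omega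
  have key : ∀ {a b : G}, a ∈ STT x z → b ∈ STT x z → (a * b ∈ A ↔ (a ∈ A ↔ b ∈ A)) := by
    intro a b ha hb
    have := Subgroup.mul_mem_iff_of_index_two hidx (a := ⟨a, ha⟩) (b := ⟨b, hb⟩)
    simpa [mem_subgroupOf] using this
  have hd : r * v * r⁻¹ * v⁻¹ ∈ A := by
    rw [mul_assoc, key (mul_mem hr hv) (mul_mem (inv_mem hr) (inv_mem hv)), key hr hv, key (inv_mem hr) (inv_mem hv),
      inv_mem_iff, inv_mem_iff]
  have hv' : v ∉ A := fun hvA => h2 (hab _ hvA _ hd)
  have hfv : f * v ∉ A := fun hA' => h3 (hab _ hA' _ hd)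
  have hfA : f ∈ A := by
    by_contra hfA
    exact hfv ((key hf hv).2 ⟨fun h => absurd h hfA, fun h => absurd h hv'⟩)
  have hrA : r ∉ A := fun hrA => h4 (hab _ hrA _ hfA)
  have hrv : r * v ∈ A := (key hr hv).2 ⟨fun h => absurd h hrA, fun h => absurd h hv'⟩
  exact h5 (hab _ hrv _ hfA)

/-- not all commutators of `T` have order at most two -/
theorem exists_comm (hT : SymT x z) :
    ∃ a ∈ STT x z, ∃ b ∈ STT x z, (a * b * a⁻¹ * b⁻¹) * (a * b * a⁻¹ * b⁻¹) ≠ 1 := by
  obtain ⟨v, f, r, hv, hf, hr, h1, -⟩ := hT.wit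
  exact ⟨r, hr, v, hv, h1⟩

theorem card_STT (hT : SymT x z) : Nat.card ↥(STT x z) = 64 := hT.card

theorem lt_of_comm [Finite G] (hT : SymT x z) (A : Subgroup G) (hA : A ≤ STT x z)
    (hc : ∀ a ∈ A, ∀ b ∈ A, a * b * a⁻¹ * b⁻¹ = 1 ∨ a * b * a⁻¹ * b⁻¹ = z) : Nat.card ↥A ≤ 32 := by
  have hdvd : Nat.card ↥A ∣ 64 := hT.card ▸ Subgroup.card_dvd_of_le hA
  by_contra hlt
  have h64 : Nat.card ↥A = 64 := by
    obtain ⟨k, hk⟩ := hdvd
    have : k = 1 := by
      have : Nat.card ↥A * k < Nat.card ↥A * 2 := by omega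
      have h1 := Nat.lt_of_mul_lt_mul_left this
      interval_cases k
      · omega
      · rfl
    rw [this] at hk; omega
  have heq : A = STT x z := Subgroup.eq_of_le_of_card_ge hA (by rw [hT.card_STT, h64])
  obtain ⟨a, ha, b, hb, hab⟩ := hT.exists_comm
  apply hab
  rw [← heq] at ha hb
  rcases hc a ha b hb with e | e
  · rw [e, one_mul]
  · rw [e]; exact hT.zz

/-- `|F| ≤ 2⁸` -/
theorem card_F_lt [Finite G] (hT : SymT x z) (hF : SymF z F) : Nat.card ↥F < 512 := by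
  have hle := hF.NX_le hT.xx hT.xz
  by_cases hxF : x ∈ F
  · have hPP : F ≤ hF.PP hT.zz hT.xz := by
      intro g hg
      refine ⟨hg, ?_⟩
      rcases hF.comm x hxF g hg with e | e
      · left; rw [e]; group
      · right; rw [e]; group
    have h1 : Nat.card ↥F ≤ 2 * Nat.card ↥(SymF.NN F x) :=
      (Nat.card_le_card_of_injective _ (Subgroup.inclusion_injective hPP)).trans (hF.card_PP_le hT.zz hT.xz)
    have h2 : Nat.card ↥(SymF.NX F x hT.xx) ≤ 32 :=
      hT.lt_of_comm _ hle (fun a ha b hb => hF.comm_NX hT.zz hT.xx ha hb)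
    have h3 := Nat.card_le_card_of_injective _ (Subgroup.inclusion_injective (SymF.NN_le_NX F hT.xx))
    omega
  · have h2 : Nat.card ↥(SymF.NX F x hT.xx) ≤ 32 :=
      hT.lt_of_comm _ hle (fun a ha b hb => hF.comm_NX hT.zz hT.xx ha hb)
    have h3 := SymF.card_NX (F := F) hT.xx hxF
    have h4 := hF.card_le' hT.zz hT.xx hT.xz
    by_contra hcon
    have h5 : Nat.card ↥(SymF.NN F x) ≤ 16 := by omega
    have h6 : Nat.card ↥(SymF.NN F x) = 16 := by
      by_contra h16
      have h7 : Nat.card ↥(SymF.NN F x) ≤ 15 := by omega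
      have h8 : 2 * Nat.card ↥(SymF.NN F x) * Nat.card ↥(SymF.NN F x) ≤ 2 * 15 * 15 :=
        Nat.mul_le_mul (Nat.mul_le_mul_left _ h7) h7
      omega
    have h7 : Nat.card ↥F = 2 * Nat.card ↥(SymF.NN F x) * Nat.card ↥(SymF.NN F x) := by
      rw [h6] at h4 ⊢; omega
    exact hT.no_abelian _ hle (by rw [h3, h6])
      (SymF.abelian_NX hT.xx (hF.abelian_of_eq hT.zz hT.xx hT.xz h7))

/-- orbits in a set with at most seven elements -/
theorem stab_ge [Finite G] {H : Subgroup G} {k : ℕ} (hH : Nat.card ↥H = 2 ^ k) {a : G} {S : Set G}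
    (hS : Nat.card ↥S ≤ 7) (hmem : ∀ h ∈ H, h * a * h⁻¹ ∈ S) :
    Nat.card ↥H ≤ 4 * Nat.card ↥(H ⊓ centralizer ({a} : Set G)) := by
  have hle : (H ⊓ centralizer ({a} : Set G)) ≤ H := inf_le_left
  let φ : ↥H ⧸ (H ⊓ centralizer ({a} : Set G)).subgroupOf H → ↥S :=
    fun q => ⟨((q.out : ↥H) : G) * a * ((q.out : ↥H) : G)⁻¹, hmem _ (q.out : ↥H).2⟩
  have hφ : Function.Injective φ := by
    intro p q e
    have e1 : ((p.out : ↥H) : G) * a * ((p.out : ↥H) : G)⁻¹ = ((q.out : ↥H) : G) * a * ((q.out : ↥H) : G)⁻¹ :=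
      congrArg Subtype.val e
    rw [← QuotientGroup.out_eq' p, ← QuotientGroup.out_eq' q, QuotientGroup.eq, mem_subgroupOf, mem_inf,
      mem_centralizer_singleton_iff]
    refine ⟨SetLike.coe_mem _, ?_⟩
    show (((p.out : ↥H) : G)⁻¹ * ((q.out : ↥H) : G)) * a = a * (((p.out : ↥H) : G)⁻¹ * ((q.out : ↥H) : G))
    generalize ((p.out : ↥H) : G) = c at e1
    generalize ((q.out : ↥H) : G) = d at e1
    calc (c⁻¹ * d) * a = c⁻¹ * (d * a * d⁻¹) * d := by group
      _ = c⁻¹ * (c * a * c⁻¹) * d := by rw [e1]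
      _ = a * (c⁻¹ * d) := by group
  have h1 := Nat.card_le_card_of_injective φ hφ
  have h2 := Subgroup.card_mul_index ((H ⊓ centralizer ({a} : Set G)).subgroupOf H)
  rw [Nat.card_congr (subgroupOfEquivOfLe hle).toEquiv] at h2
  have h3 : ((H ⊓ centralizer ({a} : Set G)).subgroupOf H).index ≤ 7 := h1.trans hS
  have h4 : ((H ⊓ centralizer ({a} : Set G)).subgroupOf H).index ∣ 2 ^ k := by
    rw [← hH]; exact Subgroup.index_dvd_card _
  obtain ⟨j, -, hj⟩ := (Nat.dvd_prime_pow Nat.prime_two).1 h4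
  have h5 : ((H ⊓ centralizer ({a} : Set G)).subgroupOf H).index ≤ 4 := by
    rw [hj] at h3 ⊢
    have : j < 3 := by
      by_contra hj3
      have : 2 ^ 3 ≤ 2 ^ j := Nat.pow_le_pow_right (by norm_num) (by omega)
      omega
    interval_cases j <;> norm_num
  calc Nat.card ↥H = Nat.card ↥(H ⊓ centralizer ({a} : Set G)) *
        ((H ⊓ centralizer ({a} : Set G)).subgroupOf H).index := h2.symm
    _ ≤ Nat.card ↥(H ⊓ centralizer ({a} : Set G)) * 4 := Nat.mul_le_mul_left _ h5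
    _ = _ := mul_comm _ _

/-- `|F| ≠ 8` -/
theorem card_F_ne [Finite G] (hT : SymT x z) (hF : SymF z F) (h8 : Nat.card ↥F = 8) : False := by
  classical
  -- non-commuting elements
  have hex : ∃ a ∈ F, ∃ b ∈ F, a * b ≠ b * a := by
    by_contra hno
    push Not at hno
    have hle : (F : Set G) ⊆ {1, z} := by
      intro a ha
      rcases hF.cen a ha (fun b hb => hno a ha b hb) with e | e
      · left; exact e
      · right; exact e
    have h1 : Nat.card ↥(F : Set G) ≤ Nat.card ↥({1, z} : Set G) := Nat.card_mono (Set.toFinite _) hle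
    have h2 : Nat.card ↥({1, z} : Set G) ≤ 2 := by
      rw [Nat.card_coe_set_eq]; exact (Set.ncard_insert_le _ _).trans (by rw [Set.ncard_singleton])
    have h3 : Nat.card ↥(F : Set G) = 8 := h8
    omega
  obtain ⟨a, ha, b, hb, hab⟩ := hex
  have ha1 : a ≠ 1 := by rintro rfl; apply hab; group
  have hb1 : b ≠ 1 := by rintro rfl; apply hab; group
  set S : Set G := (F : Set G) \ {1} with hSdef
  have hS : Nat.card ↥S ≤ 7 := by
    have h1 : Set.ncard S + 1 = Set.ncard (F : Set G) := Set.ncard_sdiff_singleton_add_one F.one_mem (Set.toFinite _)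
    have h2 : Set.ncard (F : Set G) = 8 := by rw [← Nat.card_coe_set_eq]; exact h8
    rw [Nat.card_coe_set_eq]; omega
  have hconj : ∀ {c : G}, c ∈ F → c ≠ 1 → ∀ h ∈ STT x z, h * c * h⁻¹ ∈ S := by
    intro c hc hc1 h hh
    refine ⟨hF.norm h (mem_STT.1 hh).2 c hc, ?_⟩
    intro e
    apply hc1
    have e' : h * c * h⁻¹ = 1 := e
    calc c = h⁻¹ * (h * c * h⁻¹) * h := by group
      _ = 1 := by rw [e']; group
  have h1 := stab_ge (H := STT x z) (k := 6) (by rw [hT.card_STT]; norm_num) hS (hconj ha ha1)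
  set H1 : Subgroup G := STT x z ⊓ centralizer ({a} : Set G) with hH1
  have hH1le : H1 ≤ STT x z := inf_le_left
  obtain ⟨k, -, hk⟩ : ∃ k, k ≤ 6 ∧ Nat.card ↥H1 = 2 ^ k := by
    have : Nat.card ↥H1 ∣ 2 ^ 6 := by
      have := Subgroup.card_dvd_of_le hH1le
      rwa [hT.card_STT] at this
    exact (Nat.dvd_prime_pow Nat.prime_two).1 this
  have h2 := stab_ge hk hS (fun h hh => hconj hb hb1 h (hH1le hh))
  rw [hT.card_STT] at h1
  -- an element centralizing `a`, `b` lies in `{1, z}`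
  have hsub : ((H1 ⊓ centralizer ({b} : Set G) : Subgroup G) : Set G) ⊆ {1, z} := by
    intro t ht
    have ht' : t ∈ H1 ⊓ centralizer ({b} : Set G) := ht
    rw [mem_inf, hH1, mem_inf, mem_centralizer_singleton_iff, mem_centralizer_singleton_iff] at ht'
    obtain ⟨⟨htT, hta⟩, htb⟩ := ht'
    -- the centralizer of `t` in `F`
    set D : Subgroup G := F ⊓ centralizer ({t} : Set G) with hD
    have haD : a ∈ D := ⟨ha, mem_centralizer_singleton_iff.2 hta.symm⟩
    have hbD : b ∈ D := ⟨hb, mem_centralizer_singleton_iff.2 htb.symm⟩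
    have hDF : D = F := by
      have hle : D ≤ F := inf_le_left
      have hdvd : Nat.card ↥D ∣ 8 := h8 ▸ Subgroup.card_dvd_of_le hle
      refine Subgroup.eq_of_le_of_card_ge hle ?_
      rw [h8]
      by_contra hlt
      have h4 : Nat.card ↥D ≤ 4 := by
        have h5 : Nat.card ↥D < 8 := by omega
        obtain ⟨m, hm⟩ := hdvd
        have : 2 ≤ m := by
          by_contra hm2
          interval_cases m <;> omega
        have : Nat.card ↥D * 2 ≤ Nat.card ↥D * m := Nat.mul_le_mul_left _ this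
        omega
      have h5 : ({1, a, b, a * b, b * a} : Finset G).card = 5 := by
        rw [Finset.card_insert_of_notMem, Finset.card_insert_of_notMem, Finset.card_insert_of_notMem,
          Finset.card_pair hab]
        · simp only [Finset.mem_insert, Finset.mem_singleton, not_or]
          exact ⟨fun e => ha1 (right_eq_mul.1 e), fun e => ha1 (left_eq_mul.1 e)⟩
        · simp only [Finset.mem_insert, Finset.mem_singleton, not_or]
          exact ⟨fun e => hab (by rw [e]), fun e => hb1 (left_eq_mul.1 e), fun e => hb1 (right_eq_mul.1 e)⟩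
        · simp only [Finset.mem_insert, Finset.mem_singleton, not_or]
          refine ⟨ha1.symm, hb1.symm, fun e => hab ?_, fun e => hab ?_⟩
          · have hb' : b = a⁻¹ := (inv_eq_of_mul_eq_one_right e.symm).symm
            rw [hb']; group
          · have hb' : a = b⁻¹ := (inv_eq_of_mul_eq_one_right e.symm).symm
            rw [hb']; group
      have h6 : ((({1, a, b, a * b, b * a} : Finset G)) : Set G) ⊆ (D : Set G) := by
        intro g hg
        simp only [Finset.coe_insert, Finset.coe_singleton, Set.mem_insert_iff, Set.mem_singleton_iff] at hg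
        rcases hg with rfl | rfl | rfl | rfl | rfl
        · exact D.one_mem
        · exact haD
        · exact hbD
        · exact D.mul_mem haD hbD
        · exact D.mul_mem hbD haD
      have h7 := Set.ncard_le_ncard h6 (Set.toFinite _)
      rw [Set.ncard_coe_finset, h5, ← Nat.card_coe_set_eq] at h7
      have h8 : Nat.card ↥(D : Set G) = Nat.card ↥D := rfl
      omega
    have htF : ∀ c ∈ F, t * c = c * t := by
      intro c hc
      rw [← hDF, hD, mem_inf, mem_centralizer_singleton_iff] at hc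
      exact hc.2.symm
    rcases hF.cen t (hF.self t htF) htF with e | e
    · left; exact e
    · right; exact e
  have h3 : Nat.card ↥((H1 ⊓ centralizer ({b} : Set G) : Subgroup G) : Set G) ≤ 2 := by
    refine (Nat.card_mono (Set.toFinite _) hsub).trans ?_
    rw [Nat.card_coe_set_eq]; exact (Set.ncard_insert_le _ _).trans (by rw [Set.ncard_singleton])
  have h4 : Nat.card ↥((H1 ⊓ centralizer ({b} : Set G) : Subgroup G) : Set G) =
      Nat.card ↥(H1 ⊓ centralizer ({b} : Set G)) := rfl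
  omega

/-- **`|F| ∈ {2⁵, 2⁷}`** -/
theorem card_F [Finite G] (hT : SymT x z) (hF : SymF z F) (hw : ∃ n : ℕ, 1 ≤ n ∧ Nat.card ↥F = 2 ^ (2 * n + 1)) :
    Nat.card ↥F = 32 ∨ Nat.card ↥F = 2 ^ 7 := by
  obtain ⟨n, hn, hc⟩ := hw
  have h1 := hT.card_F_lt hF
  have h2 : n < 4 := by
    by_contra h4
    have : 2 ^ 9 ≤ 2 ^ (2 * n + 1) := Nat.pow_le_pow_right (by norm_num) (by omega)
    omega
  interval_cases n
  · exact (hT.card_F_ne hF hc).elim
  · left; exact hc
  · right; exact hc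

end SymT

end Cfsg.Agent.OddHalf.D5.SixAut
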