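import Cfsg.Agent.OddHalf.D5.SixAut.FitZ
import Cfsg.Agent.OddHalf.D5.Rows
import Cfsg.Agent.OddHalf.D6.QTwo

/-!
# ODD D5: the row `n = 6` from its two cases
-/

set_option autoImplicit false

namespace Cfsg.Agent.OddHalf.D5.SixAut

open Subgroup Equiv Cfsg Cfsg.Agent.OddHalf.Iface

universe u

/-- everything known in the case `C(x)/⟨x⟩ = Aut(A_6)` -/
structure CtxAut {G : Type u} [Group G] (x : G) (ι : A6 →* G) (f r : G) : Prop extends AutGen x ι f r where
  ctx : Ctx G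
  world : ∀ u : G, u * u = 1 → u ≠ 1 → D6.World u

/-- the case `C(x) = ⟨x⟩ × S_6` is impossible -/
def SSixRow : Prop :=
  ∀ (G : Type u) [Group G], Ctx G → ∀ (x : G) (φ : Perm (Fin 6) →* G), D6.Six.SSix x φ → False

/-- the case `C(x)/⟨x⟩ = Aut(A_6)` is impossible -/
def AutRow : Prop :=
  ∀ (G : Type u) [Group G] (x : G) (ι : A6 →* G) (f r : G), CtxAut x ι f r → False

theorem exists_sixFr {G : Type u} [Group G] (C : Ctx G) {K : Subgroup G} (S : Std G K) (hcyc : Iface.Cyc K)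
    (e : ↥K ≃* ↥(alternatingGroup (Fin 6))) : ∃ x : G, SixFr x K := by
  obtain ⟨x, F⟩ := exists_front C S.std S.comp hcyc (by norm_num) e
  have hx : orderOf x = 2 := orderOf_eq_prime (by rw [pow_two]; exact F.tt) F.t1
  have hxK : x ∈ centralizer (K : Set G) := mem_centralizer_iff.2 fun k hk => (F.le k hk).symm
  have h1 := D6.QTwo.inf_eq_of_l2 C S.toStd0 hcyc (isL2odd_of e.symm) hx hxK
  refine ⟨x, F.tt, F.t1, F.tK, F.le, F.norm, ?_⟩
  intro g hg hgK
  have h2 : g ∈ centralizer ({x} : Set G) ⊓ centralizer (K : Set G) :=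
    mem_inf.2 ⟨mem_centralizer_singleton_iff.2 hg, mem_centralizer_iff.2 fun k hk => (hgK k hk).symm⟩
  rw [h1] at h2
  obtain ⟨i, rfl⟩ := mem_zpowers_iff.1 h2
  rcases Int.even_or_odd' i with ⟨k, rfl | rfl⟩
  · left
    rw [zpow_mul, zpow_two, F.tt, one_zpow]
  · right
    rw [zpow_add, zpow_mul, zpow_two, F.tt, one_zpow, one_mul, zpow_one]

/-- **the row `n = 6`** -/
theorem sixRow_of (hS : SSixRow.{u}) (hA : AutRow.{u}) : SixRow.{u} := by
  intro G _ C K S hcyc hK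
  obtain ⟨e⟩ := hK
  have := C.fin
  obtain ⟨x, F⟩ := exists_sixFr C S hcyc e
  rcases F.split e.symm C.sect5 with ⟨φ, h⟩ | ⟨f, r, h⟩
  · exact hS G C x φ h
  · refine hA G x _ f r { h with ctx := C, world := ?_ }
    obtain ⟨F', i1, i2, h9, ⟨φ⟩⟩ := exists_psl e.symm
    exact D6.LTwoMain.world C S ⟨F', i1, i2, by rw [h9]; decide, by rw [h9]; norm_num, ⟨φ⟩⟩

end Cfsg.Agent.OddHalf.D5.SixAut
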