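import Mathlib
import Cfsg.Prelude.Def_ClassificationK
import Cfsg.Prelude.Def_Transfer
import Cfsg.Agent.Lib.GenFitting
import Cfsg.Agent.ClassificationK.GF2Basics
import Cfsg.Agent.Transfer.Extraspecial
import Cfsg.Agent.OddHalf.D5.SixAut.SymGrp

/-!
# ODD D5, `n = 6`, `C_G(x)/⟨x⟩ = Aut(A_6)`: the case "symplectic type", part 2

`SymHyp z`: `F*(C(z))` is a 2-group and every elementary abelian normal subgroup of `C(z)` is `≤ ⟨z⟩`. Then `F*(C(z))`
is of symplectic type (`SymHyp.sympl`), and if it is extraspecial then it satisfies `SymF` (`SymHyp.symF`).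
-/

set_option autoImplicit false

namespace Cfsg.Agent.OddHalf.D5.SixAut

open Subgroup Cfsg

/-- **SYM**: `F*(C(z))` is a 2-group, every elementary abelian normal subgroup of `C(z)` is `≤ ⟨z⟩` -/
def SymHyp {G : Type*} [Group G] (z : G) : Prop :=
  IsPGroup 2 ↥(generalizedFittingSubgroup ↥(centralizer ({z} : Set G))) ∧
  ∀ A : Subgroup ↥(centralizer ({z} : Set G)), A.Normal → (∀ a ∈ A, a * a = 1) → ∀ a ∈ A, (a : G) = 1 ∨ (a : G) = z

namespace SymSpl

/-- a commutative 2-group with at most one involution is cyclic -/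
theorem isCyclic_of {A : Type*} [Group A] [Finite A] (h2 : IsPGroup 2 A) (hc : ∀ a b : A, a * b = b * a) {f : A}
    (hf : ∀ a : A, a * a = 1 → a = 1 ∨ a = f) : IsCyclic A := by
  classical
  have := Fintype.ofFinite A
  have key : ∀ k : ℕ, (Finset.univ.filter fun a : A => a ^ 2 ^ k = 1).card ≤ 2 ^ k := by
    intro k
    induction k with
    | zero =>
      have h1 : (Finset.univ.filter fun a : A => a ^ 2 ^ 0 = 1) ⊆ {1} := by
        intro a ha
        have h2 := (Finset.mem_filter.1 ha).2
        rw [pow_zero, pow_one] at h2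
        rw [Finset.mem_singleton]; exact h2
      exact (Finset.card_le_card h1).trans (by rw [Finset.card_singleton, pow_zero])
    | succ k ih =>
      have h1 := Finset.card_le_mul_card_image (f := fun a : A => a * a)
        (Finset.univ.filter fun a : A => a ^ 2 ^ (k + 1) = 1) 2 (by
          intro b hb
          obtain ⟨c, -, hc'⟩ := Finset.mem_image.1 hb
          have h3 : ((Finset.univ.filter fun a : A => a ^ 2 ^ (k + 1) = 1).filter fun a => a * a = b) ⊆ {c, f * c} := by
            intro a ha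
            have h4 : a * a = b := (Finset.mem_filter.1 ha).2
            have h5 : (a * c⁻¹) * (a * c⁻¹) = 1 := by
              have h6 : c⁻¹ * a = a * c⁻¹ := hc _ _
              have hc'' : c * c = b := hc'
              calc (a * c⁻¹) * (a * c⁻¹) = a * (c⁻¹ * a) * c⁻¹ := by group
                _ = (a * a) * (c * c)⁻¹ := by rw [h6]; group
                _ = 1 := by rw [h4, hc'', mul_inv_cancel]
            rw [Finset.mem_insert, Finset.mem_singleton]
            rcases hf _ h5 with e | e
            · left; exact mul_inv_eq_one.1 e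
            · right; exact mul_inv_eq_iff_eq_mul.1 e
          exact (Finset.card_le_card h3).trans Finset.card_le_two)
      have h3 : (Finset.univ.filter fun a : A => a ^ 2 ^ (k + 1) = 1).image (fun a : A => a * a) ⊆
          Finset.univ.filter fun a : A => a ^ 2 ^ k = 1 := by
        intro b hb
        obtain ⟨c, hc1, hc2⟩ := Finset.mem_image.1 hb
        have hc3 := (Finset.mem_filter.1 hc1).2
        rw [Finset.mem_filter]
        refine ⟨Finset.mem_univ _, ?_⟩
        rw [← hc2]
        show (c * c) ^ 2 ^ k = 1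
        rw [← pow_two, ← pow_mul, ← pow_succ']
        exact hc3
      calc _ ≤ _ := h1
        _ ≤ 2 * 2 ^ k := Nat.mul_le_mul_left _ ((Finset.card_le_card h3).trans ih)
        _ = 2 ^ (k + 1) := (pow_succ' _ _).symm
  obtain ⟨m, hm⟩ := IsPGroup.iff_card.1 h2
  refine isCyclic_of_card_pow_eq_one_le ?_
  intro n hn
  obtain ⟨k, -, hk⟩ := (Nat.dvd_prime_pow Nat.prime_two).1 (Nat.gcd_dvd_right n (2 ^ m))
  have h1 : (Finset.univ.filter fun a : A => a ^ n = 1) ⊆ Finset.univ.filter fun a : A => a ^ 2 ^ k = 1 := by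
    intro a ha
    rw [Finset.mem_filter] at ha ⊢
    refine ⟨ha.1, ?_⟩
    rw [← hk]
    have h3 : a ^ 2 ^ m = 1 := by rw [← hm]; exact pow_card_eq_one'
    have h4 := orderOf_dvd_of_pow_eq_one ha.2
    have h5 := orderOf_dvd_of_pow_eq_one h3
    exact orderOf_dvd_iff_pow_eq_one.1 (Nat.dvd_gcd h4 h5)
  refine (Finset.card_le_card h1).trans ((key k).trans ?_)
  rw [← hk]
  exact Nat.gcd_le_left _ hn

/-- symplectic type -/
theorem sympl_of {C : Type*} [Group C] [Finite C] (hP : IsPGroup 2 ↥(generalizedFittingSubgroup C)) (z0 : C)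
    (h : ∀ A : Subgroup C, A.Normal → (∀ a ∈ A, a * a = 1) → ∀ a ∈ A, a = 1 ∨ a = z0) :
    IsOfSymplecticType ↥(generalizedFittingSubgroup C) := by
  have : Fact (Nat.Prime 2) := ⟨Nat.prime_two⟩
  have hN : (generalizedFittingSubgroup C).Normal := ClassificationK.GF2Basics.genFitting_normal_of_isPGroup hP
  refine ⟨hP, ?_⟩
  intro A hA hcomm
  have hc : ∀ a b : ↥A, a * b = b * a := fun a b => hcomm.is_comm.comm a b
  -- the elements of order at most two
  let Ω : Subgroup C :=
    { carrier := {c | ∃ hc : c ∈ generalizedFittingSubgroup C, (⟨c, hc⟩ : ↥(generalizedFittingSubgroup C)) ∈ A ∧ c * c = 1}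
      one_mem' := ⟨one_mem _, A.one_mem, by group⟩
      mul_mem' := by
        rintro a b ⟨ha, haA, ha2⟩ ⟨hb, hbA, hb2⟩
        refine ⟨mul_mem ha hb, A.mul_mem haA hbA, ?_⟩
        have e : a * b = b * a := by
          have := congrArg (fun t : ↥A => ((t : ↥(generalizedFittingSubgroup C)) : C)) (hc ⟨_, haA⟩ ⟨_, hbA⟩)
          exact this
        calc a * b * (a * b) = a * (b * a) * b := by group
          _ = (a * a) * (b * b) := by rw [← e]; group
          _ = 1 := by rw [ha2, hb2, one_mul]
      inv_mem' := by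
        rintro a ⟨ha, haA, ha2⟩
        refine ⟨inv_mem ha, A.inv_mem haA, ?_⟩
        rw [← mul_inv_rev, ha2, inv_one] }
  have hΩ : Ω.Normal := by
    refine ⟨?_⟩
    rintro a ⟨ha, haA, ha2⟩ c
    refine ⟨hN.conj_mem a ha c, ?_, ?_⟩
    · have h1 := (characteristic_iff_map_le.mp hA) (MulAut.conjNormal c)
      exact h1 ⟨⟨a, ha⟩, haA, Subtype.ext (MulAut.conjNormal_apply _ _)⟩
    · calc c * a * c⁻¹ * (c * a * c⁻¹) = c * (a * a) * c⁻¹ := by group
        _ = 1 := by rw [ha2]; group
  have hΩ2 : ∀ a ∈ Ω, a * a = 1 := by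
    rintro a ⟨-, -, ha2⟩
    exact ha2
  have h3 := h Ω hΩ hΩ2
  -- conclusion
  by_cases hf : ∃ f : ↥A, f * f = 1 ∧ f ≠ 1
  · obtain ⟨f, hf2, hf1⟩ := hf
    have hval : ∀ a : ↥A, a * a = 1 → a = 1 ∨ (((a : ↥(generalizedFittingSubgroup C)) : C)) = z0 := by
      intro a ha
      have h4 : (((a : ↥(generalizedFittingSubgroup C)) : C)) * ((a : ↥(generalizedFittingSubgroup C)) : C) = 1 :=
        congrArg (fun t : ↥A => ((t : ↥(generalizedFittingSubgroup C)) : C)) ha
      rcases h3 _ ⟨(a : ↥(generalizedFittingSubgroup C)).2, a.2, h4⟩ with e | e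
      · left
        exact Subtype.ext (Subtype.ext e)
      · right; exact e
    refine isCyclic_of (hP.to_subgroup A) hc (f := f) ?_
    intro a ha
    rcases hval a ha with e | e
    · exact Or.inl e
    · right
      rcases hval f hf2 with e' | e'
      · exact absurd e' hf1
      · exact Subtype.ext (Subtype.ext (e.trans e'.symm))
  · push Not at hf
    exact isCyclic_of (hP.to_subgroup A) hc (f := 1) (fun a ha => Or.inl (hf a ha))

end SymSpl

namespace SymHyp

variable {G : Type*} [Group G] [Finite G] {z : G}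

theorem sympl (h : SymHyp z) :
    IsOfSymplecticType ↥(generalizedFittingSubgroup ↥(centralizer ({z} : Set G))) := by
  refine SymSpl.sympl_of h.1 ⟨z, mem_centralizer_singleton_iff.2 rfl⟩ ?_
  intro A hA h2 a ha
  rcases h.2 A hA h2 a ha with e | e
  · left; exact Subtype.ext e
  · right; exact Subtype.ext e

/-- `F*(C(z))` as a subgroup of `G` -/
abbrev FF (z : G) : Subgroup G :=
  (generalizedFittingSubgroup ↥(centralizer ({z} : Set G))).map (centralizer ({z} : Set G)).subtype

omit [Finite G] in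
theorem card_FF (z : G) : Nat.card ↥(FF z) = Nat.card ↥(generalizedFittingSubgroup ↥(centralizer ({z} : Set G))) :=
  Nat.card_congr ((generalizedFittingSubgroup ↥(centralizer ({z} : Set G))).equivMapOfInjective _
    (centralizer ({z} : Set G)).subtype_injective).toEquiv.symm

/-- the extraspecial case -/
theorem symF (h : SymHyp z) (hz1 : z ≠ 1)
    (hE : IsExtraspecial 2 ↥(generalizedFittingSubgroup ↥(centralizer ({z} : Set G)))) : SymF z (FF z) := by
  have : Fact (Nat.Prime 2) := ⟨Nat.prime_two⟩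
  set C := centralizer ({z} : Set G) with hC
  set F := generalizedFittingSubgroup ↥C with hF
  have hN : F.Normal := ClassificationK.GF2Basics.genFitting_normal_of_isPGroup h.1
  have hzC : z ∈ C := mem_centralizer_singleton_iff.2 rfl
  set zc : ↥C := ⟨z, hzC⟩ with hzc
  have hzcen : zc ∈ center ↥C := ClassificationK.GF2Basics.mem_center_centralizer z
  have hzF : zc ∈ F := ClassificationK.GF2Basics.center_le_genFitting ↥C hzcen
  set zf : ↥F := ⟨zc, hzF⟩ with hzf
  have hzf1 : zf ≠ 1 := by
    intro e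
    apply hz1
    exact congrArg (fun t : ↥F => ((t : ↥C) : G)) e
  have hzfc : zf ∈ center ↥F := by
    rw [mem_center_iff]
    intro g
    exact Subtype.ext ((mem_center_iff.1 hzcen) g)
  -- the center is `{1, z}`
  have hcen : ∀ a : ↥F, a ∈ center ↥F → a = 1 ∨ a = zf := by
    intro a ha
    by_contra hno
    push Not at hno
    have h2 : Nat.card ↥(center ↥F) = 2 := hE.2
    have hfin : Finite ↥(center ↥F) := inferInstance
    have := Fintype.ofFinite ↥(center ↥F)
    have hlt : 2 < Fintype.card ↥(center ↥F) := by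
      rw [Fintype.two_lt_card_iff]
      exact ⟨⟨a, ha⟩, ⟨zf, hzfc⟩, 1, fun e => hno.2 (congrArg Subtype.val e), fun e => hno.1 (congrArg Subtype.val e),
        fun e => hzf1 (congrArg Subtype.val e)⟩
    rw [Nat.card_eq_fintype_card] at h2
    omega
  have hmem : ∀ {a : G}, a ∈ FF z → ∃ b : ↥F, ((b : ↥C) : G) = a := by
    rintro _ ⟨b, hb, rfl⟩
    exact ⟨⟨b, hb⟩, rfl⟩
  have hmem' : ∀ b : ↥F, ((b : ↥C) : G) ∈ FF z := fun b => ⟨b, b.2, rfl⟩
  refine ⟨hmem' zf, ?_, ?_, ?_, ?_, ?_, ?_⟩
  · intro a ha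
    obtain ⟨b, rfl⟩ := hmem ha
    exact mem_centralizer_singleton_iff.1 (b : ↥C).2
  · intro a ha b hb
    obtain ⟨a, rfl⟩ := hmem ha
    obtain ⟨b, rfl⟩ := hmem hb
    rcases hcen _ (Transfer.Extraspecial.comm_mem_center hE a b) with e | e
    · left
      rw [commutatorElement_eq_one_iff_mul_comm] at e
      exact congrArg (fun t : ↥F => ((t : ↥C) : G)) e
    · right
      have e1 : a * b = zf * (b * a) := by
        rw [← e, commutatorElement_def]; group
      exact congrArg (fun t : ↥F => ((t : ↥C) : G)) e1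
  · intro a ha
    obtain ⟨a, rfl⟩ := hmem ha
    rcases hcen _ (Transfer.Extraspecial.pow_mem_center hE a) with e | e
    · left
      rw [pow_two] at e
      exact congrArg (fun t : ↥F => ((t : ↥C) : G)) e
    · right
      rw [pow_two] at e
      exact congrArg (fun t : ↥F => ((t : ↥C) : G)) e
  · intro a ha hb
    obtain ⟨a, rfl⟩ := hmem ha
    have h1 : a ∈ center ↥F := by
      rw [mem_center_iff]
      intro g
      exact Subtype.ext (Subtype.ext (hb _ (hmem' g)).symm)
    rcases hcen a h1 with e | e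
    · left; exact congrArg (fun t : ↥F => ((t : ↥C) : G)) e
    · right; exact congrArg (fun t : ↥F => ((t : ↥C) : G)) e
  · intro g hg a ha
    obtain ⟨a, rfl⟩ := hmem ha
    have hgC : g ∈ C := mem_centralizer_singleton_iff.2 hg
    exact ⟨_, hN.conj_mem a a.2 ⟨g, hgC⟩, rfl⟩
  · intro g hg
    have hgC : g ∈ C := mem_centralizer_singleton_iff.2 (hg _ (hmem' zf))
    have h1 : (⟨g, hgC⟩ : ↥C) ∈ centralizer (F : Set ↥C) := by
      rw [mem_centralizer_iff]
      intro c hc
      exact Subtype.ext (hg _ (hmem' ⟨c, hc⟩)).symm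
    have h2 := Lib.GenFitting.centralizer_genFitting_le h1
    exact ⟨_, h2, rfl⟩

end SymHyp

end Cfsg.Agent.OddHalf.D5.SixAut
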