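import Cfsg.Agent.OddHalf.D5.SixAut.TwFour

/-!
# ODD D5, `n = 6`, (C3b): **the non-abelian variant is impossible** (helper310)

`AutTw x ι f r`: `f² = 1`, `r f r⁻¹ = x f z`. Exactly one of `f`, `x f` in `x^G`: the product of the eight elements of
`x^G ∩ E₁` is `x`, fixed by `N(E₁)`.
-/

set_option autoImplicit false
set_option linter.unusedSectionVars false

namespace Cfsg.Agent.OddHalf.D5.SixAut.TwKill

open Subgroup Equiv
open EPerm EPerm2 EOne TwE TwOne TwFus
open FusE (A A_def A_mul A_inv A_inv' A_inj A_inv_eq A_eq_inv A_eq_iff A_conj A_ι A_ι_inv NE A_mem mem_NE)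
open FusN (D D_A D_of_A D_self even_conj odd_conj VInv)

variable {G : Type*} [Group G] {x r : G} {ι : Perm (Fin 6) →* G}

theorem prod_list (h : AutE x ι r) (e : Perm (Fin 6) → ℕ) (l : List (Perm (Fin 6))) :
    (l.map fun a => x ^ e a * ι a).prod = x ^ (l.map e).sum * ι l.prod := by
  induction l with
  | nil => simp
  | cons a l ih =>
    have hc : ι a * x ^ (l.map e).sum = x ^ (l.map e).sum * ι a :=
      ((show Commute (ι a) x from h.comm' a).pow_right _).eq
    rw [List.map_cons, List.prod_cons, ih, List.map_cons, List.sum_cons, List.prod_cons, pow_add, map_mul]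
    calc x ^ e a * ι a * (x ^ (l.map e).sum * ι l.prod) = x ^ e a * (ι a * x ^ (l.map e).sum) * ι l.prod := by group
      _ = x ^ e a * x ^ (l.map e).sum * (ι a * ι l.prod) := by rw [hc]; group

theorem prod_vL : vL.prod = 1 := by decide +kernel

/-- the product argument -/
theorem prod_kill [Finite G] (h : AutE x ι r) (hs : D x (x * ι pz)) (e : Perm (Fin 6) → ℕ)
    (he : ∀ a, InV a → (e a = 0 ∨ e a = 1))
    (hy : ∀ a, InV a → ∀ g, (g = ι a ∨ g = x * ι a) → (D x g ↔ g = x ^ e a * ι a))
    (hodd : x ^ (vL.map e).sum = x) : False := by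
  have val : ∀ a, InV a → (x ^ e a * ι a = ι a ∨ x ^ e a * ι a = x * ι a) := by
    intro a ha
    rcases he a ha with e' | e' <;> rw [e']
    · left; rw [pow_zero, one_mul]
    · right; rw [pow_one]
  have memL : ∀ g, g ∈ (vL.map fun a => x ^ e a * ι a) ↔ g ∈ E1 x ι ∧ D x g := by
    intro g
    rw [List.mem_map]
    constructor
    · rintro ⟨a, ha, rfl⟩
      have ha := mem_vL.1 ha
      refine ⟨?_, (hy a ha _ (val a ha)).2 rfl⟩
      rcases val a ha with e' | e' <;> rw [e']
      · exact AutE'.mem h ha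
      · exact AutE'.mem' h ha
    · rintro ⟨hg, hD⟩
      obtain ⟨a, ha, e'⟩ := AutE'.form h hg
      exact ⟨a, mem_vL.2 ha, ((hy a ha g e').1 hD).symm⟩
  have nod : (vL.map fun a => x ^ e a * ι a).Nodup := by
    apply List.Nodup.map_on _ vL_nodup
    intro a ha b hb hab
    rcases val a (mem_vL.1 ha) with e1 | e1 <;> rcases val b (mem_vL.1 hb) with e2 | e2 <;> rw [e1, e2] at hab
    · exact h.inj hab
    · exact absurd hab (h.ne_x _ _)
    · exact absurd hab.symm (h.ne_x _ _)
    · exact h.xι_inj hab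
  obtain ⟨n, hn, hnx⟩ := fus' h (AutE'.mem' h V_z) hs
  have perm : ((vL.map fun a => x ^ e a * ι a).map (A n)).Perm (vL.map fun a => x ^ e a * ι a) := by
    rw [List.perm_ext_iff_of_nodup (nod.map (fun a b => A_inj n)) nod]
    intro g
    rw [memL, List.mem_map]
    constructor
    · rintro ⟨k, hk, rfl⟩
      obtain ⟨h1, h2⟩ := (memL k).1 hk
      exact ⟨A_mem hn h1, (D_A n).2 h2⟩
    · rintro ⟨h1, h2⟩
      refine ⟨A n⁻¹ g, (memL _).2 ⟨A_mem (inv_mem hn) h1, (D_A n⁻¹).2 h2⟩, A_inv' n g⟩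
  have hc : ((vL.map fun a => x ^ e a * ι a).map (A n)).Pairwise Commute := by
    rw [List.pairwise_map]
    apply List.Pairwise.imp_of_mem _ nod
    intro a b ha hb _
    exact AutE'.comm h (A_mem hn ((memL a).1 ha).1) (A_mem hn ((memL b).1 hb).1)
  have h1 := perm.prod_eq' hc
  rw [← map_list_prod, prod_list h, prod_vL, map_one, mul_one, hodd, hnx] at h1
  have h2 : ι pz = 1 := mul_eq_left.1 h1
  rw [h.one_iff] at h2
  revert h2; decide +kernel

theorem sum1 : (vL.map fun a => if a = pf then 0 else 1).sum = 7 := by decide +kernel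
theorem sum2 : (vL.map fun a => if Perm.sign a = 1 ∨ a = pf then 1 else 0).sum = 5 := by decide +kernel

/-- one of `f`, `x f` in `x^G`, with `r f r⁻¹ = x f z` -/
theorem one_of [Finite G] (h : AutE x ι r) (hr : r * ι pf * r⁻¹ = x * ι (pf * pz)) (hs : D x (x * ι pz))
    (nxz : ∀ g, A g x ≠ ι pz) (hne : ¬ (D x (ι pf) ↔ D x (x * ι pf))) : False := by
  have hx : A r x = x := A_eq_iff.2 h.rx
  have hodd : ∀ a, InV a → Perm.sign a ≠ 1 → a ≠ pf →
      (D x (ι a) ↔ D x (x * ι pf)) ∧ (D x (x * ι a) ↔ D x (ι pf)) := by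
    intro a ha hs h1
    obtain ⟨s, -, hs⟩ := odd_conj a ha hs h1
    have k1 : A (ι s * r) x = x := by rw [A_mul, hx, A_ι_x h]
    have k2 : A (ι s * r) (ι pf) = x * ι a := by rw [A_mul, A_def r, hr, map_mul, A_ι_x h, A_ι, hs]
    have k3 : A (ι s * r) (x * ι pf) = ι a := by rw [map_mul, k1, k2, ← mul_assoc, h.xx, one_mul]
    exact ⟨D_of_A k3, D_of_A k2⟩
  have x2 : ∀ k : G, x * (x * k) = k := fun k => by rw [← mul_assoc, h.xx, one_mul]
  have sq2 : x ^ 2 = 1 := by rw [pow_two, h.xx]
  have p7 : x ^ 7 = x := by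
    rw [show 7 = 2 * 3 + 1 from rfl, pow_succ, pow_mul, sq2, one_pow, one_mul]
  have p5 : x ^ 5 = x := by
    rw [show 5 = 2 * 2 + 1 from rfl, pow_succ, pow_mul, sq2, one_pow, one_mul]
  have ne1 : ∀ a b, ι a ≠ x * ι b := h.ne_x
  by_cases h1 : D x (ι pf)
  · have h2 : ¬ D x (x * ι pf) := fun h2 => hne ⟨fun _ => h2, fun _ => h1⟩
    apply prod_kill h hs (fun a => if a = pf then 0 else 1) (fun a _ => by split_ifs <;> simp)
    · intro a ha g hg
      by_cases ha1 : a = pf
      · subst ha1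
        rw [if_pos rfl, pow_zero, one_mul]
        rcases hg with rfl | rfl
        · exact ⟨fun _ => rfl, fun _ => h1⟩
        · exact ⟨fun hD => absurd hD h2, fun e => absurd e.symm (ne1 _ _)⟩
      · rw [if_neg ha1, pow_one]
        have k1 : ¬ D x (ι a) := by
          by_cases hsg : Perm.sign a = 1
          · exact not_D_even h nxz ha hsg
          · rw [(hodd a ha hsg ha1).1]; exact h2
        have k2 : D x (x * ι a) := by
          by_cases hsg : Perm.sign a = 1
          · exact D_even h hs ha hsg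
          · rw [(hodd a ha hsg ha1).2]; exact h1
        rcases hg with rfl | rfl
        · exact ⟨fun hD => absurd hD k1, fun e => absurd e (ne1 _ _)⟩
        · exact ⟨fun _ => rfl, fun _ => k2⟩
    · rw [sum1]; exact p7
  · have h2 : D x (x * ι pf) := by
      by_contra h2
      exact hne ⟨fun e => absurd e h1, fun e => absurd e h2⟩
    apply prod_kill h hs (fun a => if Perm.sign a = 1 ∨ a = pf then 1 else 0)
      (fun a _ => by split_ifs <;> simp)
    · intro a ha g hg
      by_cases ha1 : Perm.sign a = 1 ∨ a = pf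
      · rw [if_pos ha1, pow_one]
        have k1 : ¬ D x (ι a) := by
          rcases ha1 with hsg | rfl
          · exact not_D_even h nxz ha hsg
          · exact h1
        have k2 : D x (x * ι a) := by
          rcases ha1 with hsg | rfl
          · exact D_even h hs ha hsg
          · exact h2
        rcases hg with rfl | rfl
        · exact ⟨fun hD => absurd hD k1, fun e => absurd e (ne1 _ _)⟩
        · exact ⟨fun _ => rfl, fun _ => k2⟩
      · rw [if_neg ha1, pow_zero, one_mul]
        push Not at ha1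
        obtain ⟨k1, k2⟩ := hodd a ha ha1.1 ha1.2
        rcases hg with rfl | rfl
        · exact ⟨fun _ => rfl, fun _ => k1.2 h2⟩
        · exact ⟨fun hD => absurd (k2.1 hD) h1, fun e => absurd e.symm (ne1 _ _)⟩
    · rw [sum2]; exact p5

/-- **the non-abelian variant is impossible** -/
theorem false_of [Finite G] {f : G} {ι : A6 →* G} (h : AutTw x ι f r) (hG : ∀ (m : G →* ℤˣ) (g : G), m g = 1)
    (hs : ∃ s, s * x * s⁻¹ = x * ι qz) (nxz : ∀ g, g * x * g⁻¹ ≠ ι qz)
    (hZ : ∀ S : Sylow 2 G, Nat.card (center S) ≤ 2) : False := by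
  have E := of_tw h
  have hr := of_tw_f h
  rw [← map_mul] at hr
  have hz : h.ext h.ff1 pz = ι qz := h.ext_even h.ff1 qz
  have hs' : D x (x * h.ext h.ff1 pz) := by rw [hz]; exact hs
  have nxz' : ∀ g, A g x ≠ h.ext h.ff1 pz := by rw [hz]; exact nxz
  by_cases hne : D x (h.ext h.ff1 pf) ↔ D x (x * h.ext h.ff1 pf)
  · by_cases h1 : D x (h.ext h.ff1 pf)
    · exact twelve E hs' nxz' h1 (hne.1 h1)
    · exact TwFour.false_of E ⟨hs', nxz', h1, fun e => h1 (hne.2 e)⟩ hG hZ
  · exact one_of E hr hs' nxz' hne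

end Cfsg.Agent.OddHalf.D5.SixAut.TwKill
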