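import Cfsg.Agent.OddHalf.D5.SixAut.FinalKey
import Cfsg.Agent.OddHalf.D5.SixAut.Row
import Cfsg.Agent.OddHalf.D5.SixAut.TwKill
import Cfsg.Agent.OddHalf.D5.SixAut.SymWit
import Cfsg.Agent.OddHalf.D5.SixAut.SymSpl

/-!
# ODD D5, `n = 6`, `C_G(x)/⟨x⟩ = Aut(A_6)`: the hypotheses of the symplectic case (helper383)
-/

set_option autoImplicit false

namespace Cfsg.Agent.OddHalf.D5.SixAut.C3b

open Subgroup Equiv Cfsg

universe u

variable {G : Type u} [Group G] {x f r : G} {ι : A6 →* G}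

/-- `SymT` and `SymHyp` hold -/
theorem hyps (C : Iface.Ctx G) (h : AutGen x ι f r)
    (hfit : IsPGroup 2 ↥(generalizedFittingSubgroup ↥(centralizer ({ι qz} : Set G)))) :
    SymT x (ι qz) ∧ SymHyp (ι qz) := by
  have := C.fin
  have := C.simple
  have hna : ¬ ∀ a b : G, a * b = b * a := fun e => C.na ⟨⟨e⟩⟩
  have hc := comm_top hna
  have htw : AutTw x ι f r → False := fun hT => TwKill.false_of hT (fun m g => hom_one hc m g) (h.exists_s C.sect5)
    (h.nxz C.sect5) (h.card_center_le C.sect5)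
  exact ⟨h.symT, hfit, fun A hA hel => key hna h C.sect5 C.bal htw A hA hel⟩

/-- the row `AutRow` from the symplectic case -/
theorem autRow_of (hS : ∀ (G : Type u) [Group G], Iface.Ctx G → ∀ x z : G, SymT x z → SymHyp z → False) :
    AutRow.{u} := by
  intro G _ x ι f r h
  have := h.ctx.fin
  obtain ⟨h1, h2⟩ := hyps h.ctx h.toAutGen (h.toAutGen.fit h.ctx.sect5 h.world)
  exact hS G h.ctx x (ι qz) h1 h2

end Cfsg.Agent.OddHalf.D5.SixAut.C3b
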