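import Cfsg.Agent.OddHalf.Iface
import Cfsg.Agent.OddHalf.Soft
import Cfsg.Agent.OddHalf.Small.Plug
import Cfsg.Agent.OddHalf.D0
import Cfsg.Agent.OddHalf.D5.SixAut.SymSpl

/-!
# ODD D5, `n = 6`, `C_G(x)/⟨x⟩ = Aut(A_6)`: the case "symplectic type", part 3

`sym_false_of`: `Ctx G`, `SymT x z`, `SymHyp z` is impossible, given the listed theorems S1758, S1759, S1762
(`SymListed`) and the rows of characteristic 2 type (`SymRows`).
-/

set_option autoImplicit false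

namespace Cfsg.Agent.OddHalf.D5.SixAut

open Subgroup Cfsg
open Cfsg.Agent.OddHalf.Small

universe u

/-- the listed theorems -/
structure SymListed : Prop where
  s1758 : ∀ (G : Type u) [Group G] [Finite G] [IsSimpleGroup G]
    (_ : ¬ IsMulCommutative G) (z : G) (_ : orderOf z = 2) (_ : Cfsg.IsOfSymplecticType ↥(Cfsg.generalizedFittingSubgroup ↥(Subgroup.centralizer ({z} : Set G)))),
    Cfsg.IsExtraspecial 2 ↥(Cfsg.generalizedFittingSubgroup ↥(Subgroup.centralizer ({z} : Set G))) ∨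
      (QuotientGroup.mk' (Cfsg.oddCore G) z ∈ Subgroup.center (G ⧸ Cfsg.oddCore G)) ∨
      (∃ (F : Type) (_ : Field F) (_ : Fintype F), ((∃ n : ℕ, Fintype.card F = 2 ^ n + 1) ∨ (∃ n : ℕ, Fintype.card F + 1 = 2 ^ n)) ∧
        Nonempty (G ≃* Matrix.ProjectiveSpecialLinearGroup (Fin 2) F)) ∨
      Cfsg.Spor.IsoM11 G ∨
      (∃ (F : Type) (_ : Field F) (_ : Fintype F), Fintype.card F = 3 ∧ Nonempty (G ≃* Matrix.ProjectiveSpecialLinearGroup (Fin 3) F)) ∨
      (∃ (F : Type) (_ : Field F) (_ : Fintype F), Fintype.card F = 9 ∧ Nonempty (G ≃* Cfsg.PSU 3 F 3)) ∨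
      Cfsg.Spor.IsoHS G
  s1759 : ∀ (G : Type u) [Group G] [Finite G] (z : G) (_ : orderOf z = 2) (_ : Cfsg.IsOfSymplecticType ↥(Cfsg.generalizedFittingSubgroup ↥(Subgroup.centralizer ({z} : Set G)))) (_ : Cfsg.IsExtraspecial 2 ↥(Cfsg.generalizedFittingSubgroup ↥(Subgroup.centralizer ({z} : Set G))))
    (_ : Nat.card ↥(Cfsg.generalizedFittingSubgroup ↥(Subgroup.centralizer ({z} : Set G))) = 32) (_ : IsSimpleGroup ↥(Cfsg.generalizedFittingSubgroup G))
    (_ : ¬ IsMulCommutative ↥(Cfsg.generalizedFittingSubgroup G)),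
    (∃ (F : Type) (_ : Field F) (_ : Fintype F), Fintype.card F = 9 ∧ (Nonempty (↥(Cfsg.generalizedFittingSubgroup G) ≃* Cfsg.PSU 3 F 3) ∨ Nonempty (↥(Cfsg.generalizedFittingSubgroup G) ≃* Cfsg.PSU 4 F 3))) ∨
      (∃ (F : Type) (_ : Field F) (_ : Fintype F), Fintype.card F = 4 ∧ Nonempty (↥(Cfsg.generalizedFittingSubgroup G) ≃* Cfsg.PSU 4 F 2)) ∨
      (∃ (F : Type) (_ : Field F) (_ : Fintype F), Fintype.card F = 3 ∧ (Nonempty (↥(Cfsg.generalizedFittingSubgroup G) ≃* Matrix.ProjectiveSpecialLinearGroup (Fin 4) F) ∨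
        Nonempty (↥(Cfsg.generalizedFittingSubgroup G) ≃* ↥(Cfsg.Lie.chevG2.group F)))) ∨
      Nonempty (↥(Cfsg.generalizedFittingSubgroup G) ≃* ↥(alternatingGroup (Fin 8))) ∨
      Nonempty (↥(Cfsg.generalizedFittingSubgroup G) ≃* ↥(alternatingGroup (Fin 9))) ∨
      Cfsg.Spor.IsoM12 ↥(Cfsg.generalizedFittingSubgroup G) ∨ Cfsg.Spor.IsoJ2 ↥(Cfsg.generalizedFittingSubgroup G) ∨
      Cfsg.Spor.IsoJ3 ↥(Cfsg.generalizedFittingSubgroup G)
  s1762 : ∀ (G : Type u) [Group G] [Finite G] [IsSimpleGroup G]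
    (_ : ¬ IsMulCommutative G) (z : G) (_ : orderOf z = 2) (_ : Cfsg.IsOfSymplecticType ↥(Cfsg.generalizedFittingSubgroup ↥(Subgroup.centralizer ({z} : Set G)))) (_ : Cfsg.IsExtraspecial 2 ↥(Cfsg.generalizedFittingSubgroup ↥(Subgroup.centralizer ({z} : Set G)))) (_ : Nat.card ↥(Cfsg.generalizedFittingSubgroup ↥(Subgroup.centralizer ({z} : Set G))) = 2 ^ 7),
    (∃ (F : Type) (_ : Field F) (_ : Fintype F), Fintype.card F = 2 ∧ Nonempty (G ≃* Matrix.ProjectiveSpecialLinearGroup (Fin 5) F)) ∨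
      (∃ (F : Type) (_ : Field F) (_ : Fintype F), Fintype.card F = 4 ∧ Nonempty (G ≃* Cfsg.PSU 5 F 2)) ∨
      Cfsg.Spor.IsoM24 G ∨ Cfsg.Spor.IsoHe G ∨ Cfsg.Spor.IsoSuz G

/-- the rows of characteristic 2 type -/
structure SymRows : Prop where
  rows : Excl.Rows
  psl : ∀ (G : Type u) [Group G] [Finite G] [IsSimpleGroup G], (∃ a b : G, a * b ≠ b * a) → IsPSLChar 2 G →
    IsCharacteristicTwoType G
  psu : ∀ (G : Type u) [Group G] [Finite G] [IsSimpleGroup G], (∃ a b : G, a * b ≠ b * a) → IsPSUChar 2 G →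
    IsCharacteristicTwoType G
  j3 : ∀ (G : Type u) [Group G] [Finite G], Spor.IsoJ3 G → IsCharacteristicTwoType G
  m24 : ∀ (G : Type u) [Group G] [Finite G], Spor.IsoM24 G → IsCharacteristicTwoType G

theorem charP_two_of_card {F : Type} [Field F] [Fintype F] {n : ℕ} (hn : n ≠ 0) (hF : Fintype.card F = 2 ^ n) :
    CharP F 2 := by
  refine CharTwo.of_one_ne_zero_of_two_eq_zero one_ne_zero ?_
  have h3 : ((Fintype.card F : ℕ) : F) = 0 := Nat.cast_card_eq_zero F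
  rw [hF, Nat.cast_pow, Nat.cast_ofNat] at h3
  exact (pow_eq_zero_iff hn).1 h3

variable {G : Type u} [Group G]

/-- the list of S1759, for `G` itself -/
def List32 (X : Type u) [Group X] : Prop :=
    (∃ (F : Type) (_ : Field F) (_ : Fintype F), Fintype.card F = 9 ∧ (Nonempty (X ≃* Cfsg.PSU 3 F 3) ∨ Nonempty (X ≃* Cfsg.PSU 4 F 3))) ∨
      (∃ (F : Type) (_ : Field F) (_ : Fintype F), Fintype.card F = 4 ∧ Nonempty (X ≃* Cfsg.PSU 4 F 2)) ∨
      (∃ (F : Type) (_ : Field F) (_ : Fintype F), Fintype.card F = 3 ∧ (Nonempty (X ≃* Matrix.ProjectiveSpecialLinearGroup (Fin 4) F) ∨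
        Nonempty (X ≃* ↥(Cfsg.Lie.chevG2.group F)))) ∨
      Nonempty (X ≃* ↥(alternatingGroup (Fin 8))) ∨
      Nonempty (X ≃* ↥(alternatingGroup (Fin 9))) ∨
      Cfsg.Spor.IsoM12 X ∨ Cfsg.Spor.IsoJ2 X ∨ Cfsg.Spor.IsoJ3 X

theorem list32_congr {X Y : Type u} [Group X] [Group Y] (e : X ≃* Y) (h : List32 X) : List32 Y := by
  rcases h with ⟨F, i1, i2, hF, ⟨⟨f⟩⟩ | ⟨⟨f⟩⟩⟩ | ⟨F, i1, i2, hF, ⟨f⟩⟩ | ⟨F, i1, i2, hF, ⟨⟨f⟩⟩ | ⟨⟨f⟩⟩⟩ | ⟨⟨f⟩⟩ | ⟨⟨f⟩⟩ |
    h | h | h
  · exact Or.inl ⟨F, i1, i2, hF, Or.inl ⟨e.symm.trans f⟩⟩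
  · exact Or.inl ⟨F, i1, i2, hF, Or.inr ⟨e.symm.trans f⟩⟩
  · exact Or.inr (Or.inl ⟨F, i1, i2, hF, ⟨e.symm.trans f⟩⟩)
  · exact Or.inr (Or.inr (Or.inl ⟨F, i1, i2, hF, Or.inl ⟨e.symm.trans f⟩⟩))
  · exact Or.inr (Or.inr (Or.inl ⟨F, i1, i2, hF, Or.inr ⟨e.symm.trans f⟩⟩))
  · exact Or.inr (Or.inr (Or.inr (Or.inl ⟨e.symm.trans f⟩)))
  · exact Or.inr (Or.inr (Or.inr (Or.inr (Or.inl ⟨e.symm.trans f⟩))))
  · iterate 5 right
    left
    obtain ⟨f⟩ := h
    exact ⟨e.symm.trans f⟩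
  · iterate 6 right
    left
    obtain ⟨f⟩ := h
    exact ⟨e.symm.trans f⟩
  · iterate 7 right
    obtain ⟨F, i1, i2, w, h1, h2, ⟨f⟩⟩ := h
    exact ⟨F, i1, i2, w, h1, h2, ⟨e.symm.trans f⟩⟩

theorem exists_nc (hC : Iface.Ctx G) : ∃ a b : G, a * b ≠ b * a := by
  by_contra hno
  push Not at hno
  exact hC.na ⟨⟨fun a b => hno a b⟩⟩

theorem list32_false (R : SymRows.{u}) (hC : Iface.Ctx G) (h : List32 G) : False := by
  have := hC.fin
  have := hC.simple
  have h2 := hC.notTwo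
  apply hC.nc
  rcases h with ⟨F, _, _, hF, e | e⟩ | ⟨F, _, _, hF, e⟩ | ⟨F, _, _, hF, e | e⟩ | e | e | h | h | h
  · exact Plug.concl_of_lieOdd R.rows h2 (Plug.lieOdd_psu F (q := 3) (by rw [hF]; norm_num) (by decide) le_rfl e)
  · exact Plug.concl_of_lieOdd R.rows h2 (Plug.lieOdd_psu F (q := 3) (by rw [hF]; norm_num) (by decide) (by norm_num) e)
  · exfalso
    have hch : CharP F 2 := charP_two_of_card (n := 2) (by norm_num) (by rw [hF]; norm_num)
    refine h2 (R.psu G (exists_nc hC) ?_)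
    exact ⟨F, inferInstance, inferInstance, hch, 4, 2, by rw [hF]; norm_num, by norm_num, by norm_num, e⟩
  · exact Plug.concl_of_lieOdd R.rows h2 (Plug.lieOdd_psl F (by rw [hF]; decide) (by norm_num)
      (fun h => absurd h (by norm_num)) e)
  · exact Plug.concl_of_lieOdd R.rows h2 (Plug.lieOdd_g2 F (by rw [hF]; decide) e)
  · exact absurd (Alt.result (Or.inr (Or.inr rfl)) e) h2
  · exact Plug.concl_alt (Or.inr le_rfl) e
  · exact Plug.concl_m12 h
  · exact Plug.concl_j2 h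
  · exact absurd (R.j3 G h) h2

theorem list128_false (R : SymRows.{u}) (hC : Iface.Ctx G) (h : (∃ (F : Type) (_ : Field F) (_ : Fintype F), Fintype.card F = 2 ∧ Nonempty (G ≃* Matrix.ProjectiveSpecialLinearGroup (Fin 5) F)) ∨
      (∃ (F : Type) (_ : Field F) (_ : Fintype F), Fintype.card F = 4 ∧ Nonempty (G ≃* Cfsg.PSU 5 F 2)) ∨
      Cfsg.Spor.IsoM24 G ∨ Cfsg.Spor.IsoHe G ∨ Cfsg.Spor.IsoSuz G) : False := by
  have := hC.fin
  have := hC.simple
  have h2 := hC.notTwo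
  apply hC.nc
  rcases h with ⟨F, _, _, hF, e⟩ | ⟨F, _, _, hF, e⟩ | h | h | h
  · exfalso
    have hch : CharP F 2 := charP_two_of_card (n := 1) (by norm_num) (by rw [hF]; norm_num)
    refine h2 (R.psl G (exists_nc hC) ?_)
    exact ⟨F, inferInstance, inferInstance, hch, 5, by norm_num, by norm_num, e⟩
  · exfalso
    have hch : CharP F 2 := charP_two_of_card (n := 2) (by norm_num) (by rw [hF]; norm_num)
    refine h2 (R.psu G (exists_nc hC) ?_)
    exact ⟨F, inferInstance, inferInstance, hch, 5, 2, by rw [hF]; norm_num, by norm_num, by norm_num, e⟩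
  · exact absurd (R.m24 G h) h2
  · exact Plug.concl_he h
  · unfold Iface.Concl Excl.Concl
    iterate 10 right
    exact Or.inl h

theorem center_false (hC : Iface.Ctx G) {z : G} (hz : z ≠ 1)
    (h : QuotientGroup.mk' (Cfsg.oddCore G) z ∈ Subgroup.center (G ⧸ Cfsg.oddCore G)) : False := by
  have := hC.fin
  have := hC.simple
  have hO : oddCore G = ⊥ := Soft.oddCore_eq_bot (Soft.even_of_rank hC.rank3)
  have hzc : z ∈ center G := by
    rw [mem_center_iff] at h ⊢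
    intro g
    have h1 := h (QuotientGroup.mk' (Cfsg.oddCore G) g)
    rw [← map_mul, ← map_mul] at h1
    have h2 := QuotientGroup.eq.1 h1
    rw [hO, mem_bot, inv_mul_eq_one] at h2
    exact h2
  rcases (inferInstance : (center G).Normal).eq_bot_or_eq_top with e | e
  · rw [e, mem_bot] at hzc
    exact hz hzc
  · apply hC.na
    refine ⟨⟨fun a b => ?_⟩⟩
    have ha : b ∈ center G := by rw [e]; exact mem_top b
    exact mem_center_iff.1 ha a

/-- **the case "symplectic type"** -/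
theorem sym_false_of (R : SymRows.{u}) (L : SymListed.{u}) (hC : Iface.Ctx G) {x z : G} (hT : SymT x z)
    (hS : SymHyp z) : False := by
  have := hC.fin
  have := hC.simple
  have hf : Fact (Nat.Prime 2) := ⟨Nat.prime_two⟩
  have hz : orderOf z = 2 := orderOf_eq_prime (by rw [pow_two]; exact hT.zz) hT.z1
  have h2 := hC.notTwo
  have hQ := hS.sympl
  rcases L.s1758 G hC.na z hz hQ with hE | h | ⟨F, _, _, hF, ⟨e⟩⟩ | h | ⟨F, _, _, hF, e⟩ | ⟨F, _, _, hF, e⟩ | h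
  · -- extraspecial
    have hFF := hS.symF hT.z1 hE
    have hw : ∃ n : ℕ, 1 ≤ n ∧ Nat.card ↥(SymHyp.FF z) = 2 ^ (2 * n + 1) := by
      rw [SymHyp.card_FF]
      exact Transfer.Extraspecial.exists_card_eq Nat.prime_two hE
    rcases hT.card_F hFF hw with h32 | h128
    · rw [SymHyp.card_FF] at h32
      have h1 := L.s1759 G z hz hQ hE h32 (D0.star_simple G hC.na) (D0.star_na G hC.na)
      exact list32_false R hC (list32_congr (D0.starEquiv G hC.na) h1)
    · rw [SymHyp.card_FF] at h128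
      exact list128_false R hC (L.s1762 G hC.na z hz hQ hE h128)
  · exact center_false hC hT.z1 h
  · apply hC.nc
    rcases Nat.even_or_odd (Fintype.card F) with he | ho
    · exact absurd (L2.psl2_even he e) h2
    · rcases Nat.lt_or_ge (Fintype.card F) 4 with h4 | h4
      · have h3 : Fintype.card F = 3 := by
          have := Plug.one_lt F
          obtain ⟨k, hk⟩ := ho
          omega
        exact absurd (L2.psl2 (Or.inl ⟨by rw [h3]; exact Nat.prime_three, Or.inl ⟨2, by omega⟩⟩) e) h2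
      · exact Plug.concl_of_lieOdd R.rows h2 (Plug.lieOdd_psl F ho le_rfl (fun _ => h4) ⟨e⟩)
  · exact h2 (M11.charTwo_of_iso h)
  · exact hC.nc (Plug.concl_of_lieOdd R.rows h2 (Plug.lieOdd_psl F (by rw [hF]; decide) (by norm_num)
      (fun h => absurd h (by norm_num)) e))
  · exact hC.nc (Plug.concl_of_lieOdd R.rows h2 (Plug.lieOdd_psu F (q := 3) (by rw [hF]; norm_num) (by decide) le_rfl e))
  · apply hC.nc
    unfold Iface.Concl Excl.Concl
    iterate 7 right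
    exact Or.inl h

end Cfsg.Agent.OddHalf.D5.SixAut
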