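import Cfsg.Agent.OddHalf.D5.SixAut.Split2
import Cfsg.Agent.OddHalf.TFormula

/-!
# ODD D5, `n = 6`, `C(x)/⟨x⟩ = Aut(A_6)`: the first facts ((0) of #10400)

`T = C(x) ∩ C(z)` (`z = ι qz`) is a Sylow 2-subgroup of `C(x)`, `Z(T) = {1, x, z, xz}` (`center_TT`). If the sectional
2-rank of `G` is at least 5: `T < S` and `N_S(T)` contains `s` with `s x s⁻¹ = x z` (`grow_in`), `Z(S) = ⟨z⟩`
(`center_S`), `z` is not conjugate to `x` (`nxz`), `x` is in the kernel of every homomorphism of `C(z)` into an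
abelian group if `G` is perfect (`foc`).
-/

set_option autoImplicit false

namespace Cfsg.Agent.OddHalf.D5.SixAut

open Subgroup Equiv Cfsg
open Cfsg.Agent.StdAlt.Six (Act NS emb act_emb exists_act exists_emb emb_mem emb_inj act_one_iff act_one ns_iff ns_pc
  Z0 A0 ns_of_a0)

/-- the elements of `C((0 1)(2 3))` -/
def czS (a b c d : Fin 2) : Perm (Fin 6) :=
  (if a = 0 then 1 else swap 0 1) * (if b = 0 then 1 else swap 2 3) * (if c = 0 then 1 else swap 0 2 * swap 1 3) *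
    (if d = 0 then 1 else swap 4 5)

/-- their images under `θ` -/
def czT (a b c d : Fin 2) : Perm (Fin 6) :=
  (if a = 0 then 1 else T 0 1) * (if b = 0 then 1 else T 2 3) * (if c = 0 then 1 else T 0 2 * T 1 3) *
    (if d = 0 then 1 else T 4 5)

theorem θ_czS (a b c d : Fin 2) : θ (czS a b c d) = czT a b c d := by
  unfold czS czT
  split_ifs <;> simp only [map_mul, map_one, θ_swap]

theorem exists_czS : ∀ σ : Perm (Fin 6), σ * pz = pz * σ → ∃ a b c d, czS a b c d = σ := by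
  decide +kernel

theorem czS_table1 : ∀ a b c d a' b' c' d' : Fin 2,
    (czS a b c d * czS a' b' c' d' * (czS a b c d)⁻¹ * (czS a' b' c' d')⁻¹) ^ 2 = 1 ∨
      (czS a b c d * czS a' b' c' d' * (czS a b c d)⁻¹ * (czS a' b' c' d')⁻¹) ^ 2 = pz := by
  decide +kernel

theorem czS_table2 : ∀ a b c d a' b' c' d' : Fin 2,
    (czS a b c d * czS a' b' c' d' * (czT a b c d)⁻¹ * (czS a' b' c' d')⁻¹) ^ 2 = 1 ∨
      (czS a b c d * czS a' b' c' d' * (czT a b c d)⁻¹ * (czS a' b' c' d')⁻¹) ^ 2 = pz := by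
  decide +kernel

theorem czS_table3 : ∀ a b c d a' b' c' d' : Fin 2,
    (czS a b c d * czT a' b' c' d' * (czS a b c d)⁻¹ * (czS a' b' c' d')⁻¹) ^ 2 = 1 ∨
      (czS a b c d * czT a' b' c' d' * (czS a b c d)⁻¹ * (czS a' b' c' d')⁻¹) ^ 2 = pz := by
  decide +kernel

theorem czS_table4 : ∀ a b c d a' b' c' d' : Fin 2,
    (czS a b c d * czT a' b' c' d' * (czT a b c d)⁻¹ * (czS a' b' c' d')⁻¹) ^ 2 = 1 ∨
      (czS a b c d * czT a' b' c' d' * (czT a b c d)⁻¹ * (czS a' b' c' d')⁻¹) ^ 2 = pz := by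
  decide +kernel

theorem comm_table : ∀ σ : Perm (Fin 6), σ * pz = pz * σ → ∀ τ : Perm (Fin 6), τ * pz = pz * τ →
    ((σ * τ * σ⁻¹ * τ⁻¹) * (σ * τ * σ⁻¹ * τ⁻¹) = 1 ∨ (σ * τ * σ⁻¹ * τ⁻¹) * (σ * τ * σ⁻¹ * τ⁻¹) = pz) ∧
    ((σ * τ * θ σ⁻¹ * τ⁻¹) * (σ * τ * θ σ⁻¹ * τ⁻¹) = 1 ∨ (σ * τ * θ σ⁻¹ * τ⁻¹) * (σ * τ * θ σ⁻¹ * τ⁻¹) = pz) ∧
    ((σ * θ τ * σ⁻¹ * τ⁻¹) * (σ * θ τ * σ⁻¹ * τ⁻¹) = 1 ∨ (σ * θ τ * σ⁻¹ * τ⁻¹) * (σ * θ τ * σ⁻¹ * τ⁻¹) = pz) ∧
    ((σ * θ τ * θ σ⁻¹ * τ⁻¹) * (σ * θ τ * θ σ⁻¹ * τ⁻¹) = 1 ∨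
      (σ * θ τ * θ σ⁻¹ * τ⁻¹) * (σ * θ τ * θ σ⁻¹ * τ⁻¹) = pz) := by
  intro σ hσ τ hτ
  obtain ⟨a, b, c, d, rfl⟩ := exists_czS σ hσ
  obtain ⟨a', b', c', d', rfl⟩ := exists_czS τ hτ
  have h1 := czS_table1 a b c d a' b' c' d'
  have h2 := czS_table2 a b c d a' b' c' d'
  have h3 := czS_table3 a b c d a' b' c' d'
  have h4 := czS_table4 a b c d a' b' c' d'
  rw [pow_two] at h1 h2 h3 h4
  rw [map_inv θ (czS a b c d), θ_czS, θ_czS]
  exact ⟨h1, h2, h3, h4⟩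

theorem θ_sig_even (σ τ : Perm (Fin 6)) : Perm.sign (σ * τ * σ⁻¹ * τ⁻¹) = 1 := by
  rw [Perm.sign_mul, Perm.sign_mul, Perm.sign_mul, Perm.sign_inv, Perm.sign_inv]
  rcases Int.units_eq_one_or (Perm.sign σ) with h | h <;> rcases Int.units_eq_one_or (Perm.sign τ) with h' | h' <;>
    rw [h, h'] <;> decide

/-- elements of `T` act as `σ` or `σ θ`, `σ ∈ C(z)` -/
theorem form_of {α : MulAut A6} (h : α qz = qz) : ∃ σ : Perm (Fin 6), σ * pz = pz * σ ∧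
    (α = pcA σ ∨ α = pcA σ * θM) := by
  by_cases hn : NS α
  · obtain ⟨σ, rfl⟩ := ns_iff.1 hn
    exact ⟨σ, comm_of_fix h, Or.inl rfl⟩
  · have h1 : NS (α * θM⁻¹) := Cfsg.Agent.StdAlt.Six.NS.mul_of_not hn (fun h => θM_ns (by
      have := h.inv
      rwa [inv_inv] at this))
    obtain ⟨σ, hσ⟩ := ns_iff.1 h1
    have h2 : α = pcA σ * θM := by rw [← hσ, inv_mul_cancel_right]
    refine ⟨σ, ?_, Or.inr h2⟩
    have h3 : θM qz = qz := Subtype.ext θ_z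
    have h4 : pcA σ qz = qz := by
      have := h
      rw [h2, MulAut.mul_apply, h3] at this
      exact this
    exact comm_of_fix h4

theorem θM_inv : θM⁻¹ = θM := inv_eq_of_mul_eq_one_left θM_sq

theorem θM_pc' (σ : Perm (Fin 6)) : θM * pcA σ = pcA (θ σ) * θM := by
  rw [← θM_pc, inv_mul_cancel_right]

/-- the square of a commutator of elements of `T` acts as an element of `⟨z⟩` -/
theorem comm_sq {α β : MulAut A6} (hα : α qz = qz) (hβ : β qz = qz) : ∃ c : Perm (Fin 6), Perm.sign c = 1 ∧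
    (c * c = 1 ∨ c * c = pz) ∧ α * β * α⁻¹ * β⁻¹ = pcA c := by
  obtain ⟨σ, hσ, h1⟩ := form_of hα
  obtain ⟨τ, hτ, h2⟩ := form_of hβ
  obtain ⟨t1, t2, t3, t4⟩ := comm_table σ hσ τ hτ
  have hs : ∀ a b c d : Perm (Fin 6), Perm.sign a = Perm.sign c → Perm.sign b = Perm.sign d →
      Perm.sign (a * b * c⁻¹ * d⁻¹) = 1 := by
    intro a b c d h1 h2
    rw [Perm.sign_mul, Perm.sign_mul, Perm.sign_mul, Perm.sign_inv, Perm.sign_inv, h1, h2]
    rcases Int.units_eq_one_or (Perm.sign c) with h | h <;> rcases Int.units_eq_one_or (Perm.sign d) with h' | h' <;>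
      rw [h, h'] <;> decide
  have hθ := θM_pc'
  have hi : ∀ σ : Perm (Fin 6), (pcA σ * θM)⁻¹ = pcA (θ σ)⁻¹ * θM := by
    intro σ
    rw [mul_inv_rev, θM_inv, ← map_inv, hθ, map_inv]
  rcases h1 with rfl | rfl <;> rcases h2 with rfl | rfl
  · refine ⟨_, hs σ τ σ τ rfl rfl, t1, ?_⟩
    simp only [map_mul, map_inv]
  · refine ⟨σ * τ * (θ σ)⁻¹ * τ⁻¹, hs σ τ (θ σ) τ (sign_θ σ).symm rfl, ?_, ?_⟩
    · have := t2; rwa [map_inv] at this
    · rw [hi]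
      calc pcA σ * (pcA τ * θM) * (pcA σ)⁻¹ * (pcA (θ τ)⁻¹ * θM)
          = pcA σ * pcA τ * (θM * pcA σ⁻¹) * pcA (θ τ)⁻¹ * θM := by rw [map_inv pcA σ]; group
        _ = pcA σ * pcA τ * pcA (θ σ⁻¹) * (θM * pcA (θ τ)⁻¹) * θM := by rw [hθ]; group
        _ = pcA σ * pcA τ * pcA (θ σ⁻¹) * pcA (θ (θ τ)⁻¹) * (θM * θM) := by rw [hθ]; group
        _ = pcA (σ * τ * (θ σ)⁻¹ * τ⁻¹) := by
          rw [θM_sq, mul_one, map_inv θ (θ τ), θ_θ, map_inv θ σ, map_mul, map_mul, map_mul]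
  · refine ⟨σ * θ τ * σ⁻¹ * τ⁻¹, hs σ (θ τ) σ τ rfl (sign_θ τ), t3, ?_⟩
    rw [hi]
    calc pcA σ * θM * pcA τ * (pcA (θ σ)⁻¹ * θM) * (pcA τ)⁻¹
        = pcA σ * (θM * pcA τ) * pcA (θ σ)⁻¹ * (θM * pcA τ⁻¹) := by rw [map_inv pcA τ]; group
      _ = pcA σ * pcA (θ τ) * (θM * pcA (θ σ)⁻¹) * (pcA (θ τ⁻¹) * θM) := by rw [hθ, hθ]; group
      _ = pcA σ * pcA (θ τ) * pcA (θ (θ σ)⁻¹) * (θM * pcA (θ τ⁻¹)) * θM := by rw [hθ]; group
      _ = pcA σ * pcA (θ τ) * pcA (θ (θ σ)⁻¹) * pcA (θ (θ τ⁻¹)) * (θM * θM) := by rw [hθ]; group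
      _ = pcA (σ * θ τ * σ⁻¹ * τ⁻¹) := by
        rw [θM_sq, mul_one, map_inv θ (θ σ), θ_θ, θ_θ, map_mul, map_mul, map_mul]
  · refine ⟨σ * θ τ * (θ σ)⁻¹ * τ⁻¹, hs σ (θ τ) (θ σ) τ (sign_θ σ).symm (sign_θ τ), ?_, ?_⟩
    · have := t4; rwa [map_inv] at this
    · rw [hi, hi]
      calc pcA σ * θM * (pcA τ * θM) * (pcA (θ σ)⁻¹ * θM) * (pcA (θ τ)⁻¹ * θM)
          = pcA σ * (θM * pcA τ) * (θM * pcA (θ σ)⁻¹) * (θM * pcA (θ τ)⁻¹) * θM := by group
        _ = pcA σ * pcA (θ τ) * (θM * pcA (θ (θ σ)⁻¹)) * θM * pcA (θ (θ τ)⁻¹) * (θM * θM) := by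
          rw [hθ, hθ, hθ]; group
        _ = pcA σ * pcA (θ τ) * pcA (θ (θ (θ σ)⁻¹)) * (θM * θM) * pcA (θ (θ τ)⁻¹) * (θM * θM) := by
          rw [hθ]; group
        _ = pcA (σ * θ τ * (θ σ)⁻¹ * τ⁻¹) := by
          rw [θM_sq, mul_one, mul_one, θ_θ, map_inv θ (θ τ), θ_θ, map_mul, map_mul, map_mul]

theorem θ_pf_ne : θ pf ≠ pf := by decide +kernel
theorem θ_pfz_ne : θ (pf * pz) ≠ pf * pz := by decide +kernel

namespace AutGen

variable {G : Type*} [Group G] {x f r : G} {ι : A6 →* G}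

/-- the isomorphism onto the component -/
noncomputable def e (h : AutGen x ι f r) : A6 ≃* ι.range := MonoidHom.ofInjective h.inj

theorem emb_e (h : AutGen x ι f r) : emb h.e = ι := by
  ext a
  rfl

theorem act_f (h : AutGen x ι f r) : Act h.e f (pcA pf) := by
  intro a
  rw [h.emb_e, h.cf, pcA_cA]

theorem act_r (h : AutGen x ι f r) : Act h.e r θM := by
  intro a
  rw [h.emb_e, h.cr, θM_apply]

theorem fr (h : AutGen x ι f r) : SixFr x ι.range := by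
  have hx : ∀ {g k : G}, (∀ b ∈ ι.range, k * b * k⁻¹ ∈ ι.range) → (g = k ∨ g = x * k) →
      ∀ b ∈ ι.range, g * b * g⁻¹ ∈ ι.range := by
    rintro g k hk (rfl | rfl) b hb
    · exact hk b hb
    · obtain ⟨a, ha⟩ := hk b hb
      have e1 : x * k * b * (x * k)⁻¹ = x * (k * b * k⁻¹) * x⁻¹ := by group
      rw [e1, ← ha, h.comm, mul_inv_cancel_right]
      exact ⟨a, rfl⟩
  have hf : ∀ b ∈ ι.range, f * b * f⁻¹ ∈ ι.range := by
    rintro _ ⟨a, rfl⟩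
    exact ⟨_, (h.cf a).symm⟩
  have hr : ∀ b ∈ ι.range, r * b * r⁻¹ ∈ ι.range := by
    rintro _ ⟨a, rfl⟩
    exact ⟨_, (h.cr a).symm⟩
  have hu : ∀ {u : G}, (u = 1 ∨ u = f) → ∀ b ∈ ι.range, u * b * u⁻¹ ∈ ι.range := by
    rintro u (rfl | rfl) b hb
    · simpa using hb
    · exact hf b hb
  have hv : ∀ {u : G}, (u = 1 ∨ u = r) → ∀ b ∈ ι.range, u * b * u⁻¹ ∈ ι.range := by
    rintro u (rfl | rfl) b hb
    · simpa using hb
    · exact hr b hb
  have hlift : ∀ {u : G}, (u = 1 ∨ u = f) → ∃ σ, Act h.e u (pcA σ) := by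
    rintro u (rfl | rfl)
    · exact ⟨1, by rw [map_one]; exact act_one _⟩
    · exact ⟨pf, h.act_f⟩
  have hux : ∀ {u : G}, (u = 1 ∨ u = f) → u * x = x * u := by
    rintro u (rfl | rfl)
    · rw [one_mul, mul_one]
    · exact h.fx
  refine ⟨h.xx, h.x1, ?_, ?_, ?_, ?_⟩
  · rintro ⟨a, ha⟩
    exact h.ne a ha
  · rintro _ ⟨a, rfl⟩
    exact h.comm a
  · intro g hg b hb
    obtain ⟨a, u, v, hu', hv', hg'⟩ := h.cent g hg
    refine hx (k := ι a * u * v) ?_ hg' b hb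
    intro b hb
    have e1 : ι a * u * v * b * (ι a * u * v)⁻¹ = ι a * (u * (v * b * v⁻¹) * u⁻¹) * (ι a)⁻¹ := by group
    rw [e1]
    obtain ⟨c, hc⟩ := hu hu' _ (hv hv' b hb)
    rw [← hc, ← map_mul, ← map_inv, ← map_mul]
    exact ⟨_, rfl⟩
  · intro g hg hgK
    obtain ⟨a, u, v, hu', hv', hg'⟩ := h.cent g hg
    have h1 : Act h.e g 1 := by
      intro b
      rw [h.emb_e, hgK _ ⟨b, rfl⟩, mul_inv_cancel_right]; rfl
    have h2 : Act h.e (ι a * u * v) 1 := by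
      rcases hg' with rfl | rfl
      · exact h1
      · intro b
        have h3 := h1 b
        rw [h.emb_e] at h3 ⊢
        have e1 : x * (ι a * u * v) * ι b * (x * (ι a * u * v))⁻¹ = x * (ι a * u * v * ι b * (ι a * u * v)⁻¹) * x⁻¹ := by
          group
        rw [e1] at h3
        have h4 : ι a * u * v * ι b * (ι a * u * v)⁻¹ = x⁻¹ * ι b * x := by
          have h5 : ((1 : MulAut A6) b) = b := rfl
          rw [h5] at h3
          have h6 : ι a * u * v * ι b * (ι a * u * v)⁻¹ =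
              x⁻¹ * (x * (ι a * u * v * ι b * (ι a * u * v)⁻¹) * x⁻¹) * x := by group
          rw [h6, h3]
        rw [h4, mul_assoc, ← h.comm, inv_mul_cancel_left]; rfl
    obtain ⟨σ, hσ⟩ := hlift hu'
    have h3 : Act h.e (ι a * u) (pcA (a * σ)) := by
      have := (act_emb h.e a).mul hσ
      rw [h.emb_e, ← pcA_coe, ← map_mul] at this
      exact this
    rcases hv' with rfl | rfl
    · rw [mul_one] at h2 hg'
      have h4 : pcA (a * σ) = pcA 1 := by rw [map_one]; exact h3.unique h2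
      have h5 : (a : Perm (Fin 6)) * σ = 1 := Cfsg.Agent.StdAlt.Six.pc_inj h4
      rcases hu' with rfl | rfl
      · have h6 : pcA σ = pcA 1 := by rw [map_one]; exact hσ.unique (act_one _)
        have h7 : σ = 1 := Cfsg.Agent.StdAlt.Six.pc_inj h6
        rw [h7, mul_one] at h5
        have h8 : a = 1 := Subtype.ext h5
        rw [h8, map_one, mul_one, mul_one] at hg'
        exact hg'
      · exfalso
        have h6 : pcA σ = pcA pf := hσ.unique h.act_f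
        have h7 : σ = pf := Cfsg.Agent.StdAlt.Six.pc_inj h6
        have h8 := congrArg Perm.sign h5
        rw [Perm.sign_mul, mem_A6.1 a.2, h7, sign_pf, map_one] at h8
        exact absurd h8 (by decide)
    · exfalso
      have h4 : pcA (a * σ) * θM = 1 := (h3.mul h.act_r).unique h2
      apply θM_ns
      have h5 : θM = (pcA (a * σ))⁻¹ := (inv_eq_of_mul_eq_one_right h4).symm
      rw [h5, ← map_inv]
      exact ns_pc _

variable [Finite G]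

theorem pT (h : AutGen x ι f r) : IsPGroup 2 (TT x (ι qz)) := by
  have := h.fr.pT h.e
  rwa [h.emb_e] at this

theorem setup (h : AutGen x ι f r) : D6.Setup x ι.range (TT x (ι qz)) := by
  have := h.fr.setup h.e
  rwa [h.emb_e] at this

theorem ι_mem (h : AutGen x ι f r) {a : A6} (ha : (a : Perm (Fin 6)) * pz = pz * a) : ι a ∈ TT x (ι qz) := by
  have := h.fr.v_mem h.e ha
  rwa [h.emb_e] at this

omit [Finite G] in
theorem r_mem (h : AutGen x ι f r) : r ∈ TT x (ι qz) := by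
  refine mem_TT.2 ⟨h.rx, ?_⟩
  have h1 := h.cr qz
  rw [show θA qz = qz from Subtype.ext θ_z] at h1
  exact mul_inv_eq_iff_eq_mul.1 h1

omit [Finite G] in
theorem f_mem (h : AutGen x ι f r) : f ∈ TT x (ι qz) := by
  have := h.fr.f_mem h.e h.fx h.act_f
  rwa [h.emb_e] at this

omit [Finite G] in
theorem x_mem (h : AutGen x ι f r) : x ∈ TT x (ι qz) := mem_TT.2 ⟨rfl, h.comm qz⟩

omit [Finite G] in
theorem z_ne (h : AutGen x ι f r) : ι qz ≠ 1 := by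
  intro h1
  have := h.inj (h1.trans (map_one ι).symm)
  exact pz_ne (congrArg Subtype.val this)

omit [Finite G] in
theorem zz (_h : AutGen x ι f r) : ι qz * ι qz = 1 := by
  rw [← map_mul, show (qz * qz : A6) = 1 from Subtype.ext pz_pz, map_one]

/-- `Z(T) = {1, x, z, xz}` -/
theorem center_TT (h : AutGen x ι f r) {c : G} (hc : c ∈ TT x (ι qz)) (hcc : ∀ t ∈ TT x (ι qz), c * t = t * c) :
    c = 1 ∨ c = x ∨ c = ι qz ∨ c = x * ι qz := by
  obtain ⟨hcx, hcz⟩ := mem_TT.1 hc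
  obtain ⟨α, hα⟩ := h.fr.act h.e hcx
  have fix : ∀ a : A6, (a : Perm (Fin 6)) * pz = pz * a → α a = a := by
    intro a ha
    apply hα.fix
    rw [h.emb_e]
    exact hcc _ (h.ι_mem ha)
  have h1 : α qv1 = qv1 := fix _ pv1_z
  have h2 : α qv2 = qv2 := fix _ pv2_z
  have h3 : α qz = qz := fix _ rfl
  have hns : NS α := ns_of_a0 (show α Z0 = Z0 from h1) (Or.inl (show α A0 = A0 from h3))
  obtain ⟨σ, rfl⟩ := ns_iff.1 hns
  have h4 : pcA (θ σ) = pcA σ := by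
    rw [← θM_pc, mul_inv_eq_iff_eq_mul]
    exact (h.act_r.mul hα).unique (by rw [← hcc r h.r_mem]; exact hα.mul h.act_r)
  have h5 : θ σ = σ := Cfsg.Agent.StdAlt.Six.pc_inj h4
  rcases cent_D' σ (comm_of_fix (a := qv1) h1) (comm_of_fix (a := qv2) h2) with h6 | h6 | h6 | h6
  · rcases h.fr.one_or h.e hcx (by rw [h6, map_one] at hα; exact hα) with h7 | h7
    · exact Or.inl h7
    · exact Or.inr (Or.inl h7)
  · right; right
    have h7 : Act h.e (ι qz) (pcA pz) := by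
      have := act_emb h.e qz
      rw [h.emb_e, ← pcA_coe] at this
      exact this
    rw [h6] at hα
    exact h.fr.eq_or h.e hcx (h.comm' qz) hα h7
  · exact absurd (by rw [← h6]; exact h5) θ_pf_ne
  · exact absurd (by rw [← h6]; exact h5) θ_pfz_ne

/-- an element normalizing `T` centralizes `z` -/
theorem norm_z (h : AutGen x ι f r) {s : G} (hs : ∀ t ∈ TT x (ι qz), s * t * s⁻¹ ∈ TT x (ι qz)) :
    s * ι qz * s⁻¹ = ι qz := by
  have hv1 := hs _ (h.ι_mem (a := qv1) pv1_z)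
  have hr := hs _ h.r_mem
  obtain ⟨a1, a2⟩ := mem_TT.1 hv1
  obtain ⟨b1, b2⟩ := mem_TT.1 hr
  obtain ⟨α, hα⟩ := h.fr.act h.e a1
  obtain ⟨β, hβ⟩ := h.fr.act h.e b1
  obtain ⟨c, hc1, hc2, hc3⟩ := comm_sq (hα.fix (by rw [h.emb_e]; exact a2)) (hβ.fix (by rw [h.emb_e]; exact b2))
  have hact := ((hα.mul hβ).mul hα.inv).mul hβ.inv
  rw [hc3] at hact
  -- the commutator is `s d s⁻¹`
  have hd : ι qv1 * r * (ι qv1)⁻¹ * r⁻¹ = ι qd := by
    have h1 := h.cr qv1⁻¹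
    rw [map_inv] at h1
    have h2 : θA qv1⁻¹ = qv2 := Subtype.ext (by decide +kernel)
    rw [h2] at h1
    calc ι qv1 * r * (ι qv1)⁻¹ * r⁻¹ = ι qv1 * (r * (ι qv1)⁻¹ * r⁻¹) := by group
      _ = ι qd := by rw [h1, ← map_mul]; rfl
  have e1 : (s * ι qv1 * s⁻¹) * (s * r * s⁻¹) * (s * ι qv1 * s⁻¹)⁻¹ * (s * r * s⁻¹)⁻¹ = s * ι qd * s⁻¹ := by
    rw [← hd]; group
  rw [e1] at hact
  have hdx : (s * ι qd * s⁻¹) * x = x * (s * ι qd * s⁻¹) := (mem_TT.1 (hs _ (h.ι_mem (a := qd)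
    (show pd * pz = pz * pd by decide +kernel)))).1
  have e2 : (s * ι qd * s⁻¹) * (s * ι qd * s⁻¹) = s * ι qz * s⁻¹ := by
    have : (qd * qd : A6) = qz := Subtype.ext (by decide +kernel)
    rw [← this, map_mul]; group
  have hne : s * ι qz * s⁻¹ ≠ 1 := by
    intro h1
    rw [mul_inv_eq_one] at h1
    exact h.z_ne (mul_eq_left.1 h1)
  have key : (s * ι qd * s⁻¹) * (s * ι qd * s⁻¹) = ι (⟨c, mem_A6.2 hc1⟩ * ⟨c, mem_A6.2 hc1⟩) := by
    rcases h.fr.of_even h.e hdx hact hc1 with h1 | h1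
    · rw [h1, h.emb_e, map_mul]
    · rw [h1, h.emb_e, map_mul]
      calc x * ι ⟨c, mem_A6.2 hc1⟩ * (x * ι ⟨c, mem_A6.2 hc1⟩)
          = x * (ι ⟨c, mem_A6.2 hc1⟩ * x) * ι ⟨c, mem_A6.2 hc1⟩ := by group
        _ = (x * x) * (ι ⟨c, mem_A6.2 hc1⟩ * ι ⟨c, mem_A6.2 hc1⟩) := by rw [h.comm']; group
        _ = ι ⟨c, mem_A6.2 hc1⟩ * ι ⟨c, mem_A6.2 hc1⟩ := by rw [h.xx, one_mul]
  rw [e2] at key
  rcases hc2 with h1 | h1
  · exfalso
    apply hne
    rw [key, show (⟨c, mem_A6.2 hc1⟩ * ⟨c, mem_A6.2 hc1⟩ : A6) = 1 from Subtype.ext h1, map_one]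
  · rw [key, show (⟨c, mem_A6.2 hc1⟩ * ⟨c, mem_A6.2 hc1⟩ : A6) = qz from Subtype.ext h1]

/-- an element normalizing `T` and moving `x` maps `x` to `xz` -/
theorem norm_x (h : AutGen x ι f r) {s : G} (hs : ∀ t ∈ TT x (ι qz), s * t * s⁻¹ ∈ TT x (ι qz))
    (hsx : s * x ≠ x * s) : s * x * s⁻¹ = x * ι qz := by
  have hsn : s ∈ normalizer ((TT x (ι qz) : Subgroup G) : Set G) := mem_normalizer_fintype hs
  have hxT := hs x h.x_mem
  have hcc : ∀ t ∈ TT x (ι qz), (s * x * s⁻¹) * t = t * (s * x * s⁻¹) := by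
    intro t ht
    have h1 : s⁻¹ * t * s ∈ TT x (ι qz) := (mem_normalizer_iff''.1 hsn t).1 ht
    have h2 := (mem_TT.1 h1).1
    calc (s * x * s⁻¹) * t = s * (x * (s⁻¹ * t * s)) * s⁻¹ := by group
      _ = t * (s * x * s⁻¹) := by rw [← h2]; group
  rcases h.center_TT hxT hcc with h1 | h1 | h1 | h1
  · exfalso
    rw [mul_inv_eq_one] at h1
    exact h.x1 (mul_eq_left.1 h1)
  · exact absurd (mul_inv_eq_iff_eq_mul.1 h1) hsx
  · exfalso
    have h4 : s * ι qz * s⁻¹ = s * x * s⁻¹ := (h.norm_z hs).trans h1.symm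
    exact h.ne _ (mul_left_cancel (mul_right_cancel h4))
  · exact h1

/-- **growth** in every Sylow 2-subgroup over `T` -/
theorem grow_in (h : AutGen x ι f r) (h5 : ¬ SectionalPRankLE 2 4 G) (S : Sylow 2 G)
    (hTS : TT x (ι qz) ≤ (S : Subgroup G)) :
    ∃ s ∈ (S : Subgroup G), (∀ t ∈ TT x (ι qz), s * t * s⁻¹ ∈ TT x (ι qz)) ∧ s ∉ TT x (ι qz) ∧
      s * s ∈ TT x (ι qz) ∧ s * x * s⁻¹ = x * ι qz ∧ s * ι qz * s⁻¹ = ι qz := by
  obtain ⟨F', i1, i2, ⟨R⟩⟩ := exists_rep h.e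
  have Se := h.setup
  have hlt : TT x (ι qz) < (S : Subgroup G) := by
    refine lt_of_le_of_ne hTS ?_
    intro h1
    apply h5
    have h2 := Se.rank_T R
    rw [h1] at h2
    exact (GH.Rank.sylow_iff S).1 h2
  have : Group.IsNilpotent (S : Subgroup G) := S.isPGroup'.isNilpotent
  obtain ⟨y, hyS, hyT, hyN⟩ :=
    Cfsg.Agent.Transfer.FrobeniusFusion.exists_mem_normalizer_notMem hlt
  obtain ⟨n, hn⟩ := D6.pow_of_mem S.isPGroup' hyS
  obtain ⟨m, hm1, hm2⟩ : ∃ m, y ^ 2 ^ m ∉ TT x (ι qz) ∧ y ^ 2 ^ (m + 1) ∈ TT x (ι qz) := by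
    have h1 : y ^ 2 ^ n ∈ TT x (ι qz) := by rw [hn]; exact one_mem _
    clear hn
    induction n with
    | zero => rw [pow_zero, pow_one] at h1; exact absurd h1 hyT
    | succ n ih =>
      by_cases h2 : y ^ 2 ^ n ∈ TT x (ι qz)
      · exact ih h2
      · exact ⟨n, h2, h1⟩
  have hN : y ^ 2 ^ m ∈ normalizer ((TT x (ι qz) : Subgroup G) : Set G) := Subgroup.pow_mem _ hyN _
  have hc : ∀ t ∈ TT x (ι qz), y ^ 2 ^ m * t * (y ^ 2 ^ m)⁻¹ ∈ TT x (ι qz) := fun t ht =>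
    (mem_normalizer_iff.1 hN t).1 ht
  obtain ⟨k, hk⟩ := D6.pow_of_mem S.isPGroup' ((S : Subgroup G).pow_mem hyS (2 ^ m))
  refine ⟨y ^ 2 ^ m, (S : Subgroup G).pow_mem hyS _, hc, hm1, ?_, ?_, h.norm_z hc⟩
  · rw [← pow_add, ← two_mul, ← pow_succ']; exact hm2
  · refine h.norm_x hc ?_
    intro h3
    exact hm1 (Se.mem_of_norm ⟨k, hk⟩ h3 hc)

/-- `Z(S) ≤ ⟨z⟩` -/
theorem center_S (h : AutGen x ι f r) (h5 : ¬ SectionalPRankLE 2 4 G) (S : Sylow 2 G)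
    (hTS : TT x (ι qz) ≤ (S : Subgroup G)) {c : G} (hc : c ∈ (S : Subgroup G))
    (hcc : ∀ y ∈ (S : Subgroup G), c * y = y * c) : c = 1 ∨ c = ι qz := by
  obtain ⟨s, hsS, -, -, -, hsx, hsz⟩ := h.grow_in h5 S hTS
  have hcT : c ∈ TT x (ι qz) := h.setup.mem_of_comm S.isPGroup' hTS hc (hcc x (hTS h.x_mem))
  have h1 := h.center_TT hcT (fun t ht => hcc t (hTS ht))
  have h2 : s * c * s⁻¹ = c := by rw [← hcc s hsS, mul_inv_cancel_right]
  rcases h1 with h1 | h1 | h1 | h1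
  · exact Or.inl h1
  · exfalso
    rw [h1] at h2
    rw [h2] at hsx
    exact h.z_ne (mul_eq_left.1 hsx.symm)
  · exact Or.inr h1
  · exfalso
    rw [h1] at h2
    have h3 : s * (x * ι qz) * s⁻¹ = (s * x * s⁻¹) * (s * ι qz * s⁻¹) := by group
    rw [h3, hsx, hsz, mul_assoc, h.zz, mul_one] at h2
    exact h.z_ne (mul_eq_left.1 h2.symm)

/-- `S ≤ C(z)` -/
theorem S_le (h : AutGen x ι f r) (h5 : ¬ SectionalPRankLE 2 4 G) (S : Sylow 2 G)
    (hTS : TT x (ι qz) ≤ (S : Subgroup G)) {y : G} (hy : y ∈ (S : Subgroup G)) : y * ι qz = ι qz * y := by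
  have hnt : Nontrivial (S : Subgroup G) := by
    refine ⟨⟨⟨x, hTS h.x_mem⟩, 1, fun h1 => h.x1 (congrArg Subtype.val h1)⟩⟩
  have h1 : Nontrivial (center (S : Subgroup G)) := S.isPGroup'.center_nontrivial
  obtain ⟨⟨c, hc⟩, hc1⟩ := exists_ne (1 : center (S : Subgroup G))
  have hcc : ∀ y ∈ (S : Subgroup G), (c : G) * y = y * c := fun y hy =>
    (congrArg Subtype.val (mem_center_iff.1 hc ⟨y, hy⟩)).symm
  rcases h.center_S h5 S hTS c.2 hcc with h2 | h2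
  · exact absurd (Subtype.ext (Subtype.ext h2)) hc1
  · rw [← h2]; exact (hcc y hy).symm

/-- `z` is not conjugate to `x` -/
theorem nxz (h : AutGen x ι f r) (h5 : ¬ SectionalPRankLE 2 4 G) (g : G) : g * x * g⁻¹ ≠ ι qz := by
  intro hg
  obtain ⟨S, hTS⟩ := h.pT.exists_le_sylow
  obtain ⟨s, hsS, -, hsT, -⟩ := h.grow_in h5 S hTS
  -- `g⁻¹ S g ≤ C(x)`
  have hle : ∀ y ∈ (S : Subgroup G).map (MulAut.conj g⁻¹).toMonoidHom, y * x = x * y := by
    rintro _ ⟨y, hy, rfl⟩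
    have h1 := h.S_le h5 S hTS hy
    rw [← hg] at h1
    show g⁻¹ * y * g⁻¹⁻¹ * x = x * (g⁻¹ * y * g⁻¹⁻¹)
    rw [inv_inv]
    calc g⁻¹ * y * g * x = g⁻¹ * (y * (g * x * g⁻¹)) * g := by group
      _ = x * (g⁻¹ * y * g) := by rw [h1]; group
  obtain ⟨k, -, hk⟩ := h.setup.syl _ (S.isPGroup'.map _) hle
  have h2 : Nat.card (S : Subgroup G) ≤ Nat.card (TT x (ι qz)) := by
    refine Nat.card_le_card_of_injective (fun y : (S : Subgroup G) =>
      (⟨k * (g⁻¹ * y * g⁻¹⁻¹) * k⁻¹, hk _ ⟨y, y.2, rfl⟩⟩ : TT x (ι qz))) ?_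
    intro a b hab
    have h3 := congrArg Subtype.val hab
    have h4 : g⁻¹ * (a : G) * g⁻¹⁻¹ = g⁻¹ * b * g⁻¹⁻¹ := mul_left_cancel (mul_right_cancel h3)
    exact Subtype.ext (mul_left_cancel (mul_right_cancel h4))
  have h3 := Subgroup.eq_of_le_of_card_ge hTS h2
  rw [← h3] at hsS
  exact hsT hsS

theorem foc' (h : AutGen x ι f r) (h5 : ¬ SectionalPRankLE 2 4 G) (hG : commutator G = ⊤) {A : Type*} [CommGroup A]
    (H : Subgroup G) (hH : ∀ {g : G}, g ∈ H ↔ g * ι qz = ι qz * g) (φ : H →* A) (hxH : x ∈ H) :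
    φ ⟨x, hxH⟩ = 1 := by
  classical
  have : Fintype G := Fintype.ofFinite G
  have : Fintype (G ⧸ H) := Fintype.ofFinite _
  obtain ⟨F, hF, s, hs, hprod⟩ := TFormula.transfer_eq_prod H φ x h.xx (TT x (ι qz)) h.pT
    (fun t ht => (mem_TT.1 ht).1)
  have h0 : MonoidHom.transfer φ x = 1 := by
    have h1 : commutator G ≤ (MonoidHom.transfer φ).ker := by
      rw [commutator_def, commutator_le]
      intro a _ b _
      rw [MonoidHom.mem_ker, commutatorElement_def, map_mul, map_mul, map_mul, map_inv, map_inv,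
        mul_comm (MonoidHom.transfer φ a), mul_inv_cancel_right, mul_inv_cancel]
    rw [hG] at h1
    exact MonoidHom.mem_ker.1 (h1 (mem_top x))
  have hmemT : ∀ g t : G, t • ((g : G) : G ⧸ H) = (g : G ⧸ H) → t * (g * ι qz * g⁻¹) = (g * ι qz * g⁻¹) * t := by
    intro g t ht
    have h1 : ((t * g : G) : G ⧸ H) = (g : G ⧸ H) := ht
    rw [eq_comm, QuotientGroup.eq] at h1
    have h2 := hH.1 h1
    calc t * (g * ι qz * g⁻¹) = g * (g⁻¹ * (t * g) * ι qz) * g⁻¹ := by group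
      _ = (g * ι qz * g⁻¹) * t := by rw [h2]; group
  obtain ⟨S, hTS⟩ := h.pT.exists_le_sylow
  obtain ⟨s0, -, -, -, -, hs0, -⟩ := h.grow_in h5 S hTS
  have hsing : s = {((1 : G) : G ⧸ H)} := by
    ext q
    rw [Finset.mem_singleton, hs]
    constructor
    · rintro ⟨h1, h2⟩
      obtain ⟨g, rfl⟩ := QuotientGroup.mk_surjective q
      have h3 : ∀ t ∈ TT x (ι qz), t * (g * ι qz * g⁻¹) = (g * ι qz * g⁻¹) * t := fun t ht => hmemT g t (h2 t ht)
      have hcx := (h3 x h.x_mem).symm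
      have hc2 : (g * ι qz * g⁻¹) ^ 2 ^ 1 = 1 := by
        rw [pow_one, pow_two]
        calc g * ι qz * g⁻¹ * (g * ι qz * g⁻¹) = g * (ι qz * ι qz) * g⁻¹ := by group
          _ = 1 := by rw [h.zz]; group
      have hcT : g * ι qz * g⁻¹ ∈ TT x (ι qz) := h.setup.mem_of_norm ⟨1, hc2⟩ hcx (by
        intro t ht
        rw [← h3 t ht, mul_inv_cancel_right]; exact ht)
      have hgz : g * ι qz * g⁻¹ = ι qz := by
        rcases h.center_TT hcT (fun t ht => (h3 t ht).symm) with h4 | h4 | h4 | h4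
        · exfalso
          rw [mul_inv_eq_one] at h4
          exact h.z_ne (mul_eq_left.1 h4)
        · exfalso
          apply h.nxz h5 g⁻¹
          rw [← h4]; group
        · exact h4
        · exfalso
          apply h.nxz h5 (g⁻¹ * s0)
          calc g⁻¹ * s0 * x * (g⁻¹ * s0)⁻¹ = g⁻¹ * (s0 * x * s0⁻¹) * g := by group
            _ = ι qz := by rw [hs0, ← h4]; group
      rw [QuotientGroup.eq, mul_one]
      refine H.inv_mem (hH.2 ?_)
      exact mul_inv_eq_iff_eq_mul.1 hgz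
    · rintro rfl
      have h1 : ∀ t : G, t * ι qz = ι qz * t → t • ((1 : G) : G ⧸ H) = ((1 : G) : G ⧸ H) := by
        intro t ht
        show ((t * 1 : G) : G ⧸ H) = ((1 : G) : G ⧸ H)
        rw [mul_one, QuotientGroup.eq, mul_one]
        exact H.inv_mem (hH.2 ht)
      exact ⟨h1 x (h.comm qz), fun t ht => h1 t (mem_TT.1 ht).2⟩
  rw [h0, hsing, Finset.prod_singleton, hF _ 1 rfl (by
    rw [inv_one, one_mul, mul_one]; exact hxH)] at hprod
  rw [hprod]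
  congr 1
  apply Subtype.ext
  show x = 1⁻¹ * x * 1
  rw [inv_one, one_mul, mul_one]

/-- **`x` is in the kernel of every homomorphism of `C(z)` into an abelian group** -/
theorem foc (h : AutGen x ι f r) (h5 : ¬ SectionalPRankLE 2 4 G) (hG : commutator G = ⊤) {A : Type*} [CommGroup A]
    (φ : centralizer ({ι qz} : Set G) →* A) :
    φ ⟨x, mem_centralizer_singleton_iff.2 (h.comm qz)⟩ = 1 :=
  h.foc' h5 hG _ mem_centralizer_singleton_iff φ _

end AutGen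

end Cfsg.Agent.OddHalf.D5.SixAut
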