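import Cfsg.Agent.OddHalf.D5.SixAut.ZeroS3

/-!
# ODD half, `K = A₆`, C3b, (DBL), `e = 0`: the contradiction
-/

set_option autoImplicit false
set_option linter.unusedSimpArgs false
set_option linter.unusedVariables false

namespace Cfsg.Agent.OddHalf.D5.SixAut.Zero

open Subgroup

variable {G : Type*} [Group G] {x z f v₁ v₂ s₀ s b w w₂ m₀ r r₀ g n₀ : G} {T : Subgroup G}

/-- the elements of `T₀` -/
theorem form_T0 {n : G} (h : Base x z f v₁ v₂ s b w w₂ n) {u : G} (hu : u ∈ T0 x z f v₁ v₂) :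
    ∃ t, InL z f t ∧ ∃ q, (q = t ∨ q = v₁ * t ∨ q = v₂ * t ∨ q = v₂ * (v₁ * t)) ∧ (u = q ∨ u = x * q) := by
  have h2 : ∀ q ∈ h.D2, ∃ t, InL z f t ∧ (q = t ∨ q = v₁ * t ∨ q = v₂ * t ∨ q = v₂ * (v₁ * t)) := by
    rintro q ((hq | ⟨q, hq, rfl⟩) | ⟨_, (hq | ⟨q, hq, rfl⟩), rfl⟩)
    · exact ⟨_, h.mem_l.1 hq, Or.inl rfl⟩
    · exact ⟨_, h.mem_l.1 hq, Or.inr (Or.inl rfl)⟩
    · exact ⟨_, h.mem_l.1 hq, Or.inr (Or.inr (Or.inl rfl))⟩
    · exact ⟨_, h.mem_l.1 hq, Or.inr (Or.inr (Or.inr rfl))⟩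
  rcases h.T0_le hu with hu | ⟨q, hq, rfl⟩
  · obtain ⟨t, ht, hq⟩ := h2 _ hu
    exact ⟨t, ht, _, hq, Or.inl rfl⟩
  · obtain ⟨t, ht, hq⟩ := h2 _ hq
    exact ⟨t, ht, _, hq, Or.inr rfl⟩

set_option maxHeartbeats 4000000 in
theorem sq_T0 (h : Base x z f v₁ v₂ s b w w₂ 1) {u : G} (hu : u ∈ T0 x z f v₁ v₂) : u * u = 1 ∨ u * u = z := by
  obtain ⟨t, ht, q, hq, hu⟩ := form_T0 h hu
  rcases ht with ht | ht | ht | ht <;> rcases hq with hq | hq | hq | hq <;> rcases hu with hu | hu <;>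
    rw [hu, hq, ht] <;>
    simp only [mul_assoc, one_mul, mul_one, h.xx, asc h.xx, h.zz, asc h.zz, h.ff, asc h.ff, h.v11, asc h.v11,
    h.v22, asc h.v22, h.ss, asc h.ss, h.bb, asc h.bb, h.ww, asc h.ww, h.w22, asc h.w22, h.w2x, asc h.w2x, h.wx,
    asc h.wx, h.v2x, asc h.v2x, h.v1x, asc h.v1x, h.bx, asc h.bx, h.sx, asc h.sx, h.fx, asc h.fx, h.zx,
    asc h.zx, h.v2w2, asc h.v2w2, h.v1w2, asc h.v1w2, h.bw2, asc h.bw2, h.sw2, asc h.sw2, h.fw2, asc h.fw2,
    h.zw2, asc h.zw2, h.v2w, asc h.v2w, h.v1w, asc h.v1w, h.bw, asc h.bw, h.sw, asc h.sw, h.fw, asc h.fw, h.zw,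
    asc h.zw, h.v1v2, asc h.v1v2, h.bv2, asc h.bv2, h.sv2, asc h.sv2, h.fv2, asc h.fv2, h.zv2, asc h.zv2,
    h.bv1, asc h.bv1, h.sv1, asc h.sv1, h.fv1, asc h.fv1, h.zv1, asc h.zv1, h.sb, asc h.sb, h.fb, asc h.fb,
    h.zb, asc h.zb, h.fs, asc h.fs, h.zs, asc h.zs, h.zf, asc h.zf] <;> first | exact Or.inl trivial | exact Or.inr trivial | skip

set_option maxHeartbeats 4000000 in
theorem sq_rT0 (h : Base x z f v₁ v₂ s b w w₂ 1) (R : RR x z f v₁ v₂ s b r 1 g)
    (hrr : r * r = v₁ * v₂) {u : G} (hu : u ∈ T0 x z f v₁ v₂) :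
    r * u * (r * u) = 1 ∨ r * u * (r * u) = z ∨ r * u * (r * u) * (r * u * (r * u)) = z := by
  obtain ⟨t, ht, q, hq, hu⟩ := form_T0 h hu
  rcases ht with ht | ht | ht | ht <;> rcases hq with hq | hq | hq | hq <;> rcases hu with hu | hu <;>
    rw [hu, hq, ht] <;>
    simp only [mul_assoc, one_mul, mul_one, h.xx, asc h.xx, h.zz, asc h.zz, h.ff, asc h.ff, h.v11, asc h.v11,
    h.v22, asc h.v22, h.ss, asc h.ss, h.bb, asc h.bb, h.ww, asc h.ww, h.w22, asc h.w22, h.w2x, asc h.w2x, h.wx,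
    asc h.wx, h.v2x, asc h.v2x, h.v1x, asc h.v1x, h.bx, asc h.bx, h.sx, asc h.sx, h.fx, asc h.fx, h.zx,
    asc h.zx, h.v2w2, asc h.v2w2, h.v1w2, asc h.v1w2, h.bw2, asc h.bw2, h.sw2, asc h.sw2, h.fw2, asc h.fw2,
    h.zw2, asc h.zw2, h.v2w, asc h.v2w, h.v1w, asc h.v1w, h.bw, asc h.bw, h.sw, asc h.sw, h.fw, asc h.fw, h.zw,
    asc h.zw, h.v1v2, asc h.v1v2, h.bv2, asc h.bv2, h.sv2, asc h.sv2, h.fv2, asc h.fv2, h.zv2, asc h.zv2,
    h.bv1, asc h.bv1, h.sv1, asc h.sv1, h.fv1, asc h.fv1, h.zv1, asc h.zv1, h.sb, asc h.sb, h.fb, asc h.fb,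
    h.zb, asc h.zb, h.fs, asc h.fs, h.zs, asc h.zs, h.zf, asc h.zf, R.xr, asc R.xr, R.zr, asc R.zr, R.fr,
    asc R.fr, R.v1r, asc R.v1r, R.v2r, asc R.v2r, hrr, asc hrr] <;> first | exact Or.inl trivial | exact Or.inr (Or.inl trivial) | exact Or.inr (Or.inr trivial) | skip

namespace B2

variable (k : B2 x z f v₁ v₂ s b w w₂ 1 m₀) (R : RR x z f v₁ v₂ s b r 1 g)
  (hg : g = 1 ∨ g = z) (hrr : r * r = v₁ * v₂) (hw : w * r = r * w₂)

include k R hg hrr hw in
theorem false_zero [Finite G] [IsSimpleGroup G] (hG : ¬ ∀ a b : G, a * b = b * a)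
    (D : Dbl x z f v₁ v₂ s₀ b r₀ T)
    (hTf : ∀ t ∈ T, t ∈ T0 x z f v₁ v₂ ∨ ∃ u ∈ T0 x z f v₁ v₂, t = r * u) : False := by
  have h := k.h
  have hgl : InL z f g := by
    rcases hg with hg | hg
    · exact Or.inl hg
    · exact Or.inr (Or.inl hg)
  have hw2 := k.w2r R hrr hw
  have hPr : ∀ p ∈ k.P, r⁻¹ * p * r ∈ k.P :=
    k.conj_r R hgl hw (by rw [cj_of hw2]; exact mul_mem k.wm (k.Lm h.sL))
  have hv12 : v₁ * v₂ ∈ k.P := mul_mem k.v1m k.v2m
  have hxr : x * r * (x * r) = v₁ * v₂ := by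
    rw [mul_assoc, ← mul_assoc r, ← R.xr, mul_assoc x r r, ← mul_assoc x x, h.xx, one_mul, hrr]
  have hrP : r ∉ k.P := by
    intro hr
    have h1 := k.comm_P h.fL r hr
    rw [R.fr] at h1
    have h2 : f * z = f := mul_left_cancel h1
    exact h.z1 (mul_eq_left.mp h2)
  set N : Subgroup G := ext k.P (x * r) (by rw [hxr]; exact hv12) (fun p hp => by
    have e : (x * r)⁻¹ * p * (x * r) = r⁻¹ * (x⁻¹ * p * x) * r := by group
    rw [e]
    exact hPr _ (k.conj_x p hp)) with hN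
  have hPN : k.P ≤ N := fun p hp => Or.inl hp
  have hxrN : x * r ∈ N := Or.inr ⟨1, one_mem _, (mul_one _).symm⟩
  have hNx : ∀ p ∈ N, x⁻¹ * p * x ∈ N := by
    rintro p (hp | ⟨q, hq, rfl⟩)
    · exact hPN (k.conj_x p hp)
    · have e : x⁻¹ * (x * r * q) * x = x * r * (x⁻¹ * q * x) := by
        calc x⁻¹ * (x * r * q) * x = x⁻¹ * (x * r) * x * (x⁻¹ * q * x) := by group
          _ = x⁻¹ * (r * x) * x * (x⁻¹ * q * x) := by rw [R.xr]
          _ = x⁻¹ * r * (x * x) * (x⁻¹ * q * x) := by group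
          _ = x * r * (x⁻¹ * q * x) := by rw [h.xx, mul_one, k.xinv]
      rw [e]
      exact mul_mem hxrN (hPN (k.conj_x q hq))
  set H : Subgroup G := ext N x (by rw [h.xx]; exact one_mem _) hNx with hH
  have hNH : N ≤ H := fun p hp => Or.inl hp
  have hxH : x ∈ H := Or.inr ⟨1, one_mem _, (mul_one _).symm⟩
  have hrH : r ∈ H := by
    have : r = x⁻¹ * (x * r) := by group
    rw [this]
    exact mul_mem (inv_mem hxH) (hNH hxrN)
  have hc : ∀ a ∈ H, ∀ c ∈ H, a * c * a⁻¹ * c⁻¹ ∈ N := commutator_ext_self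
  have hPH : k.P ≤ H := fun p hp => hNH (hPN hp)
  have hTH : T ≤ H := by
    have h0 : T0 x z f v₁ v₂ ≤ H :=
      T0_le hxH (hPH (k.Lm h.zL)) (hPH (k.Lm h.fL)) (hPH k.v1m) (hPH k.v2m)
    intro t ht
    rcases hTf t ht with h1 | ⟨u, hu, rfl⟩
    · exact h0 h1
    · exact mul_mem hrH (h0 hu)
  have hxN : x ∉ N := by
    rintro (hx | ⟨q, hq, hx⟩)
    · exact k.xP hx
    · have h1 : r * q = 1 := by
        rw [mul_assoc] at hx
        exact mul_eq_left.mp hx.symm
      have h2 : r = q⁻¹ := eq_inv_of_mul_eq_one_left h1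
      exact hrP (mem_of_eq h2 (inv_mem hq))
  -- (T1)
  have hT1 : ∀ t ∈ T, t * t ≠ 1 → t * t * (t * t) = 1 → t * t = z := by
    intro t ht h1 h2
    rcases hTf t ht with h3 | ⟨u, hu, rfl⟩
    · rcases sq_T0 h h3 with h4 | h4
      · exact absurd h4 h1
      · exact h4
    · rcases sq_rT0 h R hrr hu with h4 | h4 | h4
      · exact absurd h4 h1
      · exact h4
      · exact absurd (h4.symm.trans h2) h.z1
  refine hxN (OneClass.mem hG hc h.xx hxH T D.pT D.Tx ?_ (odd_index D hTH))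
  intro q hq h1 h2
  have hyy : q⁻¹ * x * q * (q⁻¹ * x * q) = 1 := by
    calc q⁻¹ * x * q * (q⁻¹ * x * q) = q⁻¹ * (x * x) * q := by group
      _ = 1 := by rw [h.xx, mul_one, inv_mul_cancel]
  rcases h1 with h1 | ⟨p, hp, e⟩
  · exact absurd h1 h2
  rcases hp with hp | ⟨p, hp, rfl⟩
  · rw [e] at hyy
    obtain ⟨c, hc, e2⟩ := k.conj_of_sq hp hyy
    exact ⟨c, hPH hc, by rw [e, e2]⟩
  exfalso
  have e1 : q⁻¹ * x * q = r * p := by
    rw [e, ← mul_assoc, ← mul_assoc, h.xx, one_mul]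
  rw [e1] at hyy
  obtain ⟨e₁, he1, e₂, he2, c1, c2, q1, q2⟩ := k.s3 R hg hrr hw hp hyy
  -- conjugate into `T`
  set K : Subgroup G := (closure {e₁, e₂}).map (MulAut.conj q).toMonoidHom with hK
  have hKc : ∀ y ∈ closure ({e₁, e₂} : Set G), y * (r * p) = r * p * y := by
    intro y hy
    refine closure_induction (p := fun y _ => y * (r * p) = r * p * y) ?_ ?_ ?_ ?_ hy
    · rintro y (rfl | rfl)
      · exact c1
      · exact c2
    · rw [one_mul, mul_one]
    · intro a c _ _ ha hc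
      rw [mul_assoc, hc, ← mul_assoc, ha, mul_assoc]
    · intro a _ ha
      rw [inv_mul_eq_iff_eq_mul, ← mul_assoc, ← mul_assoc, eq_mul_inv_iff_mul_eq, mul_assoc a]
      exact ha.symm
  have hKp : IsPGroup 2 K := by
    refine IsPGroup.map ?_ _
    exact k.pgroup.to_le ((closure_le _).2 (by rintro y (rfl | rfl) <;> assumption))
  have hKx : ∀ y ∈ K, y * x = x * y := by
    rintro _ ⟨y, hy, rfl⟩
    have h3 := hKc y hy
    rw [← e1] at h3
    show q * y * q⁻¹ * x = x * (q * y * q⁻¹)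
    calc q * y * q⁻¹ * x = q * (y * (q⁻¹ * x * q)) * q⁻¹ := by group
      _ = x * (q * y * q⁻¹) := by rw [h3]; group
  obtain ⟨c, -, hcT⟩ := D.syl K hKp hKx
  have hin : ∀ y ∈ ({e₁, e₂} : Set G), c * (q * y * q⁻¹) * c⁻¹ ∈ T := by
    intro y hy
    exact hcT _ ⟨y, subset_closure hy, rfl⟩
  have hsq : ∀ y : G, c * (q * y * q⁻¹) * c⁻¹ * (c * (q * y * q⁻¹) * c⁻¹) = c * (q * (y * y) * q⁻¹) * c⁻¹ := by
    intro y; group
  have hinj : ∀ a c' : G, c * (q * a * q⁻¹) * c⁻¹ = c * (q * c' * q⁻¹) * c⁻¹ → a = c' := by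
    intro a c' h3
    exact mul_left_cancel (mul_right_cancel (mul_left_cancel (mul_right_cancel h3)))
  have hm0sq : m₀ * m₀ = 1 := (h.mr k.m0).mm
  have hs1 : s ≠ 1 := h.s_ne
  have hsz : s ≠ z := by
    intro e1
    have e2 := h.sx
    rw [e1, h.zz, mul_one, h.zx] at e2
    exact h.z1 (mul_eq_left.mp e2)
  have hm01 : m₀ ≠ 1 := by
    rcases k.m0_eq R hrr hw with e0 | e0 <;> rw [e0]
    · exact hs1
    · intro e3
      exact hsz (by rw [← mul_one s, ← h.zz, ← mul_assoc, e3, one_mul])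
  have hm0z : m₀ ≠ z := by
    rcases k.m0_eq R hrr hw with e0 | e0 <;> rw [e0]
    · exact hsz
    · intro e3
      exact hs1 (mul_eq_right.mp e3)
  have key : ∀ y ∈ ({e₁, e₂} : Set G), ∀ t, y * y = t → t ≠ 1 → t * t = 1 → c * (q * t * q⁻¹) * c⁻¹ = z := by
    intro y hy t hyt ht1 htt
    have h3 := hT1 _ (hin y hy)
    rw [hsq, hyt] at h3
    apply h3
    · intro h4
      exact ht1 (hinj t 1 (by rw [h4]; group))
    · calc c * (q * t * q⁻¹) * c⁻¹ * (c * (q * t * q⁻¹) * c⁻¹) = c * (q * (t * t) * q⁻¹) * c⁻¹ := by group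
        _ = 1 := by rw [htt]; group
  have k1 := key e₁ (by simp) z q1 h.z1 h.zz
  have k2 := key e₂ (by simp) m₀ q2 hm01 hm0sq
  exact hm0z (hinj _ _ (k2.trans k1.symm))

end B2

/-- **(DBL), `e = 0`, is impossible.** -/
theorem _root_.Cfsg.Agent.OddHalf.D5.SixAut.dblZero_false [Finite G] [IsSimpleGroup G]
    (hG : ¬ ∀ a b : G, a * b = b * a) {s : G} (h : DblZero x z f v₁ v₂ s b w r T) : False := by
  obtain ⟨n₀, hn0, hv⟩ := h.v₂w
  have hv2r := v2r_of h
  have nz : n₀ * z = z * n₀ := inl_comm hn0 rfl h.zf.symm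
  have hnn : n₀ * n₀ = 1 := inl_sq hn0 h.zz h.ff h.zf
  -- `n₀^r = n₀ z^j`
  obtain ⟨j, hj, hj0, hn0r⟩ : ∃ j, (j = 1 ∨ j = z) ∧ InL z f j ∧ n₀ * r = r * (n₀ * j) := by
    rcases hn0 with e | e | e | e <;> rw [e]
    · exact ⟨1, Or.inl rfl, Or.inl rfl, by simp⟩
    · exact ⟨1, Or.inl rfl, Or.inl rfl, by rw [mul_one, h.zr]⟩
    · exact ⟨z, Or.inr rfl, Or.inr (Or.inl rfl), h.fr⟩
    · exact ⟨z, Or.inr rfl, Or.inr (Or.inl rfl), by
        rw [mul_assoc, h.zr, ← mul_assoc, h.fr]; simp only [mul_assoc]⟩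
  rcases h.eps with ⟨hrr, hsr⟩ | ⟨hrr, hsr⟩
  · -- `ε = 0`
    have hj2 : j * j = 1 := by
      rcases hj with e | e <;> rw [e]
      · rw [one_mul]
      · exact h.zz
    have jc : ∀ {q : G}, z * q = q * z → j * q = q * j := by
      intro q hq
      rcases hj with e | e <;> rw [e]
      · rw [one_mul, mul_one]
      · exact hq
    have hσr : s * n₀ * r = r * (s * n₀ * j) := by
      rw [mul_assoc, hn0r, ← mul_assoc s, hsr]; simp only [mul_assoc]
    -- the normalised `r`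
    obtain ⟨r', g, hR, hg, hrr', hTf⟩ : ∃ r' g, RR x z f v₁ v₂ (s * n₀) b r' 1 g ∧ InL z f g ∧
        r' * r' = v₁ * v₂ ∧ (∀ t ∈ T, t ∈ T0 x z f v₁ v₂ ∨ ∃ u ∈ T0 x z f v₁ v₂, t = r' * u) := by
      have hbr : b * r = r * (b * (s * n₀ * n₀)) := by
        rw [mul_assoc, hnn, mul_one, ← h.sb, h.br]
      rcases hj with e | e
      · refine ⟨r, n₀, ⟨h.xr, h.zr, h.fr, h.v₁r, hv2r, ?_, ?_⟩, hn0, hrr, h.T_form⟩
        · rw [hσr, e]
        · exact hbr
      · have hx0 : x ∈ T0 x z f v₁ v₂ := subset_closure (by simp)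
        have hzs : z * s = s * z := h.zs
        have hxs : s * x = x * (s * z) := by
          calc s * x = s * (x * z) * z := by rw [mul_assoc, mul_assoc x, h.zz, mul_one]
            _ = x * (s * z) := by rw [← h.xs, mul_assoc]
        have hxb : b * x = x * (b * f) := by
          calc b * x = b * (x * f) * f := by rw [mul_assoc, mul_assoc x, h.ff, mul_one]
            _ = x * (b * f) := by rw [← h.xb, mul_assoc]
        have hxn : n₀ * x = x * n₀ := inl_comm hn0 h.xz.symm h.xf.symm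
        refine ⟨x * r, n₀ * (f * z), ⟨?_, ?_, ?_, ?_, ?_, ?_, ?_⟩, ?_, ?_, ?_⟩
        · rw [mul_assoc, ← h.xr, ← mul_assoc, mul_assoc]
        · rw [← mul_assoc, ← h.xz, mul_assoc, h.zr, mul_assoc]
        · rw [← mul_assoc, ← h.xf, mul_assoc, h.fr, mul_assoc]
        · rw [← mul_assoc, ← h.xv₁, mul_assoc, h.v₁r, mul_assoc]
        · rw [← mul_assoc, ← h.xv₂, mul_assoc, hv2r, mul_assoc]
        · -- `σ^{xr} = σ`
          calc s * n₀ * (x * r) = s * (n₀ * x) * r := by simp only [mul_assoc]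
            _ = s * x * (n₀ * r) := by rw [hxn]; simp only [mul_assoc]
            _ = x * (s * z) * (r * (n₀ * j)) := by rw [hxs, hn0r]
            _ = x * (s * (z * r)) * (n₀ * j) := by simp only [mul_assoc]
            _ = x * (s * r) * (z * (n₀ * j)) := by rw [h.zr]; simp only [mul_assoc]
            _ = x * r * (s * n₀ * 1) := by
              rw [hsr, e, ← mul_assoc z, ← nz, mul_assoc n₀, h.zz]; simp only [mul_assoc]
        · calc b * (x * r) = x * (b * f) * r := by rw [← mul_assoc, hxb]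
            _ = x * (b * (f * r)) := by simp only [mul_assoc]
            _ = x * (b * r) * (f * z) := by rw [h.fr]; simp only [mul_assoc]
            _ = x * r * (b * (s * n₀ * (n₀ * (f * z)))) := by rw [hbr]; simp only [mul_assoc]
        · -- `n₀ f z ∈ l`
          have hf : n₀ = f ∨ n₀ = f * z := by
            rcases hn0 with e0 | e0 | e0 | e0
            · exfalso
              rw [e0] at hn0r
              have : (1 : G) = 1 * j := mul_left_cancel (by rw [← hn0r]; simp)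
              rw [one_mul, e] at this
              exact h.z1 this.symm
            · exfalso
              rw [e0, h.zr] at hn0r
              have := mul_left_cancel hn0r
              rw [e, h.zz] at this
              exact h.z1 this
            · exact Or.inl e0
            · exact Or.inr e0
          rcases hf with e0 | e0 <;> rw [e0]
          · rw [← mul_assoc, h.ff, one_mul]; exact Or.inr (Or.inl rfl)
          · have : f * z * (f * z) = 1 := by
              rw [mul_assoc, ← mul_assoc z, h.zf, mul_assoc f, h.zz, mul_one, h.ff]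
            rw [this]; exact Or.inl rfl
        · rw [mul_assoc, ← mul_assoc r, ← h.xr, mul_assoc x r r, ← mul_assoc x x, h.xx, one_mul, hrr]
        · intro t ht
          rcases h.T_form t ht with h1 | ⟨u, hu, h1⟩
          · exact Or.inl h1
          · refine Or.inr ⟨x * u, mul_mem hx0 hu, ?_⟩
            rw [h1]
            calc r * u = x * x * r * u := by rw [h.xx, one_mul]
              _ = x * (x * r) * u := by simp only [mul_assoc]
              _ = x * (r * x) * u := by rw [h.xr]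
              _ = x * r * (x * u) := by simp only [mul_assoc]
    obtain ⟨w₂, hw⟩ : ∃ w₂, w * r' = r' * w₂ := ⟨r'⁻¹ * w * r', by group⟩
    have hB := (base_of h rfl hn0 hv hR (Or.inl rfl) hg hw).toB2
    -- `g ∈ {1, z}`
    have hg1 : g = 1 ∨ g = z := by
      have hB' := hB.h
      have hgr : ∃ g', g * r' = r' * g' ∧ (g = 1 ∨ g = z ∨ g * g' = z) := by
        rcases hg with e | e | e | e
        · exact ⟨1, by rw [e]; simp, Or.inl e⟩
        · exact ⟨z, by rw [e]; exact hR.zr, Or.inr (Or.inl e)⟩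
        · refine ⟨f * z, by rw [e]; exact hR.fr, Or.inr (Or.inr ?_)⟩
          rw [e, ← mul_assoc, h.ff, one_mul]
        · refine ⟨f, ?_, Or.inr (Or.inr ?_)⟩
          · rw [e, mul_assoc, hR.zr, ← mul_assoc, hR.fr]
            rw [mul_assoc, mul_assoc, h.zz, mul_one]
          · rw [e, mul_assoc, h.zf, ← mul_assoc, h.ff, one_mul]
      obtain ⟨g', h1, h2 | h2 | h2⟩ := hgr
      · exact Or.inl h2
      · exact Or.inr h2
      · exfalso
        -- `b^{r'^2} = b g g'`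
        have hσ : s * n₀ * (s * n₀) = 1 := hB'.ss
        have hgσ : g * (s * n₀) = s * n₀ * g := inl_comm hg hB'.zs hB'.fs
        have h3 : b * (r' * r') = r' * r' * (b * (g * g')) := by
          calc b * (r' * r') = b * r' * r' := by rw [mul_assoc]
            _ = r' * (b * (s * n₀ * (g * r'))) := by rw [hR.br]; simp only [mul_assoc]
            _ = r' * (b * (s * n₀ * r') * g') := by rw [h1]; simp only [mul_assoc]
            _ = r' * (b * r' * (s * n₀) * g') := by rw [hR.sr]; simp only [mul_assoc, mul_one]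
            _ = r' * r' * (b * (s * n₀ * (g * (s * n₀)) * g')) := by rw [hR.br]; simp only [mul_assoc]
            _ = r' * r' * (b * (g * g')) := by
              rw [hgσ, ← mul_assoc (s * n₀) (s * n₀), hσ, one_mul]
        rw [hrr', h2] at h3
        have h4 : b * (v₁ * v₂) = v₁ * v₂ * b := by
          rw [← mul_assoc, ← h.v₁b, mul_assoc, ← h.v₂b, mul_assoc]
        rw [h4] at h3
        have h5 := mul_left_cancel h3
        exact h.z1 (mul_eq_left.mp h5.symm)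
    exact hB.false_zero hR hg1 hrr' hw hG h.toDbl hTf
  · -- `ε = 1`
    obtain ⟨w₂, hw⟩ : ∃ w₂, w * r = r * w₂ := ⟨r⁻¹ * w * r, by group⟩
    have hR : RR x z f v₁ v₂ (s * n₀) b r (f * j) n₀ := by
      refine ⟨h.xr, h.zr, h.fr, h.v₁r, hv2r, ?_, ?_⟩
      · have hnf : n₀ * f = f * n₀ := inl_comm hn0 h.zf rfl
        calc s * n₀ * r = s * r * (n₀ * j) := by rw [mul_assoc, hn0r, ← mul_assoc, mul_assoc s r]
          _ = r * (s * (f * n₀) * j) := by rw [hsr]; simp only [mul_assoc]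
          _ = r * (s * n₀ * (f * j)) := by rw [← hnf]; simp only [mul_assoc]
      · rw [mul_assoc s, hnn, mul_one, ← h.sb, h.br]
    have hfj : InL z f (f * j) := by
      rcases hj with e | e <;> rw [e]
      · rw [mul_one]; exact Or.inr (Or.inr (Or.inl rfl))
      · exact Or.inr (Or.inr (Or.inr rfl))
    have hB := (base_of h rfl hn0 hv hR hfj hn0 hw).toB2
    exact hB.false_one hG h.toDbl hR hn0 hw hrr

end Cfsg.Agent.OddHalf.D5.SixAut.Zero
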