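import Cfsg.Agent.OddHalf.D5.SixAut.DblEnd
import Cfsg.Agent.OddHalf.D5.SixAut.ZeroEnd

/-!
# ODD D5, `n = 6`, `C(x)/⟨x⟩ = Aut(A_6)`: (DBL) is impossible

`dbl_dead`: `dbl_false_WN` with helper668's `dblZero_false`.
-/

set_option autoImplicit false

namespace Cfsg.Agent.OddHalf.D5.SixAut

open Subgroup Equiv DblNorm

variable {G : Type*} [Group G] [Finite G] [IsSimpleGroup G] {x r : G} {ι : Perm (Fin 6) →* G}

/-- **(DBL) is impossible.** -/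
theorem dbl_dead (hG : ¬ ∀ a b : G, a * b = b * a) (h : AutSpl x ι r) (hz : ∃ g, Mv x ι g pz)
    (hf : ∃ g, Mv x ι g pf) (T : Subgroup G)
    (hT : ∀ g, g ∈ T ↔ g * x = x * g ∧ g * ι pz = ι pz * g) (pT : IsPGroup 2 T)
    (syl : ∀ P : Subgroup G, IsPGroup 2 P → (∀ y ∈ P, y * x = x * y) →
      ∃ g, g * x = x * g ∧ ∀ y ∈ P, g * y * g⁻¹ ∈ T)
    (nxz : ∀ g, g * ι pz * g⁻¹ ≠ x) (W : Subgroup G) (N : WN x (ι pz) (ι pf) W) : False :=
  dbl_false_WN h hz hf T hT pT syl (fun _ _ _ D => dblZero_false hG D) nxz W N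

end Cfsg.Agent.OddHalf.D5.SixAut
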