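import Mathlib

/-!
# ODD half, `K = A₆`, `C(x)/⟨x⟩ = Aut(A₆)`, `|Q| = 2` (C3b of #10400): the configuration (DBL)

`f` = a transposition of `⟨K, f⟩ = S₆`, `D = ⟨v₁, v₂⟩` a Sylow 2-subgroup (dihedral of order 8) of `C_K(f)`,
`z` its centre, `⟨z, v₁⟩ = O₂(C_K(f))`, `r` an element of `C(x)` inducing an exceptional automorphism, swapping
`⟨z, v₁⟩` and `⟨z, v₂⟩`, `T = ⟨x, z, f, v₁, v₂, r⟩` a Sylow 2-subgroup of `C(x)`, of order 64;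
`s, b` centralise `⟨z, f, v₁, v₂⟩`, `x^s = x z`, `x^b = x f` (`g^h = h⁻¹ g h`).

`Dbl` : the common relations; `DblZero` : the case `e = 0`.
-/

set_option autoImplicit false

namespace Cfsg.Agent.OddHalf.D5.SixAut

open Subgroup

variable {G : Type*} [Group G]

/-- `T₀ = C_T(f)`. -/
abbrev T0 (x z f v₁ v₂ : G) : Subgroup G := closure {x, z, f, v₁, v₂}

/-- The configuration (DBL): what is common to `e = 0` and `e = 1`. -/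
structure Dbl (x z f v₁ v₂ s b r : G) (T : Subgroup G) : Prop where
  xx : x * x = 1
  zz : z * z = 1
  ff : f * f = 1
  v11 : v₁ * v₁ = 1
  v22 : v₂ * v₂ = 1
  ss : s * s = 1
  bb : b * b = 1
  z1 : z ≠ 1
  f1 : f ≠ 1
  fz1 : f ≠ z
  xz : x * z = z * x
  xf : x * f = f * x
  xv₁ : x * v₁ = v₁ * x
  xv₂ : x * v₂ = v₂ * x
  xr : x * r = r * x
  zf : z * f = f * z
  zv₁ : z * v₁ = v₁ * z
  zv₂ : z * v₂ = v₂ * z
  zs : z * s = s * z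
  zb : z * b = b * z
  zr : z * r = r * z
  fv₁ : f * v₁ = v₁ * f
  fv₂ : f * v₂ = v₂ * f
  fs : f * s = s * f
  fb : f * b = b * f
  v₁s : v₁ * s = s * v₁
  v₁b : v₁ * b = b * v₁
  v₂s : v₂ * s = s * v₂
  v₂b : v₂ * b = b * v₂
  /-- `⟨v₁, v₂⟩` is dihedral of order 8 with centre `⟨z⟩` -/
  v₂v₁ : v₂ * v₁ = v₁ * v₂ * z
  /-- `x^s = x z` -/
  xs : x * s = s * (x * z)
  /-- `x^b = x f` -/
  xb : x * b = b * (x * f)
  /-- `f^r = f z` -/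
  fr : f * r = r * (f * z)
  /-- `v₁^r = v₂` -/
  v₁r : v₁ * r = r * v₂
  /-- `T` is a Sylow 2-subgroup of `C(x)` -/
  pT : IsPGroup 2 T
  Tx : ∀ t ∈ T, t * x = x * t
  syl : ∀ P : Subgroup G, IsPGroup 2 P → (∀ y ∈ P, y * x = x * y) →
    ∃ g, g * x = x * g ∧ ∀ y ∈ P, g * y * g⁻¹ ∈ T
  cardT : Nat.card T = 64
  xT : x ∈ T
  fT : f ∈ T
  v₁T : v₁ ∈ T
  rT : r ∈ T
  T_form : ∀ t ∈ T, t ∈ T0 x z f v₁ v₂ ∨ ∃ u ∈ T0 x z f v₁ v₂, t = r * u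
  /-- `C(x) ∩ C(⟨z, f⟩) = T₀` -/
  cent : ∀ g, g * x = x * g → g * z = z * g → g * f = f * g → g ∈ T0 x z f v₁ v₂

/-- (DBL), `e = 0`: `U₁* = ⟨z, f, v₁, s, b, w⟩` is elementary abelian of order 64 and `v₂` normalises it. -/
structure DblZero (x z f v₁ v₂ s b w r : G) (T : Subgroup G) : Prop extends Dbl x z f v₁ v₂ s b r T where
  sb : s * b = b * s
  /-- `b^r = s b` -/
  br : b * r = r * (s * b)
  /-- `r² = v₁ v₂ x^ε`, `s^r = s f^ε` -/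
  eps : (r * r = v₁ * v₂ ∧ s * r = r * s) ∨ (r * r = v₁ * v₂ * x ∧ s * r = r * (s * f))
  ww : w * w = 1
  zw : z * w = w * z
  fw : f * w = w * f
  v₁w : v₁ * w = w * v₁
  sw : s * w = w * s
  bw : b * w = w * b
  /-- `x^w = x v₁` -/
  xw : x * w = w * (x * v₁)
  /-- `w^{v₂} ∈ w s ⟨z, f⟩` -/
  v₂w : ∃ n, (n = 1 ∨ n = z ∨ n = f ∨ n = f * z) ∧ v₂ * w * v₂ = w * (s * n)

end Cfsg.Agent.OddHalf.D5.SixAut
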