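import Cfsg.Agent.OddHalf.D5.SixAut.TEight

/-!
# ODD D5, `n = 6`, `C_G(x)/⟨x⟩ = Aut(A_6)`, the case (HSx): definitions

`HX` : the configuration; `WN x z f W` : `W` is an elementary abelian normal subgroup of `C(z)` with
`W ∩ C(x) = ⟨z, f⟩`.
-/

set_option autoImplicit false

namespace Cfsg.Agent.OddHalf.D5.SixAut

variable {G : Type*} [Group G]

/-- `t ∈ ⟨z, f⟩` -/
def InL (z f t : G) : Prop := t = 1 ∨ t = z ∨ t = f ∨ t = f * z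

/-- `t ∈ T₀ = ⟨x, v₁, v₂, f, z⟩` -/
def InT0 (x z f v₁ v₂ t : G) : Prop :=
  ∃ p q s l, (p = 1 ∨ p = x) ∧ (q = 1 ∨ q = v₁) ∧ (s = 1 ∨ s = v₂) ∧ InL z f l ∧ t = p * (q * (s * l))

/-- the configuration (HSx) -/
structure HX (x z f v₁ v₂ b c r d m : G) : Prop extends T8R x z f v₁ v₂ b c where
  rx : r * x * r⁻¹ = x
  rz : r * z * r⁻¹ = z
  rf : r * f * r⁻¹ = f * z
  rv₁ : r * v₁ * r⁻¹ = v₂
  rv₂ : r * v₂ * r⁻¹ = v₁
  rb : r * b * r⁻¹ = c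
  dx : d * x * d⁻¹ = x
  df : d * f * d⁻¹ = f
  dz : d * z * d⁻¹ = v₁
  mf : m * f * m⁻¹ = f
  mz : m * z * m⁻¹ = f * z
  /-- `C(x) ∩ C(⟨z, f⟩) = T₀` -/
  cent : ∀ g, g * x = x * g → g * f = f * g → g * z = z * g → InT0 x z f v₁ v₂ g
  /-- an element centralising `U₁ = ⟨z, f, v₁⟩` and moving `x` inside `x U₁` moves it to `x` or `x f` -/
  tr : ∀ g, g * f = f * g → g * z = z * g → g * v₁ = v₁ * g →
    (∃ l, InL z f l ∧ (g * x * g⁻¹ = x * l ∨ g * x * g⁻¹ = x * (v₁ * l))) → g * x * g⁻¹ = x ∨ g * x * g⁻¹ = x * f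

/-- `W` is an elementary abelian normal subgroup of `C(z)` with `W ∩ C(x) = ⟨z, f⟩` -/
structure WN (x z f : G) (W : Subgroup G) : Prop where
  el : ∀ a ∈ W, a * a = 1
  nz : ∀ g, g * z = z * g → ∀ w ∈ W, g * w * g⁻¹ ∈ W
  zW : z ∈ W
  fW : f ∈ W
  cx : ∀ w ∈ W, w * x = x * w → InL z f w

end Cfsg.Agent.OddHalf.D5.SixAut
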