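import Cfsg.Agent.OddHalf.D5.SixAut.DblZeroInst
import Cfsg.Agent.OddHalf.D5.SixAut.HsxDefs

/-!
# ODD D5, `K = A₆`, `C(x)/⟨x⟩ = Aut(A₆)`, case (DBL): the end, from `WN` (helper314)
-/

set_option autoImplicit false

namespace Cfsg.Agent.OddHalf.D5.SixAut.DblNorm

open Subgroup Equiv

variable {G : Type*} [Group G] {x r : G} {ι : Perm (Fin 6) →* G}

/-- `W ≤ T₈` -/
theorem wn_T8 (h : AutSpl x ι r) {W : Subgroup G} (N : WN x (ι pz) (ι pf) W) (a : G) (ha : a ∈ W) :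
    a * ι pz = ι pz * a ∧ a * ι pf = ι pf * a ∧ ∃ q, CL q ∧ a * x * a⁻¹ = x * ι q := by
  have ab : ∀ a ∈ W, ∀ c ∈ W, a * c = c * a := by
    intro a ha c hc
    have i1 : a⁻¹ = a := inv_eq_of_mul_eq_one_left (N.el a ha)
    have i2 : c⁻¹ = c := inv_eq_of_mul_eq_one_left (N.el c hc)
    have i3 : (a * c)⁻¹ = a * c := inv_eq_of_mul_eq_one_left (N.el _ (W.mul_mem ha hc))
    rw [← i3, mul_inv_rev, i1, i2]
  refine ⟨ab a ha _ N.zW, ab a ha _ N.fW, ?_⟩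
  have hxi := h.x_inv
  have h1 : x * a * x ∈ W := by
    have := N.nz x (h.comm _) a ha
    rwa [hxi] at this
  have hai : a⁻¹ = a := inv_eq_of_mul_eq_one_left (N.el a ha)
  have h2 : x * a * x * a ∈ W := W.mul_mem h1 ha
  have h3 : x * a * x * a * x = x * (x * a * x * a) := by
    calc x * a * x * a * x = x * (a * (x * a * x)) := by group
      _ = x * (x * a * x * a) := by rw [ab a ha _ h1]
  have h4 : a * x * a⁻¹ = x * (x * a * x * a) := by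
    calc a * x * a⁻¹ = (x * x) * (a * x * a) := by rw [h.xx, one_mul, hai]
      _ = _ := by group
  rw [h4]
  rcases N.cx _ h2 h3 with e | e | e | e <;> rw [e]
  · exact ⟨1, CL_one, by rw [map_one]⟩
  · exact ⟨pz, CL_z, rfl⟩
  · exact ⟨pf, CL_f, rfl⟩
  · exact ⟨pf * pz, CL_mul CL_f CL_z, by rw [map_mul]⟩

/-- **(DBL) is impossible** -/
theorem dbl_false_WN (h : AutSpl x ι r) (hz : ∃ g, Mv x ι g pz) (hf : ∃ g, Mv x ι g pf) (T : Subgroup G)
    (hT : ∀ g, g ∈ T ↔ g * x = x * g ∧ g * ι pz = ι pz * g) (pT : IsPGroup 2 T)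
    (syl : ∀ P : Subgroup G, IsPGroup 2 P → (∀ y ∈ P, y * x = x * y) →
      ∃ g, g * x = x * g ∧ ∀ y ∈ P, g * y * g⁻¹ ∈ T)
    (h0 : ∀ s b w, DblZero x (ι pz) (ι pf) (ι pv1) (ι pv2) s b w (r * ι pv2) T → False)
    (nxz : ∀ g, g * ι pz * g⁻¹ ≠ x) (W : Subgroup G) (N : WN x (ι pz) (ι pf) W) : False :=
  dbl_false h hz hf T hT pT syl h0 nxz W N.fW N.el N.nz fun a ha => wn_T8 h N a ha

end Cfsg.Agent.OddHalf.D5.SixAut.DblNorm
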