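import Mathlib

/-!
# ODD D5, `K = A₆`, `|Q| = 2`, `C(x)/⟨x⟩ = Aut(A₆)`, case (DBL), `e = 1` (helper314; paper proof: helper855, #11309)

Notation of #10400 / #11309: `l = {1, z, f, fz}`, `V_i = ⟨z, v_i⟩`, `L = l* = ⟨xs, xb⟩`, `A = U₁*`, `w = w₁`, `r = r₀`,
`w₂ = r w r⁻¹`.
-/

set_option autoImplicit false
set_option linter.unusedSectionVars false

namespace Cfsg.Agent.OddHalf.D5.SixAut.DblOne

open Subgroup

/-- `g ∈ l = ⟨z, f⟩` -/
def InL {G : Type*} [Group G] (z f g : G) : Prop := g = 1 ∨ g = z ∨ g = f ∨ g = f * z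

/-- the configuration of (DBL), `e = 1` -/
structure Cfg {G : Type*} [Group G] (x z f v₁ v₂ s b w r : G) (A L K : Subgroup G) : Prop where
  xx : x * x = 1
  zz : z * z = 1
  ff : f * f = 1
  bb : b * b = 1
  z1 : z ≠ 1
  f1 : f ≠ 1
  nzf : f ≠ z
  /-- commuting -/
  xz : Commute x z
  xf : Commute x f
  xv₁ : Commute x v₁
  xv₂ : Commute x v₂
  zf : Commute z f
  zv₁ : Commute z v₁
  zv₂ : Commute z v₂
  fv₁ : Commute f v₁
  fv₂ : Commute f v₂
  sf : Commute s f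
  bf : Commute b f
  /-- `D = ⟨v₁, v₂⟩` is dihedral with centre `⟨z⟩` -/
  vv₁ : v₁ * v₁ = 1
  vv₂ : v₂ * v₂ = 1
  v₁₂ : v₁ * v₂ = v₂ * v₁ * z
  /-- `x^b = xf` -/
  xb : b * x * b = x * f
  /-- `e = 1`: `[s, b] = fz` -/
  sb : s * b * s⁻¹ = b * (f * z)
  /-- `r₀` -/
  rx : Commute r x
  rf : r * f * r⁻¹ = f * z
  rz : Commute r z
  rv₁ : r * v₁ * r⁻¹ = v₂
  rv₂ : r * v₂ * r⁻¹ = v₁ ∨ r * v₂ * r⁻¹ = v₁ * z
  rs : ∃ c, InL z f c ∧ r * s * r⁻¹ = s * c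
  /-- `A = U₁*` -/
  Acomm : ∀ a ∈ A, ∀ a' ∈ A, a * a' = a' * a
  Aom : ∀ a ∈ A, a * a = 1 → InL z f a ∨ ∃ c, InL z f c ∧ a = v₁ * c
  Av₂ : ∀ a ∈ A, v₂ * a * v₂ ∈ A
  wA : w ∈ A
  ww : w * w = v₁
  xw : x * w * x = w⁻¹
  /-- `L = l*` -/
  LA : L ≤ A
  zL : z ∈ L
  fL : f ∈ L
  sL : x * s ∈ L
  ss : x * s * (x * s) = z
  xL : ∀ m ∈ L, x * m * x = m⁻¹
  Lv₂ : ∀ m ∈ L, Commute m v₂
  rL : ∀ m ∈ L, r⁻¹ * m * r ∈ L
  Lom : ∀ m ∈ L, m * m = 1 → InL z f m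
  /-- `K` is the component: `b` centralises `Σ = C_K(f)`, and `C(x) ∩ C(f) ∩ C(Σ') = ⟨x, f⟩` -/
  bK : ∀ k ∈ K, k * f = f * k → k * b = b * k
  cen : ∀ c, c * x = x * c → c * f = f * c → (∀ k ∈ K, k * f = f * k → k * k * k = 1 → k * c = c * k) →
    c = 1 ∨ c = x ∨ c = f ∨ c = x * f
  /-- an element of `Σ` -/
  del : ∃ δ, δ * f = f * δ ∧ δ * z * δ⁻¹ = v₁
  /-- `x` is not conjugate to `z` -/
  nxz : ∀ g, g * z * g⁻¹ ≠ x

variable {G : Type*} [Group G] {x z f v₁ v₂ s b w r : G} {A L K : Subgroup G}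

theorem InL.comm {c g : G} (hc : InL z f c) (h1 : Commute g z) (h2 : Commute g f) : Commute g c := by
  rcases hc with rfl | rfl | rfl | rfl
  · exact Commute.one_right g
  · exact h1
  · exact h2
  · exact h2.mul_right h1

theorem InL.mul {c d : G} (zz : z * z = 1) (ff : f * f = 1) (zf : Commute z f) (hc : InL z f c) (hd : InL z f d) :
    InL z f (c * d) := by
  have h := zf.eq
  have e1 : z * (f * z) = f := by rw [← mul_assoc, h, mul_assoc, zz, mul_one]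
  have e2 : f * (f * z) = z := by rw [← mul_assoc, ff, one_mul]
  rcases hc with rfl | rfl | rfl | rfl
  · rw [one_mul]; exact hd
  · rcases hd with rfl | rfl | rfl | rfl
    · rw [mul_one]; right; left; rfl
    · left; exact zz
    · right; right; right; exact h
    · right; right; left; exact e1
  · rcases hd with rfl | rfl | rfl | rfl
    · rw [mul_one]; right; right; left; rfl
    · right; right; right; rfl
    · left; exact ff
    · right; left; exact e2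
  · rcases hd with rfl | rfl | rfl | rfl
    · rw [mul_one]; right; right; right; rfl
    · right; right; left; rw [mul_assoc, zz, mul_one]
    · right; left; rw [mul_assoc, h, ← mul_assoc, ff, one_mul]
    · left; rw [mul_assoc, e1, ff]

namespace Cfg

variable (C : Cfg x z f v₁ v₂ s b w r A L K)

include C

theorem lmul {c d : G} (hc : InL z f c) (hd : InL z f d) : InL z f (c * d) := InL.mul C.zz C.ff C.zf hc hd

theorem linv {c : G} (hc : InL z f c) : c * c = 1 := by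
  rcases hc with rfl | rfl | rfl | rfl
  · rw [one_mul]
  · exact C.zz
  · exact C.ff
  · rw [mul_assoc, ← mul_assoc z, C.zf.eq, mul_assoc f z, C.zz, mul_one, C.ff]

theorem lz : InL z f z := Or.inr (Or.inl rfl)
theorem lf : InL z f f := Or.inr (Or.inr (Or.inl rfl))

theorem lr {c : G} (hc : InL z f c) : InL z f (r * c * r⁻¹) := by
  have hz : r * z * r⁻¹ = z := by rw [C.rz.eq, mul_inv_cancel_right]
  rcases hc with rfl | rfl | rfl | rfl
  · rw [mul_one, mul_inv_cancel]; left; rfl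
  · rw [hz]; exact C.lz
  · rw [C.rf]; right; right; right; rfl
  · have e : r * (f * z) * r⁻¹ = r * f * r⁻¹ * (r * z * r⁻¹) := by group
    rw [e, C.rf, hz, mul_assoc, C.zz, mul_one]
    exact C.lf

/-- `l ≤ L` -/
theorem lL {c : G} (hc : InL z f c) : c ∈ L := by
  rcases hc with rfl | rfl | rfl | rfl
  · exact L.one_mem
  · exact C.zL
  · exact C.fL
  · exact L.mul_mem C.fL C.zL

theorem wL {m : G} (hm : m ∈ L) : Commute w m := C.Acomm w C.wA m (C.LA hm)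

theorem wl {c : G} (hc : InL z f c) : Commute w c := C.wL (C.lL hc)

theorem wv₁ : Commute w v₁ := by
  have : w * v₁ = v₁ * w := by rw [← C.ww, mul_assoc]
  exact this

theorem zv₂c : v₂ * v₁ * v₂ = v₁ * z := by
  rw [mul_assoc, C.v₁₂, ← mul_assoc, ← mul_assoc, C.vv₂, one_mul]

theorem Lv₁ {m : G} (hm : m ∈ L) : Commute m v₁ := by
  rw [← C.ww]
  exact ((C.wL hm).symm).mul_right (C.wL hm).symm

/-- `(1)`: `v₂^w ∈ σ v₂ v₁ l` -/
theorem one₁ : ∃ c, InL z f c ∧ w * v₂ * w⁻¹ = x * s * (v₂ * v₁) * c := by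
  obtain ⟨m, hm⟩ : ∃ m, m = w⁻¹ * (v₂ * w * v₂) := ⟨_, rfl⟩
  have hmA : m ∈ A := hm ▸ A.mul_mem (A.inv_mem C.wA) (C.Av₂ w C.wA)
  have h1 : v₂ * w * v₂ = w * m := by rw [hm, mul_inv_cancel_left]
  have h2 : w * v₂ * w⁻¹ = v₂ * m := by
    have h3 : w * v₂ = v₂ * (w * m) * 1 := by
      rw [← h1, mul_one, ← mul_assoc, ← mul_assoc, C.vv₂, one_mul]
    rw [h3, mul_one, C.Acomm w C.wA m hmA, mul_assoc, mul_assoc, mul_inv_cancel, mul_one]
  have h4 : m * m = z := by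
    have h5 : (v₂ * w * v₂) * (v₂ * w * v₂) = v₁ * z := by
      rw [← C.zv₂c, ← C.ww]
      calc v₂ * w * v₂ * (v₂ * w * v₂) = v₂ * w * (v₂ * v₂) * w * v₂ := by group
        _ = v₂ * (w * w) * v₂ := by rw [C.vv₂]; group
    rw [h1] at h5
    have h6 : w * m * (w * m) = w * w * (m * m) := by
      rw [mul_assoc, ← mul_assoc m, C.Acomm m hmA w C.wA, mul_assoc w m m, ← mul_assoc]
    rw [h6, C.ww] at h5
    exact mul_left_cancel h5
  have hsA : x * s ∈ A := C.LA C.sL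
  obtain ⟨n, hn⟩ : ∃ n, n = (x * s)⁻¹ * m := ⟨_, rfl⟩
  have hnA : n ∈ A := hn ▸ A.mul_mem (A.inv_mem hsA) hmA
  have hmn : m = x * s * n := by rw [hn, mul_inv_cancel_left]
  have hn2 : n * n = 1 := by
    have h7 : x * s * n * (x * s * n) = x * s * (x * s) * (n * n) := by
      rw [mul_assoc (x * s) n, ← mul_assoc n, C.Acomm n hnA _ hsA, mul_assoc (x * s) n n, ← mul_assoc]
    rw [hmn, h7, C.ss] at h4
    exact mul_left_cancel (h4.trans (mul_one z).symm)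
  have hs2 : Commute (x * s) v₂ := C.Lv₂ _ C.sL
  rcases C.Aom n hnA hn2 with h | ⟨c, hc, h⟩
  · exfalso
    have h8 : Commute m v₂ := by
      rw [hmn]
      exact hs2.mul_left (C.Lv₂ _ (C.lL h))
    have h9 : v₂ * m * v₂ = m⁻¹ := by
      have hv : v₂⁻¹ = v₂ := inv_eq_of_mul_eq_one_right C.vv₂
      rw [hm]
      calc v₂ * (w⁻¹ * (v₂ * w * v₂)) * v₂ = v₂ * w⁻¹ * v₂ * w * (v₂ * v₂) := by group
        _ = v₂ * w⁻¹ * v₂ * w := by rw [C.vv₂, mul_one]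
        _ = v₂⁻¹ * w⁻¹ * v₂⁻¹ * w := by rw [hv]
        _ = (w⁻¹ * (v₂ * w * v₂))⁻¹ := by group
    rw [← h8.eq, mul_assoc, C.vv₂, mul_one] at h9
    apply C.z1
    rw [← h4]
    nth_rw 2 [h9]
    exact mul_inv_cancel m
  · refine ⟨c, hc, ?_⟩
    rw [h2, hmn, h, ← mul_assoc, ← hs2.eq]
    simp only [mul_assoc]

/-- `w₂ = r w r⁻¹` centralises `L` -/
theorem w₂L {m : G} (hm : m ∈ L) : Commute (r * w * r⁻¹) m := by
  have h1 := C.wL (C.rL m hm)
  have h2 : r * (w * (r⁻¹ * m * r)) * r⁻¹ = r * (r⁻¹ * m * r * w) * r⁻¹ := by rw [h1.eq]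
  show r * w * r⁻¹ * m = m * (r * w * r⁻¹)
  calc r * w * r⁻¹ * m = r * (w * (r⁻¹ * m * r)) * r⁻¹ := by group
    _ = r * (r⁻¹ * m * r * w) * r⁻¹ := h2
    _ = m * (r * w * r⁻¹) := by group

theorem w₂v₂ : Commute (r * w * r⁻¹) v₂ := by
  have h1 := C.wv₁.eq
  show r * w * r⁻¹ * v₂ = v₂ * (r * w * r⁻¹)
  rw [← C.rv₁]
  calc r * w * r⁻¹ * (r * v₁ * r⁻¹) = r * (w * v₁) * r⁻¹ := by group
    _ = r * (v₁ * w) * r⁻¹ := by rw [h1]
    _ = r * v₁ * r⁻¹ * (r * w * r⁻¹) := by group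

theorem dd : v₂ * v₁ * (v₂ * v₁) = z := by
  rw [← mul_assoc, C.zv₂c, mul_assoc, C.zv₁.eq, ← mul_assoc, C.vv₁, one_mul]

/-- `(1)`, the second half: `(v₁ c)^{w₂} = v₂^w` for some `c ∈ l` -/
theorem one₂ : ∃ c, InL z f c ∧ w * v₂ * w⁻¹ = (r * w * r⁻¹) * (v₁ * c) * (r * w * r⁻¹)⁻¹ := by
  obtain ⟨c, hc, h⟩ := C.one₁
  obtain ⟨c₁, hc₁, h₁⟩ := C.rs
  have hxr : r * x * r⁻¹ = x := by rw [C.rx.eq, mul_inv_cancel_right]
  -- conjugating `(1)` with `r`
  have e1 : r * w * r⁻¹ * (r * v₂ * r⁻¹) * (r * w * r⁻¹)⁻¹ =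
      x * (s * c₁) * ((r * v₂ * r⁻¹) * v₂) * (r * c * r⁻¹) := by
    calc r * w * r⁻¹ * (r * v₂ * r⁻¹) * (r * w * r⁻¹)⁻¹ = r * (w * v₂ * w⁻¹) * r⁻¹ := by group
      _ = r * (x * s * (v₂ * v₁) * c) * r⁻¹ := by rw [h]
      _ = r * x * r⁻¹ * (r * s * r⁻¹) * ((r * v₂ * r⁻¹) * (r * v₁ * r⁻¹)) * (r * c * r⁻¹) := by group
      _ = _ := by rw [hxr, h₁, C.rv₁]
  -- `r v₂ r⁻¹ = v₁ c₂`
  obtain ⟨c₂, hc₂, h₂⟩ : ∃ c₂, InL z f c₂ ∧ r * v₂ * r⁻¹ = v₁ * c₂ := by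
    rcases C.rv₂ with h | h
    · exact ⟨1, Or.inl rfl, by rw [h, mul_one]⟩
    · exact ⟨z, C.lz, h⟩
  have hcl : ∀ {a g : G}, InL z f a → Commute g z → Commute g f → Commute a g := fun h1 h2 h3 =>
    (InL.comm h1 h2 h3).symm
  have hr := C.lr hc
  -- everything in the form `x s v₂ v₁ c`
  obtain ⟨c₃, hc₃, h₃⟩ : ∃ c₃, InL z f c₃ ∧
      r * w * r⁻¹ * (v₁ * c₂) * (r * w * r⁻¹)⁻¹ = x * s * (v₂ * v₁) * c₃ := by
    refine ⟨c₁ * c₂ * z * (r * c * r⁻¹), C.lmul (C.lmul (C.lmul hc₁ hc₂) C.lz) hr, ?_⟩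
    rw [← h₂, e1, h₂]
    have a1 := (hcl hc₁ C.zv₁.symm C.fv₁.symm).eq
    have a2 := (hcl hc₂ C.zv₂.symm C.fv₂.symm).eq
    have a3 := (hcl hc₁ C.zv₂.symm C.fv₂.symm).eq
    calc x * (s * c₁) * (v₁ * c₂ * v₂) * (r * c * r⁻¹)
        = x * s * (c₁ * v₁) * (c₂ * v₂) * (r * c * r⁻¹) := by simp only [mul_assoc]
      _ = x * s * (v₁ * c₁) * (v₂ * c₂) * (r * c * r⁻¹) := by rw [a1, a2]
      _ = x * s * v₁ * (c₁ * v₂) * c₂ * (r * c * r⁻¹) := by simp only [mul_assoc]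
      _ = x * s * v₁ * (v₂ * c₁) * c₂ * (r * c * r⁻¹) := by rw [a3]
      _ = x * s * (v₁ * v₂) * c₁ * c₂ * (r * c * r⁻¹) := by simp only [mul_assoc]
      _ = x * s * (v₂ * v₁ * z) * c₁ * c₂ * (r * c * r⁻¹) := by rw [C.v₁₂]
      _ = x * s * (v₂ * v₁) * (z * (c₁ * c₂)) * (r * c * r⁻¹) := by simp only [mul_assoc]
      _ = x * s * (v₂ * v₁) * (c₁ * c₂ * z) * (r * c * r⁻¹) := by
        rw [((C.lmul hc₁ hc₂).comm (Commute.refl z) C.zf).eq]
      _ = _ := by simp only [mul_assoc]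
  refine ⟨c₂ * (c₃ * c), C.lmul hc₂ (C.lmul hc₃ hc), ?_⟩
  have h4 : Commute (r * w * r⁻¹) (c₃ * c) := C.w₂L (C.lL (C.lmul hc₃ hc))
  rw [h]
  calc x * s * (v₂ * v₁) * c = x * s * (v₂ * v₁) * c₃ * (c₃ * c) := by
        rw [mul_assoc _ c₃, ← mul_assoc c₃ c₃, C.linv hc₃, one_mul]
    _ = r * w * r⁻¹ * (v₁ * c₂) * (r * w * r⁻¹)⁻¹ * (c₃ * c) := by rw [h₃]
    _ = r * w * r⁻¹ * (v₁ * c₂) * ((r * w * r⁻¹)⁻¹ * (c₃ * c)) := by simp only [mul_assoc]
    _ = r * w * r⁻¹ * (v₁ * c₂) * ((c₃ * c) * (r * w * r⁻¹)⁻¹) := by rw [h4.inv_left.eq]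
    _ = _ := by simp only [mul_assoc]

/-! ### `(3)`--`(5)`, from `l ⊴ C(z)` -/

/-- well defined: `l_v` for `v = g z g⁻¹` -/
theorem key (hN : ∀ g, g * z = z * g → g * f * g⁻¹ = f ∨ g * f * g⁻¹ = f * z) {g h : G}
    (e : g * z * g⁻¹ = h * z * h⁻¹) : g * f * g⁻¹ = h * f * h⁻¹ ∨ g * f * g⁻¹ = h * f * h⁻¹ * (h * z * h⁻¹) := by
  have h1 : h⁻¹ * g * z = z * (h⁻¹ * g) := by
    have : h⁻¹ * (g * z * g⁻¹) * g = h⁻¹ * (h * z * h⁻¹) * g := by rw [e]
    calc h⁻¹ * g * z = h⁻¹ * (g * z * g⁻¹) * g := by group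
      _ = _ := this
      _ = z * (h⁻¹ * g) := by group
  rcases hN _ h1 with h2 | h2
  · left
    calc g * f * g⁻¹ = h * (h⁻¹ * g * f * (h⁻¹ * g)⁻¹) * h⁻¹ := by group
      _ = _ := by rw [h2]
  · right
    calc g * f * g⁻¹ = h * (h⁻¹ * g * f * (h⁻¹ * g)⁻¹) * h⁻¹ := by group
      _ = h * (f * z) * h⁻¹ := by rw [h2]
      _ = _ := by group

/-- `(3)`: `f` is not conjugate to `z` -/
theorem three (hN : ∀ g, g * z = z * g → g * f * g⁻¹ = f ∨ g * f * g⁻¹ = f * z) (g : G) : g * z * g⁻¹ ≠ f := by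
  intro hg
  obtain ⟨y, hy⟩ : ∃ y, y = g * f * g⁻¹ := ⟨_, rfl⟩
  have hyy : y * y = 1 := by
    rw [hy]
    calc g * f * g⁻¹ * (g * f * g⁻¹) = g * (f * f) * g⁻¹ := by group
      _ = 1 := by rw [C.ff]; group
  have hyf : y * f = f * y := by
    have h0 : g * f * g⁻¹ * (g * z * g⁻¹) = g * z * g⁻¹ * (g * f * g⁻¹) := by
      have := C.zf.eq
      calc g * f * g⁻¹ * (g * z * g⁻¹) = g * (f * z) * g⁻¹ := by group
        _ = g * (z * f) * g⁻¹ := by rw [this]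
        _ = _ := by group
    rwa [hg, ← hy] at h0
  have hy1 : y ≠ 1 := by
    intro h
    rw [h] at hy
    exact C.f1 (by
      have : g⁻¹ * 1 * g = f := by rw [hy]; group
      rw [← this]; group)
  have hynf : y ≠ f := by
    intro h
    apply C.nzf
    have h1 : g * f * g⁻¹ = g * z * g⁻¹ := by rw [← hy, h, hg]
    exact mul_left_cancel (mul_right_cancel h1)
  have hynx : y ≠ x := by
    intro h
    apply C.nxz (g * g)
    rw [← h, hy, ← hg]
    group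
  have hynxf : y ≠ x * f := by
    intro h
    apply C.nxz (b⁻¹ * (g * g))
    have hb : b⁻¹ = b := inv_eq_of_mul_eq_one_right C.bb
    have h1 : b * y * b = x := by
      rw [h, ← C.xb]
      calc b * (b * x * b) * b = b * b * x * (b * b) := by group
        _ = x := by rw [C.bb]; group
    rw [← h1, hy, ← hg]
    calc b⁻¹ * (g * g) * z * (b⁻¹ * (g * g))⁻¹ = b⁻¹ * (g * (g * z * g⁻¹) * g⁻¹) * b := by group
      _ = _ := by rw [hb]
  -- `C(f)` acts on `{y, yf}`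
  have hact : ∀ c, c * f = f * c → c * y * c⁻¹ = y ∨ c * y * c⁻¹ = y * f := by
    intro c hc
    have h1 : c * g * z * (c * g)⁻¹ = g * z * g⁻¹ := by
      calc c * g * z * (c * g)⁻¹ = c * (g * z * g⁻¹) * c⁻¹ := by group
        _ = c * f * c⁻¹ := by rw [hg]
        _ = g * z * g⁻¹ := by rw [hc, mul_inv_cancel_right, hg]
    have h0 : c * y * c⁻¹ = c * g * f * (c * g)⁻¹ := by rw [hy]; group
    rw [h0]
    rcases C.key hN h1 with h2 | h2
    · left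
      rw [h2, hy]
    · right
      rw [hg, ← hy] at h2
      exact h2
  -- `Σ'` centralises `y`
  have hK : ∀ k ∈ K, k * f = f * k → k * k * k = 1 → k * y = y * k := by
    intro k hk h1 h3
    rcases hact k h1 with h | h
    · exact mul_inv_eq_iff_eq_mul.1 h
    · exfalso
      have h4 : k * f * k⁻¹ = f := by rw [h1, mul_inv_cancel_right]
      have h5 : k * k * y * (k * k)⁻¹ = y := by
        calc k * k * y * (k * k)⁻¹ = k * (k * y * k⁻¹) * k⁻¹ := by group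
          _ = k * (y * f) * k⁻¹ := by rw [h]
          _ = k * y * k⁻¹ * (k * f * k⁻¹) := by group
          _ = y := by rw [h, h4, mul_assoc, C.ff, mul_one]
      have h6 : k * k * k * y * (k * k * k)⁻¹ = y * f := by
        calc k * k * k * y * (k * k * k)⁻¹ = k * (k * k * y * (k * k)⁻¹) * k⁻¹ := by group
          _ = y * f := by rw [h5, h]
      rw [h3, one_mul, inv_one, mul_one] at h6
      exact C.f1 (mul_left_cancel (h6.symm.trans (mul_one y).symm))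
  have hxi : x⁻¹ = x := inv_eq_of_mul_eq_one_right C.xx
  rcases hact x C.xf.eq with h | h
  · rcases C.cen y (mul_inv_eq_iff_eq_mul.1 h).symm hyf hK with h | h | h | h
    · exact hy1 h
    · exact hynx h
    · exact hynf h
    · exact hynxf h
  · rw [hxi] at h
    have hb : x * b * x = f * b := by
      have h1 : b * x = x * f * b := by
        rw [← C.xb, mul_assoc, C.bb, mul_one]
      rw [mul_assoc, h1, ← mul_assoc, ← mul_assoc, C.xx, one_mul]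
    have hc : y * b * x = x * (y * b) := by
      have h1 : x * (y * b) * x = y * b := by
        calc x * (y * b) * x = x * y * (x * x) * b * x := by rw [C.xx]; group
          _ = x * y * x * (x * b * x) := by group
          _ = y * (f * f) * b := by rw [h, hb]; group
          _ = y * b := by rw [C.ff, mul_one]
      calc y * b * x = x * (y * b) * x * x := by rw [h1]
        _ = x * (y * b) := by rw [mul_assoc, C.xx, mul_one]
    have hcf : y * b * f = f * (y * b) := by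
      rw [mul_assoc, C.bf.eq, ← mul_assoc, hyf, mul_assoc]
    have hcK : ∀ k ∈ K, k * f = f * k → k * k * k = 1 → k * (y * b) = y * b * k := by
      intro k hk h1 h3
      rw [← mul_assoc, hK k hk h1 h3, mul_assoc, C.bK k hk h1, mul_assoc]
    -- `y ∈ {b, fb}`
    have hyb : y = b ∨ y = f * b := by
      have e : y = y * b * b := by rw [mul_assoc, C.bb, mul_one]
      have hxb : x * b * (x * b) = f := by
        rw [← mul_assoc, hb, mul_assoc, C.bb, mul_one]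
      have hfb := C.bf.eq
      rcases C.cen _ hc hcf hcK with h | h | h | h
      · left; rw [h, one_mul] at e; exact e
      · exfalso
        rw [h] at e
        rw [e, hxb] at hyy
        exact C.f1 hyy
      · right; rw [h] at e; exact e
      · exfalso
        rw [h] at e
        have : y * y = f := by
          rw [e]
          calc x * f * b * (x * f * b) = x * (f * b) * (x * (f * b)) := by group
            _ = x * (b * f) * (x * (f * b)) := by rw [hfb]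
            _ = x * b * (f * x) * (f * b) := by group
            _ = x * b * (x * f) * (f * b) := by rw [C.xf.eq]
            _ = x * b * x * (f * f) * b := by group
            _ = x * b * (x * b) := by rw [C.ff]; group
            _ = f := hxb
        rw [this] at hyy
        exact C.f1 hyy
    -- `s` normalises `{1, f, y, yf}`
    have hnb : b ≠ 1 ∧ b ≠ f ∧ b ≠ f * z ∧ b ≠ z := by
      have h0 : ∀ c, InL z f c → b ≠ c := by
        intro c hc h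
        have h1 : Commute x c := hc.comm C.xz C.xf
        have h2 := C.xb
        rw [h, ← h1.eq, mul_assoc, C.linv hc, mul_one] at h2
        exact C.f1 (mul_left_cancel (h2.symm.trans (mul_one x).symm))
      exact ⟨h0 _ (Or.inl rfl), h0 _ C.lf, h0 _ (Or.inr (Or.inr (Or.inr rfl))), h0 _ C.lz⟩
    have hsf : s * f * s⁻¹ = f := by rw [C.sf.eq, mul_inv_cancel_right]
    -- `s b s⁻¹ ∈ {b, bf}`, but it is `b f z`
    have hsb : s * b * s⁻¹ = b ∨ s * b * s⁻¹ = b * f := by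
      rcases hyb with hb1 | hb1
      · rw [← hb1]; exact hact s C.sf.eq
      · have h2 : b = f * y := by rw [hb1, ← mul_assoc, C.ff, one_mul]
        have h3 : s * b * s⁻¹ = f * (s * y * s⁻¹) := by
          rw [h2]
          calc s * (f * y) * s⁻¹ = s * f * s⁻¹ * (s * y * s⁻¹) := by group
            _ = _ := by rw [hsf]
        rcases hact s C.sf.eq with h4 | h4
        · left; rw [h3, h4, ← h2]
        · right; rw [h3, h4, ← mul_assoc, ← h2]
    rw [C.sb] at hsb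
    rcases hsb with h5 | h5
    · apply C.nzf
      have h6 : f * z = 1 := mul_left_cancel (h5.trans (mul_one b).symm)
      have h7 : f = z⁻¹ := eq_inv_of_mul_eq_one_left h6
      rw [h7, inv_eq_of_mul_eq_one_right C.zz]
    · apply C.z1
      have h6 : f * z = f := mul_left_cancel h5
      exact mul_left_cancel (h6.trans (mul_one f).symm)

/-- **`(5)`**: contradiction from `l ⊴ C(z)` -/
theorem false_of_norm (hN : ∀ g, g * z = z * g → g * f * g⁻¹ = f ∨ g * f * g⁻¹ = f * z) : False := by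
  obtain ⟨c, hc, e⟩ := C.one₂
  obtain ⟨δ, d1, d2⟩ := C.del
  have hδf : δ * f * δ⁻¹ = f := by rw [d1, mul_inv_cancel_right]
  have hwf : w * f * w⁻¹ = f := by rw [(C.wL C.fL).eq, mul_inv_cancel_right]
  have hwz : w * z * w⁻¹ = z := by rw [(C.wL C.zL).eq, mul_inv_cancel_right]
  obtain ⟨w₂, hw₂⟩ : ∃ w₂, w₂ = r * w * r⁻¹ := ⟨_, rfl⟩
  rw [← hw₂] at e
  have hw₂f : w₂ * f * w₂⁻¹ = f := by
    have := C.w₂L C.fL
    rw [← hw₂] at this
    rw [this.eq, mul_inv_cancel_right]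
  -- the first description of `l_y`
  have hg1 : w * r * δ * z * (w * r * δ)⁻¹ = w * v₂ * w⁻¹ := by
    rw [← C.rv₁, ← d2]; group
  have hg2 : w * r * δ * f * (w * r * δ)⁻¹ = f * z := by
    calc w * r * δ * f * (w * r * δ)⁻¹ = w * (r * (δ * f * δ⁻¹) * r⁻¹) * w⁻¹ := by group
      _ = w * f * w⁻¹ * (w * z * w⁻¹) := by rw [hδf, C.rf]; group
      _ = f * z := by rw [hwf, hwz]
  -- `y ∉ {1, z}`
  have hyz : w * v₂ * w⁻¹ ≠ z := by
    intro h
    have h1 : v₂ = z := by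
      rw [← hwz] at h
      exact mul_left_cancel (mul_right_cancel h)
    have h2 := C.v₁₂
    rw [h1, ← C.zv₁.eq] at h2
    exact C.z1 (mul_left_cancel (h2.symm.trans (mul_one _).symm))
  -- the case `u ∈ {v₁, v₁ z}`
  have hcase : ∀ h, h * z * h⁻¹ = w * v₂ * w⁻¹ → h * f * h⁻¹ = f → False := by
    intro h h1 h2
    rcases C.key hN (hg1.trans h1.symm) with h3 | h3
    · rw [hg2, h2] at h3
      exact C.z1 (mul_left_cancel (h3.trans (mul_one f).symm))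
    · rw [hg2, h2, h1] at h3
      exact hyz (mul_left_cancel h3).symm
  -- the case `u ∈ {v₁ f, v₁ f z}`
  have hcase2 : ∀ h, h * (f * z) * h⁻¹ = w * v₂ * w⁻¹ → False := by
    intro h h1
    have h2 : h * r * f * (h * r)⁻¹ = w * r * δ * z * (w * r * δ)⁻¹ := by
      rw [hg1, ← h1]
      calc h * r * f * (h * r)⁻¹ = h * (r * f * r⁻¹) * h⁻¹ := by group
        _ = _ := by rw [C.rf]
    apply C.three hN ((h * r)⁻¹ * (w * r * δ))
    calc (h * r)⁻¹ * (w * r * δ) * z * ((h * r)⁻¹ * (w * r * δ))⁻¹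
        = (h * r)⁻¹ * (w * r * δ * z * (w * r * δ)⁻¹) * (h * r) := by group
      _ = (h * r)⁻¹ * (h * r * f * (h * r)⁻¹) * (h * r) := by rw [h2]
      _ = f := by group
  have hv₂f : v₂ * f * v₂⁻¹ = f := by rw [← C.fv₂.eq, mul_inv_cancel_right]
  have hv₂z : v₂ * z * v₂⁻¹ = z := by rw [← C.zv₂.eq, mul_inv_cancel_right]
  have hv₂v : v₂ * v₁ * v₂⁻¹ = v₁ * z := by
    rw [inv_eq_of_mul_eq_one_right C.vv₂, C.zv₂c]
  have hδfz : δ * (f * z) * δ⁻¹ = f * v₁ := by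
    calc δ * (f * z) * δ⁻¹ = δ * f * δ⁻¹ * (δ * z * δ⁻¹) := by group
      _ = _ := by rw [hδf, d2]
  rcases hc with rfl | rfl | rfl | rfl
  · refine hcase (w₂ * δ) ?_ ?_
    · rw [e, mul_one, ← d2]; group
    · calc w₂ * δ * f * (w₂ * δ)⁻¹ = w₂ * (δ * f * δ⁻¹) * w₂⁻¹ := by group
        _ = f := by rw [hδf, hw₂f]
  · refine hcase (w₂ * (v₂ * δ)) ?_ ?_
    · rw [e]
      calc w₂ * (v₂ * δ) * c * (w₂ * (v₂ * δ))⁻¹ = w₂ * (v₂ * (δ * c * δ⁻¹) * v₂⁻¹) * w₂⁻¹ := by group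
        _ = _ := by rw [d2, hv₂v]
    · calc w₂ * (v₂ * δ) * f * (w₂ * (v₂ * δ))⁻¹ = w₂ * (v₂ * (δ * f * δ⁻¹) * v₂⁻¹) * w₂⁻¹ := by group
        _ = f := by rw [hδf, hv₂f, hw₂f]
  · refine hcase2 (w₂ * δ) ?_
    rw [e]
    calc w₂ * δ * (c * z) * (w₂ * δ)⁻¹ = w₂ * (δ * (c * z) * δ⁻¹) * w₂⁻¹ := by group
      _ = _ := by rw [hδfz, C.fv₁.eq]
  · refine hcase2 (w₂ * (v₂ * δ)) ?_
    rw [e]
    calc w₂ * (v₂ * δ) * (f * z) * (w₂ * (v₂ * δ))⁻¹ = w₂ * (v₂ * (δ * (f * z) * δ⁻¹) * v₂⁻¹) * w₂⁻¹ := by group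
      _ = w₂ * (v₂ * f * v₂⁻¹ * (v₂ * v₁ * v₂⁻¹)) * w₂⁻¹ := by rw [hδfz]; group
      _ = w₂ * (f * (v₁ * z)) * w₂⁻¹ := by rw [hv₂f, hv₂v]
      _ = w₂ * (v₁ * (f * z)) * w₂⁻¹ := by rw [← mul_assoc f v₁, C.fv₁.eq, mul_assoc v₁ f z]

/-! ### `(2)`: `W = l` -/

/-- `T₈ = ⟨x⟩ L D` -/
def InT (x v₁ v₂ : G) (L : Subgroup G) (a : G) : Prop :=
  ∃ m ∈ L, ∃ u, (u = 1 ∨ u = v₁ ∨ u = v₂ ∨ u = v₁ * v₂) ∧ (a = m * u ∨ a = x * m * u)

/-- **`(2)`**: an elementary abelian normal subgroup `W` of `C(z)` with `W ≤ T₈` is contained in `l` -/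
theorem two (W : Subgroup G) (hel : ∀ a ∈ W, a * a = 1) (hn : ∀ g, g * z = z * g → ∀ a ∈ W, g * a * g⁻¹ ∈ W)
    (hT : ∀ a ∈ W, InT x v₁ v₂ L a) : ∀ a ∈ W, InL z f a := by
  have hcomm : ∀ a ∈ W, ∀ a' ∈ W, a * a' = a' * a := by
    intro a ha a' ha'
    have h1 := hel _ (W.mul_mem ha ha')
    have h2 := hel a ha
    have h3 := hel a' ha'
    calc a * a' = a * 1 * a' := by rw [mul_one]
      _ = a * (a * a' * (a * a')) * a' := by rw [h1]
      _ = (a * a) * a' * a * (a' * a') := by group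
      _ = a' * a := by rw [h2, h3, one_mul, mul_one]
  have hwz : w * z = z * w := (C.wL C.zL).eq
  have hw₂z : r * w * r⁻¹ * z = z * (r * w * r⁻¹) := (C.w₂L C.zL).eq
  obtain ⟨w₂, hw₂⟩ : ∃ w₂, w₂ = r * w * r⁻¹ := ⟨_, rfl⟩
  rw [← hw₂] at hw₂z
  have hw₂L : ∀ m ∈ L, Commute w₂ m := fun m hm => hw₂ ▸ C.w₂L hm
  have hw₂v₂ : Commute w₂ v₂ := hw₂ ▸ C.w₂v₂
  obtain ⟨c, hc, e₁⟩ := C.one₁
  obtain ⟨c', hc', e₂⟩ := C.one₂
  rw [← hw₂] at e₂
  -- `L` commutes with `D`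
  have hL₁ : ∀ m ∈ L, m * v₁ = v₁ * m := fun m hm => (C.Lv₁ hm).eq
  have hL₂ : ∀ m ∈ L, m * v₂ = v₂ * m := fun m hm => (C.Lv₂ m hm).eq
  have hL₃ : ∀ m ∈ L, m * (v₁ * v₂) = v₁ * v₂ * m := fun m hm =>
    ((C.Lv₁ hm).mul_right (C.Lv₂ m hm)).eq
  have h3 : v₂ * v₁ = z * (v₁ * v₂) := by
    have h4 : v₁ * v₂ * z = v₂ * v₁ := by rw [C.v₁₂, mul_assoc, C.zz, mul_one]
    rw [← h4, hL₃ z C.zL]
  -- `w v₂ w⁻¹ = m₁ v₁ v₂`, `w₂ v₁ w₂⁻¹ = m₂ v₁ v₂`
  obtain ⟨m₁, hm₁, f₁⟩ : ∃ m₁ ∈ L, w * v₂ * w⁻¹ = m₁ * (v₁ * v₂) := by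
    refine ⟨x * s * (z * c), L.mul_mem C.sL (L.mul_mem C.zL (C.lL hc)), ?_⟩
    rw [e₁, h3, mul_assoc (x * s) (z * _), mul_assoc z (v₁ * v₂) c, ← hL₃ c (C.lL hc), mul_assoc (x * s) (z * c),
      mul_assoc z c]
  obtain ⟨m₂, hm₂, f₂⟩ : ∃ m₂ ∈ L, w₂ * v₁ * w₂⁻¹ = m₂ * (v₁ * v₂) := by
    refine ⟨m₁ * c', L.mul_mem hm₁ (C.lL hc'), ?_⟩
    have h5 := (hw₂L c' (C.lL hc')).eq
    have h6 : w₂ * (v₁ * c') * w₂⁻¹ = w₂ * v₁ * w₂⁻¹ * c' := by
      calc w₂ * (v₁ * c') * w₂⁻¹ = w₂ * v₁ * w₂⁻¹ * (w₂ * c') * w₂⁻¹ := by group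
        _ = w₂ * v₁ * w₂⁻¹ * c' := by rw [h5]; group
    rw [h6] at e₂
    rw [mul_assoc m₁, hL₃ c' (C.lL hc'), ← mul_assoc m₁, ← f₁, e₂, mul_assoc _ c' c', C.linv hc', mul_one]
  -- two elements `m u, m' u'` of `W`: `u u' = u' u`
  have huu : ∀ m ∈ L, ∀ m' ∈ L, ∀ u u', m' * u = u * m' → m * u' = u' * m → m * u ∈ W → m' * u' ∈ W →
      u * u' = u' * u := by
    intro m hm m' hm' u u' k1 k2 k3 k4
    have k5 := hcomm _ k3 _ k4
    have k6 : m * m' = m' * m := C.Acomm m (C.LA hm) m' (C.LA hm')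
    have k7 : m * u * (m' * u') = m * m' * (u * u') := by
      calc m * u * (m' * u') = m * (u * m') * u' := by group
        _ = m * (m' * u) * u' := by rw [k1]
        _ = _ := by group
    have k8 : m' * u' * (m * u) = m * m' * (u' * u) := by
      calc m' * u' * (m * u) = m' * (u' * m) * u := by group
        _ = m' * (m * u') * u := by rw [k2]
        _ = m' * m * (u' * u) := by group
        _ = _ := by rw [k6]
    rw [k7, k8] at k5
    exact mul_left_cancel k5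
  have n23 : ∀ m ∈ L, ∀ m' ∈ L, m * v₂ ∈ W → m' * (v₁ * v₂) ∈ W → False := by
    intro m hm m' hm' k1 k2
    have k3 := huu m hm m' hm' v₂ (v₁ * v₂) (hL₂ m' hm') (hL₃ m hm) k1 k2
    rw [← mul_assoc, C.zv₂c, mul_assoc v₁, C.vv₂, mul_one] at k3
    exact C.z1 (mul_left_cancel (k3.trans (mul_one v₁).symm))
  have n13 : ∀ m ∈ L, ∀ m' ∈ L, m * v₁ ∈ W → m' * (v₁ * v₂) ∈ W → False := by
    intro m hm m' hm' k1 k2
    have k3 := huu m hm m' hm' v₁ (v₁ * v₂) (hL₁ m' hm') (hL₃ m hm) k1 k2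
    rw [← mul_assoc, C.vv₁, one_mul, mul_assoc v₁, h3, ← mul_assoc, ← C.zv₁.eq, mul_assoc, ← mul_assoc v₁, C.vv₁,
      one_mul] at k3
    exact C.z1 (mul_right_cancel ((one_mul v₂).trans k3)).symm
  have n3 : ∀ m ∈ L, m * (v₁ * v₂) ∉ W := by
    intro m hm k1
    have k2 := hn w hwz _ k1
    have k3 : w * (m * (v₁ * v₂)) * w⁻¹ = m * m₁ * v₂ := by
      have a1 := (C.wL hm).eq
      have a2 := C.wv₁.eq
      calc w * (m * (v₁ * v₂)) * w⁻¹ = w * m * v₁ * w⁻¹ * (w * v₂ * w⁻¹) := by group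
        _ = m * (w * v₁) * w⁻¹ * (m₁ * (v₁ * v₂)) := by rw [a1, f₁]; group
        _ = m * (v₁ * (m₁ * (v₁ * v₂))) := by rw [a2]; group
        _ = m * (v₁ * m₁ * v₁ * v₂) := by simp only [mul_assoc]
        _ = m * m₁ * v₂ := by rw [← hL₁ m₁ hm₁, mul_assoc m₁, C.vv₁, mul_one, mul_assoc]
    rw [k3] at k2
    exact n23 _ (L.mul_mem hm hm₁) m hm k2 k1
  have n2 : ∀ m ∈ L, m * v₂ ∉ W := by
    intro m hm k1
    have k2 := hn w hwz _ k1
    have a1 := (C.wL hm).eq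
    have k3 : w * (m * v₂) * w⁻¹ = m * m₁ * (v₁ * v₂) := by
      calc w * (m * v₂) * w⁻¹ = w * m * w⁻¹ * (w * v₂ * w⁻¹) := by group
        _ = m * m₁ * (v₁ * v₂) := by rw [a1, f₁]; group
    rw [k3] at k2
    exact n3 _ (L.mul_mem hm hm₁) k2
  have n1 : ∀ m ∈ L, m * v₁ ∉ W := by
    intro m hm k1
    have k2 := hn w₂ hw₂z _ k1
    have a1 := (hw₂L m hm).eq
    have k3 : w₂ * (m * v₁) * w₂⁻¹ = m * m₂ * (v₁ * v₂) := by
      calc w₂ * (m * v₁) * w₂⁻¹ = w₂ * m * w₂⁻¹ * (w₂ * v₁ * w₂⁻¹) := by group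
        _ = m * m₂ * (v₁ * v₂) := by rw [a1, f₂]; group
    rw [k3] at k2
    exact n3 _ (L.mul_mem hm hm₂) k2
  -- the action on `x`
  have hxi : x⁻¹ = x := inv_eq_of_mul_eq_one_right C.xx
  have hwx : w * x * w⁻¹ = x * v₁ := by
    rw [← C.xw, C.xv₁.eq, ← C.ww]
    calc w * x * (x * w * x) = w * (x * x) * w * x := by group
      _ = w * w * x := by rw [C.xx, mul_one]
  have hw₂x : w₂ * x * w₂⁻¹ = x * v₂ := by
    have hxr : r * x * r⁻¹ = x := by rw [C.rx.eq, mul_inv_cancel_right]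
    have hxr' : r⁻¹ * x * r = x := by rw [mul_assoc, ← C.rx.eq, inv_mul_cancel_left]
    rw [hw₂]
    calc r * w * r⁻¹ * x * (r * w * r⁻¹)⁻¹ = r * (w * (r⁻¹ * x * r) * w⁻¹) * r⁻¹ := by group
      _ = r * (x * v₁) * r⁻¹ := by rw [hxr', hwx]
      _ = r * x * r⁻¹ * (r * v₁ * r⁻¹) := by group
      _ = x * v₂ := by rw [hxr, C.rv₁]
  have hxm : ∀ m ∈ L, ∀ u, x * m * (x * m * u) = u := by
    intro m hm u
    calc x * m * (x * m * u) = x * m * x * m * u := by group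
      _ = u := by rw [C.xL m hm]; group
  intro a ha
  have aw : ∀ m ∈ L, w * m * w⁻¹ = m := fun m hm => by rw [(C.wL hm).eq, mul_inv_cancel_right]
  have aw₂ : ∀ m ∈ L, w₂ * m * w₂⁻¹ = m := fun m hm => by rw [(hw₂L m hm).eq, mul_inv_cancel_right]
  obtain ⟨m, hm, u, hu, h | h⟩ := hT a ha
  · rcases hu with hu | hu | hu | hu
    · rw [hu, mul_one] at h
      rw [h]
      exact C.Lom m hm (h ▸ hel a ha)
    · rw [hu] at h
      exact absurd (h ▸ ha) (n1 m hm)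
    · rw [hu] at h
      exact absurd (h ▸ ha) (n2 m hm)
    · rw [hu] at h
      exact absurd (h ▸ ha) (n3 m hm)
  · exfalso
    rcases hu with hu | hu | hu | hu
    · rw [hu, mul_one] at h
      have k1 := W.mul_mem ha (hn w hwz a ha)
      apply n1 1 L.one_mem
      have k2 : a * (w * a * w⁻¹) = 1 * v₁ := by
        have a2 := hL₁ m hm
        rw [h]
        calc x * m * (w * (x * m) * w⁻¹) = x * m * (w * x * w⁻¹ * (w * m * w⁻¹)) := by group
          _ = x * m * (x * (v₁ * m)) := by rw [hwx, aw m hm, mul_assoc x v₁ m]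
          _ = x * m * (x * m * v₁) := by rw [← a2, ← mul_assoc x m v₁]
          _ = 1 * v₁ := by rw [hxm m hm, one_mul]
      rwa [k2] at k1
    · rw [hu] at h
      have k1 := W.mul_mem (hn w hwz a ha) ha
      apply n1 1 L.one_mem
      have k2 : w * a * w⁻¹ = x * m := by
        have a2 := hL₁ m hm
        rw [h]
        calc w * (x * m * v₁) * w⁻¹ = w * x * w⁻¹ * (w * m * w⁻¹) * (w * v₁ * w⁻¹) := by group
          _ = x * v₁ * m * v₁ := by rw [hwx, aw m hm, C.wv₁.eq, mul_inv_cancel_right]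
          _ = x * m * (v₁ * v₁) := by rw [mul_assoc x, ← a2]; group
          _ = x * m := by rw [C.vv₁, mul_one]
      rw [k2, h, hxm m hm] at k1
      rwa [one_mul]
    · rw [hu] at h
      have k1 := W.mul_mem (hn w₂ hw₂z a ha) ha
      apply n2 1 L.one_mem
      have k2 : w₂ * a * w₂⁻¹ = x * m := by
        have a2 := hL₂ m hm
        rw [h]
        calc w₂ * (x * m * v₂) * w₂⁻¹ = w₂ * x * w₂⁻¹ * (w₂ * m * w₂⁻¹) * (w₂ * v₂ * w₂⁻¹) := by group
          _ = x * v₂ * m * v₂ := by rw [hw₂x, aw₂ m hm, hw₂v₂.eq, mul_inv_cancel_right]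
          _ = x * m * (v₂ * v₂) := by rw [mul_assoc x, ← a2]; group
          _ = x * m := by rw [C.vv₂, mul_one]
      rw [k2, h, hxm m hm] at k1
      rwa [one_mul]
    · rw [hu] at h
      apply C.z1
      have k1 := hel a ha
      have a3 := hL₃ m hm
      have a4 : x * (v₁ * v₂) = v₁ * v₂ * x := (C.xv₁.mul_right C.xv₂).eq
      have a5 : v₁ * v₂ * (v₁ * v₂) = z := by
        rw [mul_assoc, ← mul_assoc v₂, C.zv₂c, ← mul_assoc, C.vv₁, one_mul]
      rw [h] at k1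
      calc z = v₁ * v₂ * (v₁ * v₂) := a5.symm
        _ = x * m * (x * m * (v₁ * v₂ * (v₁ * v₂))) := (hxm m hm _).symm
        _ = x * m * (x * (m * (v₁ * v₂)) * (v₁ * v₂)) := by simp only [mul_assoc]
        _ = x * m * (x * (v₁ * v₂) * m * (v₁ * v₂)) := by rw [a3]; simp only [mul_assoc]
        _ = x * m * (v₁ * v₂) * (x * m * (v₁ * v₂)) := by rw [a4]; simp only [mul_assoc]
        _ = 1 := k1

/-- **(DBL), `e = 1` is impossible**: an elementary abelian normal subgroup `W ∋ f` of `C(z)` with `W ≤ T₈` gives a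
contradiction. -/
theorem false (W : Subgroup G) (hf : f ∈ W) (hel : ∀ a ∈ W, a * a = 1)
    (hn : ∀ g, g * z = z * g → ∀ a ∈ W, g * a * g⁻¹ ∈ W) (hT : ∀ a ∈ W, InT x v₁ v₂ L a) : False := by
  refine C.false_of_norm fun g hg => ?_
  rcases C.two W hel hn hT _ (hn g hg f hf) with h | h | h | h
  · exfalso
    rw [mul_inv_eq_one, mul_eq_left] at h
    exact C.f1 h
  · exfalso
    apply C.nzf
    have h1 : g * f * g⁻¹ = g * z * g⁻¹ := by rw [h, hg, mul_inv_cancel_right]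
    exact mul_left_cancel (mul_right_cancel h1)
  · exact Or.inl h
  · exact Or.inr h

end Cfg

end Cfsg.Agent.OddHalf.D5.SixAut.DblOne
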