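import Cfsg.Agent.OddHalf.D5.SixAut.Theta

/-!
# ODD D5, `K = A₆`, case (DBL): facts on `S₆` for the normal form (helper314)
-/

set_option autoImplicit false

namespace Cfsg.Agent.OddHalf.D5.SixAut.DblNorm

open Equiv

/-- `p ∈ U₁ = ⟨f, z, v₁⟩ = C_{S₆}(U₁)` -/
def CU (p : Perm (Fin 6)) : Prop := p * pf = pf * p ∧ p * pz = pz * p ∧ p * pv1 = pv1 * p

instance : DecidablePred CU := fun p => by unfold CU; infer_instance

theorem CU_eq : ∀ p, CU p → ∃ i j k : Fin 2, p = pf ^ (i : ℕ) * (pz ^ (j : ℕ) * pv1 ^ (k : ℕ)) := by decide +kernel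
theorem CU_sq : ∀ p, CU p → p * p = 1 := by decide +kernel
theorem CU_one : CU 1 := by decide +kernel
theorem CU_f : CU pf := by decide +kernel
theorem CU_z : CU pz := by decide +kernel
theorem CU_v1 : CU pv1 := by decide +kernel

theorem CU_mul {p q : Perm (Fin 6)} (hp : CU p) (hq : CU q) : CU (p * q) := by
  obtain ⟨a, b, c⟩ := hp
  obtain ⟨a', b', c'⟩ := hq
  refine ⟨?_, ?_, ?_⟩
  · rw [mul_assoc, a', ← mul_assoc, a, mul_assoc]
  · rw [mul_assoc, b', ← mul_assoc, b, mul_assoc]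
  · rw [mul_assoc, c', ← mul_assoc, c, mul_assoc]

theorem ff : pf * pf = 1 := by decide +kernel
theorem zz : pz * pz = 1 := by decide +kernel
theorem v11 : pv1 * pv1 = 1 := by decide +kernel
theorem v22 : pv2 * pv2 = 1 := by decide +kernel
theorem fz : pf * pz = pz * pf := by decide +kernel
theorem fv1 : pf * pv1 = pv1 * pf := by decide +kernel
theorem fv2 : pf * pv2 = pv2 * pf := by decide +kernel
theorem zv1 : pz * pv1 = pv1 * pz := by decide +kernel
theorem zv2 : pz * pv2 = pv2 * pz := by decide +kernel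
theorem v12 : pv1 * pv2 = pv2 * pv1 * pz := by decide +kernel
theorem z_ne : pz ≠ 1 := by decide +kernel
theorem f_ne : pf ≠ 1 := by decide +kernel
theorem f_ne_z : pf ≠ pz := by decide +kernel
theorem ccc : pc * pc * pc = 1 := by decide +kernel
theorem cf : pc * pf = pf * pc := by decide +kernel
theorem cz : pc * pz * pc⁻¹ = pz * pv1 := by decide +kernel
theorem cv1 : pc * pv1 * pc⁻¹ = pz := by decide +kernel
theorem cz' : pc⁻¹ * pz * pc = pv1 := by decide +kernel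
theorem cv1' : pc⁻¹ * pv1 * pc = pz * pv1 := by decide +kernel
theorem v2c : pv2 * pc * pv2 = pc⁻¹ := by decide +kernel
theorem cz_ne : pz * pc * pz ≠ pc := by decide +kernel

theorem CU_c : ∀ p, CU p → CU (pc * p * pc⁻¹) := by decide +kernel
theorem CU_c' : ∀ p, CU p → CU (pc⁻¹ * p * pc) := by decide +kernel
theorem CU_v2 : ∀ p, CU p → CU (pv2 * p * pv2) := by decide +kernel

theorem CU_cent_c : ∀ p, CU p → p * pc = pc * p → p = 1 ∨ p = pf := by decide +kernel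

theorem CU_avg : ∀ p, CU p → p * (pc * p * pc⁻¹) * (pc * (pc * p * pc⁻¹) * pc⁻¹) = 1 →
    p * (pc * (pc * p * pc⁻¹) * pc⁻¹) = pc * p * pc⁻¹ := by decide +kernel

/-- `C_{S₆}(z, f) = ⟨f⟩ × D` -/
theorem cent_zf : ∀ p : Perm (Fin 6), p * pz = pz * p → p * pf = pf * p →
    ∃ i j k l : Fin 2, p = pf ^ (i : ℕ) * (pz ^ (j : ℕ) * (pv1 ^ (k : ℕ) * pv2 ^ (l : ℕ))) := by decide +kernel

theorem no_r : ∀ p : Perm (Fin 6), p * (pf * pz) ≠ pf * p := by decide +kernel

/-- a second element of order `3` of `C_{S₆}(f)` -/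
def pc2 : Perm (Fin 6) := pz * pc * pz

theorem ccc2 : pc2 * pc2 * pc2 = 1 := by decide +kernel
theorem c2f : pc2 * pf = pf * pc2 := by decide +kernel

theorem cent_f_c_c2 : ∀ p : Perm (Fin 6), p * pf = pf * p → p * pc = pc * p → p * pc2 = pc2 * p →
    p = 1 ∨ p = pf := by decide +kernel

/-- `C_{S₆}(f) = ⟨f⟩ × ⟨z, v₁, v₂, c⟩` -/
theorem cent_f : ∀ p : Perm (Fin 6), p * pf = pf * p → ∃ i j k l : Fin 2, ∃ m : Fin 3,
    p = pf ^ (i : ℕ) * (pz ^ (j : ℕ) * (pv1 ^ (k : ℕ) * (pv2 ^ (l : ℕ) * pc ^ (m : ℕ)))) := by decide +kernel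

end Cfsg.Agent.OddHalf.D5.SixAut.DblNorm
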