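import Cfsg.Agent.OddHalf.D5.SixAut.Defs
import Cfsg.Agent.OddHalf.D5.SixAut.DblDefs
import Cfsg.Agent.OddHalf.D5.SixAut.DblOne
import Cfsg.Agent.OddHalf.D5.SixAut.NormPerm

/-!
# ODD D5, `K = A₆`, `C(x)/⟨x⟩ = Aut(A₆)`, case (DBL): the normal form of #10400 (g) (helper314)

`Mv ι x g p` : `g` centralises `U₁ = ⟨f, z, v₁⟩` and `g x g⁻¹ = x ι(p)`.
-/

set_option autoImplicit false
set_option linter.unusedSectionVars false

namespace Cfsg.Agent.OddHalf.D5.SixAut.DblNorm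

open Subgroup Equiv

variable {G : Type*} [Group G] {x r : G} {ι : Perm (Fin 6) →* G}

/-- `g` centralises `U₁` and `g x g⁻¹ = x ι(p)` -/
structure Mv (x : G) (ι : Perm (Fin 6) →* G) (g : G) (p : Perm (Fin 6)) : Prop where
  f : g * ι pf = ι pf * g
  z : g * ι pz = ι pz * g
  v1 : g * ι pv1 = ι pv1 * g
  x : g * x * g⁻¹ = x * ι p

theorem comm_pow {g a : G} (h : g * a = a * g) (n : ℕ) : g * a ^ n = a ^ n * g := by
  have : Commute g a := h
  exact (this.pow_right n).eq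

theorem comm_mul {g a b : G} (h : g * a = a * g) (h' : g * b = b * g) : g * (a * b) = a * b * g := by
  have h1 : Commute g a := h
  have h2 : Commute g b := h'
  exact (h1.mul_right h2).eq

namespace Mv

variable {g g' : G} {p p' : Perm (Fin 6)}

/-- `g` centralises `U₁` -/
theorem comm (m : Mv x ι g p) {q : Perm (Fin 6)} (hq : CU q) : g * ι q = ι q * g := by
  obtain ⟨i, j, k, rfl⟩ := CU_eq q hq
  rw [map_mul, map_mul, map_pow, map_pow, map_pow]
  exact comm_mul (comm_pow m.f _) (comm_mul (comm_pow m.z _) (comm_pow m.v1 _))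

theorem mul (m : Mv x ι g p) (m' : Mv x ι g' p') (hp' : CU p') : Mv x ι (g * g') (p * p') where
  f := by rw [mul_assoc, m'.f, ← mul_assoc, m.f, mul_assoc]
  z := by rw [mul_assoc, m'.z, ← mul_assoc, m.z, mul_assoc]
  v1 := by rw [mul_assoc, m'.v1, ← mul_assoc, m.v1, mul_assoc]
  x := by
    calc g * g' * x * (g * g')⁻¹ = g * (g' * x * g'⁻¹) * g⁻¹ := by group
      _ = g * x * g⁻¹ * (g * ι p' * g⁻¹) := by rw [m'.x]; group
      _ = x * ι (p * p') := by rw [m.comm hp', mul_inv_cancel_right, m.x, map_mul, mul_assoc]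

end Mv

variable (h : AutSpl x ι r)
include h

theorem mv_one : Mv x ι 1 1 := ⟨by simp, by simp, by simp, by simp⟩

theorem mv_ι {q : Perm (Fin 6)} (hq : CU q) : Mv x ι (ι q) 1 where
  f := by rw [← map_mul, hq.1, map_mul]
  z := by rw [← map_mul, hq.2.1, map_mul]
  v1 := by rw [← map_mul, hq.2.2, map_mul]
  x := by rw [← h.comm, mul_inv_cancel_right, map_one, mul_one]

theorem mv_x : Mv x ι x 1 where
  f := h.comm _
  z := h.comm _
  v1 := h.comm _
  x := by rw [mul_inv_cancel_right, map_one, mul_one]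

/-- the elements centralising `x` and `f` -/
theorem cent_xf {g : G} (hx : g * x = x * g) (hf : g * ι pf = ι pf * g) :
    ∃ a, a * pf = pf * a ∧ (g = ι a ∨ g = x * ι a) := by
  obtain ⟨a, e | e | e | e⟩ := h.cent g hx
  · refine ⟨a, ?_, Or.inl e⟩
    rw [e] at hf
    exact h.comm_ι.1 hf
  · refine ⟨a, ?_, Or.inr e⟩
    rw [e, mul_assoc] at hf
    apply h.comm_ι.1
    have h1 : ι pf * (x * ι a) = x * (ι pf * ι a) := by
      rw [← mul_assoc, ← h.comm, mul_assoc]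
    rw [h1] at hf
    exact mul_left_cancel hf
  · exfalso
    rw [e] at hf
    have h1 := h.comm_r.1 hf
    rw [θ_f] at h1
    exact no_r a h1
  · exfalso
    rw [e, mul_assoc] at hf
    have h1 : ι pf * (x * (ι a * r)) = x * (ι pf * (ι a * r)) := by
      rw [← mul_assoc, ← h.comm, mul_assoc]
    rw [h1] at hf
    have h2 := h.comm_r.1 (mul_left_cancel hf)
    rw [θ_f] at h2
    exact no_r a h2

/-- `C(x) ∩ C(U₁) = ⟨x⟩ U₁` -/
theorem cent_U {g : G} {p : Perm (Fin 6)} (m : Mv x ι g p) (hx : g * x = x * g) :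
    ∃ q, CU q ∧ (g = ι q ∨ g = x * ι q) := by
  obtain ⟨a, ha, e⟩ := cent_xf h hx m.f
  have key : ∀ b, g * ι b = ι b * g → a * b = b * a := by
    intro b hb
    rcases e with e | e
    · rw [e] at hb; exact h.comm_ι.1 hb
    · rw [e, mul_assoc] at hb
      have h1 : ι b * (x * ι a) = x * (ι b * ι a) := by
        rw [← mul_assoc, ← h.comm, mul_assoc]
      rw [h1] at hb
      exact h.comm_ι.1 (mul_left_cancel hb)
  exact ⟨a, ⟨ha, key _ m.z, key _ m.v1⟩, e⟩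

/-- `C(x) ∩ C(⟨z, f⟩) = ⟨x, f⟩ × D` -/
theorem cent_l {g : G} (hx : g * x = x * g) (hz : g * ι pz = ι pz * g) (hf : g * ι pf = ι pf * g) :
    ∃ q, q * pz = pz * q ∧ q * pf = pf * q ∧ (g = ι q ∨ g = x * ι q) := by
  obtain ⟨a, ha, e⟩ := cent_xf h hx hf
  refine ⟨a, ?_, ha, e⟩
  rcases e with e | e
  · rw [e] at hz; exact h.comm_ι.1 hz
  · rw [e, mul_assoc] at hz
    have h1 : ι pz * (x * ι a) = x * (ι pz * ι a) := by
      rw [← mul_assoc, ← h.comm, mul_assoc]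
    rw [h1] at hz
    exact h.comm_ι.1 (mul_left_cancel hz)

/-- squares of elements moving `x` are in `U₁` -/
theorem sq {g : G} {p : Perm (Fin 6)} (m : Mv x ι g p) (hp : CU p) (hp1 : p ≠ 1) : ∃ q, CU q ∧ g * g = ι q := by
  have m2 := m.mul m hp
  rw [CU_sq p hp] at m2
  have hx : g * g * x = x * (g * g) := by
    have := m2.x
    rw [map_one, mul_one] at this
    exact mul_inv_eq_iff_eq_mul.1 this
  obtain ⟨q, hq, e | e⟩ := cent_U h m2 hx
  · exact ⟨q, hq, e⟩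
  · exfalso
    apply hp1
    have h1 : g * (x * ι q) * g⁻¹ = x * ι q := by
      rw [← e]; group
    have h2 : g * (x * ι q) * g⁻¹ = x * ι p * ι q := by
      calc g * (x * ι q) * g⁻¹ = g * x * g⁻¹ * (g * ι q * g⁻¹) := by group
        _ = x * ι p * ι q := by rw [m.x, m.comm hq, mul_inv_cancel_right]
    rw [h1, mul_assoc] at h2
    have h3 : ι q = ι p * ι q := mul_left_cancel h2
    have h4 : ι p = 1 := mul_right_cancel ((one_mul (ι q)).trans h3).symm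
    exact h.one_iff.1 h4

/-! ### conjugation by `c` -/

theorem iccc : ι pc * ι pc * ι pc = 1 := by rw [← map_mul, ← map_mul, ccc, map_one]

/-- `c q c⁻¹` -/
theorem ic (q : Perm (Fin 6)) : ι pc * ι q * (ι pc)⁻¹ = ι (pc * q * pc⁻¹) := by
  rw [map_mul, map_mul, map_inv]

theorem mv_c {g : G} {p : Perm (Fin 6)} (m : Mv x ι g p) :
    Mv x ι (ι pc * g * (ι pc)⁻¹) (pc * p * pc⁻¹) := by
  have key : ∀ q, CU q → ι pc * g * (ι pc)⁻¹ * ι q = ι q * (ι pc * g * (ι pc)⁻¹) := by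
    intro q hq
    have h1 := m.comm (CU_c' q hq)
    have h2 : (ι pc)⁻¹ * ι q * ι pc = ι (pc⁻¹ * q * pc) := by rw [map_mul, map_mul, map_inv]
    calc ι pc * g * (ι pc)⁻¹ * ι q = ι pc * (g * ((ι pc)⁻¹ * ι q * ι pc)) * (ι pc)⁻¹ := by group
      _ = ι pc * (((ι pc)⁻¹ * ι q * ι pc) * g) * (ι pc)⁻¹ := by rw [h2, h1]
      _ = _ := by group
  refine ⟨key _ CU_f, key _ CU_z, key _ CU_v1, ?_⟩
  have hx : (ι pc)⁻¹ * x * ι pc = x := by rw [mul_assoc, h.comm, inv_mul_cancel_left]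
  have hx' : ι pc * x * (ι pc)⁻¹ = x := by rw [← h.comm, mul_inv_cancel_right]
  calc ι pc * g * (ι pc)⁻¹ * x * (ι pc * g * (ι pc)⁻¹)⁻¹
      = ι pc * (g * ((ι pc)⁻¹ * x * ι pc) * g⁻¹) * (ι pc)⁻¹ := by group
    _ = ι pc * x * (ι pc)⁻¹ * (ι pc * ι p * (ι pc)⁻¹) := by rw [hx, m.x]; group
    _ = x * ι (pc * p * pc⁻¹) := by rw [hx', ic h]

/-- two elements with the same action on `x` -/
theorem mv_quot {g g' : G} {p : Perm (Fin 6)} (m : Mv x ι g p) (m' : Mv x ι g' p) :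
    ∃ q, CU q ∧ (g' = g * ι q ∨ g' = g * (x * ι q)) := by
  have hx : g⁻¹ * g' * x = x * (g⁻¹ * g') := by
    have h1 : g' * x * g'⁻¹ = g * x * g⁻¹ := by rw [m.x, m'.x]
    calc g⁻¹ * g' * x = g⁻¹ * (g' * x * g'⁻¹) * g' := by group
      _ = g⁻¹ * (g * x * g⁻¹) * g' := by rw [h1]
      _ = x * (g⁻¹ * g') := by group
  have hc : ∀ q, CU q → g⁻¹ * g' * ι q = ι q * (g⁻¹ * g') := by
    intro q hq
    have a1 := m.comm hq
    have a2 := m'.comm hq
    calc g⁻¹ * g' * ι q = g⁻¹ * (g' * ι q) := by group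
      _ = g⁻¹ * (ι q * g') := by rw [a2]
      _ = g⁻¹ * (ι q * g) * g⁻¹ * g' := by group
      _ = g⁻¹ * (g * ι q) * g⁻¹ * g' := by rw [a1]
      _ = ι q * (g⁻¹ * g') := by group
  have m3 : Mv x ι (g⁻¹ * g') 1 := ⟨hc _ CU_f, hc _ CU_z, hc _ CU_v1, by
    rw [hx, mul_inv_cancel_right, map_one, mul_one]⟩
  obtain ⟨q, hq, e | e⟩ := cent_U h m3 hx
  · exact ⟨q, hq, Or.inl (by rw [← e, mul_inv_cancel_left])⟩
  · exact ⟨q, hq, Or.inr (by rw [← e, mul_inv_cancel_left])⟩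

/-- `b₁`: commutes with `c` -/
theorem exists_b1 (hf : ∃ g, Mv x ι g pf) : ∃ g, Mv x ι g pf ∧ g * ι pc = ι pc * g := by
  obtain ⟨g, m⟩ := hf
  have m1 := mv_c h m
  rw [cf, mul_inv_cancel_right] at m1
  obtain ⟨q, hq, e⟩ := mv_quot h m m1
  have hx' : ι pc * x * (ι pc)⁻¹ = x := by rw [← h.comm, mul_inv_cancel_right]
  -- apply `c` three times
  obtain ⟨C, hC⟩ : ∃ C : G →* G, ∀ a, C a = ι pc * a * (ι pc)⁻¹ :=
    ⟨(MulAut.conj (ι pc)).toMonoidHom, fun a => rfl⟩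
  have h3 : C (C (C g)) = g := by
    rw [hC, hC, hC]
    calc ι pc * (ι pc * (ι pc * g * (ι pc)⁻¹) * (ι pc)⁻¹) * (ι pc)⁻¹
        = ι pc * ι pc * ι pc * g * (ι pc * ι pc * ι pc)⁻¹ := by group
      _ = g := by rw [iccc h]; group
  have hCι : ∀ q, C (ι q) = ι (pc * q * pc⁻¹) := fun q => (hC _).trans (ic h q)
  have hCx : C x = x := (hC _).trans hx'
  have avg : C g = g * ι q ∧ q * (pc * q * pc⁻¹) * (pc * (pc * q * pc⁻¹) * pc⁻¹) = 1 := by
    rw [← hC] at e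
    rcases e with e | e
    · refine ⟨e, ?_⟩
      have h4 : g = g * ι (q * (pc * q * pc⁻¹) * (pc * (pc * q * pc⁻¹) * pc⁻¹)) := by
        have h5 := h3
        rw [e, map_mul C, e, hCι, map_mul C, map_mul C, e, hCι, hCι] at h5
        rw [map_mul, map_mul]
        nth_rw 1 [← h5]
        simp only [mul_assoc]
      exact h.one_iff.1 (mul_left_cancel (h4.symm.trans (mul_one g).symm))
    · exfalso
      have h4 : g = g * (x * ι (q * (pc * q * pc⁻¹) * (pc * (pc * q * pc⁻¹) * pc⁻¹))) := by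
        have h5 := h3
        rw [e, map_mul C, e, map_mul C x, hCx, hCι, map_mul C, map_mul C, e, map_mul C x, hCx, hCι, map_mul C x, hCx,
          hCι] at h5
        have h6 := h.comm q
        have h7 := h.comm (pc * q * pc⁻¹)
        rw [map_mul, map_mul]
        nth_rw 1 [← h5]
        calc g * (x * ι q) * (x * ι (pc * q * pc⁻¹)) * (x * ι (pc * (pc * q * pc⁻¹) * pc⁻¹))
            = g * x * (ι q * x) * (ι (pc * q * pc⁻¹) * x) * ι (pc * (pc * q * pc⁻¹) * pc⁻¹) := by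
              simp only [mul_assoc]
          _ = g * x * (x * ι q) * (x * ι (pc * q * pc⁻¹)) * ι (pc * (pc * q * pc⁻¹) * pc⁻¹) := by
              rw [h6, h7]
          _ = g * (x * x) * (ι q * x) * (ι (pc * q * pc⁻¹)) * ι (pc * (pc * q * pc⁻¹) * pc⁻¹) := by
              simp only [mul_assoc]
          _ = g * (x * ι q) * (ι (pc * q * pc⁻¹)) * ι (pc * (pc * q * pc⁻¹) * pc⁻¹) := by
              rw [h.xx, mul_one, ← h6]
          _ = _ := by simp only [mul_assoc]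
      have h5 : x * ι (q * (pc * q * pc⁻¹) * (pc * (pc * q * pc⁻¹) * pc⁻¹)) = 1 :=
        mul_left_cancel (h4.symm.trans (mul_one g).symm)
      apply h.ne ((q * (pc * q * pc⁻¹) * (pc * (pc * q * pc⁻¹) * pc⁻¹))⁻¹)
      rw [map_inv]
      exact (mul_eq_one_iff_eq_inv.1 h5).symm
  obtain ⟨e1, e2⟩ := avg
  have e3 := CU_avg q hq e2
  have hy := CU_c q hq
  refine ⟨g * ι (pc * q * pc⁻¹), ?_, ?_⟩
  · have := m.mul (mv_ι h hy) CU_one
    rwa [mul_one] at this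
  · have h5 : C (g * ι (pc * q * pc⁻¹)) = g * ι (pc * q * pc⁻¹) := by
      rw [map_mul C, e1, hCι, mul_assoc, ← map_mul, e3]
    rw [hC] at h5
    exact (mul_inv_eq_iff_eq_mul.1 h5).symm

/-- **`b`**: an involution commuting with `c` -/
theorem exists_b (hf : ∃ g, Mv x ι g pf) : ∃ b, Mv x ι b pf ∧ b * ι pc = ι pc * b ∧ b * b = 1 := by
  obtain ⟨g, m, hc⟩ := exists_b1 h hf
  obtain ⟨q, hq, e⟩ := sq h m CU_f f_ne
  have h1 : q * pc = pc * q := by
    apply h.comm_ι.1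
    rw [← e]
    exact (comm_mul hc.symm hc.symm).symm
  rcases CU_cent_c q hq h1 with h2 | h2
  · exact ⟨g, m, hc, by rw [e, h2, map_one]⟩
  · refine ⟨x * g, ?_, ?_, ?_⟩
    · have := (mv_x h).mul m CU_f
      rwa [one_mul] at this
    · rw [mul_assoc, hc, ← mul_assoc, h.comm, mul_assoc]
    · calc x * g * (x * g) = x * (g * x * g⁻¹) * (g * g) := by group
        _ = x * x * (ι pf * ι pf) := by rw [m.x, e, h2]; group
        _ = 1 := by rw [h.xx, ← map_mul, ff, map_one, mul_one]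

/-! ### the element `v₂` -/

omit h in
theorem cent_v2 : ∀ q : Perm (Fin 6), q * pz = pz * q → q * pf = pf * q →
    q * pv2 * q⁻¹ = pv2 ∨ q * pv2 * q⁻¹ = pv2 * pz := by decide +kernel

/-- `q ∈ l = ⟨z, f⟩` -/
def CL (q : Perm (Fin 6)) : Prop := CU q ∧ q * pv2 = pv2 * q

omit h in
theorem CL_eq {q : Perm (Fin 6)} (hq : CL q) : q = 1 ∨ q = pz ∨ q = pf ∨ q = pf * pz := by
  have : ∀ q : Perm (Fin 6), CU q → q * pv2 = pv2 * q → q = 1 ∨ q = pz ∨ q = pf ∨ q = pf * pz := by decide +kernel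
  exact this q hq.1 hq.2

/-- `g⁻¹ v₂ g ∈ v₂ ⟨z⟩` -/
theorem v2_of {g g' : G} (hz : g * ι pz = ι pz * g) (hf : g * ι pf = ι pf * g)
    (hz' : g' * ι pz = ι pz * g') (hf' : g' * ι pf = ι pf * g') (hv' : g' * ι pv2 = ι pv2 * g')
    (hx : g' * x * g'⁻¹ = g * x * g⁻¹) : g⁻¹ * ι pv2 * g = ι pv2 ∨ g⁻¹ * ι pv2 * g = ι pv2 * ι pz := by
  have hq : ∀ a : G, g * a = a * g → g' * a = a * g' → g⁻¹ * g' * a = a * (g⁻¹ * g') := by
    intro a a1 a2
    have h1 : Commute g a := a1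
    have h2 : Commute g' a := a2
    exact (h1.inv_left.mul_left h2).eq
  have h1 : g⁻¹ * g' * x = x * (g⁻¹ * g') := by
    calc g⁻¹ * g' * x = g⁻¹ * (g' * x * g'⁻¹) * g' := by group
      _ = g⁻¹ * (g * x * g⁻¹) * g' := by rw [hx]
      _ = x * (g⁻¹ * g') := by group
  obtain ⟨q, q1, q2, e⟩ := cent_l h h1 (hq _ hz hz') (hq _ hf hf')
  have h2 : g⁻¹ * g' * ι pv2 * (g⁻¹ * g')⁻¹ = ι (q * pv2 * q⁻¹) := by
    rw [map_mul, map_mul, map_inv]
    rcases e with e | e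
    · rw [e]
    · rw [e]
      have h3 : x * (ι q * ι pv2 * (ι q)⁻¹) * x⁻¹ = ι q * ι pv2 * (ι q)⁻¹ := by
        rw [← map_inv, ← map_mul, ← map_mul, h.comm, mul_inv_cancel_right]
      calc x * ι q * ι pv2 * (x * ι q)⁻¹ = x * (ι q * ι pv2 * (ι q)⁻¹) * x⁻¹ := by group
        _ = _ := h3
  have h4 : g⁻¹ * g' * ι pv2 * (g⁻¹ * g')⁻¹ = g⁻¹ * ι pv2 * g := by
    calc g⁻¹ * g' * ι pv2 * (g⁻¹ * g')⁻¹ = g⁻¹ * (g' * ι pv2) * g'⁻¹ * g := by group
      _ = g⁻¹ * ι pv2 * g := by rw [hv']; group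
  rw [← h4, h2]
  rcases cent_v2 q q1 q2 with h5 | h5
  · left; rw [h5]
  · right; rw [h5, map_mul]

/-- conjugation with `r` -/
theorem r_conj (q : Perm (Fin 6)) : r * ι q * r⁻¹ = ι (θ q) := h.conj q

theorem r_comm {g : G} {q : Perm (Fin 6)} (hg : g * ι q = ι q * g) :
    r * g * r⁻¹ * ι (θ q) = ι (θ q) * (r * g * r⁻¹) := by
  rw [← h.conj]
  calc r * g * r⁻¹ * (r * ι q * r⁻¹) = r * (g * ι q) * r⁻¹ := by group
    _ = r * (ι q * g) * r⁻¹ := by rw [hg]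
    _ = r * ι q * r⁻¹ * (r * g * r⁻¹) := by group

theorem r_x {g : G} {p : Perm (Fin 6)} (hg : g * x * g⁻¹ = x * ι p) :
    r * g * r⁻¹ * x * (r * g * r⁻¹)⁻¹ = x * ι (θ p) := by
  have h1 : r⁻¹ * x * r = x := by rw [mul_assoc, ← h.rx, inv_mul_cancel_left]
  have h2 : r * x * r⁻¹ = x := by rw [h.rx, mul_inv_cancel_right]
  calc r * g * r⁻¹ * x * (r * g * r⁻¹)⁻¹ = r * (g * (r⁻¹ * x * r) * g⁻¹) * r⁻¹ := by group
    _ = r * (x * ι p) * r⁻¹ := by rw [h1, hg]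
    _ = r * x * r⁻¹ * (r * ι p * r⁻¹) := by group
    _ = x * ι (θ p) := by rw [h2, h.conj]

/-- `f` from `fz` and `z` -/
theorem comm_f {g : G} (h1 : g * ι (pf * pz) = ι (pf * pz) * g) (h2 : g * ι pz = ι pz * g) :
    g * ι pf = ι pf * g := by
  have h3 : ι pf = ι (pf * pz) * ι pz := by rw [← map_mul, mul_assoc, zz, mul_one]
  rw [h3]
  exact comm_mul h1 h2

/-- **`s₁`**: centralises `f, z, v₁, v₂`, and `x ↦ x z` -/
theorem exists_s1 (hz : ∃ g, Mv x ι g pz) : ∃ s, Mv x ι s pz ∧ s * ι pv2 = ι pv2 * s := by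
  obtain ⟨g, m⟩ := hz
  have c1 := r_comm h m.z
  rw [θ_z] at c1
  have c2 := r_comm h m.f
  rw [θ_f] at c2
  have c3 := r_comm h m.v1
  rw [θ_v1] at c3
  have c4 := r_x h m.x
  rw [θ_z, ← m.x] at c4
  rcases v2_of h m.z m.f c1 (comm_f h c2 c1) c3 c4 with e | e
  · refine ⟨g, m, ?_⟩
    calc g * ι pv2 = g * (g⁻¹ * ι pv2 * g) := by rw [e]
      _ = ι pv2 * g := by group
  · refine ⟨g * ι pv1, ?_, ?_⟩
    · have := m.mul (mv_ι h CU_v1) CU_one
      rwa [mul_one] at this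
    · have h1 : ι pv2 * g = g * (ι pv2 * ι pz) := by rw [← e]; group
      have h2 : pv1 * pv2 = pv2 * pz * pv1 := by rw [v12, mul_assoc, ← zv1, ← mul_assoc]
      rw [mul_assoc, ← map_mul, h2, map_mul, map_mul, ← mul_assoc, ← h1, mul_assoc]

/-- **`b` commutes with `v₂`** -/
theorem b_v2 {s b : G} (ms : Mv x ι s pz) (hs : s * ι pv2 = ι pv2 * s) (mb : Mv x ι b pf)
    (hc : b * ι pc = ι pc * b) : b * ι pv2 = ι pv2 * b := by
  have c1 := r_comm h mb.z
  rw [θ_z] at c1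
  have c2 := r_comm h mb.f
  rw [θ_f] at c2
  have c3 := r_comm h mb.v1
  rw [θ_v1] at c3
  have c4 := r_x h mb.x
  have m2 := mb.mul ms CU_z
  rw [θ_f, ← m2.x] at c4
  have key : b⁻¹ * ι pv2 * b = ι pv2 ∨ b⁻¹ * ι pv2 * b = ι pv2 * ι pz := by
    have h1 : (b * s)⁻¹ * ι pv2 * (b * s) = s⁻¹ * (b⁻¹ * ι pv2 * b) * s := by group
    have h2 : ∀ a, s⁻¹ * (b⁻¹ * ι pv2 * b) * s = a → s * a = a * s → b⁻¹ * ι pv2 * b = a := by
      intro a ha hsa
      calc b⁻¹ * ι pv2 * b = s * (s⁻¹ * (b⁻¹ * ι pv2 * b) * s) * s⁻¹ := by group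
        _ = a := by rw [ha, hsa, mul_inv_cancel_right]
    rcases v2_of h m2.z m2.f c1 (comm_f h c2 c1) c3 c4 with e | e
    · left; exact h2 _ (h1.symm.trans e) hs
    · right; exact h2 _ (h1.symm.trans e) (comm_mul hs ms.z)
  rcases key with e | e
  · calc b * ι pv2 = b * (b⁻¹ * ι pv2 * b) := by rw [e]
      _ = ι pv2 * b := by group
  · exfalso
    apply cz_ne
    apply h.inj
    have h1 : ι pv2 * ι pc * ι pv2 = (ι pc)⁻¹ := by rw [← map_mul, ← map_mul, v2c, map_inv]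
    have h2 : b⁻¹ * ι pc * b = ι pc := by rw [mul_assoc, ← hc, inv_mul_cancel_left]
    have h2' : b⁻¹ * (ι pc)⁻¹ * b = (ι pc)⁻¹ := by
      calc b⁻¹ * (ι pc)⁻¹ * b = (b⁻¹ * ι pc * b)⁻¹ := by group
        _ = (ι pc)⁻¹ := by rw [h2]
    have h3 : ι pv2 * ι pz * ι pc * (ι pv2 * ι pz) = (ι pc)⁻¹ := by
      rw [← e]
      calc b⁻¹ * ι pv2 * b * ι pc * (b⁻¹ * ι pv2 * b) = b⁻¹ * ι pv2 * (b * ι pc * b⁻¹) * ι pv2 * b := by group
        _ = b⁻¹ * (ι pv2 * ι pc * ι pv2) * b := by rw [hc, mul_inv_cancel_right]; group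
        _ = (ι pc)⁻¹ := by rw [h1, h2']
    rw [← h1, ← map_mul, ← map_mul, ← map_mul, ← map_mul, ← map_mul] at h3
    have h4 := h.inj h3
    have h5 : pv2 * (pz * pc * pz) * pv2 = pv2 * pc * pv2 := by
      calc pv2 * (pz * pc * pz) * pv2 = pv2 * pz * pc * (pz * pv2) := by simp only [mul_assoc]
        _ = pv2 * pc * pv2 := by rw [zv2, h4]
    have h6 : pz * pc * pz = pc := mul_left_cancel (mul_right_cancel h5)
    rw [h6]

/-! ### squares, and the symmetry `r` -/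

/-- `g` centralises `⟨f, z, v₁, v₂⟩` and `g x g⁻¹ = x ι(p)` -/
structure Mw (x : G) (ι : Perm (Fin 6) →* G) (g : G) (p : Perm (Fin 6)) : Prop extends Mv x ι g p where
  v2 : g * ι pv2 = ι pv2 * g

omit h in
theorem Mw.mul {g g' : G} {p p' : Perm (Fin 6)} (m : Mw x ι g p) (m' : Mw x ι g' p') (hp' : CU p') :
    Mw x ι (g * g') (p * p') where
  toMv := m.toMv.mul m'.toMv hp'
  v2 := by rw [mul_assoc, m'.v2, ← mul_assoc, m.v2, mul_assoc]

theorem mw_x : Mw x ι x 1 := ⟨mv_x h, h.comm _⟩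

theorem mw_ι {q : Perm (Fin 6)} (hq : CL q) : Mw x ι (ι q) 1 :=
  ⟨mv_ι h hq.1, by rw [← map_mul, hq.2, map_mul]⟩

/-- squares of elements moving `x` are in `l` -/
theorem sq_w {g : G} {p : Perm (Fin 6)} (m : Mw x ι g p) (hp : CU p) (hp1 : p ≠ 1) : ∃ q, CL q ∧ g * g = ι q := by
  obtain ⟨q, hq, e⟩ := sq h m.toMv hp hp1
  refine ⟨q, ⟨hq, ?_⟩, e⟩
  apply h.comm_ι.1
  rw [← e]
  exact (comm_mul m.v2.symm m.v2.symm).symm

/-- two elements with the same action on `x` -/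
theorem mw_quot {g g' : G} {p : Perm (Fin 6)} (m : Mw x ι g p) (m' : Mw x ι g' p) :
    ∃ q, CL q ∧ (g' = g * ι q ∨ g' = g * (x * ι q)) := by
  obtain ⟨q, hq, e⟩ := mv_quot h m.toMv m'.toMv
  refine ⟨q, ⟨hq, ?_⟩, e⟩
  have h1 : g⁻¹ * g' * ι pv2 = ι pv2 * (g⁻¹ * g') := by
    have h1 : Commute g (ι pv2) := m.v2
    have h2 : Commute g' (ι pv2) := m'.v2
    exact (h1.inv_left.mul_left h2).eq
  rcases e with e | e
  · have h2 : g⁻¹ * g' = ι q := by rw [e, inv_mul_cancel_left]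
    rw [h2] at h1
    exact h.comm_ι.1 h1
  · have h2 : g⁻¹ * g' = x * ι q := by rw [e, inv_mul_cancel_left]
    rw [h2] at h1
    have h3 : x * (ι q * ι pv2) = x * (ι pv2 * ι q) := by
      calc x * (ι q * ι pv2) = x * ι q * ι pv2 := by group
        _ = ι pv2 * (x * ι q) := h1
        _ = ι pv2 * x * ι q := by group
        _ = x * ι pv2 * ι q := by rw [h.comm]
        _ = _ := by group
    exact h.comm_ι.1 (mul_left_cancel h3)

/-- `r`-conjugates -/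
theorem mw_r {g : G} {p : Perm (Fin 6)} (m : Mw x ι g p) : Mw x ι (r * g * r⁻¹) (θ p) := by
  have c1 := r_comm h m.z
  rw [θ_z] at c1
  have c2 := r_comm h m.f
  rw [θ_f] at c2
  have c3 := r_comm h m.v1
  rw [θ_v1] at c3
  have c4 := r_comm h m.v2
  rw [θ_v2] at c4
  exact ⟨⟨comm_f h c2 c1, c1, c4, r_x h m.x⟩, c3⟩

/-- the two cases of the normal form -/
structure Nrm (x r : G) (ι : Perm (Fin 6) →* G) (s b : G) : Prop where
  ms : Mw x ι s pz
  mb : Mw x ι b pf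
  bc : b * ι pc = ι pc * b
  ss : s * s = 1
  bb : b * b = 1
  rs : ∃ q, CL q ∧ r * s * r⁻¹ = s * ι q
  e : (s * b * s⁻¹ = b ∧ ∃ q, CL q ∧ r * b * r⁻¹ = b * s * ι q) ∨
    (s * b * s⁻¹ = b * ι (pf * pz) ∧ ∃ q, CL q ∧ r * b * r⁻¹ = b * s * (x * ι q))

theorem exists_nrm (hz : ∃ g, Mv x ι g pz) (hf : ∃ g, Mv x ι g pf) : ∃ s b, Nrm x r ι s b := by
  obtain ⟨s₀, ms₀, hs₀⟩ := exists_s1 h hz
  obtain ⟨b, mb, bc, bb⟩ := exists_b h hf
  have hb2 := b_v2 h ms₀ hs₀ mb bc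
  have mwb : Mw x ι b pf := ⟨mb, hb2⟩
  have mws₀ : Mw x ι s₀ pz := ⟨ms₀, hs₀⟩
  -- `s² ∈ {1, f}`
  obtain ⟨s, ms, hs⟩ : ∃ s, Mw x ι s pz ∧ (s * s = 1 ∨ s * s = ι pf) := by
    obtain ⟨q, hq, e⟩ := sq_w h mws₀ CU_z z_ne
    have e2 : x * s₀ * (x * s₀) = ι pz * (s₀ * s₀) := by
      calc x * s₀ * (x * s₀) = x * (s₀ * x * s₀⁻¹) * (s₀ * s₀) := by group
        _ = x * x * ι pz * (s₀ * s₀) := by rw [ms₀.x]; group
        _ = _ := by rw [h.xx, one_mul]
    have m2 : Mw x ι (x * s₀) pz := by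
      have := (mw_x h).mul mws₀ CU_z
      rwa [one_mul] at this
    rcases CL_eq hq with rfl | rfl | rfl | rfl
    · exact ⟨s₀, mws₀, Or.inl (by rw [e, map_one])⟩
    · exact ⟨x * s₀, m2, Or.inl (by rw [e2, e, ← map_mul, zz, map_one])⟩
    · exact ⟨s₀, mws₀, Or.inr e⟩
    · exact ⟨x * s₀, m2, Or.inr (by rw [e2, e, ← map_mul, fz, ← mul_assoc, zz, one_mul])⟩
  -- `[s, b] ∈ l`
  obtain ⟨s2, hs2, es⟩ : ∃ s2, (s2 = 1 ∨ s2 = pf) ∧ s * s = ι s2 := by
    rcases hs with e | e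
    · exact ⟨1, Or.inl rfl, by rw [e, map_one]⟩
    · exact ⟨pf, Or.inr rfl, e⟩
  have s22 : s2 * s2 = 1 := by
    rcases hs2 with rfl | rfl
    · rw [one_mul]
    · exact ff
  have hbs : Mw x ι (b * s) (pf * pz) := mwb.mul ms CU_z
  have fz_ne : pf * pz ≠ 1 := by decide +kernel
  have CL_mul : ∀ {p q : Perm (Fin 6)}, CL p → CL q → CL (p * q) := fun hp hq =>
    ⟨CU_mul hp.1 hq.1, by rw [mul_assoc, hq.2, ← mul_assoc, hp.2, mul_assoc]⟩
  have CLs2 : CL s2 := by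
    rcases hs2 with rfl | rfl
    · exact ⟨CU_one, by rw [one_mul, mul_one]⟩
    · exact ⟨CU_f, fv2⟩
  have CLf : CL pf := ⟨CU_f, fv2⟩
  have CLz : CL pz := ⟨CU_z, zv2⟩
  have lcomm : ∀ {q : Perm (Fin 6)}, CL q → ∀ {g : G} {p : Perm (Fin 6)}, Mw x ι g p → g * ι q = ι q * g :=
    fun hq _ _ m => m.toMv.comm hq.1
  obtain ⟨μ, hμ, eμ⟩ : ∃ μ, CL μ ∧ s * b * s⁻¹ = b * ι μ := by
    obtain ⟨q, hq, e⟩ := sq_w h hbs (CU_mul CU_f CU_z) fz_ne
    refine ⟨q * s2, CL_mul hq CLs2, ?_⟩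
    have e1 : b * (s * b * s⁻¹) * (s * s) = ι q := by rw [← e]; group
    have e2 : s * b * s⁻¹ = b * (b * (s * b * s⁻¹)) := by rw [← mul_assoc, bb, one_mul]
    have e3 : b * (s * b * s⁻¹) = ι q * ι s2 := by
      rw [← e1, es, mul_assoc (b * (s * b * s⁻¹)), ← map_mul, s22, map_one, mul_one]
    rw [e2, e3, ← map_mul]
  -- conjugation by `x`
  have hxi := h.x_inv
  have cxb : x * b * x⁻¹ = b * ι pf := by
    rw [hxi]
    have h1 : b * x = x * ι pf * b := mul_inv_eq_iff_eq_mul.1 mb.x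
    rw [mul_assoc, h1, ← mul_assoc, ← mul_assoc, h.xx, one_mul, mb.f]
  have cxs : x * s * x⁻¹ = s * ι pz := by
    rw [hxi]
    have h1 : s * x = x * ι pz * s := mul_inv_eq_iff_eq_mul.1 ms.x
    rw [mul_assoc, h1, ← mul_assoc, ← mul_assoc, h.xx, one_mul, ms.z]
  have cxq : ∀ q, x * ι q * x⁻¹ = ι q := fun q => by rw [h.comm, mul_inv_cancel_right]
  have csx : s * x * s⁻¹ = x * ι pz := ms.x
  have css : s * s * s⁻¹ = s := by rw [mul_inv_cancel_right]
  have csq : ∀ {q}, CL q → s * ι q * s⁻¹ = ι q := fun hq => by rw [lcomm hq ms, mul_inv_cancel_right]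
  -- squares
  have hr2 : ∀ g : G, r * g * r⁻¹ * (r * g * r⁻¹) = r * (g * g) * r⁻¹ := fun g => by group
  have mrs := mw_r h ms
  rw [θ_z] at mrs
  have mrb := mw_r h mwb
  rw [θ_f] at mrb
  obtain ⟨q₁, hq₁, er₁⟩ := mw_quot h ms mrs
  obtain ⟨q₂, hq₂, er₂⟩ := mw_quot h hbs mrb
  have A := hr2 s
  rw [es, h.conj] at A
  have B := hr2 b
  rw [bb, mul_one, mul_inv_cancel] at B
  have hbs2 : b * s * (b * s) = ι (μ * s2) := by
    calc b * s * (b * s) = b * (s * b * s⁻¹) * (s * s) := by group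
      _ = b * b * ι μ * ι s2 := by rw [eμ, es]; group
      _ = _ := by rw [bb, one_mul, map_mul]
  have sq1 : ∀ {g q}, CL q → g * ι q = ι q * g → g * ι q * (g * ι q) = g * g := by
    intro g q hq hg
    have h1 : ι q * ι q = 1 := by rw [← map_mul, CU_sq q hq.1, map_one]
    calc g * ι q * (g * ι q) = g * (ι q * g) * ι q := by group
      _ = g * (g * ι q) * ι q := by rw [hg]
      _ = g * g * (ι q * ι q) := by group
      _ = g * g := by rw [h1, mul_one]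
  have xsq : ∀ {g : G} {p : Perm (Fin 6)}, Mw x ι g p → CU p → g * x * (g * x) = ι p * (g * g) := by
    intro g p m hp
    have h1 : g * x = x * ι p * g := mul_inv_eq_iff_eq_mul.1 m.x
    calc g * x * (g * x) = g * x * (x * ι p * g) := congrArg (g * x * ·) h1
      _ = g * (x * x) * ι p * g := by group
      _ = ι p * (g * g) := by rw [h.xx, mul_one, m.toMv.comm hp, mul_assoc]
  have xι : ∀ q, x * ι q = ι q * x := h.comm
  have CUfz : CU (pf * pz) := CU_mul CU_f CU_z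
  have comm_mul' : ∀ {g a b : G}, a * g = g * a → b * g = g * b → a * b * g = g * (a * b) := by
    intro g a b h1 h2
    rw [mul_assoc, h2, ← mul_assoc, h1, mul_assoc]
  -- `(g x q)² = ι(p) g²`
  have sq2 : ∀ {g : G} {p q : Perm (Fin 6)}, Mw x ι g p → CU p → CL q →
      g * (x * ι q) * (g * (x * ι q)) = ι p * (g * g) := by
    intro g p q m hp hq
    have e0 : g * (x * ι q) = g * x * ι q := (mul_assoc _ _ _).symm
    rw [e0, sq1 hq, xsq m hp]
    exact comm_mul' (lcomm hq m) (xι q)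
  refine ⟨s, b, ?_⟩
  rcases er₁ with er₁ | er₁
  · -- `s² = 1`
    rw [er₁, sq1 hq₁ (lcomm hq₁ ms), es] at A
    have hA := h.inj A
    have h1 : s2 = 1 := by
      rcases hs2 with e | e
      · exact e
      · exfalso
        rw [e, θ_f] at hA
        exact z_ne (mul_left_cancel ((mul_one pf).trans hA)).symm
    rw [h1, map_one] at es
    rw [h1, mul_one] at hbs2
    rcases er₂ with er₂ | er₂
    · rw [er₂, sq1 hq₂ (lcomm hq₂ hbs), hbs2] at B
      have hμ1 := h.one_iff.1 B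
      exact ⟨ms, mwb, bc, es, bb, ⟨q₁, hq₁, er₁⟩, Or.inl ⟨by rw [eμ, hμ1, map_one, mul_one], q₂, hq₂, er₂⟩⟩
    · rw [er₂, sq2 hbs CUfz hq₂, hbs2, ← map_mul] at B
      have hB := h.one_iff.1 B
      have hμ1 : μ = pf * pz := by
        have h2 : pf * pz * (pf * pz) = 1 := by decide +kernel
        exact mul_left_cancel (hB.trans h2.symm)
      exact ⟨ms, mwb, bc, es, bb, ⟨q₁, hq₁, er₁⟩, Or.inr ⟨by rw [eμ, hμ1], q₂, hq₂, er₂⟩⟩
  · exfalso
    rw [er₁, sq2 ms CU_z hq₁, es, ← map_mul] at A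
    have hA := h.inj A
    have h1 : s2 = pf := by
      rcases hs2 with e | e
      · exfalso
        rw [e, map_one, mul_one] at hA
        exact z_ne hA
      · exact e
    rw [h1] at hbs2
    -- conjugation by `s x q₁`
    have C : r * s * r⁻¹ * (r * b * r⁻¹) * (r * s * r⁻¹)⁻¹ = r * b * r⁻¹ * ι (θ μ) := by
      rw [← h.conj]
      calc r * s * r⁻¹ * (r * b * r⁻¹) * (r * s * r⁻¹)⁻¹ = r * (s * b * s⁻¹) * r⁻¹ := by group
        _ = _ := by rw [eμ]; group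
    have cq₁ : ∀ {g : G} {p : Perm (Fin 6)}, Mw x ι g p → ι q₁ * g * (ι q₁)⁻¹ = g := fun m => by
      rw [← lcomm hq₁ m, mul_inv_cancel_right]
    have hcj : ∀ g, s * (x * ι q₁) * g * (s * (x * ι q₁))⁻¹ = s * (x * (ι q₁ * g * (ι q₁)⁻¹) * x⁻¹) * s⁻¹ :=
      fun g => by group
    have cxbs : x * (b * s) * x⁻¹ = b * s * ι (pf * pz) := by
      calc x * (b * s) * x⁻¹ = x * b * x⁻¹ * (x * s * x⁻¹) := by group
        _ = b * (ι pf * s) * ι pz := by rw [cxb, cxs]; group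
        _ = b * s * ι (pf * pz) := by rw [← ms.f, map_mul]; group
    have csbs : s * (b * s) * s⁻¹ = b * s * ι μ := by
      calc s * (b * s) * s⁻¹ = s * b * s⁻¹ * s := by group
        _ = b * s * ι μ := by rw [eμ, mul_assoc, ← lcomm hμ ms, mul_assoc]
    rcases er₂ with er₂ | er₂
    · rw [er₂, sq1 hq₂ (lcomm hq₂ hbs), hbs2] at B
      have hB := h.one_iff.1 B
      have hμ1 : μ = pf := by
        exact mul_right_cancel (hB.trans ff.symm)
      rw [er₁, er₂, hcj, cq₁ (hbs.mul (mw_ι h hq₂) CU_one)] at C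
      have h5 : s * (x * (b * s * ι q₂) * x⁻¹) * s⁻¹ = b * s * ι μ * ι (pf * pz) * ι q₂ := by
        calc s * (x * (b * s * ι q₂) * x⁻¹) * s⁻¹ = s * (x * (b * s) * x⁻¹ * (x * ι q₂ * x⁻¹)) * s⁻¹ := by group
          _ = s * (b * s) * s⁻¹ * (s * ι (pf * pz) * s⁻¹) * (s * ι q₂ * s⁻¹) := by
            rw [cxbs, cxq]; group
          _ = _ := by rw [csbs, csq (CL_mul CLf CLz), csq hq₂]
      rw [h5, hμ1] at C
      have h6 : b * s * (ι pf * ι (pf * pz) * ι q₂) = b * s * (ι q₂ * ι (θ pf)) := by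
        calc b * s * (ι pf * ι (pf * pz) * ι q₂) = b * s * ι pf * ι (pf * pz) * ι q₂ := by group
          _ = _ := C
          _ = _ := by group
      have h7 := mul_left_cancel h6
      rw [← map_mul, ← map_mul, ← map_mul, θ_f] at h7
      have h8 := h.inj h7
      have h9 : ∀ q, CU q → pf * (pf * pz) * q = q * (pf * pz) → False := by decide +kernel
      exact h9 q₂ hq₂.1 h8
    · rw [er₂, sq2 hbs CUfz hq₂, hbs2, ← map_mul] at B
      have hB := h.one_iff.1 B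
      have hμ1 : μ = pz := by
        have h2 : ∀ q : Perm (Fin 6), CU q → pf * pz * (q * pf) = 1 → q = pz := by decide +kernel
        exact h2 μ hμ.1 hB
      have hbsx : Mw x ι (b * s * x * ι q₂) (pf * pz) := by
        have := (hbs.mul (mw_x h) CU_one).mul (mw_ι h hq₂) CU_one
        rwa [mul_one, mul_one] at this
      rw [er₁, er₂, ← mul_assoc (b * s) x, hcj, cq₁ hbsx] at C
      have h5 : s * (x * (b * s * x * ι q₂) * x⁻¹) * s⁻¹ = b * s * ι μ * ι (pf * pz) * (x * ι pz) * ι q₂ := by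
        calc s * (x * (b * s * x * ι q₂) * x⁻¹) * s⁻¹
            = s * (x * (b * s) * x⁻¹ * x * (x * ι q₂ * x⁻¹)) * s⁻¹ := by group
          _ = s * (b * s) * s⁻¹ * (s * ι (pf * pz) * s⁻¹) * (s * x * s⁻¹) * (s * ι q₂ * s⁻¹) := by
            rw [cxbs, cxq]; group
          _ = _ := by rw [csbs, csq (CL_mul CLf CLz), csx, csq hq₂]
      rw [h5, hμ1, θ_z] at C
      have h6 : b * s * x * (ι pz * ι (pf * pz) * ι pz * ι q₂) = b * s * x * (ι q₂ * ι pz) := by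
        have a1 := xι pz
        have a2 := xι (pf * pz)
        calc b * s * x * (ι pz * ι (pf * pz) * ι pz * ι q₂)
            = b * s * (x * ι pz) * ι (pf * pz) * ι pz * ι q₂ := by group
          _ = b * s * ι pz * (x * ι (pf * pz)) * ι pz * ι q₂ := by rw [a1]; group
          _ = b * s * ι pz * ι (pf * pz) * (x * ι pz) * ι q₂ := by rw [a2]; group
          _ = b * s * x * ι q₂ * ι pz := C
          _ = _ := by group
      have h7 := mul_left_cancel h6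
      rw [← map_mul, ← map_mul, ← map_mul, ← map_mul] at h7
      have h8 := h.inj h7
      have h9 : ∀ q, CU q → pz * (pf * pz) * pz * q = q * pz → False := by decide +kernel
      exact h9 q₂ hq₂.1 h8

end Cfsg.Agent.OddHalf.D5.SixAut.DblNorm
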