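import Cfsg.Agent.OddHalf.D5.SixAut.DblNorm

/-!
# ODD D5, `K = A₆`, `C(x)/⟨x⟩ = Aut(A₆)`, case (DBL), `e = 1`: the instance of `DblOne.Cfg` (helper314)
-/

set_option autoImplicit false
set_option linter.unusedSectionVars false

namespace Cfsg.Agent.OddHalf.D5.SixAut.DblNorm

open Subgroup Equiv

variable {G : Type*} [Group G]

/-- the subgroup generated by two commuting elements -/
def duo (σ τ : G) (h1 : Commute σ τ) : Subgroup G where
  carrier := {g | ∃ i j : ℤ, g = σ ^ i * τ ^ j}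
  one_mem' := ⟨0, 0, by simp⟩
  mul_mem' := by
    rintro _ _ ⟨i, j, rfl⟩ ⟨i', j', rfl⟩
    refine ⟨i + i', j + j', ?_⟩
    rw [zpow_add, zpow_add, mul_assoc, ← mul_assoc (τ ^ j), ← (h1.zpow_zpow i' j).eq]
    simp only [mul_assoc]
  inv_mem' := by
    rintro _ ⟨i, j, rfl⟩
    refine ⟨-i, -j, ?_⟩
    rw [mul_inv_rev, ← zpow_neg, ← zpow_neg, (h1.zpow_zpow (-i) (-j)).eq]

/-- the subgroup generated by three commuting elements -/
def tri (σ τ w : G) (h1 : Commute σ τ) (h2 : Commute σ w) (h3 : Commute τ w) : Subgroup G where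
  carrier := {g | ∃ i j k : ℤ, g = σ ^ i * τ ^ j * w ^ k}
  one_mem' := ⟨0, 0, 0, by simp⟩
  mul_mem' := by
    rintro _ _ ⟨i, j, k, rfl⟩ ⟨i', j', k', rfl⟩
    refine ⟨i + i', j + j', k + k', ?_⟩
    have e1 := (h1.zpow_zpow i' j).eq
    have e2 := (h2.zpow_zpow i' k).eq
    have e3 := (h3.zpow_zpow j' k).eq
    rw [zpow_add, zpow_add, zpow_add]
    calc σ ^ i * τ ^ j * w ^ k * (σ ^ i' * τ ^ j' * w ^ k')
        = σ ^ i * τ ^ j * (w ^ k * σ ^ i') * τ ^ j' * w ^ k' := by simp only [mul_assoc]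
      _ = σ ^ i * (τ ^ j * σ ^ i') * (w ^ k * τ ^ j') * w ^ k' := by rw [← e2]; simp only [mul_assoc]
      _ = _ := by rw [← e1, ← e3]; simp only [mul_assoc]
  inv_mem' := by
    rintro _ ⟨i, j, k, rfl⟩
    refine ⟨-i, -j, -k, ?_⟩
    have e1 := (h1.zpow_zpow (-i) (-j)).eq
    have e2 := (h2.zpow_zpow (-i) (-k)).eq
    have e3 := (h3.zpow_zpow (-j) (-k)).eq
    rw [mul_inv_rev, mul_inv_rev, ← zpow_neg, ← zpow_neg, ← zpow_neg]
    calc w ^ (-k) * (τ ^ (-j) * σ ^ (-i)) = w ^ (-k) * σ ^ (-i) * τ ^ (-j) := by rw [← e1, mul_assoc]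
      _ = σ ^ (-i) * (w ^ (-k) * τ ^ (-j)) := by rw [← e2]; simp only [mul_assoc]
      _ = _ := by rw [← e3]; simp only [mul_assoc]

theorem zpow_cases {a : G} (h : a * a = 1) (i : ℤ) : a ^ i = 1 ∧ Even i ∨ a ^ i = a ∧ Odd i := by
  rcases Int.even_or_odd i with hi | hi
  · left
    obtain ⟨j, rfl⟩ := hi
    refine ⟨?_, ⟨j, rfl⟩⟩
    rw [zpow_add, ← (Commute.refl a).mul_zpow, h, one_zpow]
  · right
    refine ⟨?_, hi⟩
    obtain ⟨j, rfl⟩ := hi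
    rw [zpow_add, zpow_one, two_mul, zpow_add, ← (Commute.refl a).mul_zpow, h, one_zpow, one_mul]

variable {x r : G} {ι : Perm (Fin 6) →* G} {s b : G}

theorem CL_mul {p q : Perm (Fin 6)} (hp : CL p) (hq : CL q) : CL (p * q) :=
  ⟨CU_mul hp.1 hq.1, by rw [mul_assoc, hq.2, ← mul_assoc, hp.2, mul_assoc]⟩

theorem CL_f : CL pf := ⟨CU_f, fv2⟩
theorem CL_z : CL pz := ⟨CU_z, zv2⟩
theorem CL_one : CL 1 := ⟨CU_one, by rw [one_mul, mul_one]⟩

theorem inL {q : Perm (Fin 6)} (hq : CL q) : DblOne.InL (ι pz) (ι pf) (ι q) := by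
  rcases CL_eq hq with rfl | rfl | rfl | rfl
  · left; rw [map_one]
  · right; left; rfl
  · right; right; left; rfl
  · right; right; right; rw [map_mul]

theorem CU_cases : ∀ q, CU q → CL q ∨ CL (pv1 * q) := by
  have : ∀ q : Perm (Fin 6), CU q → q * pv2 = pv2 * q ∨ pv1 * q * pv2 = pv2 * (pv1 * q) := by decide +kernel
  intro q hq
  rcases this q hq with h | h
  · exact Or.inl ⟨hq, h⟩
  · exact Or.inr ⟨CU_mul CU_v1 hq, h⟩

/-- `e = 1` -/
structure NrmOne (x r : G) (ι : Perm (Fin 6) →* G) (s b : G) : Prop extends Nrm x r ι s b where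
  sb : s * b * s⁻¹ = b * ι (pf * pz)
  rb : ∃ q, CL q ∧ r * b * r⁻¹ = b * s * (x * ι q)

section One

variable (h : AutSpl x ι r) (N : NrmOne x r ι s b)
include h N

theorem sx : s * x = x * ι pz * s := mul_inv_eq_iff_eq_mul.1 N.ms.x
theorem bx : b * x = x * ι pf * b := mul_inv_eq_iff_eq_mul.1 N.mb.x

theorem στ : Commute (x * s) (x * b) := by
  show x * s * (x * b) = x * b * (x * s)
  have h1 : s * b = b * ι (pf * pz) * s := mul_inv_eq_iff_eq_mul.1 N.sb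
  calc x * s * (x * b) = x * (s * x) * b := by group
    _ = (x * x) * ι pz * (s * b) := by rw [sx h N]; group
    _ = ι pz * (b * ι (pf * pz)) * s := by rw [h.xx, h1]; group
    _ = ι pz * (ι (pf * pz) * b) * s := by rw [N.mb.toMv.comm (CU_mul CU_f CU_z)]
    _ = ι (pz * (pf * pz)) * b * s := by rw [map_mul ι pz]; group
    _ = ι pf * b * s := by rw [fz, ← mul_assoc, zz, one_mul]
    _ = (x * x) * ι pf * b * s := by rw [h.xx, one_mul]
    _ = x * (b * x) * s := by rw [bx h N]; group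
    _ = _ := by group

theorem σσ : x * s * (x * s) = ι pz := by
  calc x * s * (x * s) = x * (s * x) * s := by group
    _ = (x * x) * ι pz * (s * s) := by rw [sx h N]; group
    _ = ι pz := by rw [h.xx, N.ss, one_mul, mul_one]

theorem ττ : x * b * (x * b) = ι pf := by
  calc x * b * (x * b) = x * (b * x) * b := by group
    _ = (x * x) * ι pf * (b * b) := by rw [bx h N]; group
    _ = ι pf := by rw [h.xx, N.bb, one_mul, mul_one]

theorem mσ : Mw x ι (x * s) pz := by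
  have := (mw_x h).mul N.ms CU_z
  rwa [one_mul] at this

theorem mτ : Mw x ι (x * b) pf := by
  have := (mw_x h).mul N.mb CU_f
  rwa [one_mul] at this

theorem τc : x * b * ι pc = ι pc * (x * b) := by
  rw [mul_assoc, N.bc, ← mul_assoc, h.comm, mul_assoc]

/-- `w = c⁻¹ σ c` -/
theorem mv_c' {g : G} {p : Perm (Fin 6)} (m : Mv x ι g p) : Mv x ι ((ι pc)⁻¹ * g * ι pc) (pc⁻¹ * p * pc) := by
  have m2 := mv_c h (mv_c h m)
  have e1 : ι pc * (ι pc * g * (ι pc)⁻¹) * (ι pc)⁻¹ = (ι pc)⁻¹ * g * ι pc := by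
    have e2 : ι pc * ι pc = (ι pc)⁻¹ := eq_inv_of_mul_eq_one_left (iccc h)
    calc ι pc * (ι pc * g * (ι pc)⁻¹) * (ι pc)⁻¹ = ι pc * ι pc * g * (ι pc * ι pc)⁻¹ := by group
      _ = _ := by rw [e2, inv_inv]
  have e3 : pc * (pc * p * pc⁻¹) * pc⁻¹ = pc⁻¹ * p * pc := by
    have e2 : pc * pc = pc⁻¹ := eq_inv_of_mul_eq_one_left ccc
    calc pc * (pc * p * pc⁻¹) * pc⁻¹ = pc * pc * p * (pc * pc)⁻¹ := by group
      _ = _ := by rw [e2, inv_inv]
  rw [e1, e3] at m2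
  exact m2

theorem mvw : Mv x ι ((ι pc)⁻¹ * (x * s) * ι pc) pv1 := by
  have := mv_c' h N (mσ h N).toMv
  rwa [cz'] at this

theorem mvw₂ : Mv x ι (ι pc * (x * s) * (ι pc)⁻¹) (pz * pv1) := by
  have := mv_c h (mσ h N).toMv
  rwa [cz] at this

theorem τ_w : Commute (x * b) ((ι pc)⁻¹ * (x * s) * ι pc) := by
  have h1 : Commute (x * b) (ι pc) := τc h N
  exact (h1.inv_right.mul_right (στ h N).symm).mul_right h1

theorem τ_w₂ : Commute (x * b) (ι pc * (x * s) * (ι pc)⁻¹) := by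
  have h1 : Commute (x * b) (ι pc) := τc h N
  exact (h1.mul_right (στ h N).symm).mul_right h1.inv_right

/-- `σ w w₂ ∈ U₁` -/
theorem exists_q : ∃ q, CU q ∧ x * s * ((ι pc)⁻¹ * (x * s) * ι pc) * (ι pc * (x * s) * (ι pc)⁻¹) = ι q := by
  have m := ((mσ h N).toMv.mul (mvw h N) CU_v1).mul (mvw₂ h N) (CU_mul CU_z CU_v1)
  have e1 : pz * pv1 * (pz * pv1) = 1 := CU_sq _ (CU_mul CU_z CU_v1)
  rw [e1] at m
  have hx := m.x
  rw [map_one, mul_one] at hx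
  obtain ⟨q, hq, e | e⟩ := cent_U h m (mul_inv_eq_iff_eq_mul.1 hx)
  · exact ⟨q, hq, e⟩
  · exfalso
    have h1 : Commute (x * b) (x * ι q) := by
      rw [← e]
      exact ((στ h N).symm.mul_right (τ_w h N)).mul_right (τ_w₂ h N)
    have h2 : Commute (x * b) (ι q) := (mτ h N).toMv.comm hq
    have h3 : Commute (x * b) x := by
      have h4 := h1.mul_right h2.inv_right
      rwa [mul_inv_cancel_right] at h4
    have h5 := (mτ h N).x
    rw [h3.eq, mul_inv_cancel_right] at h5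
    exact f_ne (h.one_iff.1 (mul_left_cancel (h5.symm.trans (mul_one x).symm)))

theorem ww : (ι pc)⁻¹ * (x * s) * ι pc * ((ι pc)⁻¹ * (x * s) * ι pc) = ι pv1 := by
  calc (ι pc)⁻¹ * (x * s) * ι pc * ((ι pc)⁻¹ * (x * s) * ι pc) = (ι pc)⁻¹ * (x * s * (x * s)) * ι pc := by group
    _ = ι (pc⁻¹ * pz * pc) := by rw [σσ h N, map_mul, map_mul, map_inv]
    _ = ι pv1 := by rw [cz']

theorem ww₂ : ι pc * (x * s) * (ι pc)⁻¹ * (ι pc * (x * s) * (ι pc)⁻¹) = ι (pz * pv1) := by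
  calc ι pc * (x * s) * (ι pc)⁻¹ * (ι pc * (x * s) * (ι pc)⁻¹) = ι pc * (x * s * (x * s)) * (ι pc)⁻¹ := by group
    _ = ι (pc * pz * pc⁻¹) := by rw [σσ h N, map_mul, map_mul, map_inv]
    _ = ι (pz * pv1) := by rw [cz]

/-- `σ` and `w` commute -/
theorem σ_w : Commute (x * s) ((ι pc)⁻¹ * (x * s) * ι pc) := by
  obtain ⟨q, hq, e⟩ := exists_q h N
  obtain ⟨σ, hσ⟩ : ∃ σ, σ = x * s := ⟨_, rfl⟩
  obtain ⟨w, hw⟩ : ∃ w, w = (ι pc)⁻¹ * (x * s) * ι pc := ⟨_, rfl⟩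
  obtain ⟨w₂, hw₂⟩ : ∃ w₂, w₂ = ι pc * (x * s) * (ι pc)⁻¹ := ⟨_, rfl⟩
  have e2 := σσ h N
  have e3 := ww h N
  have e4 := ww₂ h N
  have e5 := (mvw₂ h N).comm hq
  rw [← hw, ← hw₂, ← hσ] at e
  rw [← hσ] at e2
  rw [← hw] at e3
  rw [← hw₂] at e4 e5
  rw [← hw, ← hσ]
  -- `σ w = ι q w₂⁻¹`
  have e6 : σ * w = ι q * w₂⁻¹ := by rw [← e, mul_inv_cancel_right]
  have e7 : σ * w * (σ * w) = ι (pz * pv1) := by
    have e8 : Commute w₂ (ι q) := e5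
    rw [e6]
    calc ι q * w₂⁻¹ * (ι q * w₂⁻¹) = ι q * (w₂⁻¹ * ι q) * w₂⁻¹ := by group
      _ = ι q * ι q * (w₂ * w₂)⁻¹ := by rw [e8.inv_left.eq]; group
      _ = ι (pz * pv1) := by
        rw [← map_mul, CU_sq q hq, map_one, one_mul, e4, ← map_inv,
          inv_eq_of_mul_eq_one_right (CU_sq _ (CU_mul CU_z CU_v1))]
  have e9 : σ * w * (σ * w) = σ * σ * (w * w) := by rw [e7, e2, e3, map_mul]
  have e10 : σ * (w * σ) * w = σ * (σ * w) * w := by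
    calc σ * (w * σ) * w = σ * w * (σ * w) := by group
      _ = _ := by rw [e9]; group
  exact (mul_left_cancel (mul_right_cancel e10)).symm

theorem x_inv_conj {g : G} (hg : x * g * x = g⁻¹) (i : ℤ) : x * g ^ i * x = (g ^ i)⁻¹ := by
  have hx := h.x_inv
  have h1 : MulAut.conj x g = g⁻¹ := by rw [MulAut.conj_apply, hx, hg]
  have h2 : MulAut.conj x (g ^ i) = (g ^ i)⁻¹ := by rw [map_zpow, h1, inv_zpow]
  rwa [MulAut.conj_apply, hx] at h2

theorem s_inv : s⁻¹ = s := inv_eq_of_mul_eq_one_right N.ss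
theorem b_inv : b⁻¹ = b := inv_eq_of_mul_eq_one_right N.bb

theorem xσ : x * (x * s) * x = (x * s)⁻¹ := by
  rw [← mul_assoc, h.xx, one_mul, mul_inv_rev, h.x_inv, s_inv h N]

theorem xτ : x * (x * b) * x = (x * b)⁻¹ := by
  rw [← mul_assoc, h.xx, one_mul, mul_inv_rev, h.x_inv, b_inv h N]

theorem xw : x * ((ι pc)⁻¹ * (x * s) * ι pc) * x = ((ι pc)⁻¹ * (x * s) * ι pc)⁻¹ := by
  have h1 := h.comm pc
  have h2 : x * (ι pc)⁻¹ = (ι pc)⁻¹ * x := by rw [← map_inv, h.comm]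
  calc x * ((ι pc)⁻¹ * (x * s) * ι pc) * x = x * (ι pc)⁻¹ * (x * s) * (ι pc * x) := by group
    _ = (ι pc)⁻¹ * (x * (x * s) * x) * ι pc := by rw [h2, ← h1]; group
    _ = (ι pc)⁻¹ * (x * s)⁻¹ * ι pc := by rw [xσ h N]
    _ = _ := by group

/-- a product with square one -/
theorem sq_duo {i j k : ℤ} (e : ι pz ^ i * ι pf ^ j * ι pv1 ^ k = 1) : Even i ∧ Even j ∧ Even k := by
  have hz : ι pz * ι pz = 1 := by rw [← map_mul, zz, map_one]
  have hf : ι pf * ι pf = 1 := by rw [← map_mul, ff, map_one]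
  have hv : ι pv1 * ι pv1 = 1 := by rw [← map_mul, v11, map_one]
  have hne : pz ≠ 1 ∧ pf ≠ 1 ∧ pv1 ≠ 1 ∧ pz * pf ≠ 1 ∧ pz * pv1 ≠ 1 ∧ pf * pv1 ≠ 1 ∧ pz * pf * pv1 ≠ 1 := by
    decide +kernel
  obtain ⟨n1, n2, n3, n4, n5, n6, n7⟩ := hne
  rcases zpow_cases hz i with ⟨e1, i1⟩ | ⟨e1, i1⟩ <;> rcases zpow_cases hf j with ⟨e2, i2⟩ | ⟨e2, i2⟩ <;>
    rcases zpow_cases hv k with ⟨e3, i3⟩ | ⟨e3, i3⟩ <;> rw [e1, e2, e3] at e
  · exact ⟨i1, i2, i3⟩
  · rw [one_mul, one_mul] at e; exact absurd (h.one_iff.1 e) n3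
  · rw [one_mul, mul_one] at e; exact absurd (h.one_iff.1 e) n2
  · rw [one_mul, ← map_mul] at e; exact absurd (h.one_iff.1 e) n6
  · rw [mul_one, mul_one] at e; exact absurd (h.one_iff.1 e) n1
  · rw [mul_one, ← map_mul] at e; exact absurd (h.one_iff.1 e) n5
  · rw [mul_one, ← map_mul] at e; exact absurd (h.one_iff.1 e) n4
  · rw [← map_mul, ← map_mul] at e; exact absurd (h.one_iff.1 e) n7

/-- the group `A = U₁*` -/
def AA : Subgroup G := tri (x * s) (x * b) ((ι pc)⁻¹ * (x * s) * ι pc) (στ h N) (σ_w h N) (τ_w h N)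

/-- the group `L = l*` -/
def LL : Subgroup G := duo (x * s) (x * b) (στ h N)

omit h N in
theorem zpow_sq {a c : G} (e : a * a = c) (i : ℤ) : a ^ i * a ^ i = c ^ i := by
  rw [← (Commute.refl a).mul_zpow, e]

omit h N in
theorem tri_sq {σ τ w a b c : G} (h1 : Commute σ τ) (h2 : Commute σ w) (h3 : Commute τ w) (ea : σ * σ = a)
    (eb : τ * τ = b) (ec : w * w = c) (i j k : ℤ) :
    σ ^ i * τ ^ j * w ^ k * (σ ^ i * τ ^ j * w ^ k) = a ^ i * b ^ j * c ^ k := by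
  rw [← zpow_sq ea, ← zpow_sq eb, ← zpow_sq ec]
  have e1 := (h1.zpow_zpow i j).eq
  have e2 := (h2.zpow_zpow i k).eq
  have e3 := (h3.zpow_zpow j k).eq
  calc σ ^ i * τ ^ j * w ^ k * (σ ^ i * τ ^ j * w ^ k)
      = σ ^ i * τ ^ j * (w ^ k * σ ^ i) * τ ^ j * w ^ k := by simp only [mul_assoc]
    _ = σ ^ i * (τ ^ j * σ ^ i) * (w ^ k * τ ^ j) * w ^ k := by rw [← e2]; simp only [mul_assoc]
    _ = _ := by rw [← e1, ← e3]; simp only [mul_assoc]

omit h N in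
theorem tri_comm {σ τ w : G} (h1 : Commute σ τ) (h2 : Commute σ w) (h3 : Commute τ w) {a a' : G}
    (ha : a ∈ tri σ τ w h1 h2 h3) (ha' : a' ∈ tri σ τ w h1 h2 h3) : a * a' = a' * a := by
  obtain ⟨i, j, k, rfl⟩ := ha
  obtain ⟨i', j', k', rfl⟩ := ha'
  have s1 : Commute (σ ^ i * τ ^ j * w ^ k) σ :=
    ((((Commute.refl σ).zpow_left i).mul_left (h1.symm.zpow_left j)).mul_left (h2.symm.zpow_left k))
  have s2 : Commute (σ ^ i * τ ^ j * w ^ k) τ :=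
    (((h1.zpow_left i).mul_left ((Commute.refl τ).zpow_left j)).mul_left (h3.symm.zpow_left k))
  have s3 : Commute (σ ^ i * τ ^ j * w ^ k) w :=
    (((h2.zpow_left i).mul_left (h3.zpow_left j)).mul_left ((Commute.refl w).zpow_left k))
  exact (((s1.zpow_right i').mul_right (s2.zpow_right j')).mul_right (s3.zpow_right k')).eq

omit h N in
theorem CU_zpow {p : Perm (Fin 6)} (hp : CU p) (i : ℤ) : CU (p ^ i) := by
  rcases zpow_cases (CU_sq p hp) i with ⟨e, -⟩ | ⟨e, -⟩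
  · rw [e]; exact CU_one
  · rw [e]; exact hp

omit h N in
theorem CL_zpow {p : Perm (Fin 6)} (hp : CL p) (i : ℤ) : CL (p ^ i) := by
  rcases zpow_cases (CU_sq p hp.1) i with ⟨e, -⟩ | ⟨e, -⟩
  · rw [e]; exact CL_one
  · rw [e]; exact hp

theorem zL : ι pz ∈ LL h N := ⟨2, 0, by rw [zpow_zero, mul_one, zpow_two, σσ h N]⟩
theorem fL : ι pf ∈ LL h N := ⟨0, 2, by rw [zpow_zero, one_mul, zpow_two, ττ h N]⟩
theorem σL : x * s ∈ LL h N := ⟨1, 0, by rw [zpow_zero, mul_one, zpow_one]⟩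
theorem τL : x * b ∈ LL h N := ⟨0, 1, by rw [zpow_zero, one_mul, zpow_one]⟩

theorem LA : LL h N ≤ AA h N := by
  rintro _ ⟨i, j, rfl⟩
  exact ⟨i, j, 0, by rw [zpow_zero, mul_one]⟩

theorem wA : (ι pc)⁻¹ * (x * s) * ι pc ∈ AA h N := ⟨0, 0, 1, by rw [zpow_zero, zpow_zero, zpow_one, one_mul, one_mul]⟩

theorem ιL {q : Perm (Fin 6)} (hq : CL q) : ι q ∈ LL h N := by
  rcases CL_eq hq with rfl | rfl | rfl | rfl
  · rw [map_one]; exact one_mem _
  · exact zL h N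
  · exact fL h N
  · rw [map_mul]; exact mul_mem (fL h N) (zL h N)

theorem ιA {q : Perm (Fin 6)} (hq : CU q) : ι q ∈ AA h N := by
  have hv : ι pv1 ∈ AA h N := by rw [← ww h N]; exact mul_mem (wA h N) (wA h N)
  rcases CU_cases q hq with h1 | h1
  · exact LA h N (ιL h N h1)
  · have h2 : ι q = ι pv1 * ι (pv1 * q) := by rw [← map_mul, ← mul_assoc, v11, one_mul]
    rw [h2]
    exact mul_mem hv (LA h N (ιL h N h1))

theorem Aom (a : G) (ha : a ∈ AA h N) (ha2 : a * a = 1) :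
    DblOne.InL (ι pz) (ι pf) a ∨ ∃ c, DblOne.InL (ι pz) (ι pf) c ∧ a = ι pv1 * c := by
  obtain ⟨i, j, k, rfl⟩ := ha
  rw [tri_sq (στ h N) (σ_w h N) (τ_w h N) (σσ h N) (ττ h N) (ww h N)] at ha2
  obtain ⟨⟨i, rfl⟩, ⟨j, rfl⟩, ⟨k, rfl⟩⟩ := sq_duo h N ha2
  rw [zpow_add, zpow_add, zpow_add, zpow_sq (σσ h N), zpow_sq (ττ h N), zpow_sq (ww h N), ← map_zpow, ← map_zpow,
    ← map_zpow, ← map_mul, ← map_mul]
  have hq : CU (pz ^ i * pf ^ j * pv1 ^ k) :=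
    CU_mul (CU_mul (CU_zpow CU_z i) (CU_zpow CU_f j)) (CU_zpow CU_v1 k)
  rcases CU_cases _ hq with h1 | h1
  · exact Or.inl (inL h1)
  · refine Or.inr ⟨_, inL h1, ?_⟩
    rw [← map_mul, ← mul_assoc, v11, one_mul]

theorem Lom (a : G) (ha : a ∈ LL h N) (ha2 : a * a = 1) : DblOne.InL (ι pz) (ι pf) a := by
  obtain ⟨i, j, rfl⟩ := ha
  have h1 := tri_sq (στ h N) (σ_w h N) (τ_w h N) (σσ h N) (ττ h N) (ww h N) i j 0
  rw [zpow_zero, mul_one, ha2] at h1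
  obtain ⟨⟨i, rfl⟩, ⟨j, rfl⟩, -⟩ := sq_duo h N h1.symm
  rw [zpow_add, zpow_add, zpow_sq (σσ h N), zpow_sq (ττ h N), ← map_zpow, ← map_zpow, ← map_mul]
  exact inL (CL_mul (CL_zpow CL_z i) (CL_zpow CL_f j))

theorem v22' : ι pv2 * ι pv2 = 1 := by rw [← map_mul, v22, map_one]

theorem v2_conj_zpow (g : G) (i : ℤ) : ι pv2 * g ^ i * ι pv2 = (ι pv2 * g * ι pv2) ^ i := by
  have hv : (ι pv2)⁻¹ = ι pv2 := inv_eq_of_mul_eq_one_right (v22' h N)
  have h2 : MulAut.conj (ι pv2) (g ^ i) = (MulAut.conj (ι pv2) g) ^ i := map_zpow _ _ _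
  rwa [MulAut.conj_apply, MulAut.conj_apply, hv] at h2

theorem v2_fix {g : G} (hg : g * ι pv2 = ι pv2 * g) : ι pv2 * g * ι pv2 = g := by
  rw [← hg, mul_assoc, v22' h N, mul_one]

theorem v2w : ι pv2 * ((ι pc)⁻¹ * (x * s) * ι pc) * ι pv2 ∈ AA h N := by
  obtain ⟨q, hq, e⟩ := exists_q h N
  have h1 : ι pv2 * ι pc * ι pv2 = (ι pc)⁻¹ := by rw [← map_mul, ← map_mul, v2c, map_inv]
  have hv : (ι pv2)⁻¹ = ι pv2 := inv_eq_of_mul_eq_one_right (v22' h N)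
  have h2 : ι pv2 * (ι pc)⁻¹ * ι pv2 = ι pc := by
    rw [← h1]
    calc ι pv2 * (ι pv2 * ι pc * ι pv2) * ι pv2 = (ι pv2 * ι pv2) * ι pc * (ι pv2 * ι pv2) := by group
      _ = ι pc := by rw [v22' h N]; group
  have h3 : ι pv2 * ((ι pc)⁻¹ * (x * s) * ι pc) * ι pv2 = ι pc * (x * s) * (ι pc)⁻¹ := by
    calc ι pv2 * ((ι pc)⁻¹ * (x * s) * ι pc) * ι pv2
        = ι pv2 * (ι pc)⁻¹ * (ι pv2 * (ι pv2)⁻¹) * (x * s) * ((ι pv2)⁻¹ * ι pv2) * ι pc * ι pv2 := by group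
      _ = ι pv2 * (ι pc)⁻¹ * ι pv2 * (ι pv2 * (x * s) * ι pv2) * (ι pv2 * ι pc * ι pv2) := by
          rw [hv]; simp only [mul_assoc]
      _ = ι pc * (x * s) * (ι pc)⁻¹ := by rw [h2, v2_fix h N (mσ h N).v2, h1]
  have h4 : ι pc * (x * s) * (ι pc)⁻¹ = (x * s * ((ι pc)⁻¹ * (x * s) * ι pc))⁻¹ * ι q := by
    rw [← e, inv_mul_cancel_left]
  rw [h3, h4]
  exact mul_mem (inv_mem (mul_mem (LA h N (σL h N)) (wA h N))) (ιA h N hq)

theorem Av₂ (a : G) (ha : a ∈ AA h N) : ι pv2 * a * ι pv2 ∈ AA h N := by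
  obtain ⟨i, j, k, rfl⟩ := ha
  have e : ι pv2 * ((x * s) ^ i * (x * b) ^ j * ((ι pc)⁻¹ * (x * s) * ι pc) ^ k) * ι pv2 =
      (ι pv2 * (x * s) ^ i * ι pv2) * (ι pv2 * (x * b) ^ j * ι pv2) *
        (ι pv2 * ((ι pc)⁻¹ * (x * s) * ι pc) ^ k * ι pv2) := by
    have hv := v22' h N
    calc ι pv2 * ((x * s) ^ i * (x * b) ^ j * ((ι pc)⁻¹ * (x * s) * ι pc) ^ k) * ι pv2
        = ι pv2 * (x * s) ^ i * 1 * (x * b) ^ j * 1 * ((ι pc)⁻¹ * (x * s) * ι pc) ^ k * ι pv2 := by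
          simp only [mul_assoc, mul_one]
      _ = _ := by rw [← hv]; simp only [mul_assoc]
  rw [e, v2_conj_zpow h N, v2_conj_zpow h N, v2_conj_zpow h N, v2_fix h N (mσ h N).v2, v2_fix h N (mτ h N).v2]
  exact mul_mem (mul_mem (zpow_mem (LA h N (σL h N)) i) (zpow_mem (LA h N (τL h N)) j)) (zpow_mem (v2w h N) k)

theorem xL (m : G) (hm : m ∈ LL h N) : x * m * x = m⁻¹ := by
  obtain ⟨i, j, rfl⟩ := hm
  calc x * ((x * s) ^ i * (x * b) ^ j) * x = x * (x * s) ^ i * (x * x) * (x * b) ^ j * x := by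
        rw [h.xx]; group
    _ = (x * (x * s) ^ i * x) * (x * (x * b) ^ j * x) := by group
    _ = ((x * s) ^ i)⁻¹ * ((x * b) ^ j)⁻¹ := by
        rw [x_inv_conj h N (xσ h N), x_inv_conj h N (xτ h N)]
    _ = ((x * s) ^ i * (x * b) ^ j)⁻¹ := by
        rw [mul_inv_rev, ← zpow_neg, ← zpow_neg, ((στ h N).zpow_zpow (-i) (-j)).eq]

omit h N in
theorem CL_θ {q : Perm (Fin 6)} (hq : CL q) : CL (θ q) := by
  rcases CL_eq hq with rfl | rfl | rfl | rfl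
  · rw [map_one]; exact CL_one
  · rw [θ_z]; exact CL_z
  · rw [θ_f]; exact CL_mul CL_f CL_z
  · rw [θ_fz]; exact CL_f

theorem rL (m : G) (hm : m ∈ LL h N) : r⁻¹ * m * r ∈ LL h N := by
  have rix : r⁻¹ * x * r = x := by rw [mul_assoc, ← h.rx, inv_mul_cancel_left]
  have rxi : r * x * r⁻¹ = x := by rw [h.rx, mul_inv_cancel_right]
  have h1 : r⁻¹ * (x * s) * r ∈ LL h N := by
    obtain ⟨q, hq, e⟩ := N.rs
    have e2 : r * (x * s) * r⁻¹ = x * s * ι q := by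
      calc r * (x * s) * r⁻¹ = r * x * r⁻¹ * (r * s * r⁻¹) := by group
        _ = _ := by rw [rxi, e, mul_assoc]
    have e3 : r⁻¹ * (x * s) * r = x * s * (r⁻¹ * ι q * r)⁻¹ := by
      have : x * s = r⁻¹ * (x * s) * r * (r⁻¹ * ι q * r) := by
        calc x * s = r⁻¹ * (r * (x * s) * r⁻¹) * r := by group
          _ = _ := by rw [e2]; group
      nth_rw 2 [this]
      group
    rw [e3, h.rι_inv]
    exact mul_mem (σL h N) (inv_mem (ιL h N (CL_θ hq)))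
  have h2 : r⁻¹ * (x * b) * r ∈ LL h N := by
    obtain ⟨q, hq, e⟩ := N.rb
    have e2 : r * (x * b) * r⁻¹ = x * b * (x * s)⁻¹ * ι q := by
      calc r * (x * b) * r⁻¹ = r * x * r⁻¹ * (r * b * r⁻¹) := by group
        _ = x * b * (s * x) * ι q := by rw [rxi, e]; group
        _ = _ := by rw [mul_inv_rev, h.x_inv, s_inv h N]
    have e3 : r⁻¹ * (x * b) * r = x * b * (r⁻¹ * ι q * r)⁻¹ * (r⁻¹ * (x * s) * r) := by
      have : x * b = r⁻¹ * (x * b) * r * (r⁻¹ * (x * s) * r)⁻¹ * (r⁻¹ * ι q * r) := by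
        calc x * b = r⁻¹ * (r * (x * b) * r⁻¹) * r := by group
          _ = _ := by rw [e2]; group
      nth_rw 2 [this]
      group
    rw [e3, h.rι_inv]
    exact mul_mem (mul_mem (τL h N) (inv_mem (ιL h N (CL_θ hq)))) h1
  obtain ⟨i, j, rfl⟩ := hm
  have e : r⁻¹ * ((x * s) ^ i * (x * b) ^ j) * r = (r⁻¹ * (x * s) * r) ^ i * (r⁻¹ * (x * b) * r) ^ j := by
    have k1 : ∀ (g : G) (n : ℤ), (r⁻¹ * g * r) ^ n = r⁻¹ * g ^ n * r := by
      intro g n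
      have := (map_zpow (MulAut.conj r⁻¹) g n).symm
      simpa [MulAut.conj_apply] using this
    rw [k1, k1]; group
  rw [e]
  exact mul_mem (zpow_mem h1 i) (zpow_mem h2 j)

theorem bK (k : G) (hk : k ∈ ι.range) (hf : k * ι pf = ι pf * k) : k * b = b * k := by
  obtain ⟨p, rfl⟩ := hk
  obtain ⟨i, j, k, l, m, rfl⟩ := cent_f p (h.comm_ι.1 hf)
  rw [map_mul, map_mul, map_mul, map_mul, map_pow, map_pow, map_pow, map_pow, map_pow]
  exact (comm_mul (comm_pow N.mb.f _) (comm_mul (comm_pow N.mb.z _) (comm_mul (comm_pow N.mb.v1 _)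
    (comm_mul (comm_pow N.mb.v2 _) (comm_pow N.bc _))))).symm

theorem cen (c : G) (hx : c * x = x * c) (hf : c * ι pf = ι pf * c)
    (hk : ∀ k ∈ ι.range, k * ι pf = ι pf * k → k * k * k = 1 → k * c = c * k) :
    c = 1 ∨ c = x ∨ c = ι pf ∨ c = x * ι pf := by
  obtain ⟨a, ha, e⟩ := cent_xf h hx hf
  have key : ∀ p : Perm (Fin 6), p * pf = pf * p → p * p * p = 1 → a * p = p * a := by
    intro p h1 h2
    have h3 := hk (ι p) ⟨p, rfl⟩ (h.comm_ι.2 h1) (by rw [← map_mul, ← map_mul, h2, map_one])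
    rcases e with e | e
    · rw [e] at h3
      exact (h.comm_ι.1 h3).symm
    · rw [e, ← mul_assoc, ← h.comm, mul_assoc, mul_assoc] at h3
      exact (h.comm_ι.1 (mul_left_cancel h3)).symm
  rcases cent_f_c_c2 a ha (key _ cf ccc) (key _ c2f ccc2) with h1 | h1
  · rw [h1, map_one] at e
    rw [mul_one] at e
    rcases e with e | e
    · exact Or.inl e
    · exact Or.inr (Or.inl e)
  · rw [h1] at e
    rcases e with e | e
    · exact Or.inr (Or.inr (Or.inl e))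
    · exact Or.inr (Or.inr (Or.inr e))

/-- **the instance** -/
theorem cfg (nxz : ∀ g, g * ι pz * g⁻¹ ≠ x) :
    DblOne.Cfg x (ι pz) (ι pf) (ι pv1) (ι pv2) s b ((ι pc)⁻¹ * (x * s) * ι pc) r (AA h N) (LL h N) ι.range where
  xx := h.xx
  zz := by rw [← map_mul, zz, map_one]
  ff := by rw [← map_mul, ff, map_one]
  bb := N.bb
  z1 := fun e => z_ne (h.one_iff.1 e)
  f1 := fun e => f_ne (h.one_iff.1 e)
  nzf := fun e => f_ne_z (h.inj e)
  xz := h.comm _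
  xf := h.comm _
  xv₁ := h.comm _
  xv₂ := h.comm _
  zf := h.comm_ι.2 fz.symm
  zv₁ := h.comm_ι.2 zv1
  zv₂ := h.comm_ι.2 zv2
  fv₁ := h.comm_ι.2 fv1
  fv₂ := h.comm_ι.2 fv2
  sf := N.ms.f
  bf := N.mb.f
  vv₁ := by rw [← map_mul, v11, map_one]
  vv₂ := v22' h N
  v₁₂ := by rw [← map_mul, v12, map_mul, map_mul]
  xb := by rw [bx h N, mul_assoc, N.bb, mul_one]
  sb := by rw [N.sb, map_mul]
  rx := h.rx
  rf := by rw [h.conj, θ_f, map_mul]
  rz := by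
    have := h.rι pz
    rwa [θ_z] at this
  rv₁ := by rw [h.conj, θ_v1]
  rv₂ := Or.inl (by rw [h.conj, θ_v2])
  rs := by
    obtain ⟨q, hq, e⟩ := N.rs
    exact ⟨_, inL hq, e⟩
  Acomm := fun a ha a' ha' => tri_comm _ _ _ ha ha'
  Aom := Aom h N
  Av₂ := Av₂ h N
  wA := wA h N
  ww := ww h N
  xw := xw h N
  LA := LA h N
  zL := zL h N
  fL := fL h N
  sL := σL h N
  ss := σσ h N
  xL := xL h N
  Lv₂ := by
    rintro _ ⟨i, j, rfl⟩
    have h1 : Commute (x * s) (ι pv2) := (mσ h N).v2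
    have h2 : Commute (x * b) (ι pv2) := (mτ h N).v2
    exact (h1.zpow_left i).mul_left (h2.zpow_left j)
  rL := rL h N
  Lom := Lom h N
  bK := bK h N
  cen := cen h N
  del := by
    refine ⟨(ι pc)⁻¹, ?_, ?_⟩
    · rw [← map_inv]
      apply h.comm_ι.2
      have : Commute pc pf := cf
      exact this.inv_left.eq
    · rw [← map_inv, ← map_inv, inv_inv, ← map_mul, ← map_mul, cz']
  nxz := nxz

/-- `T₈ = ⟨x⟩ L D` -/
theorem inT (a : G) (hz : a * ι pz = ι pz * a) (hf : a * ι pf = ι pf * a)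
    (hx : ∃ q, CL q ∧ a * x * a⁻¹ = x * ι q) : DblOne.Cfg.InT x (ι pv1) (ι pv2) (LL h N) a := by
  obtain ⟨q, hq, e⟩ := hx
  -- the element `g` with the same action on `x`
  obtain ⟨g, m, hg⟩ : ∃ g, Mw x ι g q ∧ ∀ y, (y = 1 ∨ y = x) → (g * y ∈ LL h N ∨ x * (g * y) ∈ LL h N) := by
    have a1 : s * x = (x * s)⁻¹ := by rw [mul_inv_rev, h.x_inv, s_inv h N]
    have a2 : b * x = (x * b)⁻¹ := by rw [mul_inv_rev, h.x_inv, b_inv h N]
    rcases CL_eq hq with rfl | rfl | rfl | rfl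
    · refine ⟨1, ⟨mv_one h, by rw [one_mul, mul_one]⟩, ?_⟩
      rintro y (rfl | rfl)
      · left; rw [one_mul]; exact one_mem _
      · right; rw [one_mul, h.xx]; exact one_mem _
    · refine ⟨s, N.ms, ?_⟩
      rintro y (rfl | rfl)
      · right; rw [mul_one]; exact σL h N
      · left; rw [a1]; exact inv_mem (σL h N)
    · refine ⟨b, N.mb, ?_⟩
      rintro y (rfl | rfl)
      · right; rw [mul_one]; exact τL h N
      · left; rw [a2]; exact inv_mem (τL h N)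
    · refine ⟨b * s, N.mb.mul N.ms CU_z, ?_⟩
      rintro y (rfl | rfl)
      · left
        have : b * s * 1 = b * x * (x * s) := by
          calc b * s * 1 = b * (x * x) * s := by rw [h.xx]; group
            _ = _ := by group
        rw [this, a2]
        exact mul_mem (inv_mem (τL h N)) (σL h N)
      · right
        have : y * (b * s * y) = y * b * (s * y) := by group
        rw [this, a1]
        exact mul_mem (τL h N) (inv_mem (σL h N))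
  have hc : ∀ t : G, g * t = t * g → a * t = t * a → g⁻¹ * a * t = t * (g⁻¹ * a) := by
    intro t h1 h2
    have k1 : Commute g t := h1
    have k2 : Commute a t := h2
    exact (k1.inv_left.mul_left k2).eq
  have hx : g⁻¹ * a * x = x * (g⁻¹ * a) := by
    have h1 : a * x * a⁻¹ = g * x * g⁻¹ := by rw [e, m.x]
    calc g⁻¹ * a * x = g⁻¹ * (a * x * a⁻¹) * a := by group
      _ = g⁻¹ * (g * x * g⁻¹) * a := by rw [h1]
      _ = x * (g⁻¹ * a) := by group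
  obtain ⟨p, p1, p2, e'⟩ := cent_l h hx (hc _ m.z hz) (hc _ m.f hf)
  obtain ⟨i, j, k, l, rfl⟩ := cent_zf p p1 p2
  -- `u`
  have hu : ι (pv1 ^ (k : ℕ) * pv2 ^ (l : ℕ)) = 1 ∨ ι (pv1 ^ (k : ℕ) * pv2 ^ (l : ℕ)) = ι pv1 ∨
      ι (pv1 ^ (k : ℕ) * pv2 ^ (l : ℕ)) = ι pv2 ∨ ι (pv1 ^ (k : ℕ) * pv2 ^ (l : ℕ)) = ι pv1 * ι pv2 := by
    fin_cases k <;> fin_cases l <;> simp
  have hm : ι (pf ^ (i : ℕ) * pz ^ (j : ℕ)) ∈ LL h N := by
    rw [map_mul, map_pow, map_pow]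
    exact mul_mem (pow_mem (fL h N) _) (pow_mem (zL h N) _)
  have e0 : pf ^ (i : ℕ) * (pz ^ (j : ℕ) * (pv1 ^ (k : ℕ) * pv2 ^ (l : ℕ))) =
      pf ^ (i : ℕ) * pz ^ (j : ℕ) * (pv1 ^ (k : ℕ) * pv2 ^ (l : ℕ)) := by rw [mul_assoc]
  rw [e0, map_mul ι (pf ^ (i : ℕ) * pz ^ (j : ℕ))] at e'
  obtain ⟨y, hy, e3⟩ : ∃ y, (y = 1 ∨ y = x) ∧
      a = g * y * ι (pf ^ (i : ℕ) * pz ^ (j : ℕ)) * ι (pv1 ^ (k : ℕ) * pv2 ^ (l : ℕ)) := by
    have e4 : a = g * (g⁻¹ * a) := by group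
    rcases e' with e' | e'
    · exact ⟨1, Or.inl rfl, by rw [e4, e']; group⟩
    · exact ⟨x, Or.inr rfl, by rw [e4, e']; group⟩
  rcases hg y hy with h1 | h1
  · exact ⟨_, mul_mem h1 hm, _, hu, Or.inl e3⟩
  · refine ⟨_, mul_mem h1 hm, _, hu, Or.inr ?_⟩
    rw [e3]
    calc g * y * ι (pf ^ (i : ℕ) * pz ^ (j : ℕ)) * ι (pv1 ^ (k : ℕ) * pv2 ^ (l : ℕ))
        = (x * x) * (g * y) * ι (pf ^ (i : ℕ) * pz ^ (j : ℕ)) * ι (pv1 ^ (k : ℕ) * pv2 ^ (l : ℕ)) := by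
          rw [h.xx, one_mul]
      _ = _ := by group

/-- **(DBL), `e = 1` is impossible** -/
theorem one_false (nxz : ∀ g, g * ι pz * g⁻¹ ≠ x) (W : Subgroup G) (hf : ι pf ∈ W) (hel : ∀ a ∈ W, a * a = 1)
    (hn : ∀ g, g * ι pz = ι pz * g → ∀ a ∈ W, g * a * g⁻¹ ∈ W)
    (hT : ∀ a ∈ W, a * ι pz = ι pz * a ∧ a * ι pf = ι pf * a ∧ ∃ q, CL q ∧ a * x * a⁻¹ = x * ι q) : False :=
  (cfg h N nxz).false W hf hel hn fun a ha => inT h N a (hT a ha).1 (hT a ha).2.1 (hT a ha).2.2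

end One

end Cfsg.Agent.OddHalf.D5.SixAut.DblNorm
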