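import Cfsg.Agent.OddHalf.D5.SixAut.DblOneInst

/-!
# ODD D5, `K = A₆`, `C(x)/⟨x⟩ = Aut(A₆)`, case (DBL), `e = 0`: the instance of `DblZero` (helper314)

`T` is any subgroup with `g ∈ T ↔ g ∈ C(x) ∩ C(z)` (`TT x z` of `SixAut/TT.lean`).
-/

set_option autoImplicit false
set_option linter.unusedSectionVars false

namespace Cfsg.Agent.OddHalf.D5.SixAut.DblNorm

open Subgroup Equiv

variable {G : Type*} [Group G] {x r : G} {ι : Perm (Fin 6) →* G} {s b : G}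

/-! ### the group `T = C(x) ∩ C(z)` -/

section TGroup

variable (h : AutSpl x ι r)
include h

/-- the elements of `C(x) ∩ C(z)` -/
theorem mem_T {g : G} (hx : g * x = x * g) (hz : g * ι pz = ι pz * g) :
    ∃ a, a * pz = pz * a ∧ (g = ι a ∨ g = x * ι a ∨ g = ι a * r ∨ g = x * (ι a * r)) := by
  obtain ⟨a, e⟩ := h.cent g hx
  have hxz : ∀ y : G, x * y * ι pz = ι pz * (x * y) → y * ι pz = ι pz * y := by
    intro y hy
    have h1 : x * (y * ι pz) = x * (ι pz * y) := by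
      calc x * (y * ι pz) = x * y * ι pz := by group
        _ = ι pz * (x * y) := hy
        _ = ι pz * x * y := by group
        _ = x * ι pz * y := by rw [h.comm]
        _ = _ := by group
    exact mul_left_cancel h1
  refine ⟨a, ?_, e⟩
  rcases e with e | e | e | e
  · rw [e] at hz; exact h.comm_ι.1 hz
  · rw [e] at hz; exact h.comm_ι.1 (hxz _ hz)
  · rw [e] at hz
    have := h.comm_r.1 hz
    rwa [θ_z] at this
  · rw [e] at hz
    have := h.comm_r.1 (hxz _ hz)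
    rwa [θ_z] at this

theorem of_T {g : G} {a : Perm (Fin 6)} (ha : a * pz = pz * a)
    (e : g = ι a ∨ g = x * ι a ∨ g = ι a * r ∨ g = x * (ι a * r)) : g * x = x * g ∧ g * ι pz = ι pz * g := by
  refine ⟨h.mem_cent g ⟨a, e⟩, ?_⟩
  have hxz : ∀ y : G, y * ι pz = ι pz * y → x * y * ι pz = ι pz * (x * y) := by
    intro y hy
    calc x * y * ι pz = x * (y * ι pz) := by group
      _ = x * ι pz * y := by rw [hy]; group
      _ = ι pz * (x * y) := by rw [h.comm]; group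
  have h1 : ι a * ι pz = ι pz * ι a := h.comm_ι.2 ha
  have h2 : ι a * r * ι pz = ι pz * (ι a * r) := h.comm_r.2 (by rw [θ_z]; exact ha)
  rcases e with e | e | e | e <;> rw [e]
  · exact h1
  · exact hxz _ h1
  · exact h2
  · exact hxz _ h2

/-- the parametrization of `T` -/
def par (x r : G) (ι : Perm (Fin 6) →* G) (p : {a : Perm (Fin 6) // a * pz = pz * a} × Bool × Bool) : G :=
  (if p.2.1 then x else 1) * (ι p.1.1 * (if p.2.2 then r else 1))

theorem par_inj : Function.Injective (par x r ι) := by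
  rintro ⟨a, i, j⟩ ⟨a', i', j'⟩ e
  have hx : ∀ y y' : G, x * y = x * y' → y = y' := fun _ _ => mul_left_cancel
  have hxx : ∀ y y' : G, x * y = y' → y = x * y' := by
    intro y y' k
    rw [← k, ← mul_assoc, h.xx, one_mul]
  unfold par at e
  have key : i = i' ∧ j = j' ∧ a.1 = a'.1 := by
    cases i <;> cases i' <;> cases j <;> cases j' <;>
      simp only [Bool.false_eq_true, if_true, if_false, one_mul, mul_one] at e
    · exact ⟨rfl, rfl, h.inj e⟩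
    · exact absurd e (h.ne_r _ _)
    · exact absurd e.symm (h.ne_r _ _)
    · exact ⟨rfl, rfl, h.inj (mul_right_cancel e)⟩
    · exact absurd e (h.ne_x _ _)
    · exact absurd e (h.ne_xr _ _)
    · exact absurd (hxx _ _ e.symm) (h.ne_xr _ _)
    · exfalso
      apply h.ne_x a.1 a'.1
      rw [← mul_assoc] at e
      exact mul_right_cancel e
    · exact absurd e.symm (h.ne_x _ _)
    · exact absurd (hxx _ _ e) (h.ne_xr _ _)
    · exact absurd e.symm (h.ne_xr _ _)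
    · exfalso
      apply h.ne_x a'.1 a.1
      rw [← mul_assoc] at e
      exact (mul_right_cancel e).symm
    · exact ⟨rfl, rfl, h.xι_inj e⟩
    · exact absurd (mul_left_cancel e) (h.ne_r _ _)
    · exact absurd (mul_left_cancel e).symm (h.ne_r _ _)
    · exact ⟨rfl, rfl, h.inj (mul_right_cancel (mul_left_cancel e))⟩
  obtain ⟨k1, k2, k3⟩ := key
  rw [Prod.mk.injEq, Prod.mk.injEq]
  exact ⟨Subtype.ext k3, k1, k2⟩

omit h in
theorem card_cent_z : Fintype.card {a : Perm (Fin 6) // a * pz = pz * a} = 16 := by decide +kernel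

theorem card_T (T : Subgroup G) (hT : ∀ g, g ∈ T ↔ g * x = x * g ∧ g * ι pz = ι pz * g) : Nat.card T = 64 := by
  have h1 : Set.range (par x r ι) = (T : Set G) := by
    ext g
    constructor
    · rintro ⟨⟨⟨a, ha⟩, i, j⟩, rfl⟩
      refine (hT _).2 (of_T h ha ?_)
      unfold par
      cases i <;> cases j <;> simp
    · intro hg
      obtain ⟨k1, k2⟩ := (hT g).1 hg
      obtain ⟨a, ha, e | e | e | e⟩ := mem_T h k1 k2
      · exact ⟨⟨⟨a, ha⟩, false, false⟩, by unfold par; simp [e]⟩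
      · exact ⟨⟨⟨a, ha⟩, true, false⟩, by unfold par; simp [e]⟩
      · exact ⟨⟨⟨a, ha⟩, false, true⟩, by unfold par; simp [e]⟩
      · exact ⟨⟨⟨a, ha⟩, true, true⟩, by unfold par; simp [e]⟩
  have h2 : Nat.card T = Nat.card (Set.range (par x r ι)) := by
    rw [h1]; rfl
  rw [h2, Nat.card_range_of_injective (par_inj h), Nat.card_eq_fintype_card, Fintype.card_prod, Fintype.card_prod,
    card_cent_z, Fintype.card_bool]

end TGroup

/-! ### the instance -/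

/-- `e = 0`, with the normalised `s = b^r b` -/
structure NrmZero (x r : G) (ι : Perm (Fin 6) →* G) (s b : G) : Prop where
  ms : Mw x ι s pz
  mb : Mw x ι b pf
  bc : b * ι pc = ι pc * b
  ss : s * s = 1
  bb : b * b = 1
  sb : s * b = b * s
  br : b * r = r * (s * b)

theorem exists_nrmZero (h : AutSpl x ι r) (N : Nrm x r ι s b) (e0 : s * b * s⁻¹ = b)
    (er : ∃ q, CL q ∧ r * b * r⁻¹ = b * s * ι q) : ∃ s', NrmZero x r ι s' b := by
  obtain ⟨q, hq, eb⟩ := er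
  obtain ⟨q₁, hq₁, es⟩ := N.rs
  have hsb : s * b = b * s := mul_inv_eq_iff_eq_mul.1 e0
  have hθ : ∀ q, CL q → ι (θ q) * ι (θ q) = 1 := fun q hq => by
    rw [← map_mul, CU_sq _ (CL_θ hq).1, map_one]
  -- `r⁻¹ s r = s θ(q₁)`
  have k1 : r⁻¹ * s * r = s * ι (θ q₁) := by
    have h1 : s = r⁻¹ * s * r * ι (θ q₁) := by
      rw [← h.rι_inv]
      calc s = r⁻¹ * (r * s * r⁻¹) * r := by group
        _ = _ := by rw [es]; group
    calc r⁻¹ * s * r = r⁻¹ * s * r * (ι (θ q₁) * ι (θ q₁)) := by rw [hθ q₁ hq₁, mul_one]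
      _ = (r⁻¹ * s * r * ι (θ q₁)) * ι (θ q₁) := by group
      _ = _ := by rw [← h1]
  have cs : s * ι (θ q₁) = ι (θ q₁) * s := N.ms.toMv.comm (CL_θ hq₁).1
  have k2 : r⁻¹ * b * r = b * s * ι (θ q * θ q₁) := by
    have h1 : b = r⁻¹ * b * r * (s * ι (θ q₁)) * ι (θ q) := by
      rw [← k1, ← h.rι_inv q]
      calc b = r⁻¹ * (r * b * r⁻¹) * r := by group
        _ = _ := by rw [eb]; group
    have hss := N.ss
    have h2 : r⁻¹ * b * r = b * ι (θ q) * (ι (θ q₁) * s) := by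
      have h3 : r⁻¹ * b * r = r⁻¹ * b * r * (s * ι (θ q₁)) * ι (θ q) * ι (θ q) * (ι (θ q₁) * s) := by
        calc r⁻¹ * b * r = r⁻¹ * b * r * (s * s) := by rw [hss, mul_one]
          _ = r⁻¹ * b * r * (s * (ι (θ q₁) * (ι (θ q) * ι (θ q)) * ι (θ q₁)) * s) := by
            rw [hθ q hq, mul_one, hθ q₁ hq₁, mul_one]
          _ = _ := by group
      rw [← h1] at h3
      exact h3
    rw [h2, ← cs, map_mul, mul_assoc, mul_assoc, ← mul_assoc (ι (θ q)), ← N.ms.toMv.comm (CL_θ hq).1]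
    simp only [mul_assoc]
  have hq' : CL (θ q * θ q₁) := CL_mul (CL_θ hq) (CL_θ hq₁)
  have ms : Mw x ι (s * ι (θ q * θ q₁)) pz := by
    have := N.ms.mul (mw_ι h hq') CU_one
    rwa [mul_one] at this
  have cb : b * ι (θ q * θ q₁) = ι (θ q * θ q₁) * b := N.mb.toMv.comm hq'.1
  have cs' : s * ι (θ q * θ q₁) = ι (θ q * θ q₁) * s := N.ms.toMv.comm hq'.1
  have hsb' : s * ι (θ q * θ q₁) * b = b * (s * ι (θ q * θ q₁)) := by
    rw [mul_assoc, ← cb, ← mul_assoc, hsb, mul_assoc]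
  refine ⟨s * ι (θ q * θ q₁), ms, N.mb, N.bc, ?_, N.bb, hsb', ?_⟩
  · calc s * ι (θ q * θ q₁) * (s * ι (θ q * θ q₁)) = s * (ι (θ q * θ q₁) * s) * ι (θ q * θ q₁) := by group
      _ = (s * s) * (ι (θ q * θ q₁) * ι (θ q * θ q₁)) := by rw [← cs']; group
      _ = 1 := by rw [N.ss, ← map_mul, CU_sq _ hq'.1, map_one, mul_one]
  · rw [hsb']
    calc b * r = r * (r⁻¹ * b * r) := by group
      _ = _ := by rw [k2, mul_assoc]

section Zero

variable (h : AutSpl x ι r) (N : NrmZero x r ι s b)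
include h N

theorem zero_mvw : Mv x ι ((ι pc)⁻¹ * s * ι pc) pv1 := by
  have m2 := mv_c h (mv_c h N.ms.toMv)
  have e1 : ι pc * (ι pc * s * (ι pc)⁻¹) * (ι pc)⁻¹ = (ι pc)⁻¹ * s * ι pc := by
    have e2 : ι pc * ι pc = (ι pc)⁻¹ := eq_inv_of_mul_eq_one_left (iccc h)
    calc ι pc * (ι pc * s * (ι pc)⁻¹) * (ι pc)⁻¹ = ι pc * ι pc * s * (ι pc * ι pc)⁻¹ := by group
      _ = _ := by rw [e2, inv_inv]
  have e3 : pc * (pc * pz * pc⁻¹) * pc⁻¹ = pv1 := by
    have e2 : pc * pc = pc⁻¹ := eq_inv_of_mul_eq_one_left ccc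
    calc pc * (pc * pz * pc⁻¹) * pc⁻¹ = pc * pc * pz * (pc * pc)⁻¹ := by group
      _ = _ := by rw [e2, inv_inv, cz']
  rw [e1, e3] at m2
  exact m2

theorem zero_mvw₂ : Mv x ι (ι pc * s * (ι pc)⁻¹) (pz * pv1) := by
  have := mv_c h N.ms.toMv
  rwa [cz] at this

theorem zero_bw : Commute b ((ι pc)⁻¹ * s * ι pc) := by
  have h1 : Commute b (ι pc) := N.bc
  have h2 : Commute b s := N.sb.symm
  exact (h1.inv_right.mul_right h2).mul_right h1

theorem zero_bw₂ : Commute b (ι pc * s * (ι pc)⁻¹) := by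
  have h1 : Commute b (ι pc) := N.bc
  have h2 : Commute b s := N.sb.symm
  exact (h1.mul_right h2).mul_right h1.inv_right

theorem zero_q : ∃ q, CU q ∧ s * ((ι pc)⁻¹ * s * ι pc) * (ι pc * s * (ι pc)⁻¹) = ι q := by
  have m := (N.ms.toMv.mul (zero_mvw h N) CU_v1).mul (zero_mvw₂ h N) (CU_mul CU_z CU_v1)
  have e1 : pz * pv1 * (pz * pv1) = 1 := CU_sq _ (CU_mul CU_z CU_v1)
  rw [e1] at m
  have hx := m.x
  rw [map_one, mul_one] at hx
  obtain ⟨q, hq, e | e⟩ := cent_U h m (mul_inv_eq_iff_eq_mul.1 hx)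
  · exact ⟨q, hq, e⟩
  · exfalso
    have h1 : Commute b (x * ι q) := by
      rw [← e]
      exact ((show Commute b s from N.sb.symm).mul_right (zero_bw h N)).mul_right (zero_bw₂ h N)
    have h2 : Commute b (ι q) := N.mb.toMv.comm hq
    have h3 : Commute b x := by
      have h4 := h1.mul_right h2.inv_right
      rwa [mul_inv_cancel_right] at h4
    have h5 := N.mb.x
    rw [h3.eq, mul_inv_cancel_right] at h5
    exact f_ne (h.one_iff.1 (mul_left_cancel (h5.symm.trans (mul_one x).symm)))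

theorem zero_ww : (ι pc)⁻¹ * s * ι pc * ((ι pc)⁻¹ * s * ι pc) = 1 := by
  calc (ι pc)⁻¹ * s * ι pc * ((ι pc)⁻¹ * s * ι pc) = (ι pc)⁻¹ * (s * s) * ι pc := by group
    _ = 1 := by rw [N.ss]; group

theorem zero_ww₂ : ι pc * s * (ι pc)⁻¹ * (ι pc * s * (ι pc)⁻¹) = 1 := by
  calc ι pc * s * (ι pc)⁻¹ * (ι pc * s * (ι pc)⁻¹) = ι pc * (s * s) * (ι pc)⁻¹ := by group
    _ = 1 := by rw [N.ss]; group

theorem zero_sw : s * ((ι pc)⁻¹ * s * ι pc) = (ι pc)⁻¹ * s * ι pc * s := by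
  obtain ⟨q, hq, e⟩ := zero_q h N
  obtain ⟨w, hw⟩ : ∃ w, w = (ι pc)⁻¹ * s * ι pc := ⟨_, rfl⟩
  obtain ⟨w₂, hw₂⟩ : ∃ w₂, w₂ = ι pc * s * (ι pc)⁻¹ := ⟨_, rfl⟩
  have e3 := zero_ww h N
  have e4 := zero_ww₂ h N
  have e5 := (zero_mvw₂ h N).comm hq
  rw [← hw, ← hw₂] at e
  rw [← hw] at e3
  rw [← hw₂] at e4 e5
  rw [← hw]
  have e6 : s * w = ι q * w₂ := by
    rw [← e, mul_assoc, e4, mul_one]
  have e7 : s * w * (s * w) = 1 := by
    rw [e6]
    calc ι q * w₂ * (ι q * w₂) = ι q * (w₂ * ι q) * w₂ := by group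
      _ = ι q * ι q * (w₂ * w₂) := by rw [e5]; group
      _ = 1 := by rw [← map_mul, CU_sq q hq, map_one, one_mul, e4]
  calc s * w = s * w * (s * w) * (w * s) := by
        calc s * w = s * w * ((s * (w * w) * s)) := by rw [e3, mul_one, N.ss, mul_one]
          _ = _ := by group
    _ = w * s := by rw [e7, one_mul]

/-- `v₂ w v₂ = w₂` -/
theorem zero_v2w : ι pv2 * ((ι pc)⁻¹ * s * ι pc) * ι pv2 = ι pc * s * (ι pc)⁻¹ := by
  have hv2 : ι pv2 * ι pv2 = 1 := by rw [← map_mul, v22, map_one]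
  have h1 : ι pv2 * ι pc * ι pv2 = (ι pc)⁻¹ := by rw [← map_mul, ← map_mul, v2c, map_inv]
  have hv : (ι pv2)⁻¹ = ι pv2 := inv_eq_of_mul_eq_one_right hv2
  have h2 : ι pv2 * (ι pc)⁻¹ * ι pv2 = ι pc := by
    rw [← h1]
    calc ι pv2 * (ι pv2 * ι pc * ι pv2) * ι pv2 = (ι pv2 * ι pv2) * ι pc * (ι pv2 * ι pv2) := by group
      _ = ι pc := by rw [hv2]; group
  have h3 : ι pv2 * s * ι pv2 = s := by rw [← N.ms.v2, mul_assoc, hv2, mul_one]
  calc ι pv2 * ((ι pc)⁻¹ * s * ι pc) * ι pv2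
      = ι pv2 * (ι pc)⁻¹ * (ι pv2 * (ι pv2)⁻¹) * s * ((ι pv2)⁻¹ * ι pv2) * ι pc * ι pv2 := by group
    _ = ι pv2 * (ι pc)⁻¹ * ι pv2 * (ι pv2 * s * ι pv2) * (ι pv2 * ι pc * ι pv2) := by
        rw [hv]; simp only [mul_assoc]
    _ = ι pc * s * (ι pc)⁻¹ := by rw [h2, h3, h1]

theorem zero_ww' : ((ι pc)⁻¹ * s * ι pc) * (ι pc * s * (ι pc)⁻¹) = (ι pc * s * (ι pc)⁻¹) * ((ι pc)⁻¹ * s * ι pc) := by
  have h1 := zero_sw h N
  have e2 : ι pc * ι pc = (ι pc)⁻¹ := eq_inv_of_mul_eq_one_left (iccc h)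
  have e3 : (ι pc)⁻¹ * ((ι pc)⁻¹ * s * ι pc) * ι pc = ι pc * s * (ι pc)⁻¹ := by
    calc (ι pc)⁻¹ * ((ι pc)⁻¹ * s * ι pc) * ι pc = (ι pc * ι pc)⁻¹ * s * (ι pc * ι pc) := by group
      _ = _ := by rw [e2, inv_inv]
  rw [← e3]
  calc (ι pc)⁻¹ * s * ι pc * ((ι pc)⁻¹ * ((ι pc)⁻¹ * s * ι pc) * ι pc)
      = (ι pc)⁻¹ * (s * ((ι pc)⁻¹ * s * ι pc)) * ι pc := by group
    _ = (ι pc)⁻¹ * ((ι pc)⁻¹ * s * ι pc * s) * ι pc := by rw [h1]
    _ = _ := by group

theorem zero_v2w' : ∃ n, (n = 1 ∨ n = ι pz ∨ n = ι pf ∨ n = ι pf * ι pz) ∧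
    ι pv2 * ((ι pc)⁻¹ * s * ι pc) * ι pv2 = ((ι pc)⁻¹ * s * ι pc) * (s * n) := by
  obtain ⟨q, hq, e⟩ := zero_q h N
  have hv2 : ι pv2 * ι pv2 = 1 := by rw [← map_mul, v22, map_one]
  have h3 : ι pv2 * s * ι pv2 = s := by rw [← N.ms.v2, mul_assoc, hv2, mul_one]
  obtain ⟨w, hw⟩ : ∃ w, w = (ι pc)⁻¹ * s * ι pc := ⟨_, rfl⟩
  obtain ⟨w₂, hw₂⟩ : ∃ w₂, w₂ = ι pc * s * (ι pc)⁻¹ := ⟨_, rfl⟩
  have a1 := zero_v2w h N
  have a2 := zero_sw h N
  have a3 := zero_ww h N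
  have a4 := zero_ww' h N
  have a5 : w₂ * ι q = ι q * w₂ := hw₂ ▸ (zero_mvw₂ h N).comm hq
  rw [← hw, ← hw₂] at e a1 a4
  rw [← hw] at a2 a3
  rw [← hw]
  have a6 : ι pv2 * w₂ * ι pv2 = w := by
    rw [← a1]
    calc ι pv2 * (ι pv2 * w * ι pv2) * ι pv2 = (ι pv2 * ι pv2) * w * (ι pv2 * ι pv2) := by group
      _ = w := by rw [hv2]; group
  -- `ι q` commutes with `v₂`
  have hqL : CL q := by
    refine ⟨hq, h.comm_ι.1 ?_⟩
    have h4 : ι pv2 * ι q * ι pv2 = ι q := by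
      rw [← e]
      calc ι pv2 * (s * w * w₂) * ι pv2 = ι pv2 * s * 1 * w * 1 * w₂ * ι pv2 := by group
        _ = (ι pv2 * s * ι pv2) * (ι pv2 * w * ι pv2) * (ι pv2 * w₂ * ι pv2) := by
            rw [← hv2]; simp only [mul_assoc]
        _ = s * w₂ * w := by rw [h3, a1, a6]
        _ = s * w * w₂ := by rw [mul_assoc, ← a4, mul_assoc]
    calc ι q * ι pv2 = ι pv2 * ι q * ι pv2 * ι pv2 := by rw [h4]
      _ = ι pv2 * ι q := by rw [mul_assoc, hv2, mul_one]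
  have hws : w * (s * ι q) = w₂ := by
    rw [← e]
    calc w * (s * (s * w * w₂)) = w * (s * s) * w * w₂ := by group
      _ = w₂ := by rw [N.ss, mul_one, a3, one_mul]
  refine ⟨ι q, ?_, by rw [a1, hws]⟩
  rcases CL_eq hqL with e | e | e | e <;> rw [e]
  · left; rw [map_one]
  · right; left; rfl
  · right; right; left; rfl
  · right; right; right; rw [map_mul]

omit h N in
theorem cz_f : ∀ a : Perm (Fin 6), a * pz = pz * a → a * pf = pf * a := by decide +kernel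

omit h N in
theorem ι_T0 {a : Perm (Fin 6)} (ha : a * pz = pz * a) :
    ι a ∈ T0 x (ι pz) (ι pf) (ι pv1) (ι pv2) := by
  obtain ⟨i, j, k, l, rfl⟩ := cent_zf a ha (cz_f a ha)
  rw [map_mul, map_mul, map_mul, map_pow, map_pow, map_pow, map_pow]
  have m : ∀ y ∈ ({x, ι pz, ι pf, ι pv1, ι pv2} : Set G), y ∈ T0 x (ι pz) (ι pf) (ι pv1) (ι pv2) :=
    fun y hy => subset_closure hy
  exact mul_mem (pow_mem (m _ (by simp)) _) (mul_mem (pow_mem (m _ (by simp)) _)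
    (mul_mem (pow_mem (m _ (by simp)) _) (pow_mem (m _ (by simp)) _)))

omit h N in
theorem x_T0 : x ∈ T0 x (ι pz) (ι pf) (ι pv1) (ι pv2) := subset_closure (by simp)

theorem zero_T_form {t : G} (hx : t * x = x * t) (hz : t * ι pz = ι pz * t) :
    t ∈ T0 x (ι pz) (ι pf) (ι pv1) (ι pv2) ∨ ∃ u ∈ T0 x (ι pz) (ι pf) (ι pv1) (ι pv2), t = r * ι pv2 * u := by
  obtain ⟨a, ha, e⟩ := mem_T h hx hz
  have hθ : θ a * pz = pz * θ a := by
    have := congrArg θ ha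
    rwa [map_mul, map_mul, θ_z] at this
  have hv2 : ι pv2 * ι pv2 = 1 := by rw [← map_mul, v22, map_one]
  have h1 : ι pv2 * ι (θ a) ∈ T0 x (ι pz) (ι pf) (ι pv1) (ι pv2) :=
    mul_mem (ι_T0 zv2.symm) (ι_T0 hθ)
  have h2 : ι a * r = r * ι pv2 * (ι pv2 * ι (θ a)) := by
    rw [h.ιr]
    calc r * ι (θ a) = r * (ι pv2 * ι pv2) * ι (θ a) := by rw [hv2, mul_one]
      _ = _ := by group
  rcases e with e | e | e | e
  · left; rw [e]; exact ι_T0 ha
  · left; rw [e]; exact mul_mem x_T0 (ι_T0 ha)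
  · right; exact ⟨_, h1, by rw [e, h2]⟩
  · right
    refine ⟨x * (ι pv2 * ι (θ a)), mul_mem x_T0 h1, ?_⟩
    rw [e, h2]
    have h3 : x * (r * ι pv2) = r * ι pv2 * x := by rw [← mul_assoc, ← h.rx, mul_assoc, h.comm, mul_assoc]
    rw [← mul_assoc x, h3, mul_assoc]

theorem zero_eps : (r * ι pv2 * (r * ι pv2) = ι pv1 * ι pv2 ∧ s * (r * ι pv2) = r * ι pv2 * s) ∨
    (r * ι pv2 * (r * ι pv2) = ι pv1 * ι pv2 * x ∧ s * (r * ι pv2) = r * ι pv2 * (s * ι pf)) := by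
  have h1 : r * ι pv2 = ι pv1 * r := by
    have := h.rι pv2
    rwa [θ_v2] at this
  have h2 : r * ι pv2 * (r * ι pv2) = ι pv1 * (r * r) * ι pv2 := by
    nth_rw 1 [h1]; group
  have h3 : b * (r * r) = r * (s * r) * (s * b) := by
    calc b * (r * r) = b * r * r := by group
      _ = r * (s * b) * r := by rw [N.br]
      _ = r * s * (b * r) := by group
      _ = r * s * (r * (s * b)) := by rw [N.br]
      _ = _ := by group
  have hsb : s * b * (s * b) = 1 := by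
    calc s * b * (s * b) = s * (b * s) * b := by group
      _ = (s * s) * (b * b) := by rw [← N.sb]; group
      _ = 1 := by rw [N.ss, N.bb, one_mul]
  have h4 : r * (s * r) = b * (r * r) * (s * b) := by
    rw [h3]
    calc r * (s * r) = r * (s * r) * (s * b * (s * b)) := by rw [hsb, mul_one]
      _ = _ := by group
  have v2s := N.ms.v2
  rcases h.rr with e | e
  · left
    refine ⟨by rw [h2, e, mul_one], ?_⟩
    have h5 : s * r = r * s := by
      have h6 : r * (s * r) = s := by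
        rw [h4, e, mul_one, N.sb, ← mul_assoc, N.bb, one_mul]
      calc s * r = (r * r) * (s * r) := by rw [e, one_mul]
        _ = r * (r * (s * r)) := by group
        _ = r * s := by rw [h6]
    rw [← mul_assoc, h5, mul_assoc, v2s, mul_assoc]
  · right
    refine ⟨by rw [h2, e, mul_assoc, h.comm, ← mul_assoc], ?_⟩
    have hbx : b * x = x * ι pf * b := mul_inv_eq_iff_eq_mul.1 N.mb.x
    have h5 : s * r = r * (s * ι pf) := by
      have h6 : r * (s * r) = x * (s * ι pf) := by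
        rw [h4, e, hbx, N.sb]
        calc x * ι pf * b * (b * s) = x * ι pf * (b * b) * s := by group
          _ = x * (s * ι pf) := by rw [N.bb, mul_one, N.ms.f, mul_assoc]
      have h7 : r * (s * r) = r * (r * (s * ι pf)) := by
        rw [h6, ← e]; group
      exact mul_left_cancel h7
    calc s * (r * ι pv2) = s * r * ι pv2 := by group
      _ = r * (s * (ι pf * ι pv2)) := by rw [h5]; group
      _ = r * (s * ι pv2 * ι pf) := by rw [h.comm_ι.2 fv2]; group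
      _ = _ := by rw [v2s]; group

theorem zero_dbl (T : Subgroup G) (hT : ∀ g, g ∈ T ↔ g * x = x * g ∧ g * ι pz = ι pz * g) (pT : IsPGroup 2 T)
    (syl : ∀ P : Subgroup G, IsPGroup 2 P → (∀ y ∈ P, y * x = x * y) →
      ∃ g, g * x = x * g ∧ ∀ y ∈ P, g * y * g⁻¹ ∈ T) :
    DblZero x (ι pz) (ι pf) (ι pv1) (ι pv2) s b ((ι pc)⁻¹ * s * ι pc) (r * ι pv2) T where
  xx := h.xx
  zz := by rw [← map_mul, zz, map_one]
  ff := by rw [← map_mul, ff, map_one]
  v11 := by rw [← map_mul, v11, map_one]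
  v22 := by rw [← map_mul, v22, map_one]
  ss := N.ss
  bb := N.bb
  z1 := fun e => z_ne (h.one_iff.1 e)
  f1 := fun e => f_ne (h.one_iff.1 e)
  fz1 := fun e => f_ne_z (h.inj e)
  xz := h.comm _
  xf := h.comm _
  xv₁ := h.comm _
  xv₂ := h.comm _
  xr := by rw [← mul_assoc, ← h.rx, mul_assoc, h.comm, mul_assoc]
  zf := h.comm_ι.2 fz.symm
  zv₁ := h.comm_ι.2 zv1
  zv₂ := h.comm_ι.2 zv2
  zs := N.ms.z.symm
  zb := N.mb.z.symm
  zr := by
    have h1 := h.ιr pz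
    rw [θ_z] at h1
    rw [← mul_assoc, h1, mul_assoc, h.comm_ι.2 zv2, mul_assoc]
  fv₁ := h.comm_ι.2 fv1
  fv₂ := h.comm_ι.2 fv2
  fs := N.ms.f.symm
  fb := N.mb.f.symm
  v₁s := N.ms.v1.symm
  v₁b := N.mb.v1.symm
  v₂s := N.ms.v2.symm
  v₂b := N.mb.v2.symm
  v₂v₁ := by
    rw [← map_mul, ← map_mul, ← map_mul]
    congr 1
    rw [v12, mul_assoc, zz, mul_one]
  xs := by
    have h1 : s * x = x * ι pz * s := mul_inv_eq_iff_eq_mul.1 N.ms.x
    rw [← mul_assoc, h1, mul_assoc, mul_assoc, N.ms.z, ← mul_assoc (ι pz), ← map_mul, zz, map_one, one_mul]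
  xb := by
    have h1 : b * x = x * ι pf * b := mul_inv_eq_iff_eq_mul.1 N.mb.x
    rw [← mul_assoc, h1, mul_assoc, mul_assoc, N.mb.f, ← mul_assoc (ι pf), ← map_mul, ff, map_one, one_mul]
  fr := by
    have h1 := h.ιr pf
    rw [θ_f] at h1
    rw [← mul_assoc, h1, mul_assoc, mul_assoc, ← map_mul, ← map_mul, ← map_mul]
    congr 2
    rw [mul_assoc, zv2, ← mul_assoc, fv2, mul_assoc]
  v₁r := by
    have h1 := h.ιr pv1
    rw [θ_v1] at h1
    rw [← mul_assoc, h1]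
  pT := pT
  Tx := fun t ht => ((hT t).1 ht).1
  syl := syl
  cardT := card_T h T hT
  xT := (hT x).2 ⟨rfl, h.comm _⟩
  fT := (hT _).2 ⟨(h.comm _).symm, h.comm_ι.2 fz⟩
  v₁T := (hT _).2 ⟨(h.comm _).symm, h.comm_ι.2 zv1.symm⟩
  rT := by
    refine (hT _).2 (of_T h (a := pv1) zv1.symm (Or.inr (Or.inr (Or.inl ?_))))
    have := h.rι pv2
    rwa [θ_v2] at this
  T_form := fun t ht => zero_T_form h N ((hT t).1 ht).1 ((hT t).1 ht).2
  cent := by
    intro g h1 h2 h3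
    obtain ⟨q, q1, -, e | e⟩ := cent_l h h1 h2 h3
    · rw [e]; exact ι_T0 q1
    · rw [e]; exact mul_mem x_T0 (ι_T0 q1)
  sb := N.sb
  br := by
    rw [← mul_assoc, N.br, mul_assoc, mul_assoc, N.mb.v2, ← mul_assoc s, N.ms.v2]
    simp only [mul_assoc]
  eps := zero_eps h N
  ww := zero_ww h N
  zw := (zero_mvw h N).z.symm
  fw := (zero_mvw h N).f.symm
  v₁w := (zero_mvw h N).v1.symm
  sw := zero_sw h N
  bw := (zero_bw h N).eq
  xw := by
    have m := zero_mvw h N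
    have h1 : (ι pc)⁻¹ * s * ι pc * x = x * ι pv1 * ((ι pc)⁻¹ * s * ι pc) := mul_inv_eq_iff_eq_mul.1 m.x
    have hv : ι pv1 * ι pv1 = 1 := by rw [← map_mul, v11, map_one]
    obtain ⟨w, hw⟩ : ∃ w, w = (ι pc)⁻¹ * s * ι pc := ⟨_, rfl⟩
    have m1 := m.v1
    rw [← hw] at h1 m1 ⊢
    rw [← mul_assoc w, h1, mul_assoc (x * ι pv1), m1, mul_assoc, ← mul_assoc (ι pv1), hv, one_mul]
  v₂w := zero_v2w' h N

end Zero

/-- the two cases of (DBL) -/
theorem dbl_cases (h : AutSpl x ι r) (hz : ∃ g, Mv x ι g pz) (hf : ∃ g, Mv x ι g pf) (T : Subgroup G)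
    (hT : ∀ g, g ∈ T ↔ g * x = x * g ∧ g * ι pz = ι pz * g) (pT : IsPGroup 2 T)
    (syl : ∀ P : Subgroup G, IsPGroup 2 P → (∀ y ∈ P, y * x = x * y) →
      ∃ g, g * x = x * g ∧ ∀ y ∈ P, g * y * g⁻¹ ∈ T) :
    (∃ s b, NrmOne x r ι s b) ∨
      ∃ s b w, DblZero x (ι pz) (ι pf) (ι pv1) (ι pv2) s b w (r * ι pv2) T := by
  obtain ⟨s, b, N⟩ := exists_nrm h hz hf
  rcases N.e with ⟨e0, er⟩ | ⟨e1, er⟩
  · right
    obtain ⟨s', N'⟩ := exists_nrmZero h N e0 er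
    exact ⟨s', b, _, zero_dbl h N' T hT pT syl⟩
  · left
    exact ⟨s, b, N, e1, er⟩

/-- **(DBL) is impossible**, from the case `e = 0` (`h0`) and an elementary abelian normal subgroup `W ∋ f` of
`C(z)`, `W ≤ T₈` (used for `e = 1` only) -/
theorem dbl_false (h : AutSpl x ι r) (hz : ∃ g, Mv x ι g pz) (hf : ∃ g, Mv x ι g pf) (T : Subgroup G)
    (hT : ∀ g, g ∈ T ↔ g * x = x * g ∧ g * ι pz = ι pz * g) (pT : IsPGroup 2 T)
    (syl : ∀ P : Subgroup G, IsPGroup 2 P → (∀ y ∈ P, y * x = x * y) →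
      ∃ g, g * x = x * g ∧ ∀ y ∈ P, g * y * g⁻¹ ∈ T)
    (h0 : ∀ s b w, DblZero x (ι pz) (ι pf) (ι pv1) (ι pv2) s b w (r * ι pv2) T → False)
    (nxz : ∀ g, g * ι pz * g⁻¹ ≠ x) (W : Subgroup G) (hfW : ι pf ∈ W) (hel : ∀ a ∈ W, a * a = 1)
    (hn : ∀ g, g * ι pz = ι pz * g → ∀ a ∈ W, g * a * g⁻¹ ∈ W)
    (hT8 : ∀ a ∈ W, a * ι pz = ι pz * a ∧ a * ι pf = ι pf * a ∧ ∃ q, CL q ∧ a * x * a⁻¹ = x * ι q) : False := by
  rcases dbl_cases h hz hf T hT pT syl with ⟨s, b, N⟩ | ⟨s, b, w, D⟩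
  · exact one_false h N nxz W hfW hel hn hT8
  · exact h0 s b w D

end Cfsg.Agent.OddHalf.D5.SixAut.DblNorm
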