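import Cfsg.Agent.OddHalf.D5.SixAut.Theta

/-!
# ODD D5, `n = 6`: the situation `C_G(x)/⟨x⟩ = Aut(A_6)`

`AutSpl x ι r` : `C_G(x) = ⟨x⟩ × ι(S_6)` extended by `r`, `r ι(a) r⁻¹ = ι(θ a)`, `r² ∈ {1, x}`.
-/

set_option autoImplicit false

namespace Cfsg.Agent.OddHalf.D5.SixAut

open Equiv

variable {G : Type*} [Group G]

/-- `C_G(x)/⟨x⟩ = Aut(A_6)`, `B = C(x)/K` abelian, `f² = 1`: `r` acts as the involutory outer automorphism `θ`. -/
structure AutSpl (x : G) (ι : Perm (Fin 6) →* G) (r : G) : Prop where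
  xx : x * x = 1
  x1 : x ≠ 1
  inj : Function.Injective ι
  comm : ∀ a, x * ι a = ι a * x
  ne : ∀ a, ι a ≠ x
  rx : r * x = x * r
  rr : r * r = 1 ∨ r * r = x
  conj : ∀ a, r * ι a * r⁻¹ = ι (θ a)
  cent : ∀ g, g * x = x * g → ∃ a, g = ι a ∨ g = x * ι a ∨ g = ι a * r ∨ g = x * (ι a * r)

theorem θ_ne_conj (a : Perm (Fin 6)) : ∃ b, θ b ≠ a * b * a⁻¹ := by
  refine ⟨swap 0 1, fun h => ?_⟩
  have h1 : (θ (swap 0 1)).support.card = (a * swap 0 1 * a⁻¹).support.card := by rw [h]
  rw [Perm.card_support_conj] at h1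
  revert h1
  decide +kernel

namespace AutSpl

variable {x r : G} {ι : Perm (Fin 6) →* G} (h : AutSpl x ι r)
include h

theorem comm' (a : Perm (Fin 6)) : ι a * x = x * ι a := (h.comm a).symm

theorem x_inv : x⁻¹ = x := inv_eq_of_mul_eq_one_left h.xx

theorem one_iff {a : Perm (Fin 6)} : ι a = 1 ↔ a = 1 :=
  ⟨fun e => h.inj (e.trans (map_one ι).symm), fun e => by rw [e, map_one]⟩

/-- `r ι(a) = ι(θ a) r` -/
theorem rι (a : Perm (Fin 6)) : r * ι a = ι (θ a) * r := by
  rw [← h.conj, inv_mul_cancel_right]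

theorem ιr (a : Perm (Fin 6)) : ι a * r = r * ι (θ a) := by
  rw [h.rι, θ_θ]

theorem rι_inv (a : Perm (Fin 6)) : r⁻¹ * ι a * r = ι (θ a) := by
  rw [mul_assoc, h.ιr, inv_mul_cancel_left]

theorem r_notin (a : Perm (Fin 6)) : r ≠ ι a := by
  intro e
  obtain ⟨b, hb⟩ := θ_ne_conj a
  apply hb
  apply h.inj
  rw [← h.conj, e, map_mul, map_mul, map_inv]

theorem r_notin' (a : Perm (Fin 6)) : r ≠ x * ι a := by
  intro e
  obtain ⟨b, hb⟩ := θ_ne_conj a
  apply hb
  apply h.inj
  rw [← h.conj, e, map_mul, map_mul, map_inv]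
  have h1 := h.comm (a * b * a⁻¹)
  rw [map_mul, map_mul, map_inv] at h1
  calc x * ι a * ι b * (x * ι a)⁻¹ = (x * (ι a * ι b * (ι a)⁻¹)) * x⁻¹ := by group
    _ = ι a * ι b * (ι a)⁻¹ := by rw [h1]; group

/-- uniqueness of the representation -/
theorem ne_x (a b : Perm (Fin 6)) : ι a ≠ x * ι b := by
  intro e
  apply h.ne (a * b⁻¹)
  rw [map_mul, map_inv, e, mul_assoc, mul_inv_cancel, mul_one]

theorem ne_r (a b : Perm (Fin 6)) : ι a ≠ ι b * r := by
  intro e
  apply h.r_notin (b⁻¹ * a)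
  rw [map_mul, map_inv, e, inv_mul_cancel_left]

theorem ne_xr (a b : Perm (Fin 6)) : ι a ≠ x * (ι b * r) := by
  intro e
  apply h.r_notin' (b⁻¹ * a)
  rw [map_mul, map_inv, e]
  calc r = (x * x) * r := by rw [h.xx, one_mul]
    _ = x * (ι b)⁻¹ * (ι b * x) * r := by group
    _ = x * (ι b)⁻¹ * (x * ι b) * r := by rw [h.comm']
    _ = x * ((ι b)⁻¹ * (x * (ι b * r))) := by group

theorem ι_inj {a b : Perm (Fin 6)} (e : ι a = ι b) : a = b := h.inj e

/-- `x` and `ι(a)` -/
theorem xι_inj {a b : Perm (Fin 6)} (e : x * ι a = x * ι b) : a = b := h.inj (mul_left_cancel e)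

theorem comm_ι {a b : Perm (Fin 6)} : ι a * ι b = ι b * ι a ↔ a * b = b * a := by
  rw [← map_mul, ← map_mul]
  exact ⟨fun e => h.inj e, fun e => by rw [e]⟩

/-- `ι(a) r` commutes with `ι(b)` iff `a θ(b) = b a` -/
theorem comm_r {a b : Perm (Fin 6)} : (ι a * r) * ι b = ι b * (ι a * r) ↔ a * θ b = b * a := by
  rw [mul_assoc, h.rι, ← mul_assoc, ← map_mul, ← mul_assoc, ← map_mul]
  exact ⟨fun e => h.inj (mul_right_cancel e), fun e => by rw [e]⟩

/-- the square of `ι(a) r` -/
theorem sq_r (a : Perm (Fin 6)) : (ι a * r) * (ι a * r) = ι (a * θ a) * (r * r) := by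
  calc (ι a * r) * (ι a * r) = ι a * (r * ι a) * r := by group
    _ = ι (a * θ a) * (r * r) := by rw [h.rι, map_mul]; group

theorem rr_comm (g : G) (hg : g * x = x * g) : g * (r * r) = (r * r) * g := by
  rcases h.rr with e | e
  · rw [e, mul_one, one_mul]
  · rw [e, hg]

/-- everything in `C(x)` -/
theorem mem_cent (g : G) (hg : ∃ a, g = ι a ∨ g = x * ι a ∨ g = ι a * r ∨ g = x * (ι a * r)) : g * x = x * g := by
  obtain ⟨a, rfl | rfl | rfl | rfl⟩ := hg
  · exact h.comm' a
  · rw [mul_assoc, h.comm']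
  · rw [mul_assoc, h.rx, ← mul_assoc, h.comm', mul_assoc]
  · calc x * (ι a * r) * x = x * (ι a * (r * x)) := by group
      _ = x * (ι a * x * r) := by rw [h.rx]; group
      _ = x * (x * (ι a * r)) := by rw [h.comm']; group

/-- the other involution modulo `x`: replace `r` by `x r` -/
theorem xr : AutSpl x ι (x * r) where
  xx := h.xx
  x1 := h.x1
  inj := h.inj
  comm := h.comm
  ne := h.ne
  rx := by rw [mul_assoc, h.rx]
  rr := by
    have e : x * r * (x * r) = r * r := by
      calc x * r * (x * r) = x * (r * x) * r := by group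
        _ = (x * x) * (r * r) := by rw [h.rx]; group
        _ = r * r := by rw [h.xx, one_mul]
    rw [e]; exact h.rr
  conj := by
    intro a
    calc x * r * ι a * (x * r)⁻¹ = x * (r * ι a * r⁻¹) * x⁻¹ := by group
      _ = ι (θ a) := by rw [h.conj, h.comm, mul_inv_cancel_right]
  cent := by
    intro g hg
    obtain ⟨a, e⟩ := h.cent g hg
    refine ⟨a, ?_⟩
    rcases e with e | e | e | e
    · exact Or.inl e
    · exact Or.inr (Or.inl e)
    · right; right; right
      rw [e]
      calc ι a * r = (x * x) * (ι a * r) := by rw [h.xx, one_mul]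
        _ = x * ((x * ι a) * r) := by group
        _ = x * (ι a * (x * r)) := by rw [h.comm]; group
    · right; right; left
      rw [e]
      calc x * (ι a * r) = (x * ι a) * r := by group
        _ = ι a * (x * r) := by rw [h.comm]; group

/-- transport by conjugation -/
theorem conj_by (y : G) : AutSpl (y * x * y⁻¹) ((MulAut.conj y).toMonoidHom.comp ι) (y * r * y⁻¹) where
  xx := by
    calc y * x * y⁻¹ * (y * x * y⁻¹) = y * (x * x) * y⁻¹ := by group
      _ = 1 := by rw [h.xx]; group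
  x1 := by
    intro e
    apply h.x1
    rw [mul_inv_eq_one] at e
    exact mul_eq_left.1 e
  inj := (MulAut.conj y).injective.comp h.inj
  comm := by
    intro a
    show y * x * y⁻¹ * (y * ι a * y⁻¹) = y * ι a * y⁻¹ * (y * x * y⁻¹)
    calc y * x * y⁻¹ * (y * ι a * y⁻¹) = y * (x * ι a) * y⁻¹ := by group
      _ = y * (ι a * x) * y⁻¹ := by rw [h.comm a]
      _ = y * ι a * y⁻¹ * (y * x * y⁻¹) := by group
  ne := by
    intro a e
    apply h.ne a
    have e' : y * ι a * y⁻¹ = y * x * y⁻¹ := e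
    exact mul_left_cancel (mul_right_cancel e')
  rx := by
    calc y * r * y⁻¹ * (y * x * y⁻¹) = y * (r * x) * y⁻¹ := by group
      _ = y * x * y⁻¹ * (y * r * y⁻¹) := by rw [h.rx]; group
  rr := by
    have e : y * r * y⁻¹ * (y * r * y⁻¹) = y * (r * r) * y⁻¹ := by group
    rw [e]
    rcases h.rr with e1 | e1
    · left; rw [e1]; group
    · right; rw [e1]
  conj := by
    intro a
    show y * r * y⁻¹ * (y * ι a * y⁻¹) * (y * r * y⁻¹)⁻¹ = y * ι (θ a) * y⁻¹
    rw [← h.conj]; group
  cent := by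
    intro g hg
    have h1 : (y⁻¹ * g * y) * x = x * (y⁻¹ * g * y) := by
      calc (y⁻¹ * g * y) * x = y⁻¹ * (g * (y * x * y⁻¹)) * y := by group
        _ = y⁻¹ * (y * x * y⁻¹ * g) * y := by rw [hg]
        _ = x * (y⁻¹ * g * y) := by group
    obtain ⟨a, e⟩ := h.cent _ h1
    refine ⟨a, ?_⟩
    have e0 : g = y * (y⁻¹ * g * y) * y⁻¹ := by group
    rcases e with e | e | e | e
    · left
      show g = y * ι a * y⁻¹
      rw [← e]; exact e0
    · right; left
      show g = y * x * y⁻¹ * (y * ι a * y⁻¹)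
      rw [e0, e]; group
    · right; right; left
      show g = y * ι a * y⁻¹ * (y * r * y⁻¹)
      rw [e0, e]; group
    · right; right; right
      show g = y * x * y⁻¹ * (y * ι a * y⁻¹ * (y * r * y⁻¹))
      rw [e0, e]; group

omit h

/-- the sign twist of `ι` -/
def twist (x : G) (hx : x * x = 1) (ι : Perm (Fin 6) →* G) (hc : ∀ a, x * ι a = ι a * x) : Perm (Fin 6) →* G where
  toFun a := (if Perm.sign a = 1 then 1 else x) * ι a
  map_one' := by simp
  map_mul' := by
    intro a b
    rcases Int.units_eq_one_or (Perm.sign a) with ha | ha <;>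
    rcases Int.units_eq_one_or (Perm.sign b) with hb | hb
    · simp [ha, hb]
    · have : (-1 : ℤˣ) ≠ 1 := by decide
      simp only [map_mul, ha, hb, if_true, one_mul, if_neg this]
      rw [← mul_assoc, hc a, mul_assoc]
    · have : (-1 : ℤˣ) ≠ 1 := by decide
      simp only [map_mul, ha, hb, if_true, mul_one, if_neg this, mul_assoc, one_mul]
    · have : (-1 : ℤˣ) ≠ 1 := by decide
      have h2 : (-1 : ℤˣ) * -1 = 1 := by decide
      simp only [map_mul, ha, hb, h2, if_true, if_neg this, one_mul]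
      calc ι a * ι b = (x * x) * ι a * ι b := by rw [hx, one_mul]
        _ = x * (x * ι a) * ι b := by group
        _ = x * (ι a * x) * ι b := by rw [hc a]
        _ = x * ι a * (x * ι b) := by group

theorem twist_apply (x : G) (hx : x * x = 1) (ι : Perm (Fin 6) →* G) (hc : ∀ a, x * ι a = ι a * x) (a) :
    twist x hx ι hc a = (if Perm.sign a = 1 then 1 else x) * ι a := rfl

theorem twist_even (x : G) (hx : x * x = 1) (ι : Perm (Fin 6) →* G) (hc : ∀ a, x * ι a = ι a * x) {a}
    (ha : Perm.sign a = 1) : twist x hx ι hc a = ι a := by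
  rw [twist_apply, if_pos ha, one_mul]

theorem twist_odd (x : G) (hx : x * x = 1) (ι : Perm (Fin 6) →* G) (hc : ∀ a, x * ι a = ι a * x) {a}
    (ha : Perm.sign a ≠ 1) : twist x hx ι hc a = x * ι a := by
  rw [twist_apply, if_neg ha]

include h

/-- the twisted situation: `f` is replaced by `x f` -/
theorem spl_twist : AutSpl x (twist x h.xx ι h.comm) r where
  xx := h.xx
  x1 := h.x1
  inj := by
    rw [injective_iff_map_eq_one]
    intro a ha
    rw [twist_apply] at ha
    split_ifs at ha with hs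
    · rw [one_mul] at ha
      exact h.one_iff.1 ha
    · exfalso
      apply h.ne a⁻¹
      rw [map_inv, ← mul_eq_one_iff_eq_inv.1 ha]
  comm := by
    intro a
    rw [twist_apply]
    split_ifs
    · rw [one_mul, h.comm]
    · rw [mul_assoc, ← h.comm]
  ne := by
    intro a e
    rw [twist_apply] at e
    split_ifs at e with hs
    · rw [one_mul] at e; exact h.ne a e
    · have h1 : ι a = 1 := mul_eq_left.1 e
      have h2 := h.one_iff.1 h1
      rw [h2] at hs
      exact hs (by simp)
  rx := h.rx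
  rr := h.rr
  conj := by
    intro a
    rw [twist_apply, twist_apply, sign_θ]
    split_ifs
    · rw [one_mul, one_mul, h.conj]
    · rw [← mul_assoc, h.rx, ← h.conj]; group
  cent := by
    intro g hg
    obtain ⟨a, e⟩ := h.cent g hg
    refine ⟨a, ?_⟩
    rw [twist_apply]
    by_cases hs : Perm.sign a = 1
    · rw [if_pos hs, one_mul]; exact e
    · rw [if_neg hs]
      rcases e with e | e | e | e
      · right; left; rw [e, ← mul_assoc, h.xx, one_mul]
      · left; exact e
      · right; right; right; rw [e, mul_assoc, ← mul_assoc, h.xx, one_mul]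
      · right; right; left; rw [e, mul_assoc]

end AutSpl

end Cfsg.Agent.OddHalf.D5.SixAut
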