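import Cfsg.Agent.OddHalf.D5.SixAut.Defs

/-!
# ODD D5, `n = 6`, `C_G(x)/⟨x⟩ = Aut(A_6)`: the general situation

`AutGen x ι f r` : `K = ι(A_6)`, `f` acts as `(4 5)`, `r` as `θ`; `f², r² ∈ {1, x}`, `[r, f] ∈ z {1, x}`.
Three cases (`AutGen.cases`): `AutSpl` (`f² = 1`, `B` abelian), `AutIso` (`f² = x`), `AutTw` (`f² = 1`,
`r f r⁻¹ = x f z`).
-/

set_option autoImplicit false

namespace Cfsg.Agent.OddHalf.D5.SixAut

open Equiv

/-- the alternating group -/
abbrev A6 : Subgroup (Perm (Fin 6)) := alternatingGroup (Fin 6)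

theorem mem_A6 {a : Perm (Fin 6)} : a ∈ A6 ↔ Perm.sign a = 1 := Perm.mem_alternatingGroup

theorem pz_mem : pz ∈ A6 := mem_A6.2 (by decide +kernel)
theorem pv1_mem : pv1 ∈ A6 := mem_A6.2 (by decide +kernel)
theorem pv2_mem : pv2 ∈ A6 := mem_A6.2 (by decide +kernel)
theorem pd_mem : pd ∈ A6 := mem_A6.2 (by decide +kernel)
theorem pc_mem : pc ∈ A6 := mem_A6.2 (by decide +kernel)
theorem pc'_mem : pc' ∈ A6 := mem_A6.2 (by decide +kernel)
theorem sign_pf : Perm.sign pf = -1 := by decide +kernel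

/-- `z` in `A_6` -/
def qz : A6 := ⟨pz, pz_mem⟩
def qv1 : A6 := ⟨pv1, pv1_mem⟩
def qv2 : A6 := ⟨pv2, pv2_mem⟩
def qd : A6 := ⟨pd, pd_mem⟩

/-- conjugation by a permutation, on `A_6` -/
def cA (σ : Perm (Fin 6)) (a : A6) : A6 := ⟨σ * a * σ⁻¹, by
  rw [mem_A6, Perm.sign_mul, Perm.sign_mul, Perm.sign_inv, mem_A6.1 a.2, mul_one]
  exact Int.units_mul_self _⟩

/-- `θ` on `A_6` -/
def θA (a : A6) : A6 := ⟨θ a, by rw [mem_A6, sign_θ]; exact mem_A6.1 a.2⟩

@[simp] theorem coe_cA (σ : Perm (Fin 6)) (a : A6) : (cA σ a : Perm (Fin 6)) = σ * a * σ⁻¹ := rfl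
@[simp] theorem coe_θA (a : A6) : (θA a : Perm (Fin 6)) = θ a := rfl

variable {G : Type*} [Group G]

/-- `C_G(x)/⟨x⟩ = Aut(A_6)` -/
structure AutGen (x : G) (ι : A6 →* G) (f r : G) : Prop where
  xx : x * x = 1
  x1 : x ≠ 1
  inj : Function.Injective ι
  comm : ∀ a, x * ι a = ι a * x
  ne : ∀ a, ι a ≠ x
  fx : f * x = x * f
  rx : r * x = x * r
  ff : f * f = 1 ∨ f * f = x
  rr : r * r = 1 ∨ r * r = x
  cf : ∀ a, f * ι a * f⁻¹ = ι (cA pf a)
  cr : ∀ a, r * ι a * r⁻¹ = ι (θA a)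
  rf : r * f * r⁻¹ = f * ι qz ∨ r * f * r⁻¹ = x * (f * ι qz)
  /-- `C(x) = {1, x} ι(A_6) {1, f} {1, r}` -/
  cent : ∀ g, g * x = x * g → ∃ a : A6, ∃ u v : G, (u = 1 ∨ u = f) ∧ (v = 1 ∨ v = r) ∧
    (g = ι a * u * v ∨ g = x * (ι a * u * v))

/-- the isoclinic case -/
structure AutIso (x : G) (ι : A6 →* G) (f r : G) : Prop extends AutGen x ι f r where
  ffx : f * f = x

/-- the case `B = C(x)/K` non-abelian -/
structure AutTw (x : G) (ι : A6 →* G) (f r : G) : Prop extends AutGen x ι f r where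
  ff1 : f * f = 1
  rfx : r * f * r⁻¹ = x * (f * ι qz)

theorem odd_mem {σ : Perm (Fin 6)} (hs : ¬ Perm.sign σ = 1) : σ * pf ∈ A6 := by
  rw [mem_A6]
  rcases Int.units_eq_one_or (Perm.sign σ) with h1 | h1
  · exact absurd h1 hs
  · rw [Perm.sign_mul, h1, sign_pf]; decide

theorem not_even {σ : Perm (Fin 6)} (hs : Perm.sign σ = -1) : ¬ Perm.sign σ = 1 := by
  rw [hs]; decide

/-- the extension of `ι` to `S_6`, as a function -/
def extf (ι : A6 →* G) (f : G) (σ : Perm (Fin 6)) : G :=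
  if hs : Perm.sign σ = 1 then ι ⟨σ, mem_A6.2 hs⟩ else ι ⟨σ * pf, odd_mem hs⟩ * f

theorem extf_even (ι : A6 →* G) (f : G) {σ : Perm (Fin 6)} (hs : Perm.sign σ = 1) :
    extf ι f σ = ι ⟨σ, mem_A6.2 hs⟩ := dif_pos hs

theorem extf_odd (ι : A6 →* G) (f : G) {σ : Perm (Fin 6)} (hs : Perm.sign σ = -1) :
    extf ι f σ = ι ⟨σ * pf, odd_mem (not_even hs)⟩ * f := dif_neg (not_even hs)

theorem pf_pf : pf * pf = 1 := by decide +kernel

theorem pf_inv : pf⁻¹ = pf := inv_eq_of_mul_eq_one_left pf_pf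

/-- the extension of `ι` to `S_6` -/
def extH (ι : A6 →* G) (f : G) (hcf : ∀ a, f * ι a * f⁻¹ = ι (cA pf a)) (hff : f * f = 1) :
    Perm (Fin 6) →* G where
  toFun σ := extf ι f σ
  map_one' := by
    rw [extf_even ι f (map_one _)]
    exact map_one ι
  map_mul' := by
    have key : ∀ a : A6, f * ι a = ι (cA pf a) * f := fun a => by rw [← hcf, inv_mul_cancel_right]
    intro σ τ
    rcases Int.units_eq_one_or (Perm.sign σ) with hσ | hσ <;>
    rcases Int.units_eq_one_or (Perm.sign τ) with hτ | hτ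
    · have e : Perm.sign (σ * τ) = 1 := by rw [Perm.sign_mul, hσ, hτ, one_mul]
      rw [extf_even ι f e, extf_even ι f hσ, extf_even ι f hτ, ← map_mul]; rfl
    · have e : Perm.sign (σ * τ) = -1 := by rw [Perm.sign_mul, hσ, hτ, one_mul]
      rw [extf_odd ι f e, extf_even ι f hσ, extf_odd ι f hτ, ← mul_assoc, ← map_mul]
      rfl
    · have e : Perm.sign (σ * τ) = -1 := by rw [Perm.sign_mul, hσ, hτ, mul_one]
      rw [extf_odd ι f e, extf_odd ι f hσ, extf_even ι f hτ]
      have e1 : ∀ a b : A6, ι a * f * ι b = ι (a * cA pf b) * f := by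
        intro a b
        rw [mul_assoc, key, ← mul_assoc, ← map_mul]
      rw [e1]
      congr 2
      apply Subtype.ext
      show σ * τ * pf = σ * pf * (pf * τ * pf⁻¹)
      rw [pf_inv]
      calc σ * τ * pf = σ * 1 * τ * pf := by rw [mul_one]
        _ = σ * (pf * pf) * τ * pf := by rw [pf_pf]
        _ = σ * pf * (pf * τ * pf) := by group
    · have e : Perm.sign (σ * τ) = 1 := by rw [Perm.sign_mul, hσ, hτ]; decide
      rw [extf_even ι f e, extf_odd ι f hσ, extf_odd ι f hτ]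
      have e1 : ∀ a b : A6, ι a * f * (ι b * f) = ι (a * cA pf b) := by
        intro a b
        calc ι a * f * (ι b * f) = ι a * (f * ι b) * f := by group
          _ = ι (a * cA pf b) * (f * f) := by rw [key, map_mul]; group
          _ = ι (a * cA pf b) := by rw [hff, mul_one]
      rw [e1]
      congr 1
      apply Subtype.ext
      show σ * τ = σ * pf * (pf * (τ * pf) * pf⁻¹)
      rw [pf_inv]
      calc σ * τ = σ * 1 * τ * 1 := by group
        _ = σ * (pf * pf) * τ * (pf * pf) := by rw [pf_pf]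
        _ = σ * pf * (pf * (τ * pf) * pf) := by group

namespace AutGen

variable {x f r : G} {ι : A6 →* G}

theorem comm' (h : AutGen x ι f r) (a : A6) : ι a * x = x * ι a := (h.comm a).symm

/-- the extension of `ι` to `S_6` -/
def ext (h : AutGen x ι f r) (hff : f * f = 1) : Perm (Fin 6) →* G := extH ι f h.cf hff

theorem ext_even (h : AutGen x ι f r) (hff : f * f = 1) (a : A6) : h.ext hff a = ι a :=
  extf_even ι f (mem_A6.1 a.2)

theorem ext_even' (h : AutGen x ι f r) (hff : f * f = 1) {σ : Perm (Fin 6)} (hs : Perm.sign σ = 1) :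
    h.ext hff σ = ι ⟨σ, mem_A6.2 hs⟩ := h.ext_even hff ⟨σ, mem_A6.2 hs⟩

theorem ext_f (h : AutGen x ι f r) (hff : f * f = 1) : h.ext hff pf = f := by
  show extf ι f pf = f
  rw [extf_odd ι f sign_pf]
  have : (⟨pf * pf, odd_mem (not_even sign_pf)⟩ : A6) = 1 := Subtype.ext pf_pf
  rw [this, map_one, one_mul]

theorem ext_mul_f (h : AutGen x ι f r) (hff : f * f = 1) (a : A6) :
    h.ext hff (a * pf) = ι a * f := by
  rw [map_mul, h.ext_even, h.ext_f]

theorem f_ne (h : AutGen x ι f r) (a : A6) : f ≠ ι a := by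
  intro e
  have h1 : ∀ b : A6, ι (a * b * a⁻¹) = ι (cA pf b) := by
    intro b
    rw [← h.cf, e, map_mul, map_mul, map_inv]
  have h2 : ∀ b : A6, (a : Perm (Fin 6)) * b * (a : Perm (Fin 6))⁻¹ = pf * b * pf⁻¹ := by
    intro b
    exact congrArg Subtype.val (h.inj (h1 b))
  have h3 : ∀ b : A6, ((pf⁻¹ * a : Perm (Fin 6))) * b = b * (pf⁻¹ * a) := by
    intro b
    have := h2 b
    rw [mul_inv_eq_iff_eq_mul] at this
    rw [mul_assoc, this]
    group
  have h4 : ∀ σ : Perm (Fin 6), σ * pc = pc * σ → σ * pc' = pc' * σ → σ * pz = pz * σ → σ * pv1 = pv1 * σ → σ = 1 := by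
    decide +kernel
  have h5 := h4 (pf⁻¹ * a) (h3 ⟨pc, pc_mem⟩) (h3 ⟨pc', pc'_mem⟩) (h3 qz) (h3 qv1)
  have h6 : (a : Perm (Fin 6)) = pf := by rw [inv_mul_eq_one] at h5; exact h5.symm
  have h7 := mem_A6.1 a.2
  rw [h6, sign_pf] at h7
  exact absurd h7 (by decide)

theorem xf_ne (h : AutGen x ι f r) (a : A6) : f ≠ x * ι a := by
  intro e
  -- replace `f` by `x f`
  have h' : ∀ b : A6, ι (a * b * a⁻¹) = ι (cA pf b) := by
    intro b
    rw [← h.cf, e, map_mul, map_mul, map_inv]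
    have h1 := h.comm (a * b * a⁻¹)
    rw [map_mul, map_mul, map_inv] at h1
    calc ι a * ι b * (ι a)⁻¹ = x * (ι a * ι b * (ι a)⁻¹) * x⁻¹ := by rw [h1]; group
      _ = x * ι a * ι b * (x * ι a)⁻¹ := by group
  have h2 : ∀ b : A6, (a : Perm (Fin 6)) * b * (a : Perm (Fin 6))⁻¹ = pf * b * pf⁻¹ := by
    intro b
    exact congrArg Subtype.val (h.inj (h' b))
  have h3 : ∀ b : A6, ((pf⁻¹ * a : Perm (Fin 6))) * b = b * (pf⁻¹ * a) := by
    intro b
    have := h2 b
    rw [mul_inv_eq_iff_eq_mul] at this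
    rw [mul_assoc, this]
    group
  have h4 : ∀ σ : Perm (Fin 6), σ * pc = pc * σ → σ * pc' = pc' * σ → σ * pz = pz * σ → σ * pv1 = pv1 * σ → σ = 1 := by
    decide +kernel
  have h5 := h4 (pf⁻¹ * a) (h3 ⟨pc, pc_mem⟩) (h3 ⟨pc', pc'_mem⟩) (h3 qz) (h3 qv1)
  have h6 : (a : Perm (Fin 6)) = pf := by rw [inv_mul_eq_one] at h5; exact h5.symm
  have h7 := mem_A6.1 a.2
  rw [h6, sign_pf] at h7
  exact absurd h7 (by decide)

/-- the case `f² = 1`, `B` abelian -/
theorem spl (h : AutGen x ι f r) (hff : f * f = 1) (hrf : r * f * r⁻¹ = f * ι qz) :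
    AutSpl x (h.ext hff) r where
  xx := h.xx
  x1 := h.x1
  inj := by
    rw [injective_iff_map_eq_one]
    intro σ e
    by_cases hs : Perm.sign σ = 1
    · rw [h.ext_even' hff hs] at e
      have := h.inj (e.trans (map_one ι).symm)
      exact congrArg Subtype.val this
    · exfalso
      have h1 : Perm.sign (σ * pf) = 1 := by
        rcases Int.units_eq_one_or (Perm.sign σ) with h1 | h1
        · exact absurd h1 hs
        · rw [Perm.sign_mul, h1, sign_pf]; decide
      have h2 : h.ext hff (σ * pf) = f := by rw [map_mul, e, one_mul, h.ext_f]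
      rw [h.ext_even' hff h1] at h2
      exact h.f_ne _ h2.symm
  comm := by
    intro σ
    by_cases hs : Perm.sign σ = 1
    · rw [h.ext_even' hff hs, h.comm]
    · have h1 : Perm.sign (σ * pf) = 1 := by
        rcases Int.units_eq_one_or (Perm.sign σ) with h1 | h1
        · exact absurd h1 hs
        · rw [Perm.sign_mul, h1, sign_pf]; decide
      have pp : pf * pf = 1 := by decide +kernel
      have h2 : h.ext hff σ = h.ext hff (σ * pf) * f := by
        rw [map_mul, h.ext_f, mul_assoc, hff, mul_one]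
      rw [h2, h.ext_even' hff h1, ← mul_assoc, h.comm, mul_assoc, ← h.fx, mul_assoc]
  ne := by
    intro σ e
    by_cases hs : Perm.sign σ = 1
    · rw [h.ext_even' hff hs] at e
      exact h.ne _ e
    · have h1 : Perm.sign (σ * pf) = 1 := by
        rcases Int.units_eq_one_or (Perm.sign σ) with h1 | h1
        · exact absurd h1 hs
        · rw [Perm.sign_mul, h1, sign_pf]; decide
      have h2 : h.ext hff (σ * pf) = x * f := by rw [map_mul, e, h.ext_f]
      rw [h.ext_even' hff h1] at h2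
      apply h.xf_ne ⟨σ * pf, mem_A6.2 h1⟩
      rw [h2, ← mul_assoc, h.xx, one_mul]
  rx := h.rx
  rr := h.rr
  conj := by
    intro σ
    have hA : ∀ a : A6, r * h.ext hff a * r⁻¹ = h.ext hff (θ a) := by
      intro a
      rw [h.ext_even, h.cr, h.ext_even' hff (by rw [sign_θ]; exact mem_A6.1 a.2)]
      rfl
    have hF : r * h.ext hff pf * r⁻¹ = h.ext hff (θ pf) := by
      rw [θ_f, map_mul, h.ext_f, hrf, h.ext_even' hff (mem_A6.1 pz_mem)]
      rfl
    by_cases hs : Perm.sign σ = 1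
    · exact hA ⟨σ, mem_A6.2 hs⟩
    · have h1 : Perm.sign (σ * pf) = 1 := by
        rcases Int.units_eq_one_or (Perm.sign σ) with h1 | h1
        · exact absurd h1 hs
        · rw [Perm.sign_mul, h1, sign_pf]; decide
      have pp : pf * pf = 1 := by decide +kernel
      have h2 : σ = (σ * pf) * pf := by rw [mul_assoc, pp, mul_one]
      have h3 := hA ⟨σ * pf, mem_A6.2 h1⟩
      have h3' : r * h.ext hff (σ * pf) * r⁻¹ = h.ext hff (θ (σ * pf)) := h3
      calc r * h.ext hff σ * r⁻¹ = r * h.ext hff ((σ * pf) * pf) * r⁻¹ := by rw [← h2]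
        _ = (r * h.ext hff (σ * pf) * r⁻¹) * (r * h.ext hff pf * r⁻¹) := by rw [map_mul]; group
        _ = h.ext hff (θ ((σ * pf) * pf)) := by rw [h3', hF, ← map_mul, ← map_mul]
        _ = h.ext hff (θ σ) := by rw [← h2]
  cent := by
    intro g hg
    obtain ⟨a, u, v, hu, hv, e⟩ := h.cent g hg
    rcases hu with rfl | rfl
    · refine ⟨a, ?_⟩
      rw [h.ext_even]
      rcases hv with rfl | rfl
      · simp only [mul_one] at e
        rcases e with e | e
        · exact Or.inl e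
        · exact Or.inr (Or.inl e)
      · simp only [mul_one] at e
        rcases e with e | e
        · exact Or.inr (Or.inr (Or.inl e))
        · exact Or.inr (Or.inr (Or.inr e))
    · refine ⟨a * pf, ?_⟩
      rw [h.ext_mul_f]
      rcases hv with rfl | rfl
      · simp only [mul_one] at e
        rcases e with e | e
        · exact Or.inl e
        · exact Or.inr (Or.inl e)
      · rcases e with e | e
        · exact Or.inr (Or.inr (Or.inl e))
        · exact Or.inr (Or.inr (Or.inr e))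

/-- **the three cases** -/
theorem cases (h : AutGen x ι f r) : (∃ ι' : Perm (Fin 6) →* G, AutSpl x ι' r ∧ ι' pf = f ∧ ∀ a : A6, ι' a = ι a) ∨
    AutIso x ι f r ∨ AutTw x ι f r := by
  rcases h.ff with hff | hff
  · rcases h.rf with hrf | hrf
    · exact Or.inl ⟨h.ext hff, h.spl hff hrf, h.ext_f hff, h.ext_even hff⟩
    · exact Or.inr (Or.inr { h with ff1 := hff, rfx := hrf })
  · exact Or.inr (Or.inl { h with ffx := hff })

end AutGen

end Cfsg.Agent.OddHalf.D5.SixAut
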