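import Cfsg.Agent.OddHalf.D5.SixAut.Defs

/-!
# ODD D5, `n = 6`, (C3b), P2: the involutions of `Aut(A_6)` outside `S_6` (helper310)
-/

set_option autoImplicit false

namespace Cfsg.Agent.OddHalf.D5.SixAut.EPerm2

open Subgroup Equiv

/-- words `swap i j * swap k l` -/
def wd (c : Fin 6 × Fin 6 × Fin 6 × Fin 6) : Perm (Fin 6) := swap c.1 c.2.1 * swap c.2.2.1 c.2.2.2

def reps : List (Fin 6 × Fin 6 × Fin 6 × Fin 6) :=
  [(0, 0, 0, 0), (0, 0, 0, 1), (0, 0, 0, 2), (0, 0, 0, 3), (0, 0, 0, 4), (0, 0, 0, 5), (0, 0, 1, 3), (0, 0, 1, 4),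
    (0, 0, 2, 4), (0, 0, 3, 4), (0, 0, 4, 5), (0, 1, 0, 4), (0, 1, 1, 4), (0, 1, 2, 4), (0, 1, 3, 4), (0, 1, 4, 5),
    (0, 2, 0, 4), (0, 2, 1, 4), (0, 2, 2, 4), (0, 2, 3, 4), (0, 2, 4, 5), (0, 3, 0, 4), (0, 3, 1, 4), (0, 3, 2, 4),
    (0, 3, 3, 4), (0, 3, 4, 5), (0, 4, 0, 5), (0, 4, 1, 3), (0, 4, 4, 5), (0, 5, 1, 4), (0, 5, 2, 4), (0, 5, 3, 4),
    (1, 3, 1, 4), (1, 3, 2, 4), (1, 3, 3, 4), (1, 3, 4, 5)]

theorem outer_list : ∀ a : Perm (Fin 6), a * θ a = 1 → ∃ c ∈ reps, a = wd c * (θ (wd c))⁻¹ := by decide +kernel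

theorem outer_conj (a : Perm (Fin 6)) (h : a * θ a = 1) : ∃ s, a = s * (θ s)⁻¹ := by
  obtain ⟨c, -, e⟩ := outer_list a h
  exact ⟨_, e⟩

theorem outer_card : (Finset.univ.filter fun a : Perm (Fin 6) => a * θ a = 1).card = 36 := by decide +kernel

/-- the five involutions fixed by `θ` -/
def fL : List (Perm (Fin 6)) :=
  [swap 1 3 * swap 2 5, swap 0 5 * swap 1 2, swap 0 3 * swap 1 5, swap 0 2 * swap 3 5, swap 0 1 * swap 2 3]

theorem fix_list : ∀ b : Perm (Fin 6), b * b = 1 → θ b = b → b = 1 ∨ b ∈ fL := by decide +kernel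

theorem fL_comm : ∀ b ∈ fL, ∀ b' ∈ fL, b * b' = b' * b → b = b' := by decide +kernel

/-- no four-group is fixed by `θ` -/
theorem theta_fix {b b' : Perm (Fin 6)} (h2 : b * b = 1) (hb : θ b = b) (h1 : b ≠ 1) (h2' : b' * b' = 1)
    (hb' : θ b' = b') (h1' : b' ≠ 1) (hc : b * b' = b' * b) : b = b' :=
  fL_comm b ((fix_list b h2 hb).resolve_left h1) b' ((fix_list b' h2' hb').resolve_left h1') hc

end Cfsg.Agent.OddHalf.D5.SixAut.EPerm2
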