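import Cfsg.Agent.OddHalf.D5.SixAut.Defs
import Cfsg.Agent.OddHalf.D6.Six.Count

/-!
# ODD D5, `n = 6`, (C3b), P2: finite facts about `S_6` (helper310)

`InV a` : `a ∈ V = ⟨f, z, v₁⟩ = C(⟨z, v₁⟩)`.
-/

set_option autoImplicit false

namespace Cfsg.Agent.OddHalf.D5.SixAut.EPerm

open Subgroup Equiv
open Cfsg.Agent.OddHalf.D6.Six (sup conj_of_sup sup_c2 sup_cases sup_eq_zero sup_c1 sup_c3)

/-- membership in `V = ⟨f, z, v₁⟩` -/
abbrev InV (a : Perm (Fin 6)) : Prop := a * pz = pz * a ∧ a * pv1 = pv1 * a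

theorem V_list : ∀ a, InV a → (a = 1 ∨ a = pz ∨ a = pv1 ∨ a = pz * pv1) ∨
    (a = pf ∨ a = pf * pz ∨ a = pf * pv1 ∨ a = pf * (pz * pv1)) := by decide +kernel

/-- the eight elements of `V` -/
def vL : List (Perm (Fin 6)) := [1, pz, pv1, pz * pv1, pf, pf * pz, pf * pv1, pf * (pz * pv1)]

theorem vL_all : ∀ a ∈ vL, InV a ∧ a * a = 1 ∧ a * pf = pf * a ∧
    (Perm.sign a = 1 → a = 1 ∨ a = pz ∨ a = pv1 ∨ a = pz * pv1) := by decide +kernel

theorem vL_nodup : vL.Nodup := by decide +kernel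

theorem mem_vL {a : Perm (Fin 6)} : a ∈ vL ↔ InV a := by
  refine ⟨fun h => (vL_all a h).1, fun h => ?_⟩
  rcases V_list a h with (rfl | rfl | rfl | rfl) | (rfl | rfl | rfl | rfl) <;> simp [vL]

theorem V_card : (Finset.univ.filter fun a : Perm (Fin 6) => InV a).card = 8 := by
  have h : (Finset.univ.filter fun a : Perm (Fin 6) => InV a) = vL.toFinset := by
    ext a
    rw [Finset.mem_filter, List.mem_toFinset, mem_vL]
    exact ⟨fun h => h.2, fun h => ⟨Finset.mem_univ _, h⟩⟩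
  rw [h, List.toFinset_card_of_nodup vL_nodup]
  rfl

theorem V_sq (a : Perm (Fin 6)) (h : InV a) : a * a = 1 := (vL_all a (mem_vL.2 h)).2.1

theorem V_f (a : Perm (Fin 6)) (h : InV a) : a * pf = pf * a := (vL_all a (mem_vL.2 h)).2.2.1

theorem V_even (a : Perm (Fin 6)) (h : InV a) (hs : Perm.sign a = 1) : a = 1 ∨ a = pz ∨ a = pv1 ∨ a = pz * pv1 :=
  (vL_all a (mem_vL.2 h)).2.2.2 hs

theorem V_one : InV 1 := by decide +kernel
theorem V_z : InV pz := by decide +kernel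
theorem V_v1 : InV pv1 := by decide +kernel
theorem V_pf : InV pf := by decide +kernel

theorem V_mul {a b : Perm (Fin 6)} (ha : InV a) (hb : InV b) : InV (a * b) := by
  refine ⟨?_, ?_⟩
  · rw [mul_assoc, hb.1, ← mul_assoc, ha.1, mul_assoc]
  · rw [mul_assoc, hb.2, ← mul_assoc, ha.2, mul_assoc]

theorem V_comm {a b : Perm (Fin 6)} (ha : InV a) (hb : InV b) : a * b = b * a := by
  have h1 := V_sq _ (V_mul ha hb)
  have h2 := V_sq _ ha
  have h3 := V_sq _ hb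
  calc a * b = a * 1 * b := by rw [mul_one]
    _ = a * (a * b * (a * b)) * b := by rw [h1]
    _ = (a * a) * b * a * (b * b) := by group
    _ = b * a := by rw [h2, h3, one_mul, mul_one]

theorem no_r : ∀ a, a * pz = pz * a → a * pv2 = pv1 * a → False := by decide +kernel

theorem no_r2 : ∀ a, InV (a * pz * a⁻¹) → InV (a * pv2 * a⁻¹) → InV (a * (pf * pz) * a⁻¹) → False := by
  decide +kernel

theorem nor_V : ∀ a, InV (a * pz * a⁻¹) → InV (a * pv1 * a⁻¹) → InV (a * pf * a⁻¹) → a * pf = pf * a := by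
  decide +kernel

theorem cent_f_V : ∀ a, a * pf = pf * a → InV (a * pz * a⁻¹) ∧ InV (a * pv1 * a⁻¹) := by decide +kernel

theorem even_sup {a : Perm (Fin 6)} (h2 : a * a = 1) (hs : Perm.sign a = 1) (h1 : a ≠ 1) : sup a = 4 := by
  have key : ∀ c : Perm (Fin 6), c * c = 1 → Perm.sign c ≠ 1 → sup a ≠ sup c := by
    intro c hc hsc h
    have h3 := conj_of_sup h2 hc h
    obtain ⟨g, hg⟩ := isConj_iff.1 h3
    apply hsc
    rw [← hg, Perm.sign_mul, Perm.sign_mul, hs, mul_one, Perm.sign_inv]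
    exact Int.units_mul_self _
  rcases sup_cases h2 with h | h | h | h
  · exact absurd (sup_eq_zero h) h1
  · exact absurd (h.trans sup_c1.symm) (key _ (by decide +kernel) (by decide +kernel))
  · exact h
  · exact absurd (h.trans sup_c3.symm) (key _ (by decide +kernel) (by decide +kernel))

theorem cent_z : ∀ b, b * pz = pz * b → Perm.sign b = 1 → b * b = 1 → b ≠ 1 → b ≠ pz →
    b = pv1 ∨ b = pz * pv1 ∨ b = pv2 ∨ b = pz * pv2 := by decide +kernel

theorem z_conj {a : Perm (Fin 6)} (h2 : a * a = 1) (hs : Perm.sign a = 1) (h1 : a ≠ 1) :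
    ∃ s, s * a * s⁻¹ = pz :=
  isConj_iff.1 (conj_of_sup h2 (by decide +kernel) ((even_sup h2 hs h1).trans sup_c2.symm))

/-- `S₃` on `V₁` -/
theorem three {e₁ e₂ : Perm (Fin 6)} (h1 : InV e₁) (h2 : InV e₂) (s1 : Perm.sign e₁ = 1) (s2 : Perm.sign e₂ = 1)
    (n1 : e₁ ≠ 1) (n2 : e₂ ≠ 1) (hne : e₁ ≠ e₂) : ∃ s, s * pf = pf * s ∧ s * pz * s⁻¹ = e₁ ∧ s * pv1 * s⁻¹ = e₂ := by
  have key : ∀ e₁ ∈ [pz, pv1, pz * pv1], ∀ e₂ ∈ [pz, pv1, pz * pv1], e₁ ≠ e₂ →
      ∃ s ∈ [1, pc, pc⁻¹, pv2, pc * pv2, pc⁻¹ * pv2], s * pf = pf * s ∧ s * pz * s⁻¹ = e₁ ∧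
        s * pv1 * s⁻¹ = e₂ := by decide +kernel
  have h0 : ∀ e, InV e → Perm.sign e = 1 → e ≠ 1 → e ∈ [pz, pv1, pz * pv1] := by
    intro e he hs h
    rcases V_even e he hs with rfl | rfl | rfl | rfl
    · exact absurd rfl h
    all_goals simp
  obtain ⟨s, -, hs⟩ := key e₁ (h0 e₁ h1 s1 n1) e₂ (h0 e₂ h2 s2 n2) hne
  exact ⟨s, hs⟩

theorem c_z : pc * pz * pc⁻¹ = pz * pv1 := by decide +kernel
theorem c_v1 : pc * pv1 * pc⁻¹ = pz := by decide +kernel
theorem c_f : pc * pf = pf * pc := by decide +kernel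
theorem v2_z : pv2 * pz = pz * pv2 := by decide +kernel
theorem v2_v1 : pv2 * pv1 * pv2⁻¹ = pz * pv1 := by decide +kernel
theorem v2_f : pv2 * pf = pf * pv2 := by decide +kernel

end Cfsg.Agent.OddHalf.D5.SixAut.EPerm
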