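import Mathlib

/-!
# Extensions of degree two of a subgroup by an element
-/

set_option autoImplicit false

namespace Cfsg.Agent.OddHalf.D5.SixAut

open Subgroup

variable {G : Type*} [Group G]

/-- `Q ∪ gQ`, where `g` normalises `Q` and `g² ∈ Q`. -/
def ext (Q : Subgroup G) (g : G) (hg : g * g ∈ Q) (hn : ∀ q ∈ Q, g⁻¹ * q * g ∈ Q) : Subgroup G where
  carrier := {p | p ∈ Q ∨ ∃ q ∈ Q, p = g * q}
  one_mem' := Or.inl Q.one_mem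
  mul_mem' := by
    rintro a c (ha | ⟨q, hq, rfl⟩) (hc | ⟨q', hq', rfl⟩)
    · exact Or.inl (Q.mul_mem ha hc)
    · refine Or.inr ⟨g⁻¹ * a * g * q', Q.mul_mem (hn a ha) hq', by group⟩
    · exact Or.inr ⟨q * c, Q.mul_mem hq hc, by group⟩
    · refine Or.inl ?_
      have : g * q * (g * q') = g * g * (g⁻¹ * q * g) * q' := by group
      rw [this]
      exact Q.mul_mem (Q.mul_mem hg (hn q hq)) hq'
  inv_mem' := by
    rintro a (ha | ⟨q, hq, rfl⟩)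
    · exact Or.inl (Q.inv_mem ha)
    · refine Or.inr ⟨(g⁻¹ * q⁻¹ * g) * (g * g)⁻¹, Q.mul_mem (hn _ (Q.inv_mem hq)) (Q.inv_mem hg), by group⟩

variable {Q : Subgroup G} {g : G} {hg : g * g ∈ Q} {hn : ∀ q ∈ Q, g⁻¹ * q * g ∈ Q}

theorem mem_ext {p : G} : p ∈ ext Q g hg hn ↔ p ∈ Q ∨ ∃ q ∈ Q, p = g * q := Iff.rfl

theorem le_ext : Q ≤ ext Q g hg hn := fun _ h => Or.inl h

theorem self_mem : g ∈ ext Q g hg hn := Or.inr ⟨1, Q.one_mem, by rw [mul_one]⟩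

/-- conjugation -/
theorem conj_ext {k : G} (h1 : ∀ q ∈ Q, k⁻¹ * q * k ∈ ext Q g hg hn) (h2 : k⁻¹ * g * k ∈ ext Q g hg hn) :
    ∀ p ∈ ext Q g hg hn, k⁻¹ * p * k ∈ ext Q g hg hn := by
  rintro p (hp | ⟨q, hq, rfl⟩)
  · exact h1 p hp
  · have : k⁻¹ * (g * q) * k = (k⁻¹ * g * k) * (k⁻¹ * q * k) := by group
    rw [this]
    exact mul_mem h2 (h1 q hq)

/-- commuting with all elements -/
theorem comm_ext {k : G} (h1 : ∀ q ∈ Q, k * q = q * k) (h2 : k * g = g * k) :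
    ∀ p ∈ ext Q g hg hn, k * p = p * k := by
  rintro p (hp | ⟨q, hq, rfl⟩)
  · exact h1 p hp
  · rw [← mul_assoc, h2, mul_assoc, h1 q hq, mul_assoc]

/-- abelian mod `N` -/
theorem commutator_ext {N : Subgroup G} (hgN : ∀ n ∈ N, g * n * g⁻¹ ∈ N)
    (hQ : ∀ a ∈ Q, ∀ c ∈ Q, a * c * a⁻¹ * c⁻¹ ∈ N) (hgQ : ∀ q ∈ Q, g * q * g⁻¹ * q⁻¹ ∈ N) :
    ∀ a ∈ ext Q g hg hn, ∀ c ∈ ext Q g hg hn, a * c * a⁻¹ * c⁻¹ ∈ N := by
  have key : ∀ q ∈ Q, ∀ q' ∈ Q, (g * q) * q' * (g * q)⁻¹ * q'⁻¹ ∈ N := by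
    intro q hq q' hq'
    have : (g * q) * q' * (g * q)⁻¹ * q'⁻¹ = g * (q * q' * q⁻¹ * q'⁻¹) * g⁻¹ * (g * q' * g⁻¹ * q'⁻¹) := by group
    rw [this]
    exact N.mul_mem (hgN _ (hQ q hq q' hq')) (hgQ q' hq')
  rintro a (ha | ⟨q, hq, rfl⟩) c (hc | ⟨q', hq', rfl⟩)
  · exact hQ a ha c hc
  · have : a * (g * q') * a⁻¹ * (g * q')⁻¹ = ((g * q') * a * (g * q')⁻¹ * a⁻¹)⁻¹ := by group
    rw [this]
    exact N.inv_mem (key q' hq' a ha)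
  · exact key q hq c hc
  · have h1 : g * (g * q * g⁻¹ * q⁻¹)⁻¹ * g⁻¹ ∈ N := hgN _ (N.inv_mem (hgQ q hq))
    have h2 : g * ((g * q) * q' * (g * q)⁻¹ * q'⁻¹) * g⁻¹ ∈ N := hgN _ (key q hq q' hq')
    have : g * q * (g * q') * (g * q)⁻¹ * (g * q')⁻¹ =
        (g * (g * q * g⁻¹ * q⁻¹)⁻¹ * g⁻¹) * (g * ((g * q) * q' * (g * q)⁻¹ * q'⁻¹) * g⁻¹) := by group
    rw [this]
    exact N.mul_mem h1 h2

/-- the extension is abelian mod `Q` -/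
theorem commutator_ext_self : ∀ a ∈ ext Q g hg hn, ∀ c ∈ ext Q g hg hn, a * c * a⁻¹ * c⁻¹ ∈ Q := by
  have hn' : ∀ q ∈ Q, g * q * g⁻¹ ∈ Q := by
    intro q hq
    have : g * q * g⁻¹ = (g * g) * (g⁻¹ * q * g) * (g * g)⁻¹ := by group
    rw [this]
    exact Q.mul_mem (Q.mul_mem hg (hn q hq)) (Q.inv_mem hg)
  apply commutator_ext
  · exact hn'
  · exact fun a ha c hc => Q.mul_mem (Q.mul_mem (Q.mul_mem ha hc) (Q.inv_mem ha)) (Q.inv_mem hc)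
  · exact fun q hq => Q.mul_mem (hn' q hq) (Q.inv_mem hq)

/-- an extension of a 2-group is a 2-group -/
theorem isPGroup_ext (h : IsPGroup 2 Q) : IsPGroup 2 (ext Q g hg hn) := by
  rintro ⟨p, hp⟩
  have hpp : p * p ∈ Q := by
    rcases hp with hp | ⟨q, hq, rfl⟩
    · exact Q.mul_mem hp hp
    · have : g * q * (g * q) = g * g * (g⁻¹ * q * g) * q := by group
      rw [this]
      exact Q.mul_mem (Q.mul_mem hg (hn q hq)) hq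
  obtain ⟨k, hk⟩ := h ⟨p * p, hpp⟩
  refine ⟨k + 1, Subtype.ext ?_⟩
  have h1 := congrArg Subtype.val hk
  simp only [SubmonoidClass.coe_pow, OneMemClass.coe_one] at h1 ⊢
  rw [pow_succ', pow_mul, pow_two]
  exact h1

end Cfsg.Agent.OddHalf.D5.SixAut
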