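import Cfsg.Agent.OddHalf.D5.SixAut.Base
import Cfsg.Agent.OddHalf.D6.LTwoMain
import Cfsg.Agent.SignalizersComponents.LayerCenter
import Cfsg.Agent.SignalizersComponents.PConstrained
import Cfsg.Agent.SignalizersComponents.ComponentExists

/-!
# ODD D5, `n = 6`, `C(x)/⟨x⟩ = Aut(A_6)`: `F^*(C(z))` is a 2-group, `|Z(S)| = 2`
-/

set_option autoImplicit false

namespace Cfsg.Agent.OddHalf.D5.SixAut

open Subgroup Equiv Cfsg
open Cfsg.Agent.SignalizersComponents.Components

/-- `X` with a central involution `z`, simple `L₂(q)` components only and `Z(S) ≤ ⟨z⟩`: no components -/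
theorem layer_eq_bot_of {X : Type*} [Group X] [Finite X] (z : X) (hz : z ≠ 1) (hzc : ∀ y, z * y = y * z)
    (hc : ∀ L : Subgroup X, IsComponent L → center ↥L = ⊥ ∧ 2 ∣ Nat.card L) (S : Sylow 2 X)
    (hS : ∀ c ∈ (S : Subgroup X), (∀ y ∈ (S : Subgroup X), c * y = y * c) → c = 1 ∨ c = z) : layer X = ⊥ := by
  have hzE : z ∉ layer X := by
    intro h
    have h1 : z ∈ (center ↥(layer X)).map (layer X).subtype := by
      rw [Cfsg.Agent.SignalizersComponents.LayerCenter.mem_map_center_iff]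
      exact ⟨h, fun y _ => (hzc y).symm⟩
    rw [Cfsg.Agent.SignalizersComponents.LayerCenter.map_center_layer] at h1
    have h2 : (⨆ L : {K : Subgroup X // IsComponent K}, (center ↥(L : Subgroup X)).map (L : Subgroup X).subtype) = ⊥ := by
      rw [iSup_eq_bot]
      intro L
      rw [(hc L L.2).1, Subgroup.map_bot]
    rw [h2, mem_bot] at h1
    exact hz h1
  by_contra hne
  rw [Cfsg.Agent.SignalizersComponents.ComponentExists.layer_eq_bot_iff] at hne
  push Not at hne
  obtain ⟨L, hL⟩ := hne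
  have : Fact (Nat.Prime 2) := ⟨Nat.prime_two⟩
  obtain ⟨u, hu⟩ := exists_prime_orderOf_dvd_card' 2 (hc L hL).2
  have huo : orderOf (u : X) = 2 := by rw [Subgroup.orderOf_coe]; exact hu
  have huL : (u : X) ∈ layer X := component_le_layer hL u.2
  have hLn : (layer X).Normal := layer_normal X
  -- a conjugate of `u` lies in `S`
  have hp : IsPGroup 2 (zpowers (u : X)) :=
    IsPGroup.of_card (n := 1) (by rw [Nat.card_zpowers, huo]; norm_num)
  obtain ⟨R, hR⟩ := hp.exists_le_sylow
  obtain ⟨g, hg⟩ := MulAction.exists_smul_eq X R S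
  have hw : g * (u : X) * g⁻¹ ∈ (S : Subgroup X) := by
    rw [← hg, Sylow.coe_subgroup_smul]
    exact ⟨_, hR (mem_zpowers _), rfl⟩
  have hwL : g * (u : X) * g⁻¹ ∈ layer X := hLn.conj_mem _ huL g
  have hw1 : g * (u : X) * g⁻¹ ≠ 1 := by
    intro h
    rw [mul_inv_eq_one] at h
    have h1 : (u : X) = 1 := mul_eq_left.1 h
    rw [h1, orderOf_one] at huo
    norm_num at huo
  have hnil : Group.IsNilpotent (S : Subgroup X) := S.isPGroup'.isNilpotent
  have hn : ((layer X).subgroupOf (S : Subgroup X)).Normal := hLn.subgroupOf _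
  have hne : (layer X).subgroupOf (S : Subgroup X) ≠ ⊥ := by
    intro h
    have h1 : (⟨g * (u : X) * g⁻¹, hw⟩ : (S : Subgroup X)) ∈ (layer X).subgroupOf (S : Subgroup X) :=
      mem_subgroupOf.2 hwL
    rw [h, mem_bot] at h1
    exact hw1 (congrArg Subtype.val h1)
  obtain ⟨c, hc1⟩ := Subgroup.ne_bot_iff_exists_ne_one.1
    (Cfsg.Agent.Lib.NormalAbelian.normal_inf_center_ne_bot _ hne)
  obtain ⟨hc2, hc3⟩ := mem_inf.1 c.2
  rcases hS _ (c : (S : Subgroup X)).2 (fun y hy => (congrArg Subtype.val (mem_center_iff.1 hc3 ⟨y, hy⟩)).symm)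
    with h | h
  · exact hc1 (Subtype.ext (Subtype.ext h))
  · apply hzE
    rw [← h]; exact mem_subgroupOf.1 hc2

namespace AutGen

variable {G : Type*} [Group G] [Finite G] {x f r : G} {ι : A6 →* G}

/-- **`F^*(C(z))` is a 2-group** -/
theorem fit (h : AutGen x ι f r) (h5 : ¬ SectionalPRankLE 2 4 G)
    (hW : ∀ u : G, u * u = 1 → u ≠ 1 → D6.World u) :
    IsPGroup 2 ↥(generalizedFittingSubgroup ↥(centralizer ({ι qz} : Set G))) := by
  have : Fact (Nat.Prime 2) := ⟨Nat.prime_two⟩
  have W := hW (ι qz) h.zz h.z_ne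
  obtain ⟨S, hTS⟩ := h.pT.exists_le_sylow
  have hSz : (S : Subgroup G) ≤ centralizer ({ι qz} : Set G) := fun y hy =>
    mem_centralizer_singleton_iff.2 (h.S_le h5 S hTS hy)
  have hl : layer ↥(centralizer ({ι qz} : Set G)) = ⊥ := by
    refine layer_eq_bot_of (⟨ι qz, mem_centralizer_singleton_iff.2 rfl⟩ : ↥(centralizer ({ι qz} : Set G)))
      (fun h1 => h.z_ne (congrArg Subtype.val h1))
      (fun y => Subtype.ext (mem_centralizer_singleton_iff.1 y.2).symm) ?_ (S.subtype hSz) ?_
    · intro L hL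
      obtain ⟨F, i1, i2, ⟨R⟩⟩ := W.2 (L.map (centralizer ({ι qz} : Set G)).subtype) ⟨L, hL, rfl⟩
      have e : ↥L ≃* ↥(L.map (centralizer ({ι qz} : Set G)).subtype) :=
        L.equivMapOfInjective _ (subtype_injective _)
      refine ⟨?_, ?_⟩
      · rw [eq_bot_iff]
        intro y hy
        have h1 : e y ∈ center ↥(L.map (centralizer ({ι qz} : Set G)).subtype) := by
          rw [mem_center_iff] at hy ⊢
          intro g
          obtain ⟨w, rfl⟩ := e.surjective g
          rw [← map_mul, hy w, map_mul]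
        rw [R.center_eq_bot, mem_bot] at h1
        rw [mem_bot]
        exact e.injective (h1.trans (map_one e).symm)
      · rw [Nat.card_congr e.toEquiv]
        have hfin : Finite ↥(L.map (centralizer ({ι qz} : Set G)).subtype) := inferInstance
        obtain ⟨P⟩ : Nonempty (Sylow 2 ↥(L.map (centralizer ({ι qz} : Set G)).subtype)) := inferInstance
        obtain ⟨a, b, ha, hb, hab⟩ := R.exists_four_mem P
        have h1 : orderOf a = 2 := orderOf_eq_prime (by rw [pow_two]; exact hab.aa) hab.a1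
        rw [← h1]
        exact orderOf_dvd_natCard a
    · intro c hc hcc
      have hcS : (c : G) ∈ (S : Subgroup G) := by
        have h1 : c ∈ ((S.subtype hSz : Sylow 2 _) : Subgroup ↥(centralizer ({ι qz} : Set G))) := hc
        rw [Sylow.coe_subtype, mem_subgroupOf] at h1
        exact h1
      rcases h.center_S h5 S hTS hcS (fun y hy => by
        have h2 : (⟨y, hSz hy⟩ : ↥(centralizer ({ι qz} : Set G))) ∈
            ((S.subtype hSz : Sylow 2 _) : Subgroup ↥(centralizer ({ι qz} : Set G))) := by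
          rw [Sylow.coe_subtype, mem_subgroupOf]; exact hy
        exact congrArg Subtype.val (hcc _ h2)) with h1 | h1
      · exact Or.inl (Subtype.ext h1)
      · exact Or.inr (Subtype.ext h1)
  have hfit : generalizedFittingSubgroup ↥(centralizer ({ι qz} : Set G)) =
      pCore 2 ↥(centralizer ({ι qz} : Set G)) := by
    rw [Cfsg.Agent.Lib.GenFitting.genFitting_def, hl, bot_sup_eq]
    exact Cfsg.Agent.SignalizersComponents.PConstrained.fittingSubgroup_eq_pCore_of_pPrimeCore_eq_bot 2 W.1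
  rw [hfit]
  exact Cfsg.Agent.Lib.Cores.pCore_isPGroup 2

/-- `|Z(S)| ≤ 2` for every Sylow 2-subgroup -/
theorem card_center_le (h : AutGen x ι f r) (h5 : ¬ SectionalPRankLE 2 4 G) (S : Sylow 2 G) :
    Nat.card (center ↥(S : Subgroup G)) ≤ 2 := by
  classical
  have : Fact (Nat.Prime 2) := ⟨Nat.prime_two⟩
  obtain ⟨S0, hTS⟩ := h.pT.exists_le_sylow
  have e : ↥(S : Subgroup G) ≃* ↥(S0 : Subgroup G) := Sylow.equiv S S0
  rw [Nat.card_congr (Subgroup.centerCongr e).toEquiv]
  have h2 : Nat.card Bool = 2 := by simp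
  refine le_trans (Nat.card_le_card_of_injective
    (fun c : center ↥(S0 : Subgroup G) => decide (((c : ↥(S0 : Subgroup G)) : G) = 1)) ?_) h2.le
  intro a b hab
  have key : ∀ c : center ↥(S0 : Subgroup G), ((c : ↥(S0 : Subgroup G)) : G) = 1 ∨
      ((c : ↥(S0 : Subgroup G)) : G) = ι qz := fun c =>
    h.center_S h5 S0 hTS (c : ↥(S0 : Subgroup G)).2 (fun y hy =>
      (congrArg Subtype.val (mem_center_iff.1 c.2 ⟨y, hy⟩)).symm)
  have h3 : decide (((a : ↥(S0 : Subgroup G)) : G) = 1) = decide (((b : ↥(S0 : Subgroup G)) : G) = 1) := hab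
  rw [decide_eq_decide] at h3
  apply Subtype.ext
  apply Subtype.ext
  rcases key a with ha | ha <;> rcases key b with hb | hb
  · rw [ha, hb]
  · rw [ha, h3.1 ha]
  · rw [h3.2 hb, hb]
  · rw [ha, hb]

/-- `x ~ xz` -/
theorem exists_s (h : AutGen x ι f r) (h5 : ¬ SectionalPRankLE 2 4 G) : ∃ s, s * x * s⁻¹ = x * ι qz := by
  have : Fact (Nat.Prime 2) := ⟨Nat.prime_two⟩
  obtain ⟨S0, hTS⟩ := h.pT.exists_le_sylow
  obtain ⟨s, -, -, -, -, hs, -⟩ := h.grow_in h5 S0 hTS
  exact ⟨s, hs⟩

end AutGen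

end Cfsg.Agent.OddHalf.D5.SixAut
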