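import Cfsg.Agent.OddHalf.D5.SixAut.Defs2
import Cfsg.Agent.GH.Rank

/-!
# ODD D5, `n = 6`: the isoclinic case `AutIso` (`f² = x`)  (P6 of C3b)

`C_G(x)/⟨x⟩ = Aut(A_6)`, `f² = x`: if `C(z)` contains a Sylow 2-subgroup, `x` is in the kernel of every
homomorphism `C(z) → {±1}` and the sectional 2-rank is larger than `4`, then every elementary abelian normal subgroup
of `C(z)` is contained in `⟨z⟩`.
-/

set_option autoImplicit false

namespace Cfsg.Agent.OddHalf.D5.SixAut.IsoKill

open Equiv Subgroup

variable {G : Type*} [Group G]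

/-- a class of at most two elements -/
theorem relIndex_le_two {X : Subgroup G} {x y : G}
    (h : ∀ g ∈ X, g * x * g⁻¹ = x ∨ g * x * g⁻¹ = y) :
    (X ⊓ centralizer ({x} : Set G)).relIndex X ≤ 2 := by
  classical
  let K : Subgroup X := (X ⊓ centralizer ({x} : Set G)).subgroupOf X
  have hfin : Finite ({x, y} : Set G) := (Set.toFinite _).to_subtype
  let F : X ⧸ K → ({x, y} : Set G) := fun q =>
    ⟨(Quotient.out q : X) * x * ((Quotient.out q : X) : G)⁻¹, by
      rcases h (Quotient.out q : X) (Quotient.out q : X).2 with e | e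
      · rw [e]; exact Set.mem_insert _ _
      · rw [e]; exact Set.mem_insert_of_mem _ rfl⟩
  have hF : Function.Injective F := by
    intro p q e
    have e1 : ((Quotient.out p : X) : G) * x * ((Quotient.out p : X) : G)⁻¹ =
        (Quotient.out q : X) * x * ((Quotient.out q : X) : G)⁻¹ := congrArg Subtype.val e
    have e2 : (Quotient.out p : X)⁻¹ * (Quotient.out q : X) ∈ K := by
      rw [mem_subgroupOf]
      refine mem_inf.2 ⟨((Quotient.out p : X)⁻¹ * (Quotient.out q : X) : X).2, ?_⟩
      rw [mem_centralizer_singleton_iff]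
      show ((Quotient.out p : X) : G)⁻¹ * (Quotient.out q : X) * x =
        x * (((Quotient.out p : X) : G)⁻¹ * (Quotient.out q : X))
      calc ((Quotient.out p : X) : G)⁻¹ * (Quotient.out q : X) * x
          = ((Quotient.out p : X) : G)⁻¹ * ((Quotient.out q : X) * x * ((Quotient.out q : X) : G)⁻¹) *
            (Quotient.out q : X) := by group
        _ = ((Quotient.out p : X) : G)⁻¹ * ((Quotient.out p : X) * x * ((Quotient.out p : X) : G)⁻¹) *
            (Quotient.out q : X) := by rw [e1]
        _ = _ := by group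
    have e3 : ((Quotient.out p : X) : X ⧸ K) = ((Quotient.out q : X) : X ⧸ K) := QuotientGroup.eq.2 e2
    exact (QuotientGroup.out_eq' p).symm.trans (e3.trans (QuotientGroup.out_eq' q))
  have h1 : Nat.card (X ⧸ K) ≤ Nat.card ({x, y} : Set G) := Nat.card_le_card_of_injective F hF
  have h2 : Nat.card ({x, y} : Set G) ≤ 2 := by
    rw [Nat.card_coe_set_eq]
    exact Set.ncard_insert_le x {y} |>.trans (by rw [Set.ncard_singleton])
  exact h1.trans h2

/-- metacyclic groups -/
theorem meta_rank [Finite G] {a b : G} (hb : b * a * b⁻¹ ∈ zpowers a) :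
    Cfsg.SectionalPRankLE 2 2 (closure ({a, b} : Set G)) := by
  have hbn : b ∈ normalizer (zpowers a : Set G) := by
    have h1 : (zpowers a).map (MulAut.conj b).toMonoidHom ≤ zpowers a := by
      rw [MonoidHom.map_zpowers, zpowers_le]
      exact hb
    have h2 : (zpowers a).map (MulAut.conj b).toMonoidHom = zpowers a := by
      apply eq_of_le_of_card_ge h1
      rw [card_map_of_injective (MulAut.conj b).injective]
    rw [mem_normalizer_iff]
    intro g
    constructor
    · intro hg
      rw [← h2]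
      exact ⟨g, hg, rfl⟩
    · intro hg
      rw [← h2] at hg
      obtain ⟨g', hg', e⟩ := hg
      have : g' = g := (MulAut.conj b).injective e
      rwa [← this]
  have hH : closure ({a, b} : Set G) ≤ normalizer (zpowers a : Set G) := by
    rw [closure_le]
    rintro y (rfl | rfl)
    · exact le_normalizer (mem_zpowers _)
    · exact hbn
  have haH : a ∈ closure ({a, b} : Set G) := subset_closure (Set.mem_insert _ _)
  have hbH : b ∈ closure ({a, b} : Set G) := subset_closure (Set.mem_insert_of_mem _ rfl)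
  have hle : zpowers a ≤ closure ({a, b} : Set G) := by rw [zpowers_le]; exact haH
  have hn : ((zpowers a).subgroupOf (closure ({a, b} : Set G))).Normal := by
    rw [normal_subgroupOf_iff_le_normalizer hle]; exact hH
  have hcy : IsCyclic ((zpowers a).subgroupOf (closure ({a, b} : Set G))) :=
    isCyclic_of_surjective (subgroupOfEquivOfLe hle).symm.toMonoidHom (subgroupOfEquivOfLe hle).symm.surjective
  refine GH.Rank.of_normal (a := 1) (b := 1) ((zpowers a).subgroupOf (closure ({a, b} : Set G))) ?_ ?_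
  · exact TwoFusion.SectionalRank.sectionalPRankLE_of_cyclic (k := 0) two_pos ⊤ (by rw [index_top]; simp)
  · have htop : zpowers (QuotientGroup.mk' ((zpowers a).subgroupOf (closure ({a, b} : Set G))) ⟨b, hbH⟩) = ⊤ := by
      rw [eq_top_iff]
      rintro q -
      obtain ⟨⟨g, hg⟩, rfl⟩ := QuotientGroup.mk'_surjective _ q
      rw [← mem_comap]
      induction hg using closure_induction with
      | mem y hy =>
        rcases hy with rfl | rfl
        · rw [mem_comap]
          have : QuotientGroup.mk' ((zpowers y).subgroupOf (closure ({y, b} : Set G))) ⟨y, haH⟩ = 1 := by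
            rw [QuotientGroup.mk'_apply, QuotientGroup.eq_one_iff, mem_subgroupOf]
            exact mem_zpowers y
          rw [this]; exact one_mem _
        · rw [mem_comap]; exact mem_zpowers _
      | one => exact one_mem _
      | mul y y' hy hy' ih ih' => exact mul_mem ih ih'
      | inv y hy ih => exact inv_mem ih
    have : IsCyclic (⊤ : Subgroup (closure ({a, b} : Set G) ⧸ (zpowers a).subgroupOf (closure ({a, b} : Set G)))) := by
      rw [← htop]; infer_instance
    exact TwoFusion.SectionalRank.sectionalPRankLE_of_cyclic (k := 0) two_pos ⊤ (by rw [index_top]; simp)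

/-! ### facts on `A_6` -/

theorem cA_qz : cA pf qz = qz := Subtype.ext (by decide +kernel)
theorem cA_qd : cA pf qd = qd := Subtype.ext (by decide +kernel)
theorem cA_qv2 : cA pf qv2 = qv2 := Subtype.ext (by decide +kernel)
theorem cA_qv1 : cA pf qv1 = qv1 := Subtype.ext (by decide +kernel)
theorem θA_qz : θA qz = qz := Subtype.ext θ_z
theorem θA_qv1 : θA qv1 = qv2 := Subtype.ext θ_v1
theorem θA_qv2 : θA qv2 = qv1 := Subtype.ext θ_v2
theorem θA_qd : θA qd = qd⁻¹ := Subtype.ext θ_d
theorem qd_eq : qd = qv1 * qv2 := rfl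
theorem qd_sq : qd * qd = qz := Subtype.ext (by decide +kernel)
theorem qz_sq : qz * qz = 1 := Subtype.ext (by decide +kernel)
theorem qv1_sq : qv1 * qv1 = 1 := Subtype.ext (by decide +kernel)
theorem qz_ne : qz ≠ 1 := fun e => absurd (congrArg Subtype.val e) (by decide +kernel)

theorem perm_one : ∀ a : Perm (Fin 6), a * pz = pz * a → a * a = 1 → a * θ a * (a * θ a) = 1 →
    Perm.sign a = 1 → a = 1 ∨ a = pz := by decide +kernel

theorem perm_r : ∀ a : Perm (Fin 6), a * pz = pz * a →
    a * pv2 * a⁻¹ * pv1⁻¹ * (a * pv2 * a⁻¹ * pv1⁻¹) ≠ 1 := by decide +kernel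

theorem perm_d : ∀ a : Perm (Fin 6), a * pd = pd * a → Perm.sign a = 1 →
    a = 1 ∨ a = pd ∨ a = pd * pd ∨ a = pd * pd * pd := by decide +kernel

theorem perm_rd : ∀ a : Perm (Fin 6), a * pd⁻¹ = pd * a → Perm.sign a = 1 →
    a = pv1 ∨ a = pd * pv1 ∨ a = pd * pd * pv1 ∨ a = pd * pd * pd * pv1 := by decide +kernel

section

variable {x f r : G} {ι : A6 →* G}

theorem f_z (h : AutGen x ι f r) : f * ι qz = ι qz * f := by
  have := h.cf qz
  rw [cA_qz, mul_inv_eq_iff_eq_mul] at this
  exact this

theorem r_z (h : AutGen x ι f r) : r * ι qz = ι qz * r := by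
  have := h.cr qz
  rw [θA_qz, mul_inv_eq_iff_eq_mul] at this
  exact this

theorem f_d (h : AutGen x ι f r) : f * ι qd = ι qd * f := by
  have := h.cf qd
  rw [cA_qd, mul_inv_eq_iff_eq_mul] at this
  exact this

theorem f_v1 (h : AutGen x ι f r) : f * ι qv1 = ι qv1 * f := by
  have := h.cf qv1
  rw [cA_qv1, mul_inv_eq_iff_eq_mul] at this
  exact this

theorem x_inv (h : AutGen x ι f r) : x⁻¹ = x := inv_eq_of_mul_eq_one_left h.xx

/-- `C(x) ∩ C(z)` -/
theorem form (h : AutGen x ι f r) {g : G} (hg : g * x = x * g) (hz : g * ι qz = ι qz * g) :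
    ∃ a : A6, a * qz = qz * a ∧ ∃ i u v : G, (i = 1 ∨ i = x) ∧ (u = 1 ∨ u = f) ∧ (v = 1 ∨ v = r) ∧
      g = i * (ι a * u * v) := by
  obtain ⟨a, u, v, hu, hv, e⟩ := h.cent g hg
  obtain ⟨i, hi, e⟩ : ∃ i, (i = 1 ∨ i = x) ∧ g = i * (ι a * u * v) := by
    rcases e with e | e
    · exact ⟨1, Or.inl rfl, by rw [one_mul]; exact e⟩
    · exact ⟨x, Or.inr rfl, e⟩
  have hiz : i * ι qz = ι qz * i := by
    rcases hi with rfl | rfl
    · rw [one_mul, mul_one]
    · exact h.comm qz
  have huz : u * ι qz = ι qz * u := by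
    rcases hu with rfl | rfl
    · rw [one_mul, mul_one]
    · exact f_z h
  have hvz : v * ι qz = ι qz * v := by
    rcases hv with rfl | rfl
    · rw [one_mul, mul_one]
    · exact r_z h
  refine ⟨a, ?_, i, u, v, hi, hu, hv, e⟩
  apply h.inj
  rw [map_mul, map_mul]
  have e1 : ι a = i⁻¹ * g * v⁻¹ * u⁻¹ := by rw [e]; group
  have c1 : Commute i (ι qz) := hiz
  have c2 : Commute u (ι qz) := huz
  have c3 : Commute v (ι qz) := hvz
  have c4 : Commute g (ι qz) := hz
  rw [e1]
  exact (((c1.inv_left.mul_left c4).mul_left c3.inv_left).mul_left c2.inv_left)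

/-- conjugation by an element of `C(x)`, `v = r` -/
theorem conj_r (h : AutGen x ι f r) {i u : G} (hi : i = 1 ∨ i = x) (hu : u = 1 ∨ u = f) (a b : A6)
    (hb : cA pf (θA b) = θA b) :
    (i * (ι a * u * r)) * ι b * (i * (ι a * u * r))⁻¹ = ι (a * θA b * a⁻¹) := by
  have hic : ∀ c : A6, i * ι c * i⁻¹ = ι c := by
    intro c
    rcases hi with rfl | rfl
    · group
    · rw [h.comm, mul_inv_cancel_right]
  have huc : u * ι (θA b) * u⁻¹ = ι (θA b) := by
    rcases hu with rfl | rfl
    · group
    · rw [h.cf, hb]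
  have e : (i * (ι a * u * r)) * ι b * (i * (ι a * u * r))⁻¹ =
      i * (ι a * (u * (r * ι b * r⁻¹) * u⁻¹) * (ι a)⁻¹) * i⁻¹ := by group
  rw [e, h.cr, huc, ← hic (a * θA b * a⁻¹), map_mul, map_mul, map_inv]

/-- an involution `t` of `C(x) ∩ C(z)` all whose products `t t^g` have square `1` lies in `⟨x, z⟩` -/
theorem el_norm (h : AutIso x ι f r) {t : G} (ht : t * x = x * t) (hz : t * ι qz = ι qz * t) (h1 : t * t = 1)
    (h2 : ∀ g, g * x = x * g → g * ι qz = ι qz * g → t * (g * t * g⁻¹) * (t * (g * t * g⁻¹)) = 1) :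
    t = 1 ∨ t = x ∨ t = ι qz ∨ t = x * ι qz := by
  have h' := h.toAutGen
  obtain ⟨a, ha, i, u, v, hi, hu, hv, e⟩ := form h' ht hz
  have hix : ∀ g : G, g * x = x * g → i * g = g * i := by
    intro g hg
    rcases hi with rfl | rfl
    · rw [one_mul, mul_one]
    · exact hg.symm
  have hii : i * i = 1 := by
    rcases hi with rfl | rfl
    · exact mul_one 1
    · exact h'.xx
  have hpa : (a : Perm (Fin 6)) * pz = pz * a := congrArg Subtype.val ha
  rcases hv with rfl | rfl
  · rcases hu with rfl | rfl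
    · -- `t = i ι(a)`
      rw [mul_one, mul_one] at e
      have e1 : ι (a * a) = 1 := by
        rw [map_mul]
        calc ι a * ι a = (i * i) * (ι a * ι a) := by rw [hii, one_mul]
          _ = i * (i * ι a) * ι a := by group
          _ = i * (ι a * i) * ι a := by rw [hix _ (h'.comm' a)]
          _ = t * t := by rw [e]; group
          _ = 1 := h1
      have e2 : a * a = 1 := h'.inj (e1.trans (map_one ι).symm)
      have e3 := h2 r h'.rx (r_z h')
      have e4 : t * (r * t * r⁻¹) = ι (a * θA a) := by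
        have hri : r * i = i * r := (hix r h'.rx).symm
        rw [map_mul, ← h'.cr, e]
        calc i * ι a * (r * (i * ι a) * r⁻¹) = i * ι a * (r * i * ι a * r⁻¹) := by group
          _ = i * (ι a * i) * (r * ι a * r⁻¹) := by rw [hri]; group
          _ = i * (i * ι a) * (r * ι a * r⁻¹) := by rw [hix _ (h'.comm' a)]
          _ = (i * i) * (ι a * (r * ι a * r⁻¹)) := by group
          _ = ι a * (r * ι a * r⁻¹) := by rw [hii, one_mul]
      rw [e4, ← map_mul] at e3
      have e5 : a * θA a * (a * θA a) = 1 := h'.inj (e3.trans (map_one ι).symm)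
      rcases perm_one a hpa (congrArg Subtype.val e2) (congrArg Subtype.val e5) (mem_A6.1 a.2) with e6 | e6
      · have e7 : a = 1 := Subtype.ext e6
        rw [e7, map_one, mul_one] at e
        rcases hi with rfl | rfl
        · exact Or.inl e
        · exact Or.inr (Or.inl e)
      · have e7 : a = qz := Subtype.ext e6
        rw [e7] at e
        rcases hi with rfl | rfl
        · rw [one_mul] at e
          exact Or.inr (Or.inr (Or.inl e))
        · exact Or.inr (Or.inr (Or.inr e))
    · -- `t = i ι(a) f`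
      exfalso
      rw [mul_one] at e
      have e1 : t * t = ι (a * cA pf a) * x := by
        have c1 : i * (ι a * u) = (ι a * u) * i := by
          apply hix
          rw [mul_assoc, h'.fx, ← mul_assoc, h'.comm', mul_assoc]
        rw [e]
        calc i * (ι a * u) * (i * (ι a * u)) = i * ((ι a * u) * i) * (ι a * u) := by group
          _ = i * (i * (ι a * u)) * (ι a * u) := by rw [c1]
          _ = (i * i) * (ι a * (u * ι a * u⁻¹) * (u * u)) := by group
          _ = ι (a * cA pf a) * x := by rw [hii, one_mul, h'.cf, h.ffx, map_mul]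
      rw [h1] at e1
      apply h'.ne (a * cA pf a)
      rw [eq_comm, mul_eq_one_iff_eq_inv] at e1
      rw [e1, x_inv h']
  · exfalso
    have hv1 : ι qv1 * ι qz = ι qz * ι qv1 := by
      rw [← map_mul, ← map_mul]; congr 1; exact Subtype.ext (by decide +kernel)
    have e3 := h2 (ι qv1) (h'.comm' _) hv1
    have e4 : t * (ι qv1 * t * (ι qv1)⁻¹) = ι (a * qv2 * a⁻¹ * qv1⁻¹) := by
      have hti : t⁻¹ = t := inv_eq_of_mul_eq_one_left h1
      have c := conj_r h' hi hu a qv1 (by rw [θA_qv1, cA_qv2])
      rw [← e, θA_qv1] at c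
      rw [map_mul, ← c, map_inv]
      calc t * (ι qv1 * t * (ι qv1)⁻¹) = t * (ι qv1 * t⁻¹ * (ι qv1)⁻¹) := by rw [hti]
        _ = t * ι qv1 * t⁻¹ * (ι qv1)⁻¹ := by group
    rw [e4, ← map_mul] at e3
    have e5 : a * qv2 * a⁻¹ * qv1⁻¹ * (a * qv2 * a⁻¹ * qv1⁻¹) = 1 := h'.inj (e3.trans (map_one ι).symm)
    exact perm_r a hpa (congrArg Subtype.val e5)

theorem perm_dd : ∀ a : Perm (Fin 6), a * pz = pz * a → a * pd * a⁻¹ = pd ∨ a * pd * a⁻¹ = pd⁻¹ := by
  decide +kernel

theorem cA_qd_inv : cA pf (qd⁻¹) = qd⁻¹ := Subtype.ext (by decide +kernel)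

/-- the centraliser of `x` and `d` -/
theorem cent_d_le (h : AutGen x ι f r) {H : Subgroup G} (hx : x ∈ H) (hf : f ∈ H) (hd : ι qd ∈ H)
    (hρ : ι qv1 * r ∈ H) {g : G} (hg : g * x = x * g) (hgd : g * ι qd = ι qd * g) : g ∈ H := by
  have hgz : g * ι qz = ι qz * g := by
    rw [← qd_sq, map_mul, ← mul_assoc, hgd, mul_assoc, hgd, mul_assoc]
  obtain ⟨a, ha, i, u, v, hi, hu, hv, e⟩ := form h hg hgz
  have hiH : i ∈ H := by
    rcases hi with rfl | rfl
    · exact one_mem _
    · exact hx
  have huH : u ∈ H := by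
    rcases hu with rfl | rfl
    · exact one_mem _
    · exact hf
  have hpa : Perm.sign (a : Perm (Fin 6)) = 1 := mem_A6.1 a.2
  rcases hv with rfl | rfl
  · have c1 : a * qd = qd * a := by
      have cd : g * ι qd * g⁻¹ = ι qd := by rw [hgd, mul_inv_cancel_right]
      have e1 : i * (ι a * u * 1) * ι qd * (i * (ι a * u * 1))⁻¹ =
          i * (ι a * (u * ι qd * u⁻¹) * (ι a)⁻¹) * i⁻¹ := by group
      have hud : u * ι qd * u⁻¹ = ι qd := by
        rcases hu with rfl | rfl
        · group
        · rw [h.cf, cA_qd]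
      have hic : ∀ c : A6, i * ι c * i⁻¹ = ι c := by
        intro c
        rcases hi with rfl | rfl
        · group
        · rw [h.comm, mul_inv_cancel_right]
      rw [e, e1, hud] at cd
      have e2 : i * ι (a * qd * a⁻¹) * i⁻¹ = ι qd := by
        rw [map_mul, map_mul, map_inv]; exact cd
      rw [hic] at e2
      have e3 := h.inj e2
      rw [mul_inv_eq_iff_eq_mul] at e3
      exact e3
    have hmem : ι a ∈ H := by
      rcases perm_d a (congrArg Subtype.val c1) hpa with e6 | e6 | e6 | e6
      · rw [show a = 1 from Subtype.ext e6, map_one]; exact one_mem _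
      · rw [show a = qd from Subtype.ext e6]; exact hd
      · rw [show a = qd * qd from Subtype.ext e6, map_mul]; exact mul_mem hd hd
      · rw [show a = qd * qd * qd from Subtype.ext e6, map_mul, map_mul]
        exact mul_mem (mul_mem hd hd) hd
    rw [e]
    exact mul_mem hiH (mul_mem (mul_mem hmem huH) (one_mem _))
  · have c1 : a * qd⁻¹ = qd * a := by
      have cd : g * ι qd * g⁻¹ = ι qd := by rw [hgd, mul_inv_cancel_right]
      have c := conj_r h hi hu a qd (by rw [θA_qd, cA_qd_inv])
      rw [← e, θA_qd, cd] at c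
      have e3 := h.inj c
      rw [eq_mul_inv_iff_mul_eq] at e3
      exact e3.symm
    have hmem : ∃ c : A6, ι c ∈ H ∧ a = c * qv1 := by
      rcases perm_rd a (congrArg Subtype.val c1) hpa with e6 | e6 | e6 | e6
      · exact ⟨1, by rw [map_one]; exact one_mem _, Subtype.ext (by rw [one_mul]; exact e6)⟩
      · exact ⟨qd, hd, Subtype.ext e6⟩
      · exact ⟨qd * qd, by rw [map_mul]; exact mul_mem hd hd, Subtype.ext e6⟩
      · exact ⟨qd * qd * qd, by rw [map_mul, map_mul]; exact mul_mem (mul_mem hd hd) hd, Subtype.ext e6⟩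
    obtain ⟨c, hc, ea⟩ := hmem
    have huv : ι qv1 * u = u * ι qv1 := by
      rcases hu with rfl | rfl
      · rw [one_mul, mul_one]
      · exact (f_v1 h).symm
    have e4 : g = i * (ι c * (u * (ι qv1 * v))) := by
      rw [e, ea, map_mul]
      calc i * (ι c * ι qv1 * u * v) = i * (ι c * ((ι qv1 * u) * v)) := by group
        _ = i * (ι c * (u * (ι qv1 * v))) := by rw [huv]; group
    rw [e4]
    exact mul_mem hiH (mul_mem hc (mul_mem huH hρ))

theorem rho_sq (h : AutGen x ι f r) : ι qv1 * r * (ι qv1 * r) = ι qd * (r * r) := by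
  have e := h.cr qv1
  rw [θA_qv1] at e
  rw [qd_eq, map_mul, ← e]; group

theorem rr_mem (h : AutGen x ι f r) {H : Subgroup G} (hx : x ∈ H) : r * r ∈ H := by
  rcases h.rr with e | e
  · rw [e]; exact one_mem _
  · rw [e]; exact hx

/-- the centraliser of `x` and `d` has rank at most `2` -/
theorem rank_M [Finite G] (h : AutIso x ι f r) :
    Cfsg.SectionalPRankLE 2 2 (centralizer ({x} : Set G) ⊓ centralizer ({ι qd} : Set G) : Subgroup G) := by
  have h' := h.toAutGen
  have key : ∀ H : Subgroup G, x ∈ H → f ∈ H → ι qd ∈ H → ι qv1 * r ∈ H →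
      (centralizer ({x} : Set G) ⊓ centralizer ({ι qd} : Set G) : Subgroup G) ≤ H := by
    intro H hx hf hd hρ g hg
    obtain ⟨h1, h2⟩ := mem_inf.1 hg
    exact cent_d_le h' hx hf hd hρ (mem_centralizer_singleton_iff.1 h1) (mem_centralizer_singleton_iff.1 h2)
  have hz : ι qd * ι qd = ι qz := by rw [← map_mul, qd_sq]
  have hzz : ι qz * ι qz = 1 := by rw [← map_mul, qz_sq, map_one]
  have e4 : (ι qv1 * r) ^ 4 = ι qz := by
    have hc : (r * r) * ι qd = ι qd * (r * r) := by
      rcases h'.rr with e | e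
      · rw [e, one_mul, mul_one]
      · rw [e]; exact h'.comm _
    have hr4 : r * r * (r * r) = 1 := by
      rcases h'.rr with e | e
      · rw [e, one_mul]
      · rw [e]; exact h'.xx
    calc (ι qv1 * r) ^ 4 = (ι qv1 * r * (ι qv1 * r)) * (ι qv1 * r * (ι qv1 * r)) := by
          simp only [pow_succ, pow_zero, one_mul, mul_assoc]
      _ = ι qd * ((r * r) * ι qd) * (r * r) := by rw [rho_sq h']; group
      _ = ι qd * ι qd * (r * r * (r * r)) := by rw [hc]; group
      _ = ι qz := by rw [hr4, mul_one, hz]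
  rcases h'.rf with hrf | hrf
  · refine GH.Rank.of_le (key (closure ({ι qv1 * r, f} : Set G)) ?_ ?_ ?_ ?_) (meta_rank ?_)
    · rw [← h.ffx]
      exact mul_mem (subset_closure (Set.mem_insert_of_mem _ rfl)) (subset_closure (Set.mem_insert_of_mem _ rfl))
    · exact subset_closure (Set.mem_insert_of_mem _ rfl)
    · have hx : x ∈ closure ({ι qv1 * r, f} : Set G) := by
        rw [← h.ffx]
        exact mul_mem (subset_closure (Set.mem_insert_of_mem _ rfl)) (subset_closure (Set.mem_insert_of_mem _ rfl))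
      have e1 : ι qd = ι qv1 * r * (ι qv1 * r) * (r * r)⁻¹ := by rw [rho_sq h', mul_inv_cancel_right]
      rw [e1]
      exact mul_mem (mul_mem (subset_closure (Set.mem_insert _ _)) (subset_closure (Set.mem_insert _ _)))
        (inv_mem (rr_mem h' hx))
    · exact subset_closure (Set.mem_insert _ _)
    · have e1 : f * (ι qv1 * r) * f⁻¹ = (ι qv1 * r) ^ 5 := by
        have e2 : f * r = r * f * ι qz := by
          have e3 : r * f = f * ι qz * r := by rw [← hrf, inv_mul_cancel_right]
          have e5 : r * f * ι qz = f * r := by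
            calc r * f * ι qz = f * ι qz * (r * ι qz) := by rw [e3]; group
              _ = f * ι qz * (ι qz * r) := by rw [r_z h']
              _ = f * (ι qz * ι qz) * r := by group
              _ = f * r := by rw [hzz, mul_one]
          exact e5.symm
        calc f * (ι qv1 * r) * f⁻¹ = (f * ι qv1) * r * f⁻¹ := by group
          _ = ι qv1 * (f * r) * f⁻¹ := by rw [f_v1 h']; group
          _ = ι qv1 * r * (f * ι qz) * f⁻¹ := by rw [e2]; group
          _ = ι qv1 * r * ι qz := by rw [f_z h']; group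
          _ = (ι qv1 * r) ^ 5 := by rw [← e4]; group
      rw [e1]
      exact pow_mem (mem_zpowers _) 5
  · have hc2 : f * ι qd * (f * ι qd) = x * ι qz := by
      calc f * ι qd * (f * ι qd) = f * (ι qd * f) * ι qd := by group
        _ = (f * f) * (ι qd * ι qd) := by rw [← f_d h']; group
        _ = x * ι qz := by rw [h.ffx, hz]
    have m1 : f * ι qd ∈ closure ({f * ι qd, ι qv1 * r} : Set G) := subset_closure (Set.mem_insert _ _)
    have m2 : ι qv1 * r ∈ closure ({f * ι qd, ι qv1 * r} : Set G) :=
      subset_closure (Set.mem_insert_of_mem _ rfl)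
    have mz : ι qz ∈ closure ({f * ι qd, ι qv1 * r} : Set G) := by rw [← e4]; exact pow_mem m2 4
    have mx : x ∈ closure ({f * ι qd, ι qv1 * r} : Set G) := by
      have : x = f * ι qd * (f * ι qd) * (ι qz)⁻¹ := by rw [hc2, mul_inv_cancel_right]
      rw [this]
      exact mul_mem (mul_mem m1 m1) (inv_mem mz)
    have md : ι qd ∈ closure ({f * ι qd, ι qv1 * r} : Set G) := by
      have e1 : ι qd = ι qv1 * r * (ι qv1 * r) * (r * r)⁻¹ := by rw [rho_sq h', mul_inv_cancel_right]
      have m3 := mul_mem (mul_mem m2 m2) (inv_mem (rr_mem h' mx))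
      rwa [← e1] at m3
    have mf : f ∈ closure ({f * ι qd, ι qv1 * r} : Set G) := by
      have : f = f * ι qd * (ι qd)⁻¹ := by rw [mul_inv_cancel_right]
      rw [this]
      have m3 := mul_mem m1 (inv_mem md)
      rwa [← this] at m3 ⊢
    refine GH.Rank.of_le (key (closure ({f * ι qd, ι qv1 * r} : Set G)) mx mf md m2) (meta_rank ?_)
    have e1 : ι qv1 * r * (f * ι qd) * (ι qv1 * r)⁻¹ = (f * ι qd) ^ 3 := by
      have hd1 : r * ι qd * r⁻¹ = ι qd⁻¹ := by rw [h'.cr, θA_qd]
      have hd2 : qv1 * qd⁻¹ * qv1⁻¹ = qd := Subtype.ext (by decide +kernel)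
      have hf1 : ι qv1 * (x * (f * ι qz)) * (ι qv1)⁻¹ = x * (f * ι qz) := by
        have c1 : Commute (ι qv1) x := h'.comm' _
        have c2 : Commute (ι qv1) f := (f_v1 h').symm
        have c3 : Commute (ι qv1) (ι qz) := by
          show ι qv1 * ι qz = ι qz * ι qv1
          rw [← map_mul, ← map_mul]; congr 1; exact Subtype.ext (by decide +kernel)
        have c4 : Commute (ι qv1) (x * (f * ι qz)) := c1.mul_right (c2.mul_right c3)
        rw [c4.eq, mul_inv_cancel_right]
      calc ι qv1 * r * (f * ι qd) * (ι qv1 * r)⁻¹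
          = (ι qv1 * (r * f * r⁻¹) * (ι qv1)⁻¹) * (ι qv1 * (r * ι qd * r⁻¹) * (ι qv1)⁻¹) := by group
        _ = (x * (f * ι qz)) * ι (qv1 * qd⁻¹ * qv1⁻¹) := by
            rw [hrf, hf1, hd1, map_mul, map_mul, map_inv, map_inv]
        _ = (x * (f * ι qz)) * ι qd := by rw [hd2]
        _ = (f * ι qd) ^ 3 := by
            have c1 : (f * ι qd) ^ 3 = (f * ι qd * (f * ι qd)) * (f * ι qd) := by
              simp only [pow_succ, pow_zero, one_mul]
            have c2 : ι qz * f = f * ι qz := (f_z h').symm
            rw [c1, hc2]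
            calc x * (f * ι qz) * ι qd = x * (f * ι qz) * ι qd := rfl
              _ = x * (ι qz * f) * ι qd := by rw [c2]
              _ = x * ι qz * (f * ι qd) := by group
    rw [e1]
    exact pow_mem (mem_zpowers _) 3

theorem cent_z_d (h : AutGen x ι f r) {g : G} (hg : g * x = x * g) (hgz : g * ι qz = ι qz * g) :
    g * ι qd * g⁻¹ = ι qd ∨ g * ι qd * g⁻¹ = (ι qd)⁻¹ := by
  obtain ⟨a, ha, i, u, v, hi, hu, hv, e⟩ := form h hg hgz
  rcases hv with rfl | rfl
  · have e1 : i * (ι a * u * 1) * ι qd * (i * (ι a * u * 1))⁻¹ =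
        i * (ι a * (u * ι qd * u⁻¹) * (ι a)⁻¹) * i⁻¹ := by group
    have hud : u * ι qd * u⁻¹ = ι qd := by
      rcases hu with rfl | rfl
      · group
      · rw [h.cf, cA_qd]
    have hic : ∀ c : A6, i * ι c * i⁻¹ = ι c := by
      intro c
      rcases hi with rfl | rfl
      · group
      · rw [h.comm, mul_inv_cancel_right]
    have e2 : g * ι qd * g⁻¹ = ι (a * qd * a⁻¹) := by
      rw [e, e1, hud, ← hic (a * qd * a⁻¹), map_mul, map_mul, map_inv]
    rcases perm_dd a (congrArg Subtype.val ha) with e3 | e3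
    · left
      rw [e2, show a * qd * a⁻¹ = qd from Subtype.ext e3]
    · right
      rw [e2, show a * qd * a⁻¹ = qd⁻¹ from Subtype.ext e3, map_inv]
  · have c := conj_r h hi hu a qd (by rw [θA_qd, cA_qd_inv])
    rw [← e, θA_qd] at c
    rcases perm_dd a (congrArg Subtype.val ha) with e3 | e3
    · right
      have e4 : a * qd⁻¹ * a⁻¹ = qd⁻¹ := by
        have : a * qd * a⁻¹ = qd := Subtype.ext e3
        calc a * qd⁻¹ * a⁻¹ = (a * qd * a⁻¹)⁻¹ := by group
          _ = qd⁻¹ := by rw [this]
      rw [c, e4, map_inv]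
    · left
      have e4 : a * qd⁻¹ * a⁻¹ = qd := by
        have : a * qd * a⁻¹ = qd⁻¹ := Subtype.ext e3
        calc a * qd⁻¹ * a⁻¹ = (a * qd * a⁻¹)⁻¹ := by group
          _ = qd := by rw [this, inv_inv]
      rw [c, e4]

theorem sym' [Finite G] (h : AutIso x ι f r) {z : G} (hzdef : z = ι qz)
    (hS : ∃ S : Sylow 2 G, (S : Subgroup G) ≤ centralizer ({z} : Set G))
    (hr : ¬ Cfsg.SectionalPRankLE 2 4 G)
    (hm : ∀ (m : centralizer ({z} : Set G) →* ℤˣ) (hx : x ∈ centralizer ({z} : Set G)), m ⟨x, hx⟩ = 1)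
    (A : Subgroup ↥(centralizer ({z} : Set G))) (hA : A.Normal) (hel : ∀ a ∈ A, a * a = 1) :
    ∀ a ∈ A, (a : G) = 1 ∨ (a : G) = z := by
  classical
  have h' := h.toAutGen
  have hzz : z * z = 1 := by rw [hzdef, ← map_mul, qz_sq, map_one]
  have hzinv : z⁻¹ = z := inv_eq_of_mul_eq_one_left hzz
  have hxz : x * z = z * x := by rw [hzdef]; exact h'.comm qz
  have hx1 : x ≠ z := fun e => h'.ne qz (by rw [← hzdef]; exact e.symm)
  have hxX : x ∈ centralizer ({z} : Set G) := mem_centralizer_singleton_iff.2 hxz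
  have hcomm : ∀ a ∈ A, ∀ b ∈ A, a * b = b * a := by
    intro a ha b hb
    have h1 := hel a ha
    have h2 := hel b hb
    have h3 := hel _ (mul_mem ha hb)
    calc a * b = a * (a * b * (a * b)) * b := by rw [h3, mul_one]
      _ = (a * a) * (b * a) * (b * b) := by group
      _ = b * a := by rw [h1, h2, one_mul, mul_one]
  have hcj : ∀ a ∈ A, ∀ g : ↥(centralizer ({z} : Set G)), g * a * g⁻¹ ∈ A := fun a ha g => hA.conj_mem a ha g
  -- the elements of `A` which commute with `x`
  have key : ∀ a ∈ A, (a : G) * x = x * a → (a : G) = 1 ∨ (a : G) = x ∨ (a : G) = z ∨ (a : G) = x * z := by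
    intro a ha hax
    have el := el_norm h hax (by rw [← hzdef]; exact mem_centralizer_singleton_iff.1 a.2)
      (congrArg Subtype.val (hel a ha)) (by
        intro g _ hgz
        have hgX : g ∈ centralizer ({z} : Set G) := by
          rw [hzdef]; exact mem_centralizer_singleton_iff.2 hgz
        have := hel _ (mul_mem ha (hcj a ha ⟨g, hgX⟩))
        exact congrArg Subtype.val this)
    rw [← hzdef] at el
    exact el
  -- `x` is not involved
  have nox : ∀ a ∈ A, (a : G) ≠ x ∧ (a : G) ≠ x * z := by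
    by_contra hcon
    push Not at hcon
    obtain ⟨a, ha, hax⟩ := hcon
    have hax' : (a : G) = x ∨ (a : G) = x * z := by
      by_cases e : (a : G) = x
      · exact Or.inl e
      · exact Or.inr (hax e)
    have hcx : ∀ b ∈ A, (b : G) * x = x * b := by
      intro b hb
      have e1 : (a : G) * b = b * a := congrArg Subtype.val (hcomm a ha b hb)
      have e2 : (b : G) * z = z * b := mem_centralizer_singleton_iff.1 b.2
      rcases hax' with e | e
      · rw [e] at e1; exact e1.symm
      · have e3 : x = a * z := by rw [e, mul_assoc, hzz, mul_one]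
        rw [e3]
        calc (b : G) * (a * z) = (b * a) * z := by group
          _ = a * (b * z) := by rw [← e1]; group
          _ = a * z * b := by rw [e2]; group
    have hcl : ∀ g ∈ centralizer ({z} : Set G), g * x * g⁻¹ = x ∨ g * x * g⁻¹ = x * z := by
      intro g hg
      have hgz : g * z = z * g := mem_centralizer_singleton_iff.1 hg
      have hgz' : g * z * g⁻¹ = z := by rw [hgz, mul_inv_cancel_right]
      have e1 := hcj a ha ⟨g, hg⟩
      have e2 := key _ e1 (hcx _ e1)
      have e3 : ((⟨g, hg⟩ * a * ⟨g, hg⟩⁻¹ : ↥(centralizer ({z} : Set G))) : G) = g * a * g⁻¹ := rfl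
      rw [e3] at e2
      have ne1 : g * x * g⁻¹ ≠ 1 := by
        intro e; apply h'.x1
        have : x = g⁻¹ * (g * x * g⁻¹) * g := by group
        rw [this, e]; group
      have nez : g * x * g⁻¹ ≠ z := by
        intro e; apply hx1
        have : x = g⁻¹ * (g * x * g⁻¹) * g := by group
        rw [this, e]
        have : g⁻¹ * z * g = g⁻¹ * (g * z * g⁻¹) * g := by rw [hgz']
        rw [this]; group
      rcases hax' with e | e
      · rw [e] at e2
        rcases e2 with e2 | e2 | e2 | e2
        · exact absurd e2 ne1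
        · exact Or.inl e2
        · exact absurd e2 nez
        · exact Or.inr e2
      · have e4 : g * (a : G) * g⁻¹ = g * x * g⁻¹ * z := by
          rw [e]
          calc g * (x * z) * g⁻¹ = g * x * g⁻¹ * (g * z * g⁻¹) := by group
            _ = g * x * g⁻¹ * z := by rw [hgz']
        rw [e4] at e2
        rcases e2 with e2 | e2 | e2 | e2
        · exact absurd (by rw [mul_eq_one_iff_eq_inv, hzinv] at e2; exact e2) nez
        · right
          calc g * x * g⁻¹ = (g * x * g⁻¹) * (z * z) := by rw [hzz, mul_one]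
            _ = (g * x * g⁻¹ * z) * z := by group
            _ = x * z := by rw [e2]
        · exact absurd (mul_eq_right.1 e2) ne1
        · left
          exact mul_right_cancel e2
    -- the rank
    apply hr
    obtain ⟨S, hS⟩ := hS
    rw [← GH.Rank.sylow_iff S]
    refine GH.Rank.of_le hS ?_
    set X : Subgroup G := centralizer ({z} : Set G) with hX
    set T : Subgroup G := X ⊓ centralizer ({x} : Set G) with hT
    set M : Subgroup G := T ⊓ centralizer ({ι qd} : Set G) with hM
    have r1 : T.relIndex X ≤ 2 := relIndex_le_two hcl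
    have r2 : M.relIndex T ≤ 2 := by
      refine relIndex_le_two (y := (ι qd)⁻¹) ?_
      intro g hg
      obtain ⟨g1, g2⟩ := mem_inf.1 hg
      exact cent_z_d h' (mem_centralizer_singleton_iff.1 g2)
        (by rw [← hzdef]; exact mem_centralizer_singleton_iff.1 g1)
    have r3 : M.relIndex X ≤ 4 := by
      rw [← relIndex_mul_relIndex M T X inf_le_left inf_le_left]
      calc M.relIndex T * T.relIndex X ≤ 2 * 2 := Nat.mul_le_mul r2 r1
        _ = 4 := rfl
    have r4 : Cfsg.SectionalPRankLE 2 2 M := by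
      refine GH.Rank.of_le ?_ (rank_M h)
      intro g hg
      obtain ⟨g1, g2⟩ := mem_inf.1 hg
      exact mem_inf.2 ⟨(mem_inf.1 g1).2, g2⟩
    have hMX : M ≤ X := inf_le_left.trans inf_le_left
    have r5 : Cfsg.SectionalPRankLE 2 2 (M.subgroupOf X) :=
      GH.Rank.of_equiv r4 (subgroupOfEquivOfLe hMX).symm
    exact GH.Rank.of_index_le (b := 2) r5 r3
  -- everything which commutes with `x` is in `{1, z}`
  have key2 : ∀ a ∈ A, (a : G) * x = x * a → (a : G) = 1 ∨ (a : G) = z := by
    intro a ha hax
    rcases key a ha hax with e | e | e | e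
    · exact Or.inl e
    · exact absurd e (nox a ha).1
    · exact Or.inr e
    · exact absurd e (nox a ha).2
  intro a ha
  by_contra hcon
  push Not at hcon
  have hax : (a : G) * x ≠ x * a := fun e => by
    rcases key2 a ha e with e1 | e1
    · exact hcon.1 e1
    · exact hcon.2 e1
  have hmove : ∀ b ∈ A, (b : G) * x ≠ x * b → x * b * x⁻¹ = b * z := by
    intro b hb hbx
    have hbb : (b : G) * b = 1 := congrArg Subtype.val (hel b hb)
    have e1 : b * (⟨x, hxX⟩ * b * ⟨x, hxX⟩⁻¹) ∈ A := mul_mem hb (hcj b hb _)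
    have e2 : (b : G) * (x * b * x⁻¹) = (x * b * x⁻¹) * b :=
      congrArg Subtype.val (hcomm b hb _ (hcj b hb ⟨x, hxX⟩))
    have e3 := key2 _ e1 (by
      show (b : G) * (x * b * x⁻¹) * x = x * (b * (x * b * x⁻¹))
      rw [x_inv h'] at e2 ⊢
      calc (b : G) * (x * b * x) * x = b * (x * b) * (x * x) := by group
        _ = b * (x * b) := by rw [h'.xx, mul_one]
        _ = (x * x) * b * (x * b) := by rw [h'.xx, one_mul]
        _ = x * ((x * b * x) * b) * 1 := by
            have : (x * x) * b * (x * b) = x * (x * b * x * b) := by group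
            rw [this, mul_one]
        _ = x * (b * (x * b * x)) := by rw [← e2, mul_one])
    have e4 : ((b * (⟨x, hxX⟩ * b * ⟨x, hxX⟩⁻¹) : ↥(centralizer ({z} : Set G))) : G) =
        b * (x * b * x⁻¹) := rfl
    rw [e4] at e3
    have e5 : x * b * x⁻¹ = b * (b * (x * b * x⁻¹)) := by rw [← mul_assoc, hbb, one_mul]
    rcases e3 with e3 | e3
    · exfalso
      rw [e3, mul_one, mul_inv_eq_iff_eq_mul] at e5
      exact hbx e5.symm
    · rw [e5, e3]
  have hform : ∀ b ∈ A, (b : G) = 1 ∨ (b : G) = z ∨ (b : G) = a ∨ (b : G) = a * z := by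
    intro b hb
    by_cases hbx : (b : G) * x = x * b
    · rcases key2 b hb hbx with e | e
      · exact Or.inl e
      · exact Or.inr (Or.inl e)
    · have e1 := hmove b hb hbx
      have e2 := hmove a ha hax
      have haa : (a : G) * a = 1 := congrArg Subtype.val (hel a ha)
      have haz : (a : G) * z = z * a := mem_centralizer_singleton_iff.1 a.2
      have e3 : x * ((a : G) * b) * x⁻¹ = a * b := by
        have hbz : (b : G) * z = z * b := mem_centralizer_singleton_iff.1 b.2
        calc x * ((a : G) * b) * x⁻¹ = (x * a * x⁻¹) * (x * b * x⁻¹) := by group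
          _ = a * (z * b) * z := by rw [e1, e2]; group
          _ = a * b * (z * z) := by rw [← hbz]; group
          _ = a * b := by rw [hzz, mul_one]
      rw [mul_inv_eq_iff_eq_mul] at e3
      have e4 : (b : G) = a * (a * b) := by rw [← mul_assoc, haa, one_mul]
      rcases key2 _ (mul_mem ha hb) (show ((a * b : ↥(centralizer ({z} : Set G))) : G) * x = _ from e3.symm) with e | e
      · right; right; left
        rw [e4, show ((a : G) * b) = ((a * b : ↥(centralizer ({z} : Set G))) : G) from rfl, e, mul_one]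
      · right; right; right
        rw [e4, show ((a : G) * b) = ((a * b : ↥(centralizer ({z} : Set G))) : G) from rfl, e]
  have haz : (a : G) * z = z * a := mem_centralizer_singleton_iff.1 a.2
  have hz1 : z ≠ 1 := by
    intro e
    rw [hzdef, ← map_one ι] at e
    exact qz_ne (h'.inj e)
  have haaz : (a : G) ≠ a * z := fun e => hz1 (left_eq_mul.1 e)
  have hact : ∀ g : ↥(centralizer ({z} : Set G)), (g : G) * a * (g : G)⁻¹ = a ∨ (g : G) * a * (g : G)⁻¹ = a * z := by
    intro g
    have hgz : (g : G) * z = z * g := mem_centralizer_singleton_iff.1 g.2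
    have e1 := hform _ (hcj a ha g)
    have e2 : ((g * a * g⁻¹ : ↥(centralizer ({z} : Set G))) : G) = g * a * (g : G)⁻¹ := rfl
    rw [e2] at e1
    rcases e1 with e | e | e | e
    · exfalso; apply hcon.1
      have : (a : G) = (g : G)⁻¹ * (g * a * (g : G)⁻¹) * g := by group
      rw [this, e]; group
    · exfalso; apply hcon.2
      have : (a : G) = (g : G)⁻¹ * (g * a * (g : G)⁻¹) * g := by group
      rw [this, e]
      calc (g : G)⁻¹ * z * g = (g : G)⁻¹ * (z * g) := by group
        _ = (g : G)⁻¹ * (g * z) := by rw [hgz]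
        _ = z := by group
    · exact Or.inl e
    · exact Or.inr e
  let m : ↥(centralizer ({z} : Set G)) →* ℤˣ :=
    { toFun := fun g => if (g : G) * a * (g : G)⁻¹ = a then 1 else -1
      map_one' := by
        rw [if_pos]
        show (1 : G) * a * (1 : G)⁻¹ = a
        group
      map_mul' := by
        intro g k
        have hgz : (g : G) * z * (g : G)⁻¹ = z := by
          rw [mem_centralizer_singleton_iff.1 g.2, mul_inv_cancel_right]
        have e0 : ((g * k : ↥(centralizer ({z} : Set G))) : G) * a * ((g * k : ↥(centralizer ({z} : Set G))) : G)⁻¹ =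
            g * (k * a * (k : G)⁻¹) * (g : G)⁻¹ := by
          show (g : G) * k * a * ((g : G) * k)⁻¹ = _
          group
        have e1 : (g : G) * (a * z) * (g : G)⁻¹ = (g * a * (g : G)⁻¹) * z := by
          calc (g : G) * (a * z) * (g : G)⁻¹ = (g * a * (g : G)⁻¹) * (g * z * (g : G)⁻¹) := by group
            _ = _ := by rw [hgz]
        show (if ((g * k : ↥(centralizer ({z} : Set G))) : G) * a *
          ((g * k : ↥(centralizer ({z} : Set G))) : G)⁻¹ = a then (1 : ℤˣ) else -1) = _
        rw [e0]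
        rcases hact k with ek | ek <;> rcases hact g with eg | eg
        · rw [ek, if_pos eg, if_pos rfl, one_mul]
        · rw [ek, eg, if_neg (Ne.symm haaz), if_pos rfl, mul_one]
        · rw [ek, e1, eg, if_neg (Ne.symm haaz), if_pos rfl, one_mul]
        · rw [ek, e1, eg, if_neg (Ne.symm haaz)]
          have : (a : G) * z * z = a := by rw [mul_assoc, hzz, mul_one]
          rw [if_pos this]
          decide }
  have hmx := hm m hxX
  have e1 : m ⟨x, hxX⟩ = -1 := by
    show (if x * a * x⁻¹ = a then (1 : ℤˣ) else -1) = -1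
    rw [if_neg]
    intro e
    rw [mul_inv_eq_iff_eq_mul] at e
    exact hax e.symm
  rw [e1] at hmx
  exact absurd hmx (by decide)

/-- **(a) of C3b**: the isoclinic case -/
theorem sym [Finite G] (h : AutIso x ι f r)
    (hS : ∃ S : Sylow 2 G, (S : Subgroup G) ≤ centralizer ({ι qz} : Set G))
    (hr : ¬ Cfsg.SectionalPRankLE 2 4 G)
    (hm : ∀ (m : centralizer ({ι qz} : Set G) →* ℤˣ) (hx : x ∈ centralizer ({ι qz} : Set G)), m ⟨x, hx⟩ = 1)
    (A : Subgroup ↥(centralizer ({ι qz} : Set G))) (hA : A.Normal) (hel : ∀ a ∈ A, a * a = 1) :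
    ∀ a ∈ A, (a : G) = 1 ∨ (a : G) = ι qz := sym' h rfl hS hr hm A hA hel

end

end Cfsg.Agent.OddHalf.D5.SixAut.IsoKill
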