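import Cfsg.Agent.OddHalf.D5.SixAut.FinalSpl
import Cfsg.Agent.OddHalf.D5.SixAut.FitZ
import Cfsg.Agent.OddHalf.D5.SixAut.IsoKill

/-!
# ODD D5, `n = 6`, `C_G(x)/⟨x⟩ = Aut(A_6)`: the elementary abelian normal subgroups of `C(z)`, all cases (helper383)
-/

set_option autoImplicit false

namespace Cfsg.Agent.OddHalf.D5.SixAut.C3b

open Subgroup Equiv Cfsg
open scoped commutatorElement

variable {G : Type*} [Group G] {x f r : G} {ι : A6 →* G}

/-- a simple non-abelian group is perfect -/
theorem comm_top [IsSimpleGroup G] (hna : ¬ ∀ a b : G, a * b = b * a) : commutator G = ⊤ := by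
  rcases (inferInstance : (commutator G).Normal).eq_bot_or_eq_top with e | e
  · exfalso
    apply hna
    intro a b
    have h1 : ⁅a, b⁆ ∈ commutator G := Subgroup.commutator_mem_commutator (mem_top a) (mem_top b)
    rw [e, mem_bot, commutatorElement_def] at h1
    have h2 : a * b * (b * a)⁻¹ = 1 := by rw [← h1]; group
    exact mul_inv_eq_one.1 h2
  · exact e

theorem hom_one (hc : commutator G = ⊤) {A : Type*} [CommGroup A] (m : G →* A) (g : G) : m g = 1 := by
  have h1 : commutator G ≤ m.ker := by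
    rw [commutator_def, commutator_le]
    intro a _ b _
    rw [MonoidHom.mem_ker, commutatorElement_def, map_mul, map_mul, map_mul, map_inv, map_inv,
      mul_comm (m a), mul_inv_cancel_right, mul_inv_cancel]
  rw [hc] at h1
  exact MonoidHom.mem_ker.1 (h1 (mem_top g))

/-- **all cases**: every elementary abelian normal subgroup of `C(z)` is `≤ ⟨z⟩` -/
theorem key [Finite G] [IsSimpleGroup G] (hna : ¬ ∀ a b : G, a * b = b * a) (h : AutGen x ι f r)
    (h5 : ¬ SectionalPRankLE 2 4 G) (bal : ∀ t : G, orderOf t = 2 → centralizerPPrimeCore 2 t = ⊥)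
    (htw : AutTw x ι f r → False) (A : Subgroup (centralizer ({ι qz} : Set G))) (hA : A.Normal)
    (hel : ∀ a ∈ A, a * a = 1) : ∀ a ∈ A, (a : G) = 1 ∨ (a : G) = ι qz := by
  have hc := comm_top hna
  have hG : ∀ (m : G →* ℤˣ) (g : G), m g = 1 := fun m g => hom_one hc m g
  have hs := h.exists_s h5
  have nxz := h.nxz h5
  have hZ := h.card_center_le h5
  have hm : ∀ (m : centralizer ({ι qz} : Set G) →* ℤˣ) (hx : x ∈ centralizer ({ι qz} : Set G)), m ⟨x, hx⟩ = 1 :=
    fun m _ => h.foc h5 hc m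
  have pT := h.pT
  have syl := h.setup.syl
  rcases h.cases with ⟨ι', h', -, he⟩ | hI | hT
  · have e : ι qz = ι' pz := (he qz).symm
    refine spl hna h' hG ?_ ?_ hZ bal ?_ ?_ e hm A hA hel
    · rw [← e]; exact hs
    · rw [← e]; exact nxz
    · rw [← e]; exact pT
    · rw [← e]; exact syl
  · obtain ⟨S, hTS⟩ := pT.exists_le_sylow
    exact IsoKill.sym hI ⟨S, fun y hy => mem_centralizer_singleton_iff.2 (h.S_le h5 S hTS hy)⟩ h5 hm A hA hel
  · exact (htw hT).elim

end Cfsg.Agent.OddHalf.D5.SixAut.C3b
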