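import Cfsg.Agent.S1273

/-!
# ODD D5, `K = A₆`, `C(x)/⟨x⟩ = Aut(A₆)`, case (HSx), step (3) of #12805 (helper383)

`eq_of_self`: a self-normalising abelian 2-subgroup `Y` of a subnormal subgroup `J` of a group `H` with `O(H) = 1` is
equal to `J` (Burnside).
`card_le`: `U₁ = l ∪ v₁ l` normal in `C(f)` and `U₂ = l ∪ v₂ l` normal in `C(f z)`, `C(U₁) ∩ C(U₂) ≥ Y` with
`n x n⁻¹ ∈ Y → n ∈ Y`, `O(C(f)) = 1` ⟹ `|C(f)| ≤ 768`.
-/

set_option autoImplicit false

namespace Cfsg.Agent.OddHalf.D5.SixAut.HsxJ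

open Subgroup Cfsg

/-- a self-normalising 2-subgroup is a Sylow subgroup -/
theorem exists_sylow {J : Type*} [Group J] [Finite J] {Y : Subgroup J} (h2 : IsPGroup 2 Y)
    (hs : ∀ n, (∀ y ∈ Y, n * y * n⁻¹ ∈ Y) → n ∈ Y) : ∃ S : Sylow 2 J, (S : Subgroup J) = Y := by
  have : Fact (Nat.Prime 2) := ⟨Nat.prime_two⟩
  obtain ⟨S, hS⟩ := h2.exists_le_sylow
  refine ⟨S, ?_⟩
  by_contra hne
  have hlt : Y < (S : Subgroup J) := lt_of_le_of_ne hS (fun e => hne e.symm)
  have hnil : Group.IsNilpotent (S : Subgroup J) := S.isPGroup'.isNilpotent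
  have hsub : Y.subgroupOf S < ⊤ := by
    rw [lt_top_iff_ne_top]
    intro e
    rw [subgroupOf_eq_top] at e
    exact absurd e (not_le_of_gt hlt)
  have h1 := Group.normalizerCondition_of_isNilpotent (G := (S : Subgroup J)) (Y.subgroupOf S) hsub
  obtain ⟨n, hn1, hn2⟩ := SetLike.exists_of_lt h1
  apply hn2
  rw [mem_subgroupOf]
  apply hs
  intro y hy
  have h3 := (mem_normalizer_iff.1 hn1 ⟨y, hS hy⟩).1 (mem_subgroupOf.2 hy)
  exact mem_subgroupOf.1 h3

/-- Burnside: a self-normalising abelian 2-subgroup has a normal complement of odd order -/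
theorem exists_complement {J : Type*} [Group J] [Finite J] {Y : Subgroup J} (h2 : IsPGroup 2 Y)
    (hc : ∀ y ∈ Y, ∀ y' ∈ Y, y * y' = y' * y)
    (hs : ∀ n, (∀ y ∈ Y, n * y * n⁻¹ ∈ Y) → n ∈ Y) :
    ∃ K : Subgroup J, K.Normal ∧ (Nat.card K).Coprime 2 ∧ K.IsComplement' Y := by
  have : Fact (Nat.Prime 2) := ⟨Nat.prime_two⟩
  obtain ⟨S, rfl⟩ := exists_sylow h2 hs
  have hN : normalizer ((S : Subgroup J) : Set J) ≤ centralizer ((S : Subgroup J) : Set J) := by
    intro n hn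
    have hnS : n ∈ (S : Subgroup J) := hs n fun y hy => (mem_normalizer_iff.1 hn y).1 hy
    rw [mem_centralizer_iff]
    intro y hy
    exact hc y hy n hnS
  refine ⟨(MonoidHom.transferSylow S hN).ker, inferInstance, ?_, MonoidHom.ker_transferSylow_isComplement' S hN⟩
  have h3 := (MonoidHom.ker_transferSylow_isComplement' S hN).index_eq_card
  have h4 := S.not_dvd_index
  rw [h3] at h4
  exact (Nat.prime_two.coprime_iff_not_dvd.2 h4).symm

/-- **a self-normalising abelian 2-subgroup of a subnormal subgroup** of a group without odd core -/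
theorem eq_of_self {H : Type*} [Group H] [Finite H] (hO : oddCore H = ⊥) {J Y : Subgroup H} (hJ : J.IsSubnormal)
    (hYJ : Y ≤ J) (h2 : IsPGroup 2 Y) (hc : ∀ y ∈ Y, ∀ y' ∈ Y, y * y' = y' * y)
    (hs : ∀ n ∈ J, (∀ y ∈ Y, n * y * n⁻¹ ∈ Y) → n ∈ Y) : J = Y := by
  obtain ⟨K, hKn, hK2, hKc⟩ := exists_complement (J := J) (Y := Y.subgroupOf J)
    (h2.comap_subtype) (fun y hy y' hy' => Subtype.ext (hc y hy y' hy'))
    (fun n hn => mem_subgroupOf.2 (hs n n.2 fun y hy => by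
      have := hn ⟨y, hYJ hy⟩ (mem_subgroupOf.2 hy)
      exact mem_subgroupOf.1 this))
  have hsub : (K.map J.subtype).IsSubnormal := by
    have h1 : K.IsSubnormal := hKn.isSubnormal
    exact h1.trans' hJ
  have hKb : K.map J.subtype ≤ oddCore H := by
    apply S1273.subnormal_coprime_le_pPrimeCore 2 hsub
    rw [Nat.card_congr (K.equivMapOfInjective J.subtype J.subtype_injective).symm.toEquiv]
    exact hK2
  rw [hO, le_bot_iff, map_eq_bot_iff_of_injective _ J.subtype_injective] at hKb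
  rw [hKb] at hKc
  have h5 : Y.subgroupOf J = ⊤ := by
    rw [isComplement'_bot_left] at hKc
    exact hKc
  exact le_antisymm (subgroupOf_eq_top.1 h5) hYJ

/-- counting: `|A| ≤ |S| |B|` if `A` moves `v` inside `S` and the stabiliser of `v` in `A` lies in `B` -/
theorem card_le_mul {G : Type*} [Group G] [Finite G] {A B : Subgroup G} {v : G} (S : Finset G)
    (hS : ∀ g ∈ A, g * v * g⁻¹ ∈ S) (hB : ∀ g ∈ A, g * v = v * g → g ∈ B) :
    Nat.card A ≤ S.card * Nat.card B := by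
  classical
  have := Fintype.ofFinite G
  let T : Finset G := Finset.univ.filter (fun g => g ∈ A)
  have hT : Nat.card A = T.card := by
    rw [Nat.subtype_card]
    intro g
    simp [T]
  rw [hT]
  have h1 : ∀ g ∈ T, g * v * g⁻¹ ∈ S := fun g hg => hS g (by simpa [T] using hg)
  rw [mul_comm]
  refine Finset.card_le_mul_card_image_of_maps_to (f := fun g => g * v * g⁻¹) h1 (Nat.card B) ?_
  intro s _
  by_cases hne : (T.filter (fun g => g * v * g⁻¹ = s)).Nonempty
  · obtain ⟨g₀, hg₀⟩ := hne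
    have h2 : (T.filter (fun g => g * v * g⁻¹ = s)).card ≤ (Finset.univ.filter (fun g => g ∈ B)).card := by
      refine Finset.card_le_card_of_injOn (fun g => g₀⁻¹ * g) ?_ ?_
      · intro g hg
        rw [Finset.mem_coe, Finset.mem_filter] at hg ⊢
        rw [Finset.mem_filter] at hg₀
        refine ⟨Finset.mem_univ _, ?_⟩
        have a1 : g₀ ∈ A := by simpa [T] using hg₀.1
        have a2 : g ∈ A := by simpa [T] using hg.1
        refine hB _ (A.mul_mem (A.inv_mem a1) a2) ?_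
        have e1 : g₀ * v * g₀⁻¹ = g * v * g⁻¹ := hg₀.2.trans hg.2.symm
        calc g₀⁻¹ * g * v = g₀⁻¹ * (g * v * g⁻¹) * g := by group
          _ = g₀⁻¹ * (g₀ * v * g₀⁻¹) * g := by rw [e1]
          _ = v * (g₀⁻¹ * g) := by group
      · intro a _ b _ hab
        exact mul_left_cancel hab
    refine h2.trans (le_of_eq ?_)
    rw [Nat.subtype_card (Finset.univ.filter (fun g => g ∈ B))]
    intro g
    simp
  · rw [Finset.not_nonempty_iff_eq_empty] at hne
    rw [hne, Finset.card_empty]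
    exact Nat.zero_le _

/-- **(3) of (HSx)** -/
theorem card_le {G : Type*} [Group G] [Finite G] {x z f v₁ v₂ : G} {L U₁ U₂ Y : Subgroup G}
    (hL : Nat.card L = 4) (hY : Nat.card Y ≤ 8) (zL : z ∈ L) (fL : f ∈ L)
    (f1 : f ≠ 1) (z1 : z ≠ 1) (fz : z ≠ f)
    (LU₁ : L ≤ U₁)
    (hU₁ : ∀ u ∈ U₁, u ∈ L ∨ ∃ c ∈ L, u = v₁ * c) (hU₂ : ∀ u ∈ U₂, u ∈ L ∨ ∃ c ∈ L, u = v₂ * c)
    (v₁U : v₁ ∈ U₁) (v₂U : v₂ ∈ U₂) (v₁L : v₁ ∉ L) (v₂L : v₂ ∉ L)
    (hcL : ∀ c ∈ L, ∀ g, g * z = z * g → g * f = f * g → g * c = c * g)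
    (hn₁ : ∀ g, g * f = f * g → ∀ u ∈ U₁, g * u * g⁻¹ ∈ U₁)
    (hn₂ : ∀ g, g * (f * z) = f * z * g → ∀ u ∈ U₂, g * u * g⁻¹ ∈ U₂)
    (hO : centralizerPPrimeCore 2 f = ⊥)
    (hYJ : Y ≤ centralizer (U₁ : Set G) ⊓ centralizer (U₂ : Set G))
    (h2 : IsPGroup 2 Y) (hc : ∀ y ∈ Y, ∀ y' ∈ Y, y * y' = y' * y) (xY : x ∈ Y)
    (hs : ∀ n ∈ centralizer (U₁ : Set G) ⊓ centralizer (U₂ : Set G), n * x * n⁻¹ ∈ Y → n ∈ Y) :
    Nat.card (centralizer ({f} : Set G)) ≤ 768 := by
  classical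
  set C := centralizer ({f} : Set G) with hC
  set C₁ := centralizer (U₁ : Set G) with hC₁
  set CJ := centralizer (U₁ : Set G) ⊓ centralizer (U₂ : Set G) with hCJ
  have memC : ∀ {g}, g ∈ C ↔ g * f = f * g := fun {g} => mem_centralizer_singleton_iff
  have C₁C : C₁ ≤ C := fun g hg => memC.2 ((mem_centralizer_iff.1 hg f (LU₁ fL)).symm)
  have JC₁ : CJ ≤ C₁ := inf_le_left
  have c₁z : ∀ g ∈ C₁, g * z = z * g := fun g hg => (mem_centralizer_iff.1 hg z (LU₁ zL)).symm
  have c₁f : ∀ g ∈ C₁, g * f = f * g := fun g hg => memC.1 (C₁C hg)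
  -- normality
  have nor₁ : (C₁.subgroupOf C).Normal := by
    refine ⟨fun n hn g => ?_⟩
    rw [mem_subgroupOf] at hn ⊢
    rw [hC₁, mem_centralizer_iff] at hn ⊢
    intro u hu
    have h1 : (g : G)⁻¹ * u * g ∈ U₁ := by
      have := hn₁ (g : G)⁻¹ (memC.1 (C.inv_mem g.2)) u hu
      rwa [inv_inv] at this
    have h2 := hn _ h1
    show u * ((g : G) * n * (g : G)⁻¹) = (g : G) * n * (g : G)⁻¹ * u
    calc u * ((g : G) * n * (g : G)⁻¹) = g * ((g : G)⁻¹ * u * g * n) * (g : G)⁻¹ := by group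
      _ = g * (n * ((g : G)⁻¹ * u * g)) * (g : G)⁻¹ := by rw [h2]
      _ = (g : G) * n * (g : G)⁻¹ * u := by group
  have nor₂ : (CJ.subgroupOf C₁).Normal := by
    refine ⟨fun n hn g => ?_⟩
    rw [mem_subgroupOf] at hn ⊢
    have hn' : (n : G) ∈ centralizer (U₂ : Set G) := (mem_inf.1 hn).2
    have hg1 : ∀ u ∈ U₂, (g : G)⁻¹ * u * g ∈ U₂ := by
      intro u hu
      have e : (g : G)⁻¹ * (f * z) = f * z * (g : G)⁻¹ := by
        have a1 := c₁f _ (C₁.inv_mem g.2)
        have a2 := c₁z _ (C₁.inv_mem g.2)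
        rw [← mul_assoc, a1, mul_assoc, a2, mul_assoc]
      have := hn₂ (g : G)⁻¹ e u hu
      rwa [inv_inv] at this
    refine mem_inf.2 ⟨C₁.mul_mem (C₁.mul_mem g.2 (mem_inf.1 hn).1) (C₁.inv_mem g.2), ?_⟩
    rw [mem_centralizer_iff] at hn' ⊢
    intro u hu
    have h2 := hn' _ (hg1 u hu)
    show u * ((g : G) * n * (g : G)⁻¹) = (g : G) * n * (g : G)⁻¹ * u
    calc u * ((g : G) * n * (g : G)⁻¹) = g * ((g : G)⁻¹ * u * g * n) * (g : G)⁻¹ := by group
      _ = g * (n * ((g : G)⁻¹ * u * g)) * (g : G)⁻¹ := by rw [h2]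
      _ = (g : G) * n * (g : G)⁻¹ * u := by group
  -- `C_J = Y`
  have hsn : (CJ.subgroupOf C).IsSubnormal := by
    refine IsSubnormal.step _ (C₁.subgroupOf C) (comap_mono JC₁) nor₁.isSubnormal ?_
    have e : (CJ.subgroupOf C).subgroupOf (C₁.subgroupOf C) =
        (CJ.subgroupOf C₁).comap (subgroupOfEquivOfLe C₁C).toMonoidHom := by
      ext a; rfl
    rw [e]
    exact nor₂.comap _
  have hO' : oddCore C = ⊥ := by
    rw [centralizerPPrimeCore, map_eq_bot_iff_of_injective _ C.subtype_injective] at hO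
    exact hO
  have hYC : Y ≤ C := hYJ.trans (JC₁.trans C₁C)
  have hJY : CJ.subgroupOf C = Y.subgroupOf C := by
    refine eq_of_self hO' hsn (fun y hy => mem_subgroupOf.2 (hYJ (mem_subgroupOf.1 hy))) h2.comap_subtype
      (fun y hy y' hy' => Subtype.ext (hc y hy y' hy')) ?_
    intro n hn h
    rw [mem_subgroupOf] at hn ⊢
    exact hs n hn (mem_subgroupOf.1 (h ⟨x, hYC xY⟩ (mem_subgroupOf.2 xY)))
  have hJ : CJ = Y := by
    have h3 := congrArg (Subgroup.map C.subtype) hJY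
    rw [subgroupOf_map_subtype, subgroupOf_map_subtype, inf_eq_left.2 (JC₁.trans C₁C), inf_eq_left.2 hYC] at h3
    exact h3
  -- the four-group as a finset
  have := Fintype.ofFinite G
  let Lf : Finset G := Finset.univ.filter (fun g => g ∈ L)
  have hLf : Lf.card = 4 := by
    rw [← hL, Nat.subtype_card]
    intro g
    simp [Lf]
  have memLf : ∀ {g}, g ∈ Lf ↔ g ∈ L := fun {g} => by simp [Lf]
  have hv : ∀ v : G, (Lf.image (fun c => v * c)).card ≤ 4 := fun v => hLf ▸ Finset.card_image_le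
  -- `|C₁| ≤ 32`
  have s1 : Nat.card C₁ ≤ 4 * Nat.card CJ := by
    refine (card_le_mul (v := v₂) (Lf.image (fun c => v₂ * c)) ?_ ?_).trans
      (Nat.mul_le_mul_right _ (hv v₂))
    · intro g hg
      have e : g * (f * z) = f * z * g := by
        rw [← mul_assoc, c₁f g hg, mul_assoc, c₁z g hg, mul_assoc]
      rcases hU₂ _ (hn₂ g e v₂ v₂U) with h | ⟨c, hcL', h⟩
      · exfalso
        apply v₂L
        have h3 := hcL _ h g (c₁z g hg) (c₁f g hg)
        have h4 : v₂ = g * v₂ * g⁻¹ := by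
          have h5 : g⁻¹ * (g * v₂ * g⁻¹) * g = g * v₂ * g⁻¹ := by
            rw [mul_assoc g⁻¹, ← h3]; group
          rw [← h5]; group
        rw [h4]; exact h
      · rw [h]
        exact Finset.mem_image.2 ⟨c, memLf.2 hcL', rfl⟩
    · intro g hg e
      refine mem_inf.2 ⟨hg, ?_⟩
      rw [mem_centralizer_iff]
      intro u hu
      rcases hU₂ u hu with h | ⟨c, hcL', rfl⟩
      · exact (hcL u h g (c₁z g hg) (c₁f g hg)).symm
      · rw [mul_assoc, ← hcL c hcL' g (c₁z g hg) (c₁f g hg), ← mul_assoc, ← e, mul_assoc]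
  -- `|C(l)| ≤ 128`
  set H := centralizer ({z} : Set G) ⊓ C with hH
  have hz : ∀ g ∈ H, g * z = z * g := fun g hg => mem_centralizer_singleton_iff.1 (mem_inf.1 hg).1
  have hf : ∀ g ∈ H, g * f = f * g := fun g hg => memC.1 (mem_inf.1 hg).2
  have s2 : Nat.card H ≤ 4 * Nat.card C₁ := by
    refine (card_le_mul (v := v₁) (Lf.image (fun c => v₁ * c)) ?_ ?_).trans
      (Nat.mul_le_mul_right _ (hv v₁))
    · intro g hg
      rcases hU₁ _ (hn₁ g (hf g hg) v₁ v₁U) with h | ⟨c, hcL', h⟩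
      · exfalso
        apply v₁L
        have h3 := hcL _ h g (hz g hg) (hf g hg)
        have h4 : v₁ = g * v₁ * g⁻¹ := by
          have h5 : g⁻¹ * (g * v₁ * g⁻¹) * g = g * v₁ * g⁻¹ := by
            rw [mul_assoc g⁻¹, ← h3]; group
          rw [← h5]; group
        rw [h4]; exact h
      · rw [h]
        exact Finset.mem_image.2 ⟨c, memLf.2 hcL', rfl⟩
    · intro g hg e
      rw [hC₁, mem_centralizer_iff]
      intro u hu
      rcases hU₁ u hu with h | ⟨c, hcL', rfl⟩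
      · exact (hcL u h g (hz g hg) (hf g hg)).symm
      · rw [mul_assoc, ← hcL c hcL' g (hz g hg) (hf g hg), ← mul_assoc, ← e, mul_assoc]
  -- `|C(f)| ≤ 768`
  have s3 : Nat.card C ≤ 6 * Nat.card H := by
    let S : Finset G := ((Lf ∪ Lf.image (fun c => v₁ * c)).erase 1).erase f
    have hSc : S.card ≤ 6 := by
      have h3 : (Lf ∪ Lf.image (fun c => v₁ * c)).card ≤ 8 := by
        refine (Finset.card_union_le _ _).trans ?_
        have := hv v₁
        omega
      have h4 : (1 : G) ∈ Lf ∪ Lf.image (fun c => v₁ * c) := Finset.mem_union_left _ (memLf.2 L.one_mem)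
      have h5 : f ∈ (Lf ∪ Lf.image (fun c => v₁ * c)).erase 1 :=
        Finset.mem_erase.2 ⟨f1, Finset.mem_union_left _ (memLf.2 fL)⟩
      have h6 := Finset.card_erase_of_mem h4
      have h7 := Finset.card_erase_of_mem h5
      show (((Lf ∪ Lf.image (fun c => v₁ * c)).erase 1).erase f).card ≤ 6
      omega
    refine (card_le_mul (v := z) S ?_ ?_).trans (Nat.mul_le_mul_right _ hSc)
    · intro g hg
      have hg' := memC.1 hg
      refine Finset.mem_erase.2 ⟨?_, Finset.mem_erase.2 ⟨?_, ?_⟩⟩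
      · intro e
        apply fz
        have : z = g⁻¹ * (g * z * g⁻¹) * g := by group
        rw [this, e, mul_assoc, ← hg', inv_mul_cancel_left]
      · intro e
        apply z1
        rw [mul_inv_eq_one] at e
        exact mul_eq_left.1 e
      · rcases hU₁ _ (hn₁ g hg' z (LU₁ zL)) with h | ⟨c, hcL', h⟩
        · exact Finset.mem_union_left _ (memLf.2 h)
        · rw [h]
          exact Finset.mem_union_right _ (Finset.mem_image.2 ⟨c, memLf.2 hcL', rfl⟩)
    · intro g hg e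
      exact mem_inf.2 ⟨mem_centralizer_singleton_iff.2 e, hg⟩
  rw [hJ] at s1
  omega

end Cfsg.Agent.OddHalf.D5.SixAut.HsxJ
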