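import Cfsg.Agent.OddHalf.D5.SixAut.Defs
import Cfsg.Agent.OddHalf.D5.SixAut.HsxJ

/-!
# ODD D5, `K = A₆`, `C(x)/⟨x⟩ = Aut(A₆)`, (d) of #12805 (helper383)

`W` an elementary abelian normal subgroup of `C(z)`, `W ≰ ⟨z⟩`: then `z, f ∈ W` and `C_W(x) = ⟨z, f⟩`.
-/

set_option autoImplicit false

namespace Cfsg.Agent.OddHalf.D5.SixAut

open Equiv Subgroup

variable {G : Type*} [Group G]

namespace AutSpl

variable {x r : G} {ι : Perm (Fin 6) →* G}

/-- `C(x) ∩ C(z)` -/
theorem cent_z (h : AutSpl x ι r) {g : G} (hx : g * x = x * g) (hz : g * ι pz = ι pz * g) :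
    ∃ a, a * pz = pz * a ∧ (g = ι a ∨ g = x * ι a ∨ g = ι a * r ∨ g = x * (ι a * r)) := by
  have cancel : ∀ {u : G}, x * u * ι pz = ι pz * (x * u) → u * ι pz = ι pz * u := by
    intro u e
    rw [mul_assoc, ← mul_assoc (ι pz), ← h.comm, mul_assoc] at e
    exact mul_left_cancel e
  obtain ⟨a, e | e | e | e⟩ := h.cent g hx
  · refine ⟨a, ?_, Or.inl e⟩
    rw [e] at hz; exact h.comm_ι.1 hz
  · refine ⟨a, ?_, Or.inr (Or.inl e)⟩
    rw [e] at hz; exact h.comm_ι.1 (cancel hz)
  · refine ⟨a, ?_, Or.inr (Or.inr (Or.inl e))⟩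
    rw [e] at hz
    have := h.comm_r.1 hz
    rwa [θ_z] at this
  · refine ⟨a, ?_, Or.inr (Or.inr (Or.inr e))⟩
    rw [e] at hz
    have := h.comm_r.1 (cancel hz)
    rwa [θ_z] at this

theorem card_z : (Finset.univ.filter (fun a : Perm (Fin 6) => a * pz = pz * a)).card = 16 := by decide +kernel

theorem card_T_le [Finite G] (h : AutSpl x ι r) :
    Nat.card (centralizer ({x} : Set G) ⊓ centralizer ({ι pz} : Set G) : Subgroup G) ≤ 64 := by
  classical
  have hfin : Finite (↥(Finset.univ.filter (fun a : Perm (Fin 6) => a * pz = pz * a)) × Bool × Bool) :=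
    inferInstance
  have hc : Nat.card (↥(Finset.univ.filter (fun a : Perm (Fin 6) => a * pz = pz * a)) × Bool × Bool) = 64 := by
    rw [Nat.card_prod, Nat.card_prod, Nat.card_eq_fintype_card, Nat.card_eq_fintype_card, Fintype.card_coe,
      card_z, Fintype.card_bool]
  rw [← hc]
  have key : ∀ g : (centralizer ({x} : Set G) ⊓ centralizer ({ι pz} : Set G) : Subgroup G),
      ∃ p : ↥(Finset.univ.filter (fun a : Perm (Fin 6) => a * pz = pz * a)) × Bool × Bool,
        (g : G) = (if p.2.1 then x else 1) * (ι p.1 * (if p.2.2 then r else 1)) := by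
    intro g
    obtain ⟨a, ha, e⟩ := h.cent_z (mem_centralizer_singleton_iff.1 (mem_inf.1 g.2).1)
      (mem_centralizer_singleton_iff.1 (mem_inf.1 g.2).2)
    have ha' : a ∈ Finset.univ.filter (fun a : Perm (Fin 6) => a * pz = pz * a) :=
      Finset.mem_filter.2 ⟨Finset.mem_univ _, ha⟩
    rcases e with e | e | e | e
    · exact ⟨⟨⟨a, ha'⟩, false, false⟩, by simpa using e⟩
    · exact ⟨⟨⟨a, ha'⟩, true, false⟩, by simpa using e⟩
    · exact ⟨⟨⟨a, ha'⟩, false, true⟩, by simpa using e⟩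
    · exact ⟨⟨⟨a, ha'⟩, true, true⟩, by simpa using e⟩
  choose φ hφ using key
  refine Nat.card_le_card_of_injective φ ?_
  intro a b e
  apply Subtype.ext
  rw [hφ a, hφ b, e]

/-- `a` commutes with its conjugates under `C(z)` and with `θ a` -/
theorem perm_fact₁ : ∀ a : Perm (Fin 6), a * a = 1 → a * pz = pz * a → a * θ a = θ a * a →
    a = 1 ∨ a = pz ∨ a = pf ∨ a = pf * pz := by decide +kernel

theorem perm_fact₂ : ∀ a : Perm (Fin 6), a * pz = pz * a → a * θ a = 1 →
    a * θ (pv1 * a * pv2) ≠ pv1 * a * pv2 * θ a := by decide +kernel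

theorem pv1_pz : pv1 * pz = pz * pv1 := by decide +kernel
theorem pv1_pv1 : pv1 * pv1 = 1 := by decide +kernel

/-- an involution (or `1`) of `C(x) ∩ C(z)` which commutes with its conjugates under `C(x) ∩ C(z)` -/
theorem mem_Y (h : AutSpl x ι r) {w : G} (ww : w * w = 1) (wx : w * x = x * w) (wz : w * ι pz = ι pz * w)
    (hc : ∀ t, t * x = x * t → t * ι pz = ι pz * t → w * (t * w * t⁻¹) = t * w * t⁻¹ * w) :
    ∃ e, (e = 1 ∨ e = pz ∨ e = pf ∨ e = pf * pz) ∧ (w = ι e ∨ w = x * ι e) := by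
  have rz : r * ι pz = ι pz * r := by rw [h.rι, θ_z]
  have vx : ι pv1 * x = x * ι pv1 := h.comm' _
  have vz : ι pv1 * ι pz = ι pz * ι pv1 := by rw [← map_mul, pv1_pz, map_mul]
  have c1 := hc r h.rx rz
  have c2 := hc (ι pv1) vx vz
  obtain ⟨a, ha, e⟩ := h.cent_z wx wz
  -- strip `x`
  have strip : ∀ u t : G, u * x = x * u → t * x = x * t →
      x * u * (t * (x * u) * t⁻¹) = t * (x * u) * t⁻¹ * (x * u) → u * (t * u * t⁻¹) = t * u * t⁻¹ * u := by
    intro u t hu ht e
    have e1 : t * (x * u) * t⁻¹ = x * (t * u * t⁻¹) := by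
      rw [← mul_assoc, ht]; group
    have hut : (t * u * t⁻¹) * x = x * (t * u * t⁻¹) := by
      have ht' : t⁻¹ * x = x * t⁻¹ := by
        rw [inv_mul_eq_iff_eq_mul, ← mul_assoc, ht, mul_inv_cancel_right]
      rw [mul_assoc, ht', ← mul_assoc, mul_assoc t, hu, ← mul_assoc, ht]; group
    rw [e1] at e
    have e2 : x * u * (x * (t * u * t⁻¹)) = x * x * (u * (t * u * t⁻¹)) := by
      calc x * u * (x * (t * u * t⁻¹)) = x * (u * x) * (t * u * t⁻¹) := by group
        _ = x * x * (u * (t * u * t⁻¹)) := by rw [hu]; group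
    have e3 : x * (t * u * t⁻¹) * (x * u) = x * x * (t * u * t⁻¹ * u) := by
      calc x * (t * u * t⁻¹) * (x * u) = x * ((t * u * t⁻¹) * x) * u := by group
        _ = x * x * (t * u * t⁻¹ * u) := by rw [hut]; group
    rw [e2, e3, h.xx, one_mul, one_mul] at e
    exact e
  have sq : ∀ u : G, u * x = x * u → x * u * (x * u) = 1 → u * u = 1 := by
    intro u hu e
    rw [mul_assoc, ← mul_assoc u, hu, mul_assoc, ← mul_assoc, h.xx, one_mul] at e
    exact e
  -- the two kinds of elements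
  have caseA : ∀ b, b * pz = pz * b → ι b * ι b = 1 → ι b * (r * ι b * r⁻¹) = r * ι b * r⁻¹ * ι b →
      b = 1 ∨ b = pz ∨ b = pf ∨ b = pf * pz := by
    intro b hb e1 e2
    rw [h.conj, ← map_mul, ← map_mul] at e2
    rw [← map_mul] at e1
    exact perm_fact₁ b (h.one_iff.1 e1) hb (h.inj e2)
  have caseB : ∀ b, b * pz = pz * b → ι b * r * (ι b * r) = 1 →
      ι b * r * (ι pv1 * (ι b * r) * (ι pv1)⁻¹) = ι pv1 * (ι b * r) * (ι pv1)⁻¹ * (ι b * r) → False := by
    intro b hb e1 e2
    rw [h.sq_r] at e1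
    have hrr : r * r = 1 := by
      rcases h.rr with e | e
      · exact e
      · rw [e] at e1
        exfalso
        apply h.ne (b * θ b)⁻¹
        rw [map_inv]
        exact (eq_inv_of_mul_eq_one_right e1).symm
    rw [hrr, mul_one] at e1
    have e3 : b * θ b = 1 := h.one_iff.1 e1
    have hr' : r⁻¹ = r := inv_eq_of_mul_eq_one_left hrr
    have hv' : (ι pv1)⁻¹ = ι pv1 := by rw [← map_inv, inv_eq_of_mul_eq_one_left pv1_pv1]
    have e4 : ι pv1 * (ι b * r) * (ι pv1)⁻¹ = ι (pv1 * b * pv2) * r := by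
      rw [hv']
      calc ι pv1 * (ι b * r) * ι pv1 = ι pv1 * ι b * (r * ι pv1) := by group
        _ = ι (pv1 * b * pv2) * r := by rw [h.rι, θ_v1, map_mul, map_mul]; group
    rw [e4] at e2
    have e5 : ∀ c d : Perm (Fin 6), ι c * r * (ι d * r) = ι (c * θ d) := by
      intro c d
      calc ι c * r * (ι d * r) = ι c * (r * ι d) * r := by group
        _ = ι (c * θ d) * (r * r) := by rw [h.rι, map_mul]; group
        _ = ι (c * θ d) := by rw [hrr, mul_one]
    rw [e5, e5] at e2
    exact perm_fact₂ b hb e3 (h.inj e2)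
  have arx : ι a * r * x = x * (ι a * r) := by
    rw [mul_assoc, h.rx, ← mul_assoc, h.comm', mul_assoc]
  rcases e with rfl | rfl | rfl | rfl
  · exact ⟨a, caseA a ha ww c1, Or.inl rfl⟩
  · exact ⟨a, caseA a ha (sq _ (h.comm' a) ww) (strip _ _ (h.comm' a) h.rx c1), Or.inr rfl⟩
  · exact (caseB a ha ww c2).elim
  · exact (caseB a ha (sq _ arx ww) (strip _ _ arx vx c2)).elim

end AutSpl

/-- **(d)**, if `x ∉ W` -/
theorem exists_WN_of [Finite G] {x r : G} {ι : Perm (Fin 6) →* G} (h : AutSpl x ι r)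
    (hb : ∃ b, b * ι pf = ι pf * b ∧ b * ι pz = ι pz * b ∧ b * x * b⁻¹ = x * ι pf)
    (hker : ∀ (m : centralizer ({ι pz} : Set G) →* ℤˣ) (hx : x ∈ centralizer ({ι pz} : Set G)), m ⟨x, hx⟩ = 1)
    (W : Subgroup G) (el : ∀ a ∈ W, a * a = 1) (hWz : ∀ w ∈ W, w * ι pz = ι pz * w)
    (nz : ∀ g, g * ι pz = ι pz * g → ∀ w ∈ W, g * w * g⁻¹ ∈ W)
    (hW : ∃ w ∈ W, w ≠ 1 ∧ w ≠ ι pz) (xW : x ∉ W) :
    ι pz ∈ W ∧ ι pf ∈ W ∧ ∀ w ∈ W, w * x = x * w → w = 1 ∨ w = ι pz ∨ w = ι pf ∨ w = ι pf * ι pz := by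
  classical
  obtain ⟨b, bf, bz, bx⟩ := hb
  have ab : ∀ a ∈ W, ∀ c ∈ W, a * c = c * a := by
    intro a ha c hc
    have e1 := el a ha
    have e2 := el c hc
    have e3 := el _ (W.mul_mem ha hc)
    have i1 : a⁻¹ = a := inv_eq_of_mul_eq_one_left e1
    have i2 : c⁻¹ = c := inv_eq_of_mul_eq_one_left e2
    have i3 : (a * c)⁻¹ = a * c := inv_eq_of_mul_eq_one_left e3
    rw [← i3, mul_inv_rev, i1, i2]
  have xz : x * ι pz = ι pz * x := h.comm _
  have xf : x * ι pf = ι pf * x := h.comm _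
  have zf : ι pz * ι pf = ι pf * ι pz := by
    rw [← map_mul, ← map_mul]; congr 1; decide +kernel
  have zz : ι pz * ι pz = 1 := by
    rw [← map_mul, show pz * pz = 1 by decide +kernel, map_one]
  have ff : ι pf * ι pf = 1 := by
    rw [← map_mul, show pf * pf = 1 by decide +kernel, map_one]
  have z1 : ι pz ≠ 1 := fun e => absurd (h.one_iff.1 e) (by decide +kernel)
  have rz : r * ι pz = ι pz * r := by rw [h.rι, θ_z]
  have rfr : r * ι pf * r⁻¹ = ι pf * ι pz := by rw [h.conj, θ_f, map_mul]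
  have rzr : r * ι pz * r⁻¹ = ι pz := by rw [rz, mul_inv_cancel_right]
  -- `W ∩ C(x) ⊆ Y`
  have inY : ∀ w ∈ W, w * x = x * w →
      ∃ e, (e = 1 ∨ e = pz ∨ e = pf ∨ e = pf * pz) ∧ (w = ι e ∨ w = x * ι e) := by
    intro w hw wx
    exact h.mem_Y (el w hw) wx (hWz w hw) fun t _ tz => ab _ hw _ (nz t tz w hw)
  have bxf : b * (x * ι pf) * b⁻¹ = x := by
    calc b * (x * ι pf) * b⁻¹ = (b * x * b⁻¹) * (b * ι pf * b⁻¹) := by group
      _ = x * ι pf * ι pf := by rw [bx, bf, mul_inv_cancel_right]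
      _ = x := by rw [mul_assoc, ff, mul_one]
  have bxz : b * (x * ι pz) * b⁻¹ = x * ι pf * ι pz := by
    calc b * (x * ι pz) * b⁻¹ = (b * x * b⁻¹) * (b * ι pz * b⁻¹) := by group
      _ = x * ι pf * ι pz := by rw [bx, bz, mul_inv_cancel_right]
  have xfW : x * ι pf ∉ W := by
    intro hx
    have := nz b bz _ hx
    rw [bxf] at this
    exact xW this
  have fz_of : ι pf ∈ W → ι pz ∈ W := by
    intro hf
    have h1 := nz r rz _ hf
    rw [rfr] at h1
    have h2 := W.mul_mem hf h1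
    rwa [← mul_assoc, ff, one_mul] at h2
  have xzW : x * ι pz ∉ W := by
    intro hx
    have h1 := nz b bz _ hx
    rw [bxz] at h1
    have h2 := W.mul_mem hx h1
    have e : x * ι pz * (x * ι pf * ι pz) = ι pf := by
      calc x * ι pz * (x * ι pf * ι pz) = x * (ι pz * x) * (ι pf * ι pz) := by group
        _ = x * x * (ι pz * (ι pf * ι pz)) := by rw [← xz]; group
        _ = ι pf := by rw [h.xx, one_mul, ← zf, ← mul_assoc, zz, one_mul]
    rw [e] at h2
    have h3 := W.mul_mem hx (fz_of h2)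
    rw [mul_assoc, zz, mul_one] at h3
    exact xW h3
  have xfzW : x * (ι pf * ι pz) ∉ W := by
    intro hx
    have h1 := nz b bz _ hx
    have e : b * (x * (ι pf * ι pz)) * b⁻¹ = x * ι pz := by
      calc b * (x * (ι pf * ι pz)) * b⁻¹ = (b * x * b⁻¹) * (b * ι pf * b⁻¹) * (b * ι pz * b⁻¹) := by group
        _ = x * ι pf * ι pf * ι pz := by rw [bx, bf, bz, mul_inv_cancel_right, mul_inv_cancel_right]
        _ = x * ι pz := by rw [mul_assoc x, ff, mul_one]
    rw [e] at h1
    exact xzW h1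
  have cx : ∀ w ∈ W, w * x = x * w → w = 1 ∨ w = ι pz ∨ w = ι pf ∨ w = ι pf * ι pz := by
    intro w hw wx
    obtain ⟨e, he, e1 | e1⟩ := inY w hw wx
    · rcases he with rfl | rfl | rfl | rfl
      · rw [map_one] at e1; exact Or.inl e1
      · exact Or.inr (Or.inl e1)
      · exact Or.inr (Or.inr (Or.inl e1))
      · rw [map_mul] at e1; exact Or.inr (Or.inr (Or.inr e1))
    · exfalso
      rcases he with rfl | rfl | rfl | rfl
      · rw [map_one, mul_one] at e1; exact xW (e1 ▸ hw)
      · exact xzW (e1 ▸ hw)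
      · exact xfW (e1 ▸ hw)
      · rw [map_mul] at e1; exact xfzW (e1 ▸ hw)
  have xinv : x⁻¹ = x := h.x_inv
  have conjx : ∀ w ∈ W, x * w * x ∈ W := by
    intro w hw
    have := nz x xz w hw
    rwa [xinv] at this
  have comx : ∀ w ∈ W, (w * (x * w * x)) * x = x * (w * (x * w * x)) := by
    intro w hw
    calc (w * (x * w * x)) * x = w * x * w * (x * x) := by group
      _ = w * x * w := by rw [h.xx, mul_one]
      _ = (x * x) * (w * x * w) := by rw [h.xx, one_mul]
      _ = x * ((x * w * x) * w) := by group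
      _ = x * (w * (x * w * x)) := by rw [ab _ (conjx w hw) _ hw]
  -- from a nontrivial element of `C_W(x)`
  have z_of : ∀ w ∈ W, w * x = x * w → w ≠ 1 → ι pz ∈ W := by
    intro w hw wx w1
    rcases cx w hw wx with e | e | e | e
    · exact absurd e w1
    · rw [e] at hw; exact hw
    · rw [e] at hw; exact fz_of hw
    · rw [e] at hw
      have h1 := nz r rz _ hw
      have e2 : r * (ι pf * ι pz) * r⁻¹ = ι pf := by
        calc r * (ι pf * ι pz) * r⁻¹ = (r * ι pf * r⁻¹) * (r * ι pz * r⁻¹) := by group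
          _ = ι pf := by rw [rfr, rzr, mul_assoc, zz, mul_one]
      rw [e2] at h1
      exact fz_of h1
  obtain ⟨w, hw, w1, wz⟩ := hW
  have zW : ι pz ∈ W := by
    by_cases hc : w * x = x * w
    · exact z_of w hw hc w1
    · refine z_of _ (W.mul_mem hw (conjx w hw)) (comx w hw) ?_
      intro e
      apply hc
      have e1 : x * w * x = w := by
        have := eq_inv_of_mul_eq_one_right e
        rw [this, inv_eq_of_mul_eq_one_left (el w hw)]
      calc w * x = (x * w * x) * x := by rw [e1]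
        _ = x * w := by rw [mul_assoc, h.xx, mul_one]
  have fW : ι pf ∈ W := by
    by_contra hf
    have fz : ι pf * ι pz ∉ W := fun hh => hf (by
      have := W.mul_mem hh zW
      rwa [mul_assoc, zz, mul_one] at this)
    have cx' : ∀ w ∈ W, w * x = x * w → w = 1 ∨ w = ι pz := by
      intro w hw wx
      rcases cx w hw wx with e | e | e | e
      · exact Or.inl e
      · exact Or.inr e
      · exact absurd (e ▸ hw) hf
      · exact absurd (e ▸ hw) fz
    -- elements outside are moved by `z`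
    have mv : ∀ w ∈ W, w ≠ 1 → w ≠ ι pz → x * w * x = w * ι pz := by
      intro w hw w1 wz
      rcases cx' _ (W.mul_mem hw (conjx w hw)) (comx w hw) with e | e
      · exfalso
        have e1 : x * w * x = w := by
          have := eq_inv_of_mul_eq_one_right e
          rw [this, inv_eq_of_mul_eq_one_left (el w hw)]
        have e2 : w * x = x * w := by
          calc w * x = (x * w * x) * x := by rw [e1]
            _ = x * w := by rw [mul_assoc, h.xx, mul_one]
        rcases cx' w hw e2 with e3 | e3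
        · exact w1 e3
        · exact wz e3
      · calc x * w * x = (w * w) * (x * w * x) := by rw [el w hw, one_mul]
          _ = w * (w * (x * w * x)) := by group
          _ = w * ι pz := by rw [e]
    have two : ∀ u ∈ W, u ≠ 1 → u ≠ ι pz → u = w ∨ u = w * ι pz := by
      intro u hu u1 uz
      have e1 := mv u hu u1 uz
      have e2 := mv w hw w1 wz
      have e3 : (w * u) * x = x * (w * u) := by
        have e4 : x * (w * u) * x = w * u := by
          calc x * (w * u) * x = (x * w) * (x * x) * (u * x) := by rw [h.xx]; group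
            _ = (x * w * x) * (x * u * x) := by group
            _ = w * (ι pz * u) * ι pz := by rw [e1, e2]; group
            _ = w * u * (ι pz * ι pz) := by rw [ab _ zW _ hu]; group
            _ = w * u := by rw [zz, mul_one]
        calc (w * u) * x = x * (w * u) * x * x := by rw [e4]
          _ = x * (w * u) := by rw [mul_assoc, h.xx, mul_one]
      have wi : w⁻¹ = w := inv_eq_of_mul_eq_one_left (el w hw)
      rcases cx' _ (W.mul_mem hw hu) e3 with e | e
      · left
        rw [← wi]; exact eq_inv_of_mul_eq_one_right e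
      · right
        calc u = (w * w) * u := by rw [el w hw, one_mul]
          _ = w * (w * u) := by group
          _ = w * ι pz := by rw [e]
    have cz : ∀ g, g * ι pz = ι pz * g → g * w * g⁻¹ = w ∨ g * w * g⁻¹ = w * ι pz := by
      intro g hg
      refine two _ (nz g hg w hw) ?_ ?_
      · intro e
        rw [mul_inv_eq_one] at e
        exact w1 (mul_eq_left.1 e)
      · intro e
        apply wz
        have : w = g⁻¹ * (g * w * g⁻¹) * g := by group
        rw [this, e, mul_assoc, ← hg, inv_mul_cancel_left]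
    have wz' : w * ι pz ≠ w := fun e => z1 (mul_eq_left.1 e)
    have memz : ∀ g : centralizer ({ι pz} : Set G), (g : G) * ι pz = ι pz * g := fun g =>
      mem_centralizer_singleton_iff.1 g.2
    let m : centralizer ({ι pz} : Set G) →* ℤˣ :=
      { toFun := fun g => if (g : G) * w * (g : G)⁻¹ = w then 1 else -1
        map_one' := by simp
        map_mul' := by
          intro g k
          have e0 : ((g * k : centralizer ({ι pz} : Set G)) : G) * w * ((g * k : centralizer ({ι pz} : Set G)) : G)⁻¹ =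
              (g : G) * ((k : G) * w * (k : G)⁻¹) * (g : G)⁻¹ := by
            rw [Subgroup.coe_mul]; group
          have eg : (g : G) * (w * ι pz) * (g : G)⁻¹ = (g : G) * w * (g : G)⁻¹ * ι pz := by
            have := memz g
            calc (g : G) * (w * ι pz) * (g : G)⁻¹ = g * w * (ι pz * (g : G)⁻¹) := by group
              _ = g * w * ((g : G)⁻¹ * ι pz) := by
                  have e9 : ι pz * (g : G)⁻¹ = (g : G)⁻¹ * ι pz := by
                    rw [eq_inv_mul_iff_mul_eq, ← mul_assoc, this, mul_inv_cancel_right]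
                  rw [e9]
              _ = (g : G) * w * (g : G)⁻¹ * ι pz := by group
          rw [e0]
          have n1 : (-1 : ℤˣ) ≠ 1 := by decide
          have n2 : (-1 : ℤˣ) * -1 = 1 := by decide
          have e8 : w * ι pz * ι pz = w := by rw [mul_assoc, zz, mul_one]
          rcases cz g (memz g) with e1 | e1 <;> rcases cz k (memz k) with e2 | e2
          · rw [e2, e1, if_pos rfl, one_mul]
          · rw [e2, eg, e1, if_neg wz', if_pos rfl, one_mul]
          · rw [e2, e1, if_neg wz', if_pos rfl, mul_one]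
          · rw [e2, eg, e1, e8, if_pos rfl, if_neg wz', n2] }
    have hx := hker m (mem_centralizer_singleton_iff.2 xz)
    have hm : m ⟨x, mem_centralizer_singleton_iff.2 xz⟩ = if x * w * x⁻¹ = w then 1 else -1 := rfl
    rw [hm, xinv, mv w hw w1 wz, if_neg wz'] at hx
    exact absurd hx (by decide)
  exact ⟨zW, fW, cx⟩

/-- **(d)** -/
theorem exists_WN [Finite G] {x r : G} {ι : Perm (Fin 6) →* G} (h : AutSpl x ι r)
    (hb : ∃ b, b * ι pf = ι pf * b ∧ b * ι pz = ι pz * b ∧ b * x * b⁻¹ = x * ι pf)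
    (hcard : 512 < Nat.card (centralizer ({ι pz} : Set G)))
    (hker : ∀ (m : centralizer ({ι pz} : Set G) →* ℤˣ) (hx : x ∈ centralizer ({ι pz} : Set G)), m ⟨x, hx⟩ = 1)
    (W : Subgroup G) (el : ∀ a ∈ W, a * a = 1) (hWz : ∀ w ∈ W, w * ι pz = ι pz * w)
    (nz : ∀ g, g * ι pz = ι pz * g → ∀ w ∈ W, g * w * g⁻¹ ∈ W)
    (hW : ∃ w ∈ W, w ≠ 1 ∧ w ≠ ι pz) :
    ι pz ∈ W ∧ ι pf ∈ W ∧ ∀ w ∈ W, w * x = x * w → w = 1 ∨ w = ι pz ∨ w = ι pf ∨ w = ι pf * ι pz := by
  classical
  have ab : ∀ a ∈ W, ∀ c ∈ W, a * c = c * a := by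
    intro a ha c hc
    have e1 := el a ha
    have e2 := el c hc
    have e3 := el _ (W.mul_mem ha hc)
    have i1 : a⁻¹ = a := inv_eq_of_mul_eq_one_left e1
    have i2 : c⁻¹ = c := inv_eq_of_mul_eq_one_left e2
    have i3 : (a * c)⁻¹ = a * c := inv_eq_of_mul_eq_one_left e3
    rw [← i3, mul_inv_rev, i1, i2]
  have inY : ∀ w ∈ W, w * x = x * w →
      ∃ e, (e = 1 ∨ e = pz ∨ e = pf ∨ e = pf * pz) ∧ (w = ι e ∨ w = x * ι e) := by
    intro w hw wx
    exact h.mem_Y (el w hw) wx (hWz w hw) fun t _ tz => ab _ hw _ (nz t tz w hw)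
  -- `x ∉ W`
  have xW : x ∉ W := by
    intro hx
    have key : Nat.card (centralizer ({ι pz} : Set G)) ≤ 8 * 64 := by
      let S : Finset G := ({1, pz, pf, pf * pz} : Finset (Perm (Fin 6))).image (fun e => ι e) ∪
        ({1, pz, pf, pf * pz} : Finset (Perm (Fin 6))).image (fun e => x * ι e)
      have hS : S.card ≤ 8 := by
        refine (Finset.card_union_le _ _).trans ?_
        have h4 : ({1, pz, pf, pf * pz} : Finset (Perm (Fin 6))).card ≤ 4 := Finset.card_le_four
        have h5 := (Finset.card_image_le (s := ({1, pz, pf, pf * pz} : Finset (Perm (Fin 6))))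
          (f := fun e => ι e)).trans h4
        have h6 := (Finset.card_image_le (s := ({1, pz, pf, pf * pz} : Finset (Perm (Fin 6))))
          (f := fun e => x * ι e)).trans h4
        omega
      refine (HsxJ.card_le_mul (B := centralizer ({x} : Set G) ⊓ centralizer ({ι pz} : Set G)) (v := x) S
        ?_ ?_).trans (Nat.mul_le_mul hS h.card_T_le)
      · intro g hg
        have hgz := mem_centralizer_singleton_iff.1 hg
        have hgx := nz g hgz x hx
        obtain ⟨e, he, e1⟩ := inY _ hgx (ab _ hgx _ hx)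
        have heS : e ∈ ({1, pz, pf, pf * pz} : Finset (Perm (Fin 6))) := by
          simp only [Finset.mem_insert, Finset.mem_singleton]; exact he
        rcases e1 with e1 | e1
        · rw [e1]; exact Finset.mem_union_left _ (Finset.mem_image.2 ⟨e, heS, rfl⟩)
        · rw [e1]; exact Finset.mem_union_right _ (Finset.mem_image.2 ⟨e, heS, rfl⟩)
      · intro g hg e
        exact mem_inf.2 ⟨mem_centralizer_singleton_iff.2 e, hg⟩
    omega
  exact exists_WN_of h hb hker W el hWz nz hW xW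

/-- **(d)** for (DBL): some `w ∈ C(z)` maps `x` to `x v₁` -/
theorem exists_WN_dbl [Finite G] {x r : G} {ι : Perm (Fin 6) →* G} (h : AutSpl x ι r)
    (hb : ∃ b, b * ι pf = ι pf * b ∧ b * ι pz = ι pz * b ∧ b * x * b⁻¹ = x * ι pf)
    (hv : ∃ w, w * ι pz = ι pz * w ∧ w * x * w⁻¹ = x * ι pv1)
    (hker : ∀ (m : centralizer ({ι pz} : Set G) →* ℤˣ) (hx : x ∈ centralizer ({ι pz} : Set G)), m ⟨x, hx⟩ = 1)
    (W : Subgroup G) (el : ∀ a ∈ W, a * a = 1) (hWz : ∀ w ∈ W, w * ι pz = ι pz * w)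
    (nz : ∀ g, g * ι pz = ι pz * g → ∀ w ∈ W, g * w * g⁻¹ ∈ W)
    (hW : ∃ w ∈ W, w ≠ 1 ∧ w ≠ ι pz) :
    ι pz ∈ W ∧ ι pf ∈ W ∧ ∀ w ∈ W, w * x = x * w → w = 1 ∨ w = ι pz ∨ w = ι pf ∨ w = ι pf * ι pz := by
  refine exists_WN_of h hb hker W el hWz nz hW ?_
  intro hx
  obtain ⟨w, wz, wx⟩ := hv
  have ab : ∀ a ∈ W, ∀ c ∈ W, a * c = c * a := by
    intro a ha c hc
    have e1 := el a ha
    have e2 := el c hc
    have e3 := el _ (W.mul_mem ha hc)
    have i1 : a⁻¹ = a := inv_eq_of_mul_eq_one_left e1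
    have i2 : c⁻¹ = c := inv_eq_of_mul_eq_one_left e2
    have i3 : (a * c)⁻¹ = a * c := inv_eq_of_mul_eq_one_left e3
    rw [← i3, mul_inv_rev, i1, i2]
  have h1 := nz w wz x hx
  rw [wx] at h1
  obtain ⟨e, he, e1⟩ := h.mem_Y (el _ h1) (ab _ h1 _ hx) (hWz _ h1) fun t _ tz => ab _ h1 _ (nz t tz _ h1)
  rcases e1 with e1 | e1
  · exact h.ne_x _ _ e1.symm
  · have e2 := h.xι_inj e1
    rcases he with rfl | rfl | rfl | rfl <;> revert e2 <;> decide +kernel

end Cfsg.Agent.OddHalf.D5.SixAut
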