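import Cfsg.Agent.OddHalf.D5.SixAut.DblNorm
import Cfsg.Agent.OddHalf.D5.SixAut.HsxDefs

/-!
# ODD D5, `K = A₆`, `C(x)/⟨x⟩ = Aut(A₆)`, case (HSx): the configuration `HX` from `AutSpl` (helper383)
-/

set_option autoImplicit false
set_option linter.unusedSectionVars false

namespace Cfsg.Agent.OddHalf.D5.SixAut

open Equiv

namespace HsxFrame

open DblNorm

variable {G : Type*} [Group G] {x r : G} {ι : Perm (Fin 6) →* G}

theorem v2_pc : pv2 * pc = pc⁻¹ * pv2 := by decide +kernel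
theorem v2_pc' : pv2 * pc⁻¹ = pc * pv2 := by decide +kernel
theorem v2_f : pv2 * pf = pf * pv2 := by decide +kernel
theorem v2_v1 : pv2 * pv1 = pv1 * (pv2 * pz) := by decide +kernel
theorem f_pc : pc⁻¹ * pf * pc = pf := by decide +kernel
theorem fix_CL : ∀ q : Perm (Fin 6), CU q → q * pv2 = pv2 * q → θ q = q → q = 1 ∨ q = pz := by decide +kernel

variable (h : AutSpl x ι r)
include h

theorem w_w : ι pv2 * ι pv2 = 1 := by rw [← map_mul, v22, map_one]

theorem f_ne1 : ι pf ≠ 1 := fun e => f_ne (h.one_iff.1 e)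
theorem z_ne1 : ι pz ≠ 1 := fun e => z_ne (h.one_iff.1 e)

/-- conjugating with `v₂` -/
theorem mv_v2 {b : G} (m : Mv x ι b pf) : Mv x ι (ι pv2 * b * ι pv2) pf := by
  have key : ∀ q, CU q → ι pv2 * b * ι pv2 * ι q = ι q * (ι pv2 * b * ι pv2) := by
    intro q hq
    have e1 : ι pv2 * ι q = ι (pv2 * q * pv2) * ι pv2 := by
      rw [← map_mul, ← map_mul, mul_assoc _ pv2, v22, mul_one]
    have e2 : ι pv2 * ι (pv2 * q * pv2) = ι q * ι pv2 := by
      rw [← map_mul, ← map_mul]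
      congr 1
      calc pv2 * (pv2 * q * pv2) = (pv2 * pv2) * q * pv2 := by group
        _ = q * pv2 := by rw [v22, one_mul]
    calc ι pv2 * b * ι pv2 * ι q = ι pv2 * b * (ι pv2 * ι q) := by group
      _ = ι pv2 * (b * ι (pv2 * q * pv2)) * ι pv2 := by rw [e1]; group
      _ = (ι pv2 * ι (pv2 * q * pv2)) * b * ι pv2 := by rw [m.comm (CU_v2 q hq)]; group
      _ = ι q * (ι pv2 * b * ι pv2) := by rw [e2]; group
  refine ⟨key _ CU_f, key _ CU_z, key _ CU_v1, ?_⟩
  have wi : (ι pv2)⁻¹ = ι pv2 := inv_eq_of_mul_eq_one_left (w_w h)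
  have wx : ι pv2 * x * ι pv2 = x := by rw [← h.comm, mul_assoc, w_w h, mul_one]
  calc ι pv2 * b * ι pv2 * x * (ι pv2 * b * ι pv2)⁻¹
      = ι pv2 * (b * (ι pv2 * x * (ι pv2)⁻¹) * b⁻¹) * (ι pv2)⁻¹ := by group
    _ = ι pv2 * (b * x * b⁻¹) * ι pv2 := by rw [wi, wx]
    _ = (ι pv2 * x * ι pv2) * (ι pv2 * ι pf * ι pv2) := by
        rw [m.x]
        calc ι pv2 * (x * ι pf) * ι pv2 = ι pv2 * x * 1 * ι pf * ι pv2 := by group
          _ = ι pv2 * x * (ι pv2 * ι pv2) * ι pf * ι pv2 := by rw [w_w h]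
          _ = _ := by group
    _ = x * ι pf := by
        rw [wx, ← map_mul, ← map_mul, v2_f, mul_assoc, v22, mul_one]

/-- **`[b, v₂] = f`** -/
theorem v2b {b : G} (mb : Mv x ι b pf) (bc : b * ι pc = ι pc * b) (bb : b * b = 1)
    (hz : ∀ g, ¬ Mv x ι g pz) : ι pv2 * b = b * (ι pv2 * ι pf) := by
  have mg := mv_v2 h mb
  have gc : ι pv2 * b * ι pv2 * ι pc = ι pc * (ι pv2 * b * ι pv2) := by
    have bc' : b * ι pc⁻¹ = ι pc⁻¹ * b := by
      rw [map_inv, eq_inv_mul_iff_mul_eq, ← mul_assoc, ← bc, mul_inv_cancel_right]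
    calc ι pv2 * b * ι pv2 * ι pc = ι pv2 * b * ι (pv2 * pc) := by rw [map_mul]; group
      _ = ι pv2 * (b * ι pc⁻¹) * ι pv2 := by rw [v2_pc, map_mul]; group
      _ = ι (pv2 * pc⁻¹) * b * ι pv2 := by rw [bc', map_mul]; group
      _ = ι pc * (ι pv2 * b * ι pv2) := by rw [v2_pc', map_mul]; group
  have gg : ι pv2 * b * ι pv2 * (ι pv2 * b * ι pv2) = 1 := by
    calc ι pv2 * b * ι pv2 * (ι pv2 * b * ι pv2) = ι pv2 * b * (ι pv2 * ι pv2) * b * ι pv2 := by group
      _ = ι pv2 * (b * b) * ι pv2 := by rw [w_w h]; group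
      _ = 1 := by rw [bb, mul_one, w_w h]
  obtain ⟨q, hq, e⟩ := mv_quot h mb mg
  rcases e with e | e
  · have qc : q * pc = pc * q := by
      apply h.comm_ι.1
      have e1 : ι q = b⁻¹ * (ι pv2 * b * ι pv2) := by rw [e, inv_mul_cancel_left]
      rw [e1, mul_assoc, gc, ← mul_assoc]
      have : b⁻¹ * ι pc = ι pc * b⁻¹ := by
        rw [inv_mul_eq_iff_eq_mul, ← mul_assoc, bc, mul_inv_cancel_right]
      rw [this, mul_assoc]
    rcases CU_cent_c q hq qc with rfl | rfl
    · exfalso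
      rw [map_one, mul_one] at e
      have wb : ι pv2 * b = b * ι pv2 := by
        calc ι pv2 * b = (ι pv2 * b * ι pv2) * ι pv2 := by rw [mul_assoc _ (ι pv2), w_w h, mul_one]
          _ = b * ι pv2 := by rw [e]
      -- `b b^r` moves `x` to `x z`
      have c1 := r_comm h mb.z
      rw [θ_z] at c1
      have c2 := r_comm h mb.f
      rw [θ_f] at c2
      have c3 := r_comm h wb.symm
      rw [θ_v2] at c3
      have c4 := r_x h mb.x
      rw [θ_f] at c4
      have mc : Mv x ι (r * b * r⁻¹) (pf * pz) := ⟨comm_f h c2 c1, c1, c3, c4⟩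
      have := mb.mul mc (CU_mul CU_f CU_z)
      have e5 : pf * (pf * pz) = pz := by rw [← mul_assoc, ff, one_mul]
      rw [e5] at this
      exact hz _ this
    · calc ι pv2 * b = (ι pv2 * b * ι pv2) * ι pv2 := by rw [mul_assoc _ (ι pv2), w_w h, mul_one]
        _ = b * (ι pf * ι pv2) := by rw [e, mul_assoc]
        _ = b * (ι pv2 * ι pf) := by rw [← map_mul, ← v2_f, map_mul]
  · exfalso
    rw [e] at gg
    apply f_ne1 h
    have bi : b⁻¹ = b := inv_eq_of_mul_eq_one_left bb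
    have e1 : b * x * b = x * ι pf := by rw [← mb.x, bi]
    have e2 := mb.comm hq
    have e3 : ι q * ι q = 1 := by rw [← map_mul, CU_sq q hq, map_one]
    calc ι pf = x * x * ι pf := by rw [h.xx, one_mul]
      _ = x * (x * ι pf) := by group
      _ = x * (b * x * b) * (ι q * ι q) := by rw [e1, e3, mul_one]
      _ = x * (b * x) * (b * ι q) * ι q := by group
      _ = x * (b * (x * ι q)) * b * ι q := by rw [e2]; group
      _ = x * (b * (x * ι q) * (b * (x * ι q))) * x⁻¹ := by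
          have : ι q * x⁻¹ = x⁻¹ * ι q := by rw [h.x_inv, h.comm]
          calc x * (b * (x * ι q)) * b * ι q = x * (b * (x * ι q)) * b * x * (x⁻¹ * ι q) := by group
            _ = x * (b * (x * ι q)) * b * x * (ι q * x⁻¹) := by rw [this]
            _ = x * (b * (x * ι q) * (b * (x * ι q))) * x⁻¹ := by group
      _ = 1 := by rw [gg, mul_one, mul_inv_cancel]

/-- **`[b, b^r] ∈ ⟨z⟩`** -/
theorem cb {b : G} (mb : Mv x ι b pf) (bb : b * b = 1) (wb : ι pv2 * b = b * (ι pv2 * ι pf)) :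
    r * b * r⁻¹ * b = b * (r * b * r⁻¹) ∨ r * b * r⁻¹ * b = b * (r * b * r⁻¹ * ι pz) := by
  set c := r * b * r⁻¹ with hc
  have bi : b⁻¹ = b := inv_eq_of_mul_eq_one_left bb
  have cc : c * c = 1 := by
    calc c * c = r * (b * b) * r⁻¹ := by rw [hc]; group
      _ = 1 := by rw [bb, mul_one, mul_inv_cancel]
  have cz := r_comm h mb.z
  rw [θ_z, ← hc] at cz
  have c2 := r_comm h mb.f
  rw [θ_f, ← hc] at c2
  have cf : c * ι pf = ι pf * c := comm_f h c2 cz
  have cw := r_comm h mb.v1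
  rw [θ_v1, ← hc] at cw
  have cx := r_x h mb.x
  rw [θ_f, ← hc] at cx
  have ffι : ι pf * ι pf = 1 := by rw [← map_mul, ff, map_one]
  have zzι : ι pz * ι pz = 1 := by rw [← map_mul, zz, map_one]
  have fzι : ι pf * ι pz = ι pz * ι pf := by rw [← map_mul, fz, map_mul]
  -- `v₁ c v₁ = c f z`
  have vc : ι pv1 * c = c * (ι pv1 * (ι pf * ι pz)) := by
    have e1 : r * (ι pv2 * b) * r⁻¹ = ι pv1 * c := by
      calc r * (ι pv2 * b) * r⁻¹ = (r * ι pv2 * r⁻¹) * (r * b * r⁻¹) := by group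
        _ = ι pv1 * c := by rw [h.conj, θ_v2]
    have e2 : r * (b * (ι pv2 * ι pf)) * r⁻¹ = c * (ι pv1 * (ι pf * ι pz)) := by
      calc r * (b * (ι pv2 * ι pf)) * r⁻¹ = (r * b * r⁻¹) * ((r * ι pv2 * r⁻¹) * (r * ι pf * r⁻¹)) := by group
        _ = c * (ι pv1 * (ι pf * ι pz)) := by rw [h.conj, h.conj, θ_v2, θ_f, map_mul]
    rw [← e1, wb, e2]
  set k := b * c * (b * c) with hk
  have kz : k * ι pz = ι pz * k := by
    have h1 : Commute b (ι pz) := mb.z
    have h2 : Commute c (ι pz) := cz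
    exact ((h1.mul_left h2).mul_left (h1.mul_left h2)).eq
  have kf : k * ι pf = ι pf * k := by
    have h1 : Commute b (ι pf) := mb.f
    have h2 : Commute c (ι pf) := cf
    exact ((h1.mul_left h2).mul_left (h1.mul_left h2)).eq
  have bcx : b * c * x * (b * c)⁻¹ = x * ι pz := by
    calc b * c * x * (b * c)⁻¹ = b * (c * x * c⁻¹) * b⁻¹ := by group
      _ = (b * x * b⁻¹) * (b * ι pf * b⁻¹) * (b * ι pz * b⁻¹) := by rw [cx, map_mul]; group
      _ = x * (ι pf * ι pf) * ι pz := by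
          rw [mb.x, mb.f, mb.z, mul_inv_cancel_right, mul_inv_cancel_right]; group
      _ = x * ι pz := by rw [ffι, mul_one]
  have bcz : b * c * ι pz * (b * c)⁻¹ = ι pz := by
    have h1 : Commute b (ι pz) := mb.z
    have h2 : Commute c (ι pz) := cz
    rw [(h1.mul_left h2).eq, mul_inv_cancel_right]
  have kx : k * x = x * k := by
    rw [← mul_inv_eq_iff_eq_mul]
    calc k * x * k⁻¹ = b * c * (b * c * x * (b * c)⁻¹) * (b * c)⁻¹ := by rw [hk]; group
      _ = b * c * (x * ι pz) * (b * c)⁻¹ := by rw [bcx]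
      _ = (b * c * x * (b * c)⁻¹) * (b * c * ι pz * (b * c)⁻¹) := by group
      _ = x := by rw [bcx, bcz, mul_assoc, zzι, mul_one]
  obtain ⟨q, qz, qf, e⟩ := cent_l h kx kz kf
  -- commuting with `v₁`, `v₂`
  have kv : ι pv1 * k = k * ι pv1 := by
    have h1 : ι pv1 * b = b * ι pv1 := mb.v1.symm
    have h2 : ι pf * ι pz * (b * c) = b * c * (ι pf * ι pz) := by
      have a1 : Commute b (ι pz) := mb.z
      have a2 : Commute c (ι pz) := cz
      have a3 : Commute b (ι pf) := mb.f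
      have a4 : Commute c (ι pf) := cf
      exact ((a3.mul_left a4).mul_right (a1.mul_left a2)).eq.symm
    have h3 : ι pf * ι pz * (ι pf * ι pz) = 1 := by
      calc ι pf * ι pz * (ι pf * ι pz) = ι pf * (ι pz * ι pf) * ι pz := by group
        _ = (ι pf * ι pf) * (ι pz * ι pz) := by rw [← fzι]; group
        _ = 1 := by rw [ffι, zzι, one_mul]
    have h4 : ι pv1 * (b * c) = b * c * (ι pv1 * (ι pf * ι pz)) := by
      calc ι pv1 * (b * c) = b * (ι pv1 * c) := by rw [← mul_assoc, h1, mul_assoc]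
        _ = _ := by rw [vc]; group
    calc ι pv1 * k = (ι pv1 * (b * c)) * (b * c) := by rw [hk]; group
      _ = b * c * ι pv1 * (ι pf * ι pz * (b * c)) := by rw [h4]; group
      _ = b * c * (ι pv1 * (b * c)) * (ι pf * ι pz) := by rw [h2]; group
      _ = k * ι pv1 * (ι pf * ι pz * (ι pf * ι pz)) := by rw [h4, hk]; group
      _ = k * ι pv1 := by rw [h3, mul_one]
  have kw : ι pv2 * k = k * ι pv2 := by
    have h2 : ι pf * (b * c) = b * c * ι pf := by
      have a3 : Commute b (ι pf) := mb.f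
      have a4 : Commute c (ι pf) := cf
      exact (a3.mul_left a4).eq.symm
    have h4 : ι pv2 * (b * c) = b * c * (ι pv2 * ι pf) := by
      calc ι pv2 * (b * c) = b * (ι pv2 * (ι pf * c)) := by rw [← mul_assoc, wb]; group
        _ = b * (ι pv2 * c) * ι pf := by rw [← cf]; group
        _ = b * c * (ι pv2 * ι pf) := by rw [← cw]; group
    calc ι pv2 * k = (ι pv2 * (b * c)) * (b * c) := by rw [hk]; group
      _ = b * c * ι pv2 * (ι pf * (b * c)) := by rw [h4]; group
      _ = b * c * (ι pv2 * (b * c)) * ι pf := by rw [h2]; group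
      _ = k * ι pv2 * (ι pf * ι pf) := by rw [h4, hk]; group
      _ = k * ι pv2 := by rw [ffι, mul_one]
  have strip : ∀ a, ι a * k = k * ι a → q * a = a * q := by
    intro a ha
    rcases e with e | e
    · rw [e] at ha
      exact h.comm_ι.1 ha.symm
    · rw [e] at ha
      have h1 : ι a * (x * ι q) = x * (ι a * ι q) := by
        rw [← mul_assoc, ← h.comm, mul_assoc]
      rw [h1, mul_assoc] at ha
      exact h.comm_ι.1 (mul_left_cancel ha).symm
  have qU : CU q := ⟨qf, qz, strip _ kv⟩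
  have q2 := strip _ kw
  have qq : ι q * ι q = 1 := by rw [← map_mul, CU_sq q qU, map_one]
  have bk : b * k * b⁻¹ = k⁻¹ := by
    rw [bi]
    calc b * k * b = (b * b) * (c * b * (c * b)) := by rw [hk]; group
      _ = c⁻¹ * b⁻¹ * (c⁻¹ * b⁻¹) := by
          rw [bb, one_mul, bi, inv_eq_of_mul_eq_one_left cc]
      _ = k⁻¹ := by rw [hk]; group
  have bq : b * ι q * b⁻¹ = ι q := by rw [mb.comm qU, mul_inv_cancel_right]
  rcases e with e | e
  · have rc : r * c * r⁻¹ = b ∨ r * c * r⁻¹ = b * ι pf := by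
      have e1 : r * c * r⁻¹ = (r * r) * b * (r * r)⁻¹ := by rw [hc]; group
      rcases h.rr with e2 | e2
      · left; rw [e1, e2]; group
      · right
        rw [e1, e2, h.x_inv]
        have e3 : b * x * b = x * ι pf := by rw [← mb.x, bi]
        calc x * b * x = (b * b) * x * b * x := by rw [bb, one_mul]
          _ = b * (b * x * b) * x := by group
          _ = b * (x * (ι pf * x)) := by rw [e3]; group
          _ = b * (x * x * ι pf) := by rw [h.comm']; group
          _ = b * ι pf := by rw [h.xx, one_mul]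
    have rk : r * k * r⁻¹ = k⁻¹ := by
      have e1 : r * k * r⁻¹ = c * (r * c * r⁻¹) * (c * (r * c * r⁻¹)) := by rw [hk, hc]; group
      have e2 : k⁻¹ = c * b * (c * b) := by
        rw [hk, mul_inv_rev, mul_inv_rev, bi, inv_eq_of_mul_eq_one_left cc]
      rw [e1, e2]
      rcases rc with e3 | e3
      · rw [e3]
      · rw [e3]
        calc c * (b * ι pf) * (c * (b * ι pf)) = c * b * (ι pf * c) * b * ι pf := by group
          _ = c * b * c * (ι pf * b) * ι pf := by rw [← cf]; group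
          _ = c * b * (c * b) * (ι pf * ι pf) := by rw [← mb.f]; group
          _ = _ := by rw [ffι, mul_one]
    rw [e, h.conj, inv_eq_of_mul_eq_one_left qq] at rk
    rcases fix_CL q qU q2 (h.inj rk) with e3 | e3
    · left
      rw [e3, map_one] at e
      have e4 : c * b = (b * c)⁻¹ := by rw [mul_inv_rev, bi, inv_eq_of_mul_eq_one_left cc]
      rw [e4]
      exact (eq_inv_of_mul_eq_one_left (hk.symm.trans e)).symm
    · right
      rw [e3] at e
      have e4 : c * b = (b * c)⁻¹ := by rw [mul_inv_rev, bi, inv_eq_of_mul_eq_one_left cc]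
      have e5 : b * c = ι pz * (b * c)⁻¹ := by
        rw [eq_mul_inv_iff_mul_eq]; exact hk.symm.trans e
      have e6 : (b * c)⁻¹ * ι pz = ι pz * (b * c)⁻¹ := by
        have a1 : Commute b (ι pz) := mb.z
        have a2 : Commute c (ι pz) := cz
        exact ((a1.mul_left a2).inv_left).eq
      calc c * b = (b * c)⁻¹ * (ι pz * ι pz) := by rw [zzι, mul_one, e4]
        _ = (ι pz * (b * c)⁻¹) * ι pz := by rw [← mul_assoc, e6]
        _ = b * (c * ι pz) := by rw [← e5]; group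
  · exfalso
    apply f_ne1 h
    have ki : k⁻¹ = k := by
      rw [e]
      apply inv_eq_of_mul_eq_one_left
      calc x * ι q * (x * ι q) = x * (ι q * x) * ι q := by group
        _ = (x * x) * (ι q * ι q) := by rw [h.comm']; group
        _ = 1 := by rw [h.xx, qq, one_mul]
    rw [ki, e] at bk
    have e2 : b * (x * ι q) * b⁻¹ = x * ι pf * ι q := by
      calc b * (x * ι q) * b⁻¹ = (b * x * b⁻¹) * (b * ι q * b⁻¹) := by group
        _ = x * ι pf * ι q := by rw [mb.x, bq]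
    rw [e2] at bk
    have e3 : x * ι pf = x := mul_right_cancel bk
    exact mul_eq_left.1 e3

theorem inT0 {g : G} (hx : g * x = x * g) (hf : g * ι pf = ι pf * g) (hz : g * ι pz = ι pz * g) :
    InT0 x (ι pz) (ι pf) (ι pv1) (ι pv2) g := by
  obtain ⟨q, qz, qf, e⟩ := cent_l h hx hz hf
  obtain ⟨i, j, k, l, e1⟩ := cent_zf q qz qf
  have key : ∃ a c d : G, (a = 1 ∨ a = ι pv1) ∧ (c = 1 ∨ c = ι pv2) ∧ InL (ι pz) (ι pf) d ∧ ι q = a * (c * d) := by
    have comm : ∀ a c : Perm (Fin 6), (a = 1 ∨ a = pv1) → (c = 1 ∨ c = pv2) → ∀ d : Perm (Fin 6),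
        (d = 1 ∨ d = pf ∨ d = pz ∨ d = pf * pz) → d * (a * c) = a * (c * d) := by
      have a1 : ∀ d : Perm (Fin 6), (d = 1 ∨ d = pf ∨ d = pz ∨ d = pf * pz) → d * pv1 = pv1 * d ∧ d * pv2 = pv2 * d := by
        decide +kernel
      intro a c ha hc d hd
      obtain ⟨b1, b2⟩ := a1 d hd
      rcases ha with rfl | rfl <;> rcases hc with rfl | rfl
      · group
      · rw [one_mul, one_mul, b2]
      · rw [mul_one, one_mul, b1]
      · rw [← mul_assoc, b1, mul_assoc, b2]
    have e2 : q = (pf ^ (i : ℕ) * pz ^ (j : ℕ)) * (pv1 ^ (k : ℕ) * pv2 ^ (l : ℕ)) := by rw [e1]; group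
    have hk : pv1 ^ (k : ℕ) = 1 ∨ pv1 ^ (k : ℕ) = pv1 := by
      fin_cases k
      · left; simp
      · right; simp
    have hl : pv2 ^ (l : ℕ) = 1 ∨ pv2 ^ (l : ℕ) = pv2 := by
      fin_cases l
      · left; simp
      · right; simp
    have hd : (pf ^ (i : ℕ) * pz ^ (j : ℕ)) = 1 ∨ (pf ^ (i : ℕ) * pz ^ (j : ℕ)) = pf ∨
        (pf ^ (i : ℕ) * pz ^ (j : ℕ)) = pz ∨ (pf ^ (i : ℕ) * pz ^ (j : ℕ)) = pf * pz := by
      fin_cases i <;> fin_cases j <;> simp
    refine ⟨ι (pv1 ^ (k : ℕ)), ι (pv2 ^ (l : ℕ)), ι (pf ^ (i : ℕ) * pz ^ (j : ℕ)), ?_, ?_, ?_, ?_⟩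
    · rcases hk with e | e
      · left; rw [e, map_one]
      · right; rw [e]
    · rcases hl with e | e
      · left; rw [e, map_one]
      · right; rw [e]
    · rcases hd with e | e | e | e
      · left; rw [e, map_one]
      · right; right; left; rw [e]
      · right; left; rw [e]
      · right; right; right; rw [e, map_mul]
    · rw [e2, comm _ _ hk hl _ hd, map_mul, map_mul]
  obtain ⟨a, c, d, ha, hc, hd, e3⟩ := key
  rcases e with e | e
  · exact ⟨1, a, c, d, Or.inl rfl, ha, hc, hd, by rw [e, e3, one_mul]⟩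
  · exact ⟨x, a, c, d, Or.inr rfl, ha, hc, hd, by rw [e, e3]⟩

/-- **the configuration (HSx)** -/
theorem exists_HX (hf : ∃ g, Mv x ι g pf) (hm : ∃ m, m * ι pf = ι pf * m ∧ m * ι pz * m⁻¹ = ι pf * ι pz)
    (tr : ∀ g, g * ι pf = ι pf * g → g * ι pz = ι pz * g → g * ι pv1 = ι pv1 * g →
      (∃ l, InL (ι pz) (ι pf) l ∧ (g * x * g⁻¹ = x * l ∨ g * x * g⁻¹ = x * (ι pv1 * l))) →
      g * x * g⁻¹ = x ∨ g * x * g⁻¹ = x * ι pf) :
    ∃ b c d m, HX x (ι pz) (ι pf) (ι pv1) (ι pv2) b c r d m := by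
  obtain ⟨b, mb, bc, bb⟩ := exists_b h hf
  have hz : ∀ g, ¬ Mv x ι g pz := by
    intro g mg
    rcases tr g mg.f mg.z mg.v1 ⟨ι pz, Or.inr (Or.inl rfl), Or.inl mg.x⟩ with e | e
    · rw [mg.x] at e
      exact z_ne1 h (mul_eq_left.1 e)
    · rw [mg.x] at e
      exact f_ne_z (h.inj (mul_left_cancel e)).symm
  have wb := v2b h mb bc bb hz
  have hcb := cb h mb bb wb
  obtain ⟨m, mf, mz⟩ := hm
  have bi : b⁻¹ = b := inv_eq_of_mul_eq_one_left bb
  have e0 : b * x * b = x * ι pf := by rw [← mb.x, bi]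
  have cz := r_comm h mb.z
  rw [θ_z] at cz
  have c2 := r_comm h mb.f
  rw [θ_f] at c2
  have cf : (r * b * r⁻¹) * ι pf = ι pf * (r * b * r⁻¹) := comm_f h c2 cz
  have cw := r_comm h mb.v1
  rw [θ_v1] at cw
  have cx := r_x h mb.x
  rw [θ_f, map_mul] at cx
  have cc : (r * b * r⁻¹) * (r * b * r⁻¹) = 1 := by
    calc (r * b * r⁻¹) * (r * b * r⁻¹) = r * (b * b) * r⁻¹ := by group
      _ = 1 := by rw [bb, mul_one, mul_inv_cancel]
  have ci : (r * b * r⁻¹)⁻¹ = r * b * r⁻¹ := inv_eq_of_mul_eq_one_left cc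
  have vc : ι pv1 * (r * b * r⁻¹) = (r * b * r⁻¹) * (ι pv1 * (ι pf * ι pz)) := by
    have e1 : r * (ι pv2 * b) * r⁻¹ = ι pv1 * (r * b * r⁻¹) := by
      calc r * (ι pv2 * b) * r⁻¹ = (r * ι pv2 * r⁻¹) * (r * b * r⁻¹) := by group
        _ = ι pv1 * (r * b * r⁻¹) := by rw [h.conj, θ_v2]
    have e2 : r * (b * (ι pv2 * ι pf)) * r⁻¹ = (r * b * r⁻¹) * (ι pv1 * (ι pf * ι pz)) := by
      calc r * (b * (ι pv2 * ι pf)) * r⁻¹ = (r * b * r⁻¹) * ((r * ι pv2 * r⁻¹) * (r * ι pf * r⁻¹)) := by group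
        _ = (r * b * r⁻¹) * (ι pv1 * (ι pf * ι pz)) := by rw [h.conj, h.conj, θ_v2, θ_f, map_mul]
    rw [← e1, wb, e2]
  have dinv : (ι pc)⁻¹ * x * ((ι pc)⁻¹)⁻¹ = x := by
    rw [inv_inv, mul_assoc, h.comm, inv_mul_cancel_left]
  have xc : x * (r * b * r⁻¹) = (r * b * r⁻¹) * (x * (ι pf * ι pz)) := by
    have e1 : (r * b * r⁻¹) * x * (r * b * r⁻¹) = x * (ι pf * ι pz) := by rw [← cx, ci]
    calc x * (r * b * r⁻¹) = ((r * b * r⁻¹) * (r * b * r⁻¹)) * x * (r * b * r⁻¹) := by rw [cc, one_mul]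
      _ = (r * b * r⁻¹) * ((r * b * r⁻¹) * x * (r * b * r⁻¹)) := by group
      _ = _ := by rw [e1]
  refine ⟨b, r * b * r⁻¹, (ι pc)⁻¹, m, ?_⟩
  exact
    { z1 := z_ne1 h
      f1 := f_ne1 h
      fz := fun e => f_ne_z (h.inj e)
      xx := h.xx
      zz := by rw [← map_mul, zz, map_one]
      ff := by rw [← map_mul, ff, map_one]
      v₁v₁ := by rw [← map_mul, v11, map_one]
      v₂v₂ := w_w h
      bb := bb
      cc := cc
      xb := by
        calc x * b = (b * b) * x * b := by rw [bb, one_mul]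
          _ = b * (b * x * b) := by group
          _ = b * (x * ι pf) := by rw [e0]
      v₁b := mb.v1.symm
      v₂b := wb
      xc := xc
      v₁c := vc
      v₂c := cw.symm
      v₁x := h.comm' _
      v₂x := h.comm' _
      v₂v₁ := by rw [← map_mul, v2_v1, map_mul, map_mul]
      fb := mb.f.symm
      fc := cf.symm
      fx := h.comm' _
      fv₁ := by rw [← map_mul, fv1, map_mul]
      fv₂ := by rw [← map_mul, fv2, map_mul]
      zb := mb.z.symm
      zc := cz.symm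
      zx := h.comm' _
      zv₁ := by rw [← map_mul, zv1, map_mul]
      zv₂ := by rw [← map_mul, zv2, map_mul]
      zf := by rw [← map_mul, ← fz, map_mul]
      cb := hcb
      rx := by rw [h.rx, mul_inv_cancel_right]
      rz := by rw [h.conj, θ_z]
      rf := by rw [h.conj, θ_f, map_mul]
      rv₁ := by rw [h.conj, θ_v1]
      rv₂ := by rw [h.conj, θ_v2]
      rb := rfl
      dx := dinv
      df := by
        rw [inv_inv, ← map_inv, ← map_mul, ← map_mul, f_pc]
      dz := by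
        rw [inv_inv, ← map_inv, ← map_mul, ← map_mul, cz']
      mf := by rw [mf, mul_inv_cancel_right]
      mz := mz
      cent := fun g hx hf hz => inT0 h hx hf hz
      tr := tr }

end HsxFrame

end Cfsg.Agent.OddHalf.D5.SixAut
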