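import Cfsg.Agent.OddHalf.D5.SixAut.FusE

/-!
# ODD D5, `n = 6`, (C3b), P2: the two outputs (HSx), (DBL) (helper310)

`f = ι pf`, `z = ι pz`, `v₁ = ι pv1`, `E₁ = EOne.E1 x ι = C(⟨x, z, v₁⟩) = ⟨x, f, z, v₁⟩`,
`N(E₁) = FusE.NE x ι`, `U₁ = ⟨f, z, v₁⟩`.
-/

set_option autoImplicit false

namespace Cfsg.Agent.OddHalf.D5.SixAut.PTwoDefs

open Equiv EPerm EOne FusE

variable {G : Type*} [Group G]

/-- (DBL) : `x ~ x z` and `x ~ x f` in `C(U₁)` -/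
structure DBL (x : G) (ι : Perm (Fin 6) →* G) : Prop where
  hz : ∃ g, g * ι pf = ι pf * g ∧ g * ι pz = ι pz * g ∧ g * ι pv1 = ι pv1 * g ∧ g * x * g⁻¹ = x * ι pz
  hf : ∃ g, g * ι pf = ι pf * g ∧ g * ι pz = ι pz * g ∧ g * ι pv1 = ι pv1 * g ∧ g * x * g⁻¹ = x * ι pf

/-- (HSx) : `N(E₁)` induces the stabilizer of `f` in `GL(U₁)` -/
structure HSx (x : G) (ι : Perm (Fin 6) →* G) : Prop where
  b : ∃ b, b * ι pf = ι pf * b ∧ b * ι pz = ι pz * b ∧ b * ι pv1 = ι pv1 * b ∧ b * x * b⁻¹ = x * ι pf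
  c : ∃ c, c * ι pf = ι pf * c ∧ c * ι pz = ι pz * c ∧ c * ι pv1 * c⁻¹ = ι pv1 * ι pf ∧ c * x * c⁻¹ = x * ι pz
  m : ∃ m, m * ι pf = ι pf * m ∧ m * ι pv1 = ι pv1 * m ∧ m * ι pz * m⁻¹ = ι pz * ι pf ∧ m * x * m⁻¹ = x * ι pv1
  tr : ∀ g ∈ NE x ι, g * ι pf = ι pf * g → g * ι pz = ι pz * g → g * ι pv1 = ι pv1 * g →
    g * x * g⁻¹ = x ∨ g * x * g⁻¹ = x * ι pf
  nF : ∀ g ∈ NE x ι, g * ι pf = ι pf * g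
  card : Nat.card (NE x ι) = 768

/-- `x^G ∩ E₁ = x U₁` -/
def Fus (x : G) (ι : Perm (Fin 6) →* G) : Prop :=
  ∀ a, InV a → (∃ g, g * x * g⁻¹ = x * ι a) ∧ ¬ ∃ g, g * x * g⁻¹ = ι a

end Cfsg.Agent.OddHalf.D5.SixAut.PTwoDefs
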