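import Cfsg.Agent.OddHalf.D5.SixAut.HsxEnd
import Cfsg.Agent.OddHalf.D5.SixAut.HsxFrame
import Cfsg.Agent.OddHalf.D5.SixAut.PTwoDefs

/-!
# ODD D5, `n = 6`, `C_G(x)/⟨x⟩ = Aut(A_6)`, the case (HSx): the conclusion

`sym` : in the situation `HSx x ι` of `PTwoDefs`, the elementary abelian normal subgroups of `C(z)`, `z = ι pz`, are
`≤ ⟨z⟩`.
-/

set_option autoImplicit false

namespace Cfsg.Agent.OddHalf.D5.SixAut.HsxSym

open HsxW HsxB HsxEnd Subgroup Cfsg Equiv EPerm EOne FusE PTwoDefs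

variable {G : Type*} [Group G]

theorem comm_pf : ∀ a : Perm (Fin 6), a * pz = pz * a → a * pv1 = pv1 * a → a * pf = pf * a := by decide +kernel

/-- an element moving `x` inside `x U₁` and centralising `U₁` lies in `N(E₁)` -/
theorem mem_NE_of [Finite G] {x r : G} {ι : Perm (Fin 6) →* G} (h : AutSpl x ι r) {g : G}
    (hz : g * ι pz = ι pz * g) (hv : g * ι pv1 = ι pv1 * g)
    (hx : ∃ l, InL (ι pz) (ι pf) l ∧ (g * x * g⁻¹ = x * l ∨ g * x * g⁻¹ = x * (ι pv1 * l))) : g ∈ NE x ι := by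
  have hL : ∀ l, InL (ι pz) (ι pf) l → l ∈ E1 x ι := by
    rintro l (rfl | rfl | rfl | rfl)
    · exact (E1 x ι).one_mem
    · exact zE h
    · exact fE h
    · exact (E1 x ι).mul_mem (fE h) (zE h)
  apply gen_NE h
  · obtain ⟨l, hl, e | e⟩ := hx
    · show g * x * g⁻¹ ∈ E1 x ι
      rw [e]
      exact (E1 x ι).mul_mem (AutSpl'.x_mem h) (hL l hl)
    · show g * x * g⁻¹ ∈ E1 x ι
      rw [e]
      exact (E1 x ι).mul_mem (AutSpl'.x_mem h) ((E1 x ι).mul_mem (vE h) (hL l hl))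
  · rw [A_eq_iff.2 hz]; exact zE h
  · rw [A_eq_iff.2 hv]; exact vE h

/-- **P4** -/
theorem sym [Finite G] {x r : G} {ι : Perm (Fin 6) →* G} (h : AutSpl x ι r) (hx : HSx x ι)
    (hO : centralizerPPrimeCore 2 (ι pf) = ⊥)
    (hm : ∀ (m : centralizer ({ι pz} : Set G) →* ℤˣ) (hx : x ∈ centralizer ({ι pz} : Set G)), m ⟨x, hx⟩ = 1)
    (A : Subgroup (centralizer ({ι pz} : Set G))) (hA : A.Normal) (hel : ∀ a ∈ A, a * a = 1) :
    ∀ a ∈ A, (a : G) = 1 ∨ (a : G) = ι pz := by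
  obtain ⟨b, bf, bz, bv, bx⟩ := hx.b
  obtain ⟨m, mf, -, mz, -⟩ := hx.m
  have zf : ι pz * ι pf = ι pf * ι pz := by
    rw [← map_mul, ← map_mul]; congr 1; decide +kernel
  obtain ⟨b', c, d, m', H⟩ := HsxFrame.exists_HX h ⟨b, bf, bz, bv, bx⟩ ⟨m, mf, by rw [mz, zf]⟩ (fun g gf gz gv gx =>
    hx.tr g (mem_NE_of h gz gv gx) gf gz gv)
  -- `E₁`
  have hE : HsxEnd.E1 H = EOne.E1 x ι := by
    apply le_antisymm
    · intro g hg
      have key : ∀ u, InU (ι pz) (ι pf) (ι pv1) u → u ∈ EOne.E1 x ι := by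
        have hL : ∀ l, InL (ι pz) (ι pf) l → l ∈ EOne.E1 x ι := by
          rintro l (rfl | rfl | rfl | rfl)
          · exact (EOne.E1 x ι).one_mem
          · exact zE h
          · exact fE h
          · exact (EOne.E1 x ι).mul_mem (fE h) (zE h)
        rintro u ⟨l, hl, rfl | rfl⟩
        · exact hL _ hl
        · exact (EOne.E1 x ι).mul_mem (vE h) (hL _ hl)
      rcases (mem_E1 H).1 hg with hu | ⟨u, hu, rfl⟩
      · exact key _ hu
      · exact (EOne.E1 x ι).mul_mem (AutSpl'.x_mem h) (key _ hu)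
    · intro g hg
      have hg' := hg
      obtain ⟨gx, gz, gv⟩ := hg'
      have gf : g * ι pf = ι pf * g := AutSpl'.comm h hg (fE h)
      exact (mem_E1 H).2 (centU H gx gf gz gv)
  -- `|C(z)|`
  have hcC : 768 ≤ Nat.card (centralizer ({ι pf} : Set G)) := by
    rw [← hx.card]
    exact Subgroup.card_le_of_le (fun g hg => mem_centralizer_singleton_iff.2 (hx.nF g hg))
  have hcz : 512 < Nat.card (centralizer ({ι pz} : Set G)) := by
    have e : Nat.card (centralizer ({ι pf} : Set G)) ≤ Nat.card (centralizer ({ι pz} : Set G)) := by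
      have hρ := rho_z H
      refine Nat.card_le_card_of_injective
        (fun g : centralizer ({ι pf} : Set G) => (⟨(r * m')⁻¹ * g * (r * m'), ?_⟩ : centralizer ({ι pz} : Set G))) ?_
      · have hg := mem_centralizer_singleton_iff.1 g.2
        rw [mem_centralizer_singleton_iff]
        calc (r * m')⁻¹ * g * (r * m') * ι pz
            = (r * m')⁻¹ * (g * ((r * m') * ι pz * (r * m')⁻¹)) * (r * m') := by group
          _ = (r * m')⁻¹ * (((r * m') * ι pz * (r * m')⁻¹) * g) * (r * m') := by rw [hρ, hg]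
          _ = ι pz * ((r * m')⁻¹ * g * (r * m')) := by group
      · intro a b hab
        have := congrArg Subtype.val hab
        exact Subtype.ext (mul_left_cancel (mul_right_cancel this))
    omega
  have hd : ∀ W : Subgroup G, (∀ a ∈ W, a * a = 1) → (∀ w ∈ W, w * ι pz = ι pz * w) →
      (∀ g, g * ι pz = ι pz * g → ∀ w ∈ W, g * w * g⁻¹ ∈ W) → (∃ w ∈ W, w ≠ 1 ∧ w ≠ ι pz) →
      WN x (ι pz) (ι pf) W := by
    intro W el hWz nz hW
    obtain ⟨h1, h2, h3⟩ := exists_WN h ⟨b, bf, bz, bx⟩ hcz hm W el hWz nz hW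
    exact ⟨el, nz, h1, h2, h3⟩
  intro a ha
  by_contra hc
  push Not at hc
  have hWN : WN x (ι pz) (ι pf) (A.map (centralizer ({ι pz} : Set G)).subtype) := by
    apply hd
    · rintro _ ⟨w, hw, rfl⟩
      exact congrArg Subtype.val (hel w hw)
    · rintro _ ⟨w, hw, rfl⟩
      exact mem_centralizer_singleton_iff.1 w.2
    · rintro g hg _ ⟨w, hw, rfl⟩
      exact ⟨⟨g, mem_centralizer_singleton_iff.2 hg⟩ * w * ⟨g, mem_centralizer_singleton_iff.2 hg⟩⁻¹,
        hA.conj_mem w hw _, rfl⟩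
    · exact ⟨a, ⟨a, ha, rfl⟩, hc.1, hc.2⟩
  refine no_W H hO (NE x ι) hx.nF ?_ hx.card.ge hd hWN
  intro g hg e he
  rw [hE] at he ⊢
  exact A_mem hg he

end Cfsg.Agent.OddHalf.D5.SixAut.HsxSym
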