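import Cfsg.Agent.OddHalf.D5.SixAut.FusEight
import Cfsg.Agent.OddHalf.D6.Six.Count
import Cfsg.Agent.OddHalf.D6.Six.Parity

/-!
# ODD D5, `n = 6`, (C3b), P2: `x^G ∩ E₁ = x V₁` is impossible (helper310)

`H = C_{N(E₁)}(⟨z, F⟩)`, `F ∈ {f, x f}`, has order 128; `|x^G| ≡ 46 + 36 k (mod 4)` and `|C(x)| = 2880`, so that `H` is a
Sylow 2-subgroup, with `z`, `F` in its centre.
-/

set_option autoImplicit false
set_option linter.unusedSectionVars false

namespace Cfsg.Agent.OddHalf.D5.SixAut.ModFour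

open Subgroup Equiv
open EPerm EPerm2 EOne FusE FusN FusEight

variable {G : Type*} [Group G] {x r : G} {ι : Perm (Fin 6) →* G}

/-- `x^G ∩ E₁ = x V₁` -/
structure Four (x : G) (ι : Perm (Fin 6) →* G) : Prop where
  even : D x (x * ι pz)
  nz : ∀ g, A g x ≠ ι pz
  nf : ¬ D x (ι pf)
  nxf : ¬ D x (x * ι pf)

theorem card_ev : (Finset.univ.filter fun a : Perm (Fin 6) => InV a ∧ Perm.sign a = 1).card = 4 := by
  have : (Finset.univ.filter fun a : Perm (Fin 6) => InV a ∧ Perm.sign a = 1) =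
      (vL.filter fun a => Perm.sign a = 1).toFinset := by
    ext a
    simp only [Finset.mem_filter, Finset.mem_univ, true_and, List.mem_toFinset, List.mem_filter, decide_eq_true_eq,
      mem_vL]
  rw [this]
  decide +kernel

theorem card_cfz : (Finset.univ.filter fun a : Perm (Fin 6) => a * pf = pf * a ∧ a * pz = pz * a).card = 16 := by
  decide +kernel

section

variable (h : AutSpl x ι r)
include h

theorem no (H : Four x ι) {a : Perm (Fin 6)} (ha : InV a) : ¬ D x (ι a) := by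
  by_cases hs : Perm.sign a = 1
  · exact not_D_even h H.nz ha hs
  · rw [D_odd h ha hs]; exact H.nf

theorem yes [Finite G] (H : Four x ι) {a : Perm (Fin 6)} (ha : InV a) : D x (x * ι a) ↔ Perm.sign a = 1 := by
  constructor
  · intro hD
    by_contra hs
    rw [D_odd' h ha hs] at hD
    exact H.nxf hD
  · exact D_even h H.even ha

theorem vinv [Finite G] (H : Four x ι) : VInv x ι := by
  have key : ∀ n ∈ NE x ι, ∀ b, InV b → Perm.sign b = 1 →
      ∃ b', InV b' ∧ Perm.sign b' = 1 ∧ A n (x * ι b) = x * ι b' := by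
    intro n hn b hb hs
    have hD : D x (A n (x * ι b)) := by rw [D_A]; exact D_even h H.even hb hs
    obtain ⟨b', hb', e | e⟩ := AutSpl'.form h (A_mem hn (AutSpl'.mem' h hb))
    · exfalso
      rw [e] at hD
      exact no h H hb' hD
    · refine ⟨b', hb', ?_, e⟩
      rw [e, yes h H hb'] at hD
      exact hD
  intro n hn w hw hws
  obtain ⟨b, hb, sb, e⟩ := key n hn 1 V_one (map_one _)
  obtain ⟨b', hb', sb', e'⟩ := key n hn w hw hws
  rw [map_one, mul_one] at e
  refine ⟨b * b', V_mul hb hb', by rw [Perm.sign_mul, sb, sb', one_mul], ?_⟩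
  have h1 : ι w = x * (x * ι w) := by rw [← mul_assoc, h.xx, one_mul]
  rw [h1, map_mul, e, e', map_mul]
  have h2 := h.comm' b
  calc x * ι b * (x * ι b') = x * (ι b * x) * ι b' := by group
    _ = (x * x) * (ι b * ι b') := by rw [h2]; group
    _ = _ := by rw [h.xx, one_mul]

theorem exF [Finite G] (H : Four x ι) : ∃ F, (F = ι pf ∨ F = x * ι pf) ∧
    ∀ w, InV w → Perm.sign w = 1 → ∃ k ∈ NE x ι, A k (ι pz) = ι pz ∧ A k F = F ∧ A k x = x * ι w := by
  obtain ⟨n, hn, hnx⟩ := fus' h (AutSpl'.mem' h V_z) H.even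
  obtain ⟨c, hc, hcx, hcz, hcv⟩ := adjust h (vinv h H) hn
  rw [hnx] at hcx
  have hF : ∃ F, (F = ι pf ∨ F = x * ι pf) ∧ A c F = F := by
    rcases lemC h hcx hcz hcv with e | e
    · exact ⟨_, Or.inl rfl, e⟩
    · refine ⟨_, Or.inr rfl, ?_⟩
      rw [map_mul, hcx, e, map_mul]
      calc x * ι pz * (ι pf * ι pz) = x * (ι pz * ι pf) * ι pz := by group
        _ = x * ι pf * (ι pz * ι pz) := by rw [zf h]; group
        _ = x * ι pf := by rw [zz h, mul_one]
  obtain ⟨F, hF, hcF⟩ := hF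
  have hd : A (ι pc) F = F := by
    rcases hF with rfl | rfl
    · exact d_f h
    · rw [map_mul, A_ι_x h, d_f h]
  have hd' : A (ι pc)⁻¹ F = F := A_inv_eq hd
  have hdN : ι pc ∈ NE x ι := ι_NE h c_f
  have hzv : A c (ι (pz * pv1)) = ι (pz * pv1) := by rw [map_mul ι, map_mul, hcz, hcv]
  have A1 : ∀ e, A (1 : G) e = e := fun e => by rw [A_def, one_mul, inv_one, mul_one]
  refine ⟨F, hF, ?_⟩
  intro w hw hs
  rcases V_even w hw hs with rfl | rfl | rfl | rfl
  · exact ⟨1, one_mem _, A1 _, A1 _, by rw [A1, map_one, mul_one]⟩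
  · exact ⟨c, hc, hcz, hcF, hcx⟩
  · refine ⟨(ι pc)⁻¹ * c * ι pc, mul_mem (mul_mem (inv_mem hdN) hc) hdN, ?_, ?_, ?_⟩
    · rw [A_mul, A_mul, d_z h, hzv]; exact A_inv_eq (d_z h)
    · rw [A_mul, A_mul, hd, hcF, hd']
    · rw [A_mul, A_mul, A_ι_x h, hcx, map_mul, A_ι_x_inv h, d_z' h]
  · refine ⟨ι pc * c * (ι pc)⁻¹, mul_mem (mul_mem hdN hc) (inv_mem hdN), ?_, ?_, ?_⟩
    · rw [A_conj, d_z' h, hcv, d_v h]
    · rw [A_conj, hd', hcF, hd]
    · rw [A_conj, A_ι_x_inv h, hcx, map_mul, A_ι_x h, d_z h]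

/-- the order of a subgroup `{1, x} ι(P)` -/
theorem card_pair [Finite G] (P : Perm (Fin 6) → Prop) [DecidablePred P] (K : Subgroup G)
    (hK : ∀ g, g ∈ K ↔ ∃ a, P a ∧ (g = ι a ∨ g = x * ι a)) :
    Nat.card K = 2 * (Finset.univ.filter P).card := by
  have e : Bool × {a : Perm (Fin 6) // P a} ≃ K := Equiv.ofBijective
    (fun p => ⟨(if p.1 then x else 1) * ι p.2.1, by
      rw [hK]
      refine ⟨p.2.1, p.2.2, ?_⟩
      split_ifs
      · exact Or.inr rfl
      · exact Or.inl (one_mul _)⟩) (by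
    constructor
    · rintro ⟨b, p, hp⟩ ⟨c, q, hq⟩ e
      have h1 : (if b then x else 1) * ι p = (if c then x else 1) * ι q := congrArg Subtype.val e
      cases b <;> cases c
      · simp only [Bool.false_eq_true, if_false, one_mul] at h1
        have := h.inj h1
        subst this; rfl
      · simp only [Bool.false_eq_true, if_false, one_mul, if_true] at h1
        exact absurd h1 (h.ne_x p q)
      · simp only [Bool.false_eq_true, if_false, one_mul, if_true] at h1
        exact absurd h1.symm (h.ne_x q p)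
      · simp only [if_true] at h1
        have := h.xι_inj h1
        subst this; rfl
    · rintro ⟨g, hg⟩
      obtain ⟨a, ha, hp | hp⟩ := (hK g).1 hg
      · exact ⟨(false, ⟨a, ha⟩), Subtype.ext (by simp [hp])⟩
      · exact ⟨(true, ⟨a, ha⟩), Subtype.ext (by simp [hp])⟩)
  rw [← Nat.card_congr e, Nat.card_prod, Nat.card_eq_fintype_card (α := {a // P a}), Fintype.card_subtype]
  simp

/-- `C_{N(E₁)}(⟨z, F⟩)` -/
theorem card_H [Finite G] (H : Four x ι) {F : G} (hF : F = ι pf ∨ F = x * ι pf)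
    (hc : ∀ w, InV w → Perm.sign w = 1 → ∃ k ∈ NE x ι, A k (ι pz) = ι pz ∧ A k F = F ∧ A k x = x * ι w) :
    Nat.card ((NE x ι ⊓ centralizer {ι pz} ⊓ centralizer {F} : Subgroup G)) = 128 := by
  have h1 := Cfsg.Agent.OddHalf.D6.Six.Parity.card_orbit x (NE x ι ⊓ centralizer {ι pz} ⊓ centralizer {F})
  have hmem : ∀ k, k ∈ (NE x ι ⊓ centralizer {ι pz} ⊓ centralizer {F} : Subgroup G) ↔
      k ∈ NE x ι ∧ A k (ι pz) = ι pz ∧ A k F = F := by
    intro k
    rw [mem_inf, mem_inf, mem_centralizer_singleton_iff, mem_centralizer_singleton_iff, A_eq_iff, A_eq_iff, and_assoc]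
  have h2 : {d : G | ∃ k ∈ (NE x ι ⊓ centralizer {ι pz} ⊓ centralizer {F} : Subgroup G), k * x * k⁻¹ = d} =
      {d : G | ∃ a, (InV a ∧ Perm.sign a = 1) ∧ x * ι a = d} := by
    ext d
    constructor
    · rintro ⟨k, hk, rfl⟩
      obtain ⟨hk, -, -⟩ := (hmem k).1 hk
      obtain ⟨a, ha, e | e⟩ := AutSpl'.form h (A_mem hk (AutSpl'.x_mem h))
      · exact absurd ⟨k, e⟩ (no h H ha)
      · exact ⟨a, ⟨ha, (yes h H ha).1 ⟨k, e⟩⟩, e.symm⟩
    · rintro ⟨a, ⟨ha, hs⟩, rfl⟩
      obtain ⟨k, hk, k1, k2, k3⟩ := hc a ha hs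
      exact ⟨k, (hmem k).2 ⟨hk, k1, k2⟩, k3⟩
  have h3 : {d : G | ∃ a, (InV a ∧ Perm.sign a = 1) ∧ x * ι a = d}.ncard = 4 := by
    have : {d : G | ∃ a, (InV a ∧ Perm.sign a = 1) ∧ x * ι a = d} =
        (fun a => x * ι a) '' ((Finset.univ.filter fun a => InV a ∧ Perm.sign a = 1 : Finset (Perm (Fin 6))) : Set _) := by
      ext d
      simp [Set.mem_image]
    rw [this, Set.ncard_image_of_injective _ (fun a b e => h.xι_inj e), Set.ncard_coe_finset, card_ev]
  have h4 : Nat.card (((NE x ι ⊓ centralizer {ι pz} ⊓ centralizer {F}) ⊓ centralizer {x} : Subgroup G)) = 32 := by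
    rw [card_pair h (fun a => a * pf = pf * a ∧ a * pz = pz * a), card_cfz]
    intro g
    rw [mem_inf, hmem, mem_centralizer_singleton_iff, ← A_eq_iff]
    constructor
    · rintro ⟨⟨g1, g2, -⟩, g3⟩
      obtain ⟨a, ha, e⟩ := stab h g1 g3
      refine ⟨a, ⟨ha, ?_⟩, e⟩
      rcases e with rfl | rfl
      · exact h.comm_ι.1 (A_eq_iff.1 g2)
      · rw [A_mul, A_ι] at g2
        have := A_inv_eq g2
        rw [show A x⁻¹ (ι pz) = ι pz from A_inv_eq (A_x_ι h pz)] at this
        exact mul_inv_eq_iff_eq_mul.1 (h.inj this).symm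
    · rintro ⟨a, ⟨ha, hz⟩, e⟩
      have k1 : A (ι a) x = x := A_ι_x h a
      have k2 : A (ι a) (ι pz) = ι pz := by rw [A_ι, hz, mul_inv_cancel_right]
      have k3 : A (ι a) (ι pf) = ι pf := by rw [A_ι, ha, mul_inv_cancel_right]
      have k4 : A (ι a) F = F := by
        rcases hF with rfl | rfl
        · exact k3
        · rw [map_mul, k1, k3]
      rcases e with rfl | rfl
      · exact ⟨⟨ι_NE h ha, k2, k4⟩, k1⟩
      · have x1 : A x x = x := A_eq_iff.2 rfl
        have x4 : A x F = F := by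
          rcases hF with rfl | rfl
          · exact A_x_ι h _
          · rw [map_mul, x1, A_x_ι h]
        exact ⟨⟨mul_mem (x_NE h) (ι_NE h ha), by rw [A_mul, k2, A_x_ι h], by rw [A_mul, k4, x4]⟩, by
          rw [A_mul, k1, x1]⟩
  rw [h2, h3, h4] at h1
  exact h1

/-! ### `|x^G ∩ C(x)|` -/

theorem card_C [Finite G] : Nat.card (centralizer ({x} : Set G)) = 2880 := by
  have n1 : ∀ a b, ι a * r ≠ x * ι b := by
    intro a b e
    apply h.ne_xr b a
    rw [e, ← mul_assoc, h.xx, one_mul]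
  have n2 : ∀ a b, ι a * r ≠ x * (ι b * r) := by
    intro a b e
    rw [← mul_assoc] at e
    exact h.ne_x a b (mul_right_cancel e)
  have n3 : ∀ a b, x * ι a ≠ x * (ι b * r) := fun a b e => h.ne_r a b (mul_left_cancel e)
  have e : (Bool × Bool) × Perm (Fin 6) ≃ centralizer ({x} : Set G) := Equiv.ofBijective
    (fun p => ⟨(if p.1.1 then x else 1) * (ι p.2 * if p.1.2 then r else 1), by
      rw [mem_centralizer_singleton_iff]
      apply h.mem_cent
      refine ⟨p.2, ?_⟩
      split_ifs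
      · exact Or.inr (Or.inr (Or.inr rfl))
      · rw [mul_one]; exact Or.inr (Or.inl rfl)
      · rw [one_mul]; exact Or.inr (Or.inr (Or.inl rfl))
      · rw [mul_one, one_mul]; exact Or.inl rfl⟩) (by
    constructor
    · rintro ⟨⟨b, b'⟩, p⟩ ⟨⟨c, c'⟩, q⟩ e
      have h1 : (if b then x else 1) * (ι p * if b' then r else 1) = (if c then x else 1) * (ι q * if c' then r else 1) :=
        congrArg Subtype.val e
      have hfin : b = c → b' = c' → p = q → (((b, b'), p) : (Bool × Bool) × Perm (Fin 6)) = ((c, c'), q) := by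
        rintro rfl rfl rfl; rfl
      cases b <;> cases c <;> cases b' <;> cases c' <;>
        simp only [Bool.false_eq_true, if_false, one_mul, mul_one, if_true] at h1
      · exact hfin rfl rfl (h.inj h1)
      · exact absurd h1 (h.ne_r _ _)
      · exact absurd h1.symm (h.ne_r _ _)
      · exact hfin rfl rfl (h.inj (mul_right_cancel h1))
      · exact absurd h1 (h.ne_x _ _)
      · exact absurd h1 (h.ne_xr _ _)
      · exact absurd h1 (n1 _ _)
      · exact absurd h1 (n2 _ _)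
      · exact absurd h1.symm (h.ne_x _ _)
      · exact absurd h1.symm (n1 _ _)
      · exact absurd h1.symm (h.ne_xr _ _)
      · exact absurd h1.symm (n2 _ _)
      · exact hfin rfl rfl (h.xι_inj h1)
      · exact absurd h1 (n3 _ _)
      · exact absurd h1.symm (n3 _ _)
      · exact hfin rfl rfl (h.inj (mul_right_cancel (mul_left_cancel h1)))
    · rintro ⟨g, hg⟩
      obtain ⟨a, hp | hp | hp | hp⟩ := h.cent g (mem_centralizer_singleton_iff.1 hg)
      · exact ⟨((false, false), a), Subtype.ext (by simp [hp])⟩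
      · exact ⟨((true, false), a), Subtype.ext (by simp [hp])⟩
      · exact ⟨((false, true), a), Subtype.ext (by simp [hp])⟩
      · exact ⟨((true, true), a), Subtype.ext (by simp [hp])⟩)
  rw [← Nat.card_congr e, Nat.card_prod, Nat.card_prod, Nat.card_eq_fintype_card (α := Perm (Fin 6)),
    Fintype.card_perm, Fintype.card_fin]
  simp
  rfl

theorem D_sq {d : G} (hD : D x d) : d * d = 1 := by
  obtain ⟨g, rfl⟩ := hD
  rw [← map_mul, h.xx, map_one]

theorem no_all [Finite G] (H : Four x ι) (a : Perm (Fin 6)) : ¬ D x (ι a) := by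
  intro hD
  have h1 : a * a = 1 := h.one_iff.1 (by rw [map_mul]; exact D_sq h hD)
  have key : ∀ b, b * b = 1 → InV b → Cfsg.Agent.OddHalf.D6.Six.sup a = Cfsg.Agent.OddHalf.D6.Six.sup b → False := by
    intro b hb hV hs
    obtain ⟨s, hs⟩ := isConj_iff.1 (Cfsg.Agent.OddHalf.D6.Six.conj_of_sup h1 hb hs)
    apply no h H hV
    rw [← hs, ← A_ι, D_A]
    exact hD
  rcases Cfsg.Agent.OddHalf.D6.Six.sup_cases h1 with e | e | e | e
  · exact key 1 (one_mul 1) V_one (e.trans rfl)
  · exact key pf (by decide +kernel) V_pf (e.trans Cfsg.Agent.OddHalf.D6.Six.sup_c1.symm)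
  · exact key pz (by decide +kernel) V_z (e.trans Cfsg.Agent.OddHalf.D6.Six.sup_c2.symm)
  · exact key (pz * pf) (by decide +kernel) (V_mul V_z V_pf) (e.trans Cfsg.Agent.OddHalf.D6.Six.sup_c3.symm)

theorem inn_count [Finite G] (H : Four x ι) : {a | D x (x * ι a)}.ncard = 46 := by
  rw [Cfsg.Agent.OddHalf.D6.Six.ncard_class (fun a => D x (x * ι a)), if_pos, if_neg, if_pos, if_neg]
  · show ¬ D x (x * ι (pz * pf))
    rw [yes h H (V_mul V_z V_pf)]
    decide +kernel
  · exact H.even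
  · exact H.nxf
  · rw [map_one, mul_one]; exact D_self x
  · intro p hD
    apply h.one_iff.1
    have h1 := D_sq h hD
    rw [map_mul]
    calc ι p * ι p = (x * x) * (ι p * ι p) := by rw [h.xx, one_mul]
      _ = x * (x * ι p) * ι p := by group
      _ = x * (ι p * x) * ι p := by rw [h.comm]
      _ = x * ι p * (x * ι p) := by group
      _ = 1 := h1
  · intro p q hpq hD
    obtain ⟨s, rfl⟩ := isConj_iff.1 hpq
    have : A (ι s) (x * ι p) = x * ι (s * p * s⁻¹) := by rw [map_mul, A_ι_x h, A_ι]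
    rw [← this, D_A]
    exact hD

theorem out_mem {a : Perm (Fin 6)} (hD : D x (ι a * r)) : a * θ a = 1 := by
  have h1 := D_sq h hD
  rw [h.sq_r] at h1
  rcases h.rr with e | e
  · rw [e, mul_one] at h1
    exact h.one_iff.1 h1
  · exfalso
    rw [e] at h1
    apply h.ne (a * θ a)
    rw [eq_inv_of_mul_eq_one_left h1, h.x_inv]

theorem out_iff {a : Perm (Fin 6)} (ha : a * θ a = 1) : D x (ι a * r) ↔ D x r := by
  obtain ⟨s, rfl⟩ := outer_conj a ha
  have : A (ι s) r = ι (s * (θ s)⁻¹) * r := by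
    rw [A_def, map_mul, mul_assoc, mul_assoc]
    congr 1
    rw [← map_inv ι s, h.rι, map_inv]
  rw [← this, D_A]

theorem out_count [Finite G] : {a | D x (ι a * r)}.ncard = 0 ∨ {a | D x (ι a * r)}.ncard = 36 := by
  by_cases hr : D x r
  · right
    have : {a | D x (ι a * r)} = ((Finset.univ.filter fun a : Perm (Fin 6) => a * θ a = 1 : Finset _) : Set _) := by
      ext a
      simp only [Set.mem_ofPred_eq, Finset.coe_filter, Finset.mem_univ, true_and]
      exact ⟨out_mem h, fun e => (out_iff h e).2 hr⟩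
    rw [this, Set.ncard_coe_finset, outer_card]
  · left
    have : {a | D x (ι a * r)} = ∅ := by
      ext a
      simp only [Set.mem_ofPred_eq, Set.mem_empty_iff_false, iff_false]
      intro hD
      exact hr ((out_iff h (out_mem h hD)).1 hD)
    rw [this, Set.ncard_empty]

theorem out_count' [Finite G] :
    {a | D x (x * (ι a * r))}.ncard = 0 ∨ {a | D x (x * (ι a * r))}.ncard = 36 := by
  have : ∀ a, x * (ι a * r) = ι a * (x * r) := by
    intro a
    rw [← mul_assoc, h.comm, mul_assoc]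
  simp only [this]
  exact out_count h.xr

theorem count [Finite G] (H : Four x ι) : ∃ e, {d : G | IsConj x d ∧ d * x = x * d}.ncard = 46 + 36 * e := by
  have h1 : {d : G | IsConj x d ∧ d * x = x * d} = ((fun a => x * ι a) '' {a | D x (x * ι a)} ∪
      (fun a => ι a * r) '' {a | D x (ι a * r)}) ∪ (fun a => x * (ι a * r)) '' {a | D x (x * (ι a * r))} := by
    ext d
    simp only [Set.mem_ofPred_eq, Set.mem_union, Set.mem_image]
    have hDd : IsConj x d ↔ D x d := isConj_iff
    rw [hDd]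
    constructor
    · rintro ⟨hD, hd⟩
      obtain ⟨a, rfl | rfl | rfl | rfl⟩ := h.cent d hd
      · exact absurd hD (no_all h H a)
      · exact Or.inl (Or.inl ⟨a, hD, rfl⟩)
      · exact Or.inl (Or.inr ⟨a, hD, rfl⟩)
      · exact Or.inr ⟨a, hD, rfl⟩
    · rintro ((⟨a, hD, rfl⟩ | ⟨a, hD, rfl⟩) | ⟨a, hD, rfl⟩)
      · exact ⟨hD, h.mem_cent _ ⟨a, Or.inr (Or.inl rfl)⟩⟩
      · exact ⟨hD, h.mem_cent _ ⟨a, Or.inr (Or.inr (Or.inl rfl))⟩⟩
      · exact ⟨hD, h.mem_cent _ ⟨a, Or.inr (Or.inr (Or.inr rfl))⟩⟩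
  rw [h1, Set.ncard_union_eq, Set.ncard_union_eq, Set.ncard_image_of_injective, Set.ncard_image_of_injective,
    Set.ncard_image_of_injective, inn_count h H]
  · rcases out_count h with e | e <;> rcases out_count' h with e' | e' <;> rw [e, e']
    · exact ⟨0, rfl⟩
    · exact ⟨1, rfl⟩
    · exact ⟨1, rfl⟩
    · exact ⟨2, rfl⟩
  · exact fun a b e => h.inj (mul_right_cancel (mul_left_cancel e))
  · exact fun a b e => h.inj (mul_right_cancel e)
  · exact fun a b e => h.xι_inj e
  · rw [Set.disjoint_left]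
    rintro _ ⟨a, -, rfl⟩ ⟨b, -, e⟩
    apply h.ne_xr a b
    have e : ι b * r = x * ι a := e
    rw [e, ← mul_assoc, h.xx, one_mul]
  · rw [Set.disjoint_left]
    rintro _ (⟨a, -, rfl⟩ | ⟨a, -, rfl⟩) ⟨b, -, e⟩
    · exact h.ne_r a b (mul_left_cancel e).symm
    · have e : x * (ι b * r) = ι a * r := e
      rw [← mul_assoc] at e
      exact h.ne_x a b (mul_right_cancel e).symm

/-- **`x^G ∩ E₁ = x V₁` is impossible** -/
theorem false_of [Finite G] (H : Four x ι) (hG : ∀ (m : G →* ℤˣ) (g : G), m g = 1)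
    (hZ : ∀ S : Sylow 2 G, Nat.card (center S) ≤ 2) : False := by
  obtain ⟨F, hF, hc⟩ := exF h H
  have hcard := card_H h H hF hc
  obtain ⟨k, hk⟩ := Cfsg.Agent.OddHalf.D6.Six.Parity.four_dvd hG h.xx
  obtain ⟨e, he⟩ := count h H
  have hcG := Cfsg.Agent.OddHalf.D6.Six.Parity.card_conj x
  rw [hk, he, card_C h] at hcG
  have hzz : (NE x ι ⊓ centralizer {ι pz} ⊓ centralizer {F} : Subgroup G) ≤ centralizer {ι pz} :=
    inf_le_left.trans inf_le_right
  have hFF : (NE x ι ⊓ centralizer {ι pz} ⊓ centralizer {F} : Subgroup G) ≤ centralizer {F} := inf_le_right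
  have hzF : ι pz * F = F * ι pz := by
    rcases hF with rfl | rfl
    · exact zf h
    · rw [← mul_assoc, h.comm', mul_assoc, zf h, mul_assoc]
  have hzH : ι pz ∈ (NE x ι ⊓ centralizer {ι pz} ⊓ centralizer {F} : Subgroup G) := by
    refine ⟨⟨ι_NE h (V_f _ V_z), mem_centralizer_singleton_iff.2 rfl⟩, mem_centralizer_singleton_iff.2 hzF⟩
  have hFH : F ∈ (NE x ι ⊓ centralizer {ι pz} ⊓ centralizer {F} : Subgroup G) := by
    refine ⟨⟨?_, mem_centralizer_singleton_iff.2 hzF.symm⟩, mem_centralizer_singleton_iff.2 rfl⟩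
    rcases hF with rfl | rfl
    · exact ι_NE h rfl
    · exact mul_mem (x_NE h) (ι_NE h rfl)
  generalize (NE x ι ⊓ centralizer {ι pz} ⊓ centralizer {F} : Subgroup G) = K at *
  obtain ⟨Q, hQ⟩ := (IsPGroup.of_card (p := 2) (n := 7) hcard).exists_le_sylow
  have hQK : K = Q := by
    apply Subgroup.eq_of_le_of_card_ge hQ
    obtain ⟨n, hn⟩ := IsPGroup.iff_card.1 Q.isPGroup'
    have h1 : 2 ^ n ∣ Nat.card G := by rw [← hn]; exact Subgroup.card_subgroup_dvd_card _
    have h2 : Nat.card G = 128 * (45 * (23 + 18 * e + 2 * k)) := by rw [hcG]; ring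
    rw [h2] at h1
    have h3 : Nat.Coprime (2 ^ n) (45 * (23 + 18 * e + 2 * k)) := by
      apply Nat.Coprime.pow_left
      rw [Nat.coprime_two_left, Nat.odd_iff]
      omega
    have h4 := Nat.le_of_dvd (by norm_num) (h3.dvd_of_dvd_mul_right h1)
    rw [hcard]
    show Nat.card (Q : Subgroup G) ≤ 128
    rw [hn]; exact h4
  have h1 := hZ Q
  have hzQ : ι pz ∈ (Q : Subgroup G) := by rw [← hQK]; exact hzH
  have hFQ : F ∈ (Q : Subgroup G) := by rw [← hQK]; exact hFH
  have c1 : (⟨ι pz, hzQ⟩ : (Q : Subgroup G)) ∈ center (Q : Subgroup G) := by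
    rw [mem_center_iff]
    rintro ⟨g, hg⟩
    rw [← hQK] at hg
    exact Subtype.ext (mem_centralizer_singleton_iff.1 (hzz hg))
  have c2 : (⟨F, hFQ⟩ : (Q : Subgroup G)) ∈ center (Q : Subgroup G) := by
    rw [mem_center_iff]
    rintro ⟨g, hg⟩
    rw [← hQK] at hg
    exact Subtype.ext (mem_centralizer_singleton_iff.1 (hFF hg))
  have n1 : ι pz ≠ 1 := by
    rw [Ne, h.one_iff]; decide +kernel
  have n2 : F ≠ 1 := by
    rcases hF with rfl | rfl
    · rw [Ne, h.one_iff]; decide +kernel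
    · intro e
      exact ne_mul h pf 1 (e.trans (map_one _).symm)
  have n3 : ι pz ≠ F := by
    rcases hF with rfl | rfl
    · intro e
      have := h.inj e
      revert this; decide +kernel
    · exact h.ne_x _ _
  classical
  have : Fintype (center (Q : Subgroup G)) := Fintype.ofFinite _
  let s : Finset (center (Q : Subgroup G)) := {1, ⟨_, c1⟩, ⟨_, c2⟩}
  have hs : s.card = 3 := by
    rw [Finset.card_eq_three]
    refine ⟨1, ⟨_, c1⟩, ⟨_, c2⟩, ?_, ?_, ?_, rfl⟩
    · intro e; exact n1 (congrArg (fun t : center (Q : Subgroup G) => ((t : (Q : Subgroup G)) : G)) e).symm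
    · intro e; exact n2 (congrArg (fun t : center (Q : Subgroup G) => ((t : (Q : Subgroup G)) : G)) e).symm
    · intro e; exact n3 (congrArg (fun t : center (Q : Subgroup G) => ((t : (Q : Subgroup G)) : G)) e)
  have h5 := Finset.card_le_univ s
  rw [hs, ← Nat.card_eq_fintype_card] at h5
  have h6 : Nat.card (center (Q : Subgroup G)) ≤ 2 := h1
  omega

end

end Cfsg.Agent.OddHalf.D5.SixAut.ModFour
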