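import Cfsg.Agent.OddHalf.D5.SixAut.FusHS
import Cfsg.Agent.OddHalf.D5.SixAut.ModFour

/-!
# ODD D5, `n = 6`, (C3b), **P2** (helper310)

`p2`: if `x` is conjugate to `x z` but not to `z`, then after a sign twist of `ι` (`f ↦ x f`) `x^G ∩ E₁ = x U₁`, and
(DBL) or (HSx) holds.
-/

set_option autoImplicit false

namespace Cfsg.Agent.OddHalf.D5.SixAut.PTwo

open Subgroup Equiv
open EPerm EOne FusE FusN FusEight PTwoDefs

variable {G : Type*} [Group G] {x r : G} {ι : Perm (Fin 6) →* G}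

theorem eight [Finite G] (h : AutSpl x ι r) (hs : D x (x * ι pz)) (nxz : ∀ g, A g x ≠ ι pz) (hf : ¬ D x (ι pf))
    (hxf : D x (x * ι pf)) : Eight x ι where
  yes := by
    intro a ha
    by_cases hs' : Perm.sign a = 1
    · exact D_even h hs ha hs'
    · exact (D_odd' h ha hs').2 hxf
  no := by
    intro a ha
    by_cases hs' : Perm.sign a = 1
    · exact not_D_even h nxz ha hs'
    · rw [D_odd h ha hs']; exact hf

theorem fus_of (H : Eight x ι) : Fus x ι := fun a ha => ⟨H.yes a ha, H.no a ha⟩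

/-- **P2** -/
theorem p2 [Finite G] (h : AutSpl x ι r) (hG : ∀ (m : G →* ℤˣ) (g : G), m g = 1)
    (hs : ∃ s, s * x * s⁻¹ = x * ι pz) (nxz : ∀ g, g * x * g⁻¹ ≠ ι pz)
    (hZ : ∀ S : Sylow 2 G, Nat.card (center S) ≤ 2) :
    ∃ ι' : Perm (Fin 6) →* G, AutSpl x ι' r ∧ (∀ a, Perm.sign a = 1 → ι' a = ι a) ∧ Fus x ι' ∧
      (DBL x ι' ∨ HSx x ι') := by
  by_cases hf : D x (ι pf)
  · by_cases hxf : D x (x * ι pf)
    · exact (twelve h hs nxz hf hxf).elim
    · have e1 : AutSpl.twist x h.xx ι h.comm pf = x * ι pf := AutSpl.twist_odd _ _ _ _ (by decide +kernel)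
      have e2 : AutSpl.twist x h.xx ι h.comm pz = ι pz := AutSpl.twist_even _ _ _ _ (by decide +kernel)
      have H : Eight x (AutSpl.twist x h.xx ι h.comm) := by
        apply eight (AutSpl.spl_twist h)
        · rw [e2]; exact hs
        · rw [e2]; exact nxz
        · rw [e1]; exact hxf
        · rw [e1, ← mul_assoc, h.xx, one_mul]; exact hf
      exact ⟨_, AutSpl.spl_twist h, fun a ha => AutSpl.twist_even _ _ _ _ ha, fus_of H,
        FusHS.dbl_or_hsx (AutSpl.spl_twist h) H⟩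
  · by_cases hxf : D x (x * ι pf)
    · have H := eight h hs nxz hf hxf
      exact ⟨ι, h, fun _ _ => rfl, fus_of H, FusHS.dbl_or_hsx h H⟩
    · exact (ModFour.false_of h ⟨hs, nxz, hf, hxf⟩ hG hZ).elim

end Cfsg.Agent.OddHalf.D5.SixAut.PTwo
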