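import Cfsg.Agent.OddHalf.D5.SixAut.TT
import Cfsg.Agent.OddHalf.D5.SixAut.PTwo
import Cfsg.Agent.OddHalf.D5.SixAut.DblEnd
import Cfsg.Agent.OddHalf.D5.SixAut.ZeroEnd
import Cfsg.Agent.OddHalf.D5.SixAut.HsxSym
import Cfsg.Agent.OddHalf.D5.SixAut.HsxD

/-!
# ODD D5, `n = 6`, `C_G(x)/⟨x⟩ = Aut(A_6)` split: the elementary abelian normal subgroups of `C(z)` (helper383)

`spl`: in the case `AutSpl` every elementary abelian normal subgroup of `C(z)` is `≤ ⟨z⟩`: P2 (helper310), (DBL)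
(helper314, helper668), (HSx) (helper419, helper383).
-/

set_option autoImplicit false

namespace Cfsg.Agent.OddHalf.D5.SixAut.C3b

open Subgroup Equiv Cfsg
open DblNorm PTwoDefs

variable {G : Type*} [Group G] {x r : G} {ι : Perm (Fin 6) →* G}

theorem pc_pc : pc * (pc * pz * pc⁻¹) * pc⁻¹ = pv1 := by decide +kernel

/-- in (DBL) some `w ∈ C(z)` maps `x` to `x v₁` -/
theorem exists_v1 (h : AutSpl x ι r) (hz : ∃ g, Mv x ι g pz) :
    ∃ w, w * ι pz = ι pz * w ∧ w * x * w⁻¹ = x * ι pv1 := by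
  obtain ⟨g, m⟩ := hz
  have m1 := mv_c h (mv_c h m)
  rw [pc_pc] at m1
  exact ⟨_, m1.z, m1.x⟩

/-- (DBL) -/
theorem dbl [Finite G] [IsSimpleGroup G] (hna : ¬ ∀ a b : G, a * b = b * a) (h : AutSpl x ι r) (hd : DBL x ι)
    (nxz : ∀ g, g * x * g⁻¹ ≠ ι pz) (pT : IsPGroup 2 (TT x (ι pz)))
    (syl : ∀ P : Subgroup G, IsPGroup 2 P → (∀ y ∈ P, y * x = x * y) →
      ∃ g, g * x = x * g ∧ ∀ y ∈ P, g * y * g⁻¹ ∈ TT x (ι pz))
    (hm : ∀ (m : centralizer ({ι pz} : Set G) →* ℤˣ) (hx : x ∈ centralizer ({ι pz} : Set G)), m ⟨x, hx⟩ = 1)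
    (A : Subgroup (centralizer ({ι pz} : Set G))) (hA : A.Normal) (hel : ∀ a ∈ A, a * a = 1) :
    ∀ a ∈ A, (a : G) = 1 ∨ (a : G) = ι pz := by
  intro a ha
  by_contra hc
  push Not at hc
  obtain ⟨g1, f1, z1, v1, x1⟩ := hd.hz
  obtain ⟨g2, f2, z2, v2, x2⟩ := hd.hf
  have hz : ∃ g, Mv x ι g pz := ⟨g1, f1, z1, v1, x1⟩
  have hf : ∃ g, Mv x ι g pf := ⟨g2, f2, z2, v2, x2⟩
  have el : ∀ w ∈ A.map (centralizer ({ι pz} : Set G)).subtype, w * w = 1 := by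
    rintro _ ⟨w, hw, rfl⟩
    exact congrArg Subtype.val (hel w hw)
  have nz : ∀ g, g * ι pz = ι pz * g → ∀ w ∈ A.map (centralizer ({ι pz} : Set G)).subtype,
      g * w * g⁻¹ ∈ A.map (centralizer ({ι pz} : Set G)).subtype := by
    rintro g hg _ ⟨w, hw, rfl⟩
    exact ⟨⟨g, mem_centralizer_singleton_iff.2 hg⟩ * w * ⟨g, mem_centralizer_singleton_iff.2 hg⟩⁻¹,
      hA.conj_mem w hw _, rfl⟩
  have hWz : ∀ w ∈ A.map (centralizer ({ι pz} : Set G)).subtype, w * ι pz = ι pz * w := by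
    rintro _ ⟨w, hw, rfl⟩
    exact mem_centralizer_singleton_iff.1 w.2
  obtain ⟨h1, h2, h3⟩ := exists_WN_dbl h ⟨g2, f2, z2, x2⟩ (exists_v1 h hz) hm _ el hWz nz
    ⟨a, ⟨a, ha, rfl⟩, hc.1, hc.2⟩
  refine dbl_false_WN h hz hf (TT x (ι pz)) (fun g => mem_TT) pT syl (fun s b w D => dblZero_false hna D) ?_ _
    ⟨el, nz, h1, h2, h3⟩
  intro g e
  apply nxz g⁻¹
  rw [← e]; group

/-- **the split case** -/
theorem spl [Finite G] [IsSimpleGroup G] (hna : ¬ ∀ a b : G, a * b = b * a) (h : AutSpl x ι r)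
    (hG : ∀ (m : G →* ℤˣ) (g : G), m g = 1) (hs : ∃ s, s * x * s⁻¹ = x * ι pz) (nxz : ∀ g, g * x * g⁻¹ ≠ ι pz)
    (hZ : ∀ S : Sylow 2 G, Nat.card (center S) ≤ 2)
    (bal : ∀ t : G, orderOf t = 2 → centralizerPPrimeCore 2 t = ⊥) (pT : IsPGroup 2 (TT x (ι pz)))
    (syl : ∀ P : Subgroup G, IsPGroup 2 P → (∀ y ∈ P, y * x = x * y) →
      ∃ g, g * x = x * g ∧ ∀ y ∈ P, g * y * g⁻¹ ∈ TT x (ι pz))
    {z : G} (hz : z = ι pz)
    (hm : ∀ (m : centralizer ({z} : Set G) →* ℤˣ) (hx : x ∈ centralizer ({z} : Set G)), m ⟨x, hx⟩ = 1)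
    (A : Subgroup (centralizer ({z} : Set G))) (hA : A.Normal) (hel : ∀ a ∈ A, a * a = 1) :
    ∀ a ∈ A, (a : G) = 1 ∨ (a : G) = z := by
  obtain ⟨ι', h', he, -, hd⟩ := PTwo.p2 h hG hs nxz hZ
  have e : ι' pz = ι pz := he pz (by decide +kernel)
  rw [← e] at hz nxz pT syl
  subst hz
  rcases hd with hd | hd
  · exact dbl hna h' hd nxz pT syl hm A hA hel
  · refine HsxSym.sym h' hd (bal _ ?_) hm A hA hel
    refine orderOf_eq_prime ?_ ?_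
    · rw [pow_two, ← map_mul, show pf * pf = 1 by decide +kernel, map_one]
    · exact fun e => absurd (h'.one_iff.1 e) (by decide +kernel)

end Cfsg.Agent.OddHalf.D5.SixAut.C3b
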