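import Cfsg.Agent.OddHalf.D5.SixAut.EOne

/-!
# ODD D5, `n = 6`, (C3b), P2: the action of `N(E₁)` on `E₁` (helper310)

`A g e = g e g⁻¹`. `uniq`: an element of `G` is determined on `E₁` by the images of `x`, `z`, `v₁`.
`lemC`: if `c` moves `x` to `x z` and centralises `z`, `v₁` then `f^c ∈ {f, f z}`.
-/

set_option autoImplicit false
set_option linter.unusedSectionVars false

namespace Cfsg.Agent.OddHalf.D5.SixAut.FusE

open Subgroup Equiv
open EPerm EPerm2 EOne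

variable {G : Type*} [Group G] {x r : G} {ι : Perm (Fin 6) →* G}

/-- conjugation -/
abbrev A (g : G) : G →* G := (MulAut.conj g).toMonoidHom

theorem A_def (g e : G) : A g e = g * e * g⁻¹ := rfl

theorem A_mul (g k e : G) : A (g * k) e = A g (A k e) := by
  rw [A_def, A_def, A_def]; group

theorem A_inv (g e : G) : A g⁻¹ (A g e) = e := by
  rw [A_def, A_def]; group

theorem A_inv' (g e : G) : A g (A g⁻¹ e) = e := by
  rw [A_def, A_def]; group

theorem A_inj (g : G) {e e' : G} (h : A g e = A g e') : e = e' := by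
  rw [← A_inv g e, h, A_inv]

theorem A_inv_eq {g e e' : G} (h : A g e = e') : A g⁻¹ e' = e := by rw [← h, A_inv]

theorem A_eq_inv {g e e' : G} (h : A g⁻¹ e = e') : A g e' = e := by rw [← h, A_inv']

theorem A_eq_iff {g e : G} : A g e = e ↔ g * e = e * g := by
  rw [A_def, mul_inv_eq_iff_eq_mul]

theorem A_conj (k g e : G) : A (k * g * k⁻¹) e = A k (A g (A k⁻¹ e)) := by
  rw [A_mul, A_mul]

theorem A_ι (a b : Perm (Fin 6)) : A (ι a) (ι b) = ι (a * b * a⁻¹) := by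
  rw [A_def, ← map_inv, ← map_mul, ← map_mul]

theorem A_ι_inv (a b : Perm (Fin 6)) : A (ι a)⁻¹ (ι b) = ι (a⁻¹ * b * a) := by
  rw [← map_inv, A_ι, inv_inv]

/-- the normalizer of `E₁` -/
abbrev NE (x : G) (ι : Perm (Fin 6) →* G) : Subgroup G := Subgroup.normalizer (E1 x ι : Set G)

theorem A_mem {n e : G} (hn : n ∈ NE x ι) (he : e ∈ E1 x ι) : A n e ∈ E1 x ι :=
  (Subgroup.mem_normalizer_iff.1 hn e).1 he

theorem mem_NE [Finite G] {n : G} (h : ∀ e ∈ E1 x ι, n * e * n⁻¹ ∈ E1 x ι) : n ∈ NE x ι := by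
  have hinj : Function.Injective (fun e : E1 x ι => (⟨_, h e e.2⟩ : E1 x ι)) := by
    intro a b hab
    have := congrArg Subtype.val hab
    exact Subtype.ext (mul_left_cancel (mul_right_cancel this))
  have hsur := Finite.surjective_of_injective hinj
  rw [Subgroup.mem_normalizer_iff]
  intro e
  refine ⟨h e, fun he => ?_⟩
  obtain ⟨⟨k, hk⟩, hk2⟩ := hsur ⟨_, he⟩
  have h3 : n * k * n⁻¹ = n * e * n⁻¹ := congrArg Subtype.val hk2
  rw [← mul_left_cancel (mul_right_cancel h3)]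
  exact hk

section

variable (h : AutSpl x ι r)
include h

theorem A_ι_x (a : Perm (Fin 6)) : A (ι a) x = x := A_eq_iff.2 (h.comm' a)

theorem A_x_ι (a : Perm (Fin 6)) : A x (ι a) = ι a := A_eq_iff.2 (h.comm a)

theorem A_ι_x_inv (a : Perm (Fin 6)) : A (ι a)⁻¹ x = x := A_inv_eq (A_ι_x h a)

theorem zE : ι pz ∈ E1 x ι := AutSpl'.mem h V_z
theorem vE : ι pv1 ∈ E1 x ι := AutSpl'.mem h V_v1
theorem fE : ι pf ∈ E1 x ι := AutSpl'.mem h V_pf

/-- **uniqueness** -/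
theorem uniq {c c' : G} (hx : A c x = A c' x) (hz : A c (ι pz) = A c' (ι pz)) (hv : A c (ι pv1) = A c' (ι pv1))
    {e : G} (he : e ∈ E1 x ι) : A c e = A c' e := by
  have key : ∀ {k : G}, A c k = A c' k → A (c⁻¹ * c') k = k := fun {k} hk => by rw [A_mul, ← hk, A_inv]
  have h1 : c⁻¹ * c' ∈ E1 x ι := ⟨A_eq_iff.1 (key hx), A_eq_iff.1 (key hz), A_eq_iff.1 (key hv)⟩
  have h2 : A (c⁻¹ * c') e = e := A_eq_iff.2 (AutSpl'.comm h h1 he)
  rw [A_mul] at h2
  exact (A_eq_inv h2)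

/-- elements of `N(E₁)` from three images -/
theorem gen_NE [Finite G] {n : G} (h1 : A n x ∈ E1 x ι) (h2 : A n (ι pz) ∈ E1 x ι) (h3 : A n (ι pv1) ∈ E1 x ι) :
    n ∈ NE x ι := by
  have key : ∀ {k e : G}, A n k ∈ E1 x ι → e ∈ E1 x ι → n⁻¹ * e * n * k = k * (n⁻¹ * e * n) := by
    intro k e hk he
    have h4 : e * (n * k * n⁻¹) = n * k * n⁻¹ * e := AutSpl'.comm h he hk
    calc n⁻¹ * e * n * k = n⁻¹ * (e * (n * k * n⁻¹)) * n := by group
      _ = n⁻¹ * (n * k * n⁻¹ * e) * n := by rw [h4]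
      _ = k * (n⁻¹ * e * n) := by group
  have h5 : n⁻¹ ∈ NE x ι := by
    apply mem_NE
    intro e he
    rw [inv_inv]
    exact ⟨key h1 he, key h2 he, key h3 he⟩
  have := inv_mem h5
  rwa [inv_inv] at this

theorem ι_NE [Finite G] {a : Perm (Fin 6)} (ha : a * pf = pf * a) : ι a ∈ NE x ι := by
  obtain ⟨h1, h2⟩ := cent_f_V a ha
  apply gen_NE h
  · rw [A_ι_x h]; exact AutSpl'.x_mem h
  · rw [A_ι]; exact AutSpl'.mem h h1
  · rw [A_ι]; exact AutSpl'.mem h h2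

theorem x_NE [Finite G] : x ∈ NE x ι := by
  apply gen_NE h
  · rw [A_eq_iff.2 rfl]; exact AutSpl'.x_mem h
  · rw [A_x_ι h]; exact zE h
  · rw [A_x_ι h]; exact vE h

/-- **`N(E₁) ∩ C(x) = ⟨x⟩ × C_{S₆}(f)`** -/
theorem stab [Finite G] {n : G} (hn : n ∈ NE x ι) (hx : A n x = x) :
    ∃ a, a * pf = pf * a ∧ (n = ι a ∨ n = x * ι a) := by
  have key : ∀ a, InV (a * pz * a⁻¹) → InV (a * pv1 * a⁻¹) → InV (a * pf * a⁻¹) → a * pf = pf * a := nor_V
  have hr : ∀ a e, A (ι a * r) (ι e) = ι (a * θ e * a⁻¹) := by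
    intro a e
    rw [A_mul, A_def r, h.conj, A_ι]
  have hx' : ∀ k e, A (x * k) (ι e) ∈ E1 x ι → A k (ι e) ∈ E1 x ι := by
    intro k e hk
    rw [A_mul] at hk
    have h1 := A_mem (x_NE h) hk
    rw [← A_mul, h.xx, A_def 1, one_mul, inv_one, mul_one] at h1
    exact h1
  obtain ⟨a, e⟩ := h.cent n (A_eq_iff.1 hx)
  have hz := A_mem hn (zE h)
  have hv := A_mem hn (vE h)
  have hf := A_mem hn (fE h)
  rcases e with rfl | rfl | rfl | rfl
  · rw [A_ι, AutSpl'.mem_iff h] at hz hv hf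
    exact ⟨a, key a hz hv hf, Or.inl rfl⟩
  · have hz := hx' _ _ hz
    have hv := hx' _ _ hv
    have hf := hx' _ _ hf
    rw [A_ι, AutSpl'.mem_iff h] at hz hv hf
    exact ⟨a, key a hz hv hf, Or.inr rfl⟩
  · exfalso
    rw [hr, AutSpl'.mem_iff h] at hz hv hf
    rw [θ_z] at hz
    rw [θ_v1] at hv
    rw [θ_f] at hf
    exact no_r2 a hz hv hf
  · exfalso
    have hz := hx' _ _ hz
    have hv := hx' _ _ hv
    have hf := hx' _ _ hf
    rw [hr, AutSpl'.mem_iff h] at hz hv hf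
    rw [θ_z] at hz
    rw [θ_v1] at hv
    rw [θ_f] at hf
    exact no_r2 a hz hv hf

theorem ne_mul (a b : Perm (Fin 6)) : x * ι a ≠ ι b := fun e => h.ne_x b a e.symm

theorem V_small : ∀ a, InV a → a * pv2 = pv2 * a → a = 1 ∨ a = pz ∨ a = pf ∨ a = pf * pz := by
  have key : ∀ a ∈ vL, a * pv2 = pv2 * a → a = 1 ∨ a = pz ∨ a = pf ∨ a = pf * pz := by decide +kernel
  exact fun a ha => key a (mem_vL.2 ha)

/-! #### the actions of `s = ι v₂` and `d = ι c` -/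

theorem s_v : A (ι pv2) (ι pv1) = ι (pz * pv1) := by rw [A_ι, v2_v1]
theorem s_z : A (ι pv2) (ι pz) = ι pz := by rw [A_ι, v2_z, mul_inv_cancel_right]
theorem s_f : A (ι pv2) (ι pf) = ι pf := by rw [A_ι, v2_f, mul_inv_cancel_right]
theorem s_z' : A (ι pv2)⁻¹ (ι pz) = ι pz := A_inv_eq (s_z h)
theorem s_f' : A (ι pv2)⁻¹ (ι pf) = ι pf := A_inv_eq (s_f h)
theorem s_zv : A (ι pv2) (ι (pz * pv1)) = ι pv1 := by
  rw [A_ι]; congr 1; decide +kernel
theorem s_v' : A (ι pv2)⁻¹ (ι pv1) = ι (pz * pv1) := A_inv_eq (s_zv h)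

theorem d_z : A (ι pc) (ι pz) = ι (pz * pv1) := by rw [A_ι, c_z]
theorem d_v : A (ι pc) (ι pv1) = ι pz := by rw [A_ι, c_v1]
theorem d_zv : A (ι pc) (ι (pz * pv1)) = ι pv1 := by
  rw [A_ι]; congr 1; decide +kernel
theorem d_f : A (ι pc) (ι pf) = ι pf := by rw [A_ι, c_f, mul_inv_cancel_right]
theorem d_z' : A (ι pc)⁻¹ (ι pz) = ι pv1 := A_inv_eq (d_v h)
theorem d_v' : A (ι pc)⁻¹ (ι pv1) = ι (pz * pv1) := A_inv_eq (d_zv h)
theorem d_f' : A (ι pc)⁻¹ (ι pf) = ι pf := A_inv_eq (d_f h)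

/-- **Lemma C** -/
theorem lemC {c : G} (hx : A c x = x * ι pz) (hz : A c (ι pz) = ι pz) (hv : A c (ι pv1) = ι pv1) :
    A c (ι pf) = ι pf ∨ A c (ι pf) = ι (pf * pz) := by
  have hzz : ι pz * ι pz = 1 := AutSpl'.sq h (zE h)
  have hzv : A c (ι (pz * pv1)) = ι (pz * pv1) := by rw [map_mul ι, map_mul, hz, hv]
  have hx' : A c (x * ι pz) = x := by rw [map_mul, hx, hz, mul_assoc, hzz, mul_one]
  have hxi : A c⁻¹ x = x * ι pz := A_inv_eq hx'
  have hzi : A c⁻¹ (ι pz) = ι pz := A_inv_eq hz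
  have hvi : A c⁻¹ (ι pv1) = ι pv1 := A_inv_eq hv
  -- `q ∈ E₁`
  have hq : A c (ι pf) ∈ E1 x ι := by
    have key : ∀ {k : G}, A c⁻¹ k ∈ E1 x ι → A c (ι pf) * k = k * A c (ι pf) := by
      intro k hk
      have h1 := AutSpl'.comm h (fE h) hk
      have h2 : A c (ι pf * A c⁻¹ k) = A c (A c⁻¹ k * ι pf) := by rw [h1]
      rw [map_mul, map_mul, A_inv'] at h2
      exact h2
    refine ⟨key ?_, key ?_, key ?_⟩
    · rw [hxi]; exact AutSpl'.mem' h V_z
    · rw [hzi]; exact zE h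
    · rw [hvi]; exact vE h
  obtain ⟨a, ha, hq2⟩ := AutSpl'.form h hq
  -- invariance under `s`
  have hs : A (ι pv2) (A c (ι pf)) = A c (ι pf) := by
    have h1 := uniq h (c := ι pv2 * c * (ι pv2)⁻¹) (c' := c)
      (by rw [A_conj, A_ι_x_inv h, hx, map_mul, A_ι_x h, s_z h])
      (by rw [A_conj, s_z' h, hz, s_z h])
      (by rw [A_conj, s_v' h, hzv, s_zv h, hv]) (fE h)
    rw [A_conj, s_f' h] at h1
    exact h1
  have hsa : a * pv2 = pv2 * a := by
    have h1 : ∀ a, A (ι pv2) (ι a) = ι a → a * pv2 = pv2 * a := by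
      intro a e
      exact (h.comm_ι.1 (A_eq_iff.1 e)).symm
    rcases hq2 with e | e
    · rw [e] at hs
      exact h1 a hs
    · rw [e, map_mul, A_ι_x h] at hs
      exact h1 a (mul_left_cancel hs)
  -- the equation `c c' = c''`
  have hc1 : ∀ w, (w = 1 ∨ w = pz) → A c (ι pf) ≠ x * ι (pf * w) := by
    intro w hw hqw
    have e1 : A (ι pc * c * (ι pc)⁻¹) x = x * ι (pz * pv1) := by
      rw [A_conj, A_ι_x_inv h, hx, map_mul, A_ι_x h, d_z h]
    have e2 : A (ι pc * c * (ι pc)⁻¹) (ι pz) = ι pz := by rw [A_conj, d_z' h, hv, d_v h]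
    have e3 : A (ι pc * c * (ι pc)⁻¹) (ι pv1) = ι pv1 := by rw [A_conj, d_v' h, hzv, d_zv h]
    have e4 : A (ι pc * c * (ι pc)⁻¹) (ι (pz * pv1)) = ι (pz * pv1) := by rw [map_mul ι, map_mul, e2, e3]
    have h1 := uniq h (c := c * (ι pc * c * (ι pc)⁻¹))
      (c' := ι pc * (ι pc * c * (ι pc)⁻¹) * (ι pc)⁻¹)
      (by
        rw [A_mul, e1, map_mul, hx, hzv, A_conj (ι pc) (ι pc * c * (ι pc)⁻¹), A_ι_x_inv h, e1, map_mul (A (ι pc)),
          A_ι_x h, d_zv h, mul_assoc, ← map_mul ι]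
        congr 2
        decide +kernel)
      (by rw [A_mul, e2, hz, A_conj (ι pc) (ι pc * c * (ι pc)⁻¹), d_z' h, e3, d_v h])
      (by rw [A_mul, e3, hv, A_conj (ι pc) (ι pc * c * (ι pc)⁻¹), d_v' h, e4, d_zv h]) (fE h)
    have e5 : A (ι pc * c * (ι pc)⁻¹) (ι pf) = x * (ι pf * A (ι pc) (ι w)) := by
      rw [A_conj, d_f' h, hqw, map_mul, map_mul ι, map_mul, A_ι_x h, d_f h]
    rw [A_mul, e5, A_conj (ι pc) (ι pc * c * (ι pc)⁻¹), d_f' h, e5] at h1
    rw [map_mul (A c), map_mul (A c), hx, hqw, map_mul (A (ι pc)), map_mul (A (ι pc)), A_ι_x h, d_f h, A_ι, A_ι] at h1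
    have hcw : A c (ι (pc * w * pc⁻¹)) = ι (pc * w * pc⁻¹) := by
      rcases hw with rfl | rfl
      · simp
      · rw [c_z, hzv]
    rw [hcw] at h1
    apply h.ne_x (pz * (pf * w) * (pc * w * pc⁻¹)) (pf * (pc * (pc * w * pc⁻¹) * pc⁻¹))
    have h2 : x * ι pz * (x * ι (pf * w) * ι (pc * w * pc⁻¹)) = ι (pz * (pf * w) * (pc * w * pc⁻¹)) := by
      have h3 := h.comm' pz
      calc x * ι pz * (x * ι (pf * w) * ι (pc * w * pc⁻¹)) = x * (ι pz * x) * (ι (pf * w) * ι (pc * w * pc⁻¹)) := by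
            group
        _ = (x * x) * (ι pz * (ι (pf * w) * ι (pc * w * pc⁻¹))) := by rw [h3]; group
        _ = _ := by rw [h.xx, one_mul]; simp only [map_mul, mul_assoc]
    rw [h2] at h1
    rw [h1, map_mul ι pf]
  have hinv : ∀ {k e : G}, A c k = e → A c (ι pf) = e → ι pf = k := by
    intro k e h1 h2
    exact A_inj c (h2.trans h1.symm)
  rcases V_small h a ha hsa with rfl | rfl | rfl | rfl
  · exfalso
    rcases hq2 with e | e
    · rw [map_one] at e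
      have := hinv (k := 1) (map_one _) e
      rw [h.one_iff] at this
      revert this; decide +kernel
    · rw [map_one, mul_one] at e
      have := hinv hx' e
      exact h.ne_x _ _ this
  · exfalso
    rcases hq2 with e | e
    · have := h.inj (hinv hz e)
      revert this; decide +kernel
    · have := hinv hx e
      exact h.ne _ this
  · rcases hq2 with e | e
    · exact Or.inl e
    · exact absurd (by rw [mul_one]; exact e) (hc1 1 (Or.inl rfl))
  · rcases hq2 with e | e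
    · exact Or.inr e
    · exact absurd e (hc1 pz (Or.inr rfl))

end

end Cfsg.Agent.OddHalf.D5.SixAut.FusE
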