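import Cfsg.Agent.OddHalf.D5.SixAut.FusN
import Cfsg.Agent.OddHalf.D5.SixAut.PTwoDefs

/-!
# ODD D5, `n = 6`, (C3b), P2: `x^G ∩ E₁ = x U₁` implies (DBL) or (HSx) (helper310)
-/

set_option autoImplicit false
set_option linter.unusedSectionVars false

namespace Cfsg.Agent.OddHalf.D5.SixAut.FusEight

open Subgroup Equiv
open EPerm EPerm2 EOne FusE FusN PTwoDefs

variable {G : Type*} [Group G] {x r : G} {ι : Perm (Fin 6) →* G}

/-- `x^G ∩ E₁ = x U₁` -/
structure Eight (x : G) (ι : Perm (Fin 6) →* G) : Prop where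
  yes : ∀ a, InV a → D x (x * ι a)
  no : ∀ a, InV a → ¬ D x (ι a)

theorem cent_c : ∀ a, InV a → pc * a * pc⁻¹ = a → a = 1 ∨ a = pf := by
  have key : ∀ a ∈ vL, pc * a * pc⁻¹ = a → a = 1 ∨ a = pf := by decide +kernel
  exact fun a ha => key a (mem_vL.2 ha)

theorem card_cf : (Finset.univ.filter fun a : Perm (Fin 6) => a * pf = pf * a).card = 48 := by decide +kernel

theorem V_cases (a : Perm (Fin 6)) (ha : InV a) : Perm.sign a = 1 ∨
    ∃ w, InV w ∧ Perm.sign w = 1 ∧ a = pf * w := by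
  have key : ∀ a ∈ vL, Perm.sign a = 1 ∨ ∃ w ∈ vL, Perm.sign w = 1 ∧ a = pf * w := by decide +kernel
  rcases key a (mem_vL.2 ha) with h | ⟨w, hw, h1, h2⟩
  · exact Or.inl h
  · exact Or.inr ⟨w, mem_vL.1 hw, h1, h2⟩

section

variable (h : AutSpl x ι r)
include h

theorem zz : ι pz * ι pz = 1 := AutSpl'.sq h (zE h)
theorem ff : ι pf * ι pf = 1 := AutSpl'.sq h (fE h)
theorem zf : ι pz * ι pf = ι pf * ι pz := AutSpl'.comm h (zE h) (fE h)
theorem zv : ι pz * ι pv1 = ι pv1 * ι pz := AutSpl'.comm h (zE h) (vE h)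
theorem vf : ι pv1 * ι pf = ι pf * ι pv1 := AutSpl'.comm h (vE h) (fE h)

/-- `N(E₁)` normalises `U₁` -/
theorem nU [Finite G] (H : Eight x ι) {n : G} (hn : n ∈ NE x ι) {a : Perm (Fin 6)} (ha : InV a) :
    ∃ a', InV a' ∧ A n (ι a) = ι a' := by
  have key : ∀ b, InV b → ∃ b', InV b' ∧ A n (x * ι b) = x * ι b' := by
    intro b hb
    obtain ⟨b', hb', e | e⟩ := AutSpl'.form h (A_mem hn (AutSpl'.mem' h hb))
    · exfalso
      apply H.no b' hb'
      rw [← e, D_A]
      exact H.yes b hb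
    · exact ⟨b', hb', e⟩
  obtain ⟨b, hb, e⟩ := key 1 V_one
  obtain ⟨b', hb', e'⟩ := key a ha
  rw [map_one, mul_one] at e
  refine ⟨b * b', V_mul hb hb', ?_⟩
  have h1 : ι a = x * (x * ι a) := by rw [← mul_assoc, h.xx, one_mul]
  rw [h1, map_mul, e, e', map_mul]
  have h2 := h.comm' b
  calc x * ι b * (x * ι b') = x * (ι b * x) * ι b' := by group
    _ = (x * x) * (ι b * ι b') := by rw [h2]; group
    _ = _ := by rw [h.xx, one_mul]

/-- case (i) : `V₁` is normal -/
theorem dbl [Finite G] (H : Eight x ι) (hV : VInv x ι) : DBL x ι := by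
  obtain ⟨n, hn, hnx⟩ := fus' h (AutSpl'.mem' h V_z) (H.yes _ V_z)
  obtain ⟨c, hc, hcx, hcz, hcv⟩ := adjust h hV hn
  rw [hnx] at hcx
  obtain ⟨m, hm, hmx⟩ := fus' h (AutSpl'.mem' h V_pf) (H.yes _ V_pf)
  obtain ⟨t, ht, htx, htz, htv⟩ := adjust h hV hm
  rw [hmx] at htx
  have htf : A t (ι pf) = ι pf := by
    obtain ⟨a', ha', e⟩ := nU h H ht V_pf
    have hzv : A t (ι (pz * pv1)) = ι (pz * pv1) := by rw [map_mul ι, map_mul, htz, htv]
    have h1 := uniq h (c := ι pc * t * (ι pc)⁻¹) (c' := t)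
      (by rw [A_conj, A_ι_x_inv h, htx, map_mul (A (ι pc)), A_ι_x h, d_f h])
      (by rw [A_conj, d_z' h, htv, d_v h, htz])
      (by rw [A_conj, d_v' h, hzv, d_zv h, htv]) (fE h)
    rw [A_conj, d_f' h, e, A_ι] at h1
    rcases cent_c a' ha' (h.inj h1) with rfl | rfl
    · exfalso
      rw [map_one] at e
      have := A_inj t (e.trans (map_one _).symm)
      rw [h.one_iff] at this
      revert this; decide +kernel
    · exact e
  have hcf : A c (ι pf) = ι pf := by
    rcases lemC h hcx hcz hcv with e | e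
    · exact e
    · exfalso
      rw [map_mul ι] at e
      -- `k = c t c⁻¹ t⁻¹`
      have t1 : A t⁻¹ x = x * ι pf := A_inv_eq (by rw [map_mul, htx, htf, mul_assoc, ff h, mul_one])
      have t2 : A t⁻¹ (ι pz) = ι pz := A_inv_eq htz
      have t3 : A t⁻¹ (ι pv1) = ι pv1 := A_inv_eq htv
      have t4 : A t⁻¹ (ι pf) = ι pf := A_inv_eq htf
      have c1 : A c⁻¹ (x * ι pf) = x * ι pf := A_inv_eq (by
        rw [map_mul, hcx, e]
        calc x * ι pz * (ι pf * ι pz) = x * (ι pz * ι pf) * ι pz := by group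
          _ = x * ι pf * (ι pz * ι pz) := by rw [zf h]; group
          _ = x * ι pf := by rw [zz h, mul_one])
      have c2 : A c⁻¹ (ι pz) = ι pz := A_inv_eq hcz
      have c3 : A c⁻¹ (ι pv1) = ι pv1 := A_inv_eq hcv
      have c4 : A c⁻¹ (ι pf) = ι pf * ι pz := A_inv_eq (by
        rw [map_mul, hcz, e, mul_assoc, zz h, mul_one])
      have k1 : A (c * t * c⁻¹ * t⁻¹) x = x * ι pz := by
        rw [A_mul, A_mul, A_mul, t1, c1, map_mul, htx, htf, mul_assoc, ff h, mul_one, hcx]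
      have k2 : A (c * t * c⁻¹ * t⁻¹) (ι pz) = ι pz := by
        rw [A_mul, A_mul, A_mul, t2, c2, htz, hcz]
      have k3 : A (c * t * c⁻¹ * t⁻¹) (ι pv1) = ι pv1 := by
        rw [A_mul, A_mul, A_mul, t3, c3, htv, hcv]
      have k4 : A (c * t * c⁻¹ * t⁻¹) (ι pf) = ι pf := by
        rw [A_mul, A_mul, A_mul, t4, c4, map_mul, htf, htz, map_mul, e, hcz, mul_assoc, zz h, mul_one]
      have h1 := uniq h (hcx.trans k1.symm) (hcz.trans k2.symm) (hcv.trans k3.symm) (fE h)
      rw [e, k4] at h1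
      have := mul_eq_left.1 h1
      rw [h.one_iff] at this
      revert this; decide +kernel
  exact ⟨⟨c, A_eq_iff.1 hcf, A_eq_iff.1 hcz, A_eq_iff.1 hcv, hcx⟩,
    ⟨t, A_eq_iff.1 htf, A_eq_iff.1 htz, A_eq_iff.1 htv, htx⟩⟩

/-! ### the order of `N(E₁)` -/

theorem card_stab [Finite G] : Nat.card ((NE x ι ⊓ centralizer {x} : Subgroup G)) = 96 := by
  have e : Bool × {a : Perm (Fin 6) // a * pf = pf * a} ≃ (NE x ι ⊓ centralizer {x} : Subgroup G) := Equiv.ofBijective
    (fun p => ⟨(if p.1 then x else 1) * ι p.2.1, by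
      refine mul_mem ?_ ⟨ι_NE h p.2.2, ?_⟩
      · split_ifs
        · exact ⟨x_NE h, mem_centralizer_singleton_iff.2 rfl⟩
        · exact one_mem _
      · exact mem_centralizer_singleton_iff.2 (h.comm' _)⟩) (by
    constructor
    · rintro ⟨b, p, hp⟩ ⟨c, q, hq⟩ e
      have h1 : (if b then x else 1) * ι p = (if c then x else 1) * ι q := congrArg Subtype.val e
      cases b <;> cases c
      · simp only [Bool.false_eq_true, if_false, one_mul] at h1
        have := h.inj h1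
        subst this; rfl
      · simp only [Bool.false_eq_true, if_false, one_mul, if_true] at h1
        exact absurd h1 (h.ne_x p q)
      · simp only [Bool.false_eq_true, if_false, one_mul, if_true] at h1
        exact absurd h1.symm (h.ne_x q p)
      · simp only [if_true] at h1
        have := h.xι_inj h1
        subst this; rfl
    · rintro ⟨g, hg⟩
      obtain ⟨a, ha, hp | hp⟩ := stab h hg.1 (A_eq_iff.2 (mem_centralizer_singleton_iff.1 hg.2))
      · exact ⟨(false, ⟨a, ha⟩), Subtype.ext (by simp [hp])⟩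
      · exact ⟨(true, ⟨a, ha⟩), Subtype.ext (by simp [hp])⟩)
  rw [← Nat.card_congr e, Nat.card_prod]
  have h2 : Nat.card {a : Perm (Fin 6) // a * pf = pf * a} = 48 := by
    rw [Nat.card_eq_fintype_card, Fintype.card_subtype, card_cf]
  rw [h2]
  simp

/-- the number of images of `V` under an injective map -/
theorem ncard_img {φ : Perm (Fin 6) → G} (hφ : Function.Injective φ) : {d : G | ∃ a, InV a ∧ φ a = d}.ncard = 8 := by
  have : {d : G | ∃ a, InV a ∧ φ a = d} = φ '' ((Finset.univ.filter fun a => InV a : Finset (Perm (Fin 6))) : Set _) := by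
    ext d
    simp [Set.mem_image]
  rw [this, Set.ncard_image_of_injective _ hφ, Set.ncard_coe_finset, V_card]

theorem card_NE [Finite G] (H : Eight x ι) : Nat.card (NE x ι) = 768 := by
  have h1 := Cfsg.Agent.OddHalf.D6.Six.Parity.card_orbit x (NE x ι)
  rw [card_stab h] at h1
  have h2 : {d : G | ∃ k ∈ NE x ι, k * x * k⁻¹ = d} = {d : G | ∃ a, InV a ∧ x * ι a = d} := by
    ext d
    constructor
    · rintro ⟨k, hk, rfl⟩
      obtain ⟨a, ha, e | e⟩ := AutSpl'.form h (A_mem hk (AutSpl'.x_mem h))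
      · exact absurd ⟨k, e⟩ (H.no a ha)
      · exact ⟨a, ha, e.symm⟩
    · rintro ⟨a, ha, rfl⟩
      exact fus' h (AutSpl'.mem' h ha) (H.yes a ha)
  rw [h2, ncard_img h (φ := fun a => x * ι a) (fun a b e => h.xι_inj e)] at h1
  exact h1

/-- case (ii) : `f` is fixed by `N(E₁)` -/
theorem fix_f [Finite G] (H : Eight x ι) (hV : ¬ VInv x ι) : ∀ n ∈ NE x ι, A n (ι pf) = ι pf := by
  -- the orbit of `z`
  let O : G → Prop := fun e => ∃ n ∈ NE x ι, A n (ι pz) = e
  have hO : ∀ n ∈ NE x ι, ∀ e, O (A n e) ↔ O e := by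
    intro n hn e
    constructor
    · rintro ⟨m, hm, hme⟩
      exact ⟨n⁻¹ * m, mul_mem (inv_mem hn) hm, by rw [A_mul, hme, A_inv]⟩
    · rintro ⟨m, hm, hme⟩
      exact ⟨n * m, mul_mem hn hm, by rw [A_mul, hme]⟩
  have hOz : O (ι pz) := ⟨1, one_mem _, by rw [A_def, one_mul, inv_one, mul_one]⟩
  have hOe : ∀ a, InV a → Perm.sign a = 1 → a ≠ 1 → O (ι a) := by
    intro a ha hs h1
    obtain ⟨s, hs1, hs2⟩ := even_conj a ha hs h1
    exact ⟨ι s, ι_NE h hs1, by rw [A_ι, hs2]⟩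
  have hO1 : ∀ n ∈ NE x ι, ∀ a, InV a → a ≠ 1 → ∃ a', InV a' ∧ a' ≠ 1 ∧ A n (ι a) = ι a' := by
    intro n hn a ha h1
    obtain ⟨a', ha', e⟩ := nU h H hn ha
    refine ⟨a', ha', ?_, e⟩
    rintro rfl
    rw [map_one] at e
    exact h1 (h.one_iff.1 (A_inj n (e.trans (map_one _).symm)))
  have hOo : O (ι (pf * pz)) → ∀ a, InV a → Perm.sign a ≠ 1 → a ≠ pf → O (ι a) := by
    rintro ⟨n, hn, hne⟩ a ha hs h1
    obtain ⟨s, hs1, hs2⟩ := odd_conj a ha hs h1
    exact ⟨ι s * n, mul_mem (ι_NE h hs1) hn, by rw [A_mul, hne, A_ι, hs2]⟩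
  have hOo' : ∀ a, InV a → Perm.sign a ≠ 1 → a ≠ pf → O (ι a) → O (ι (pf * pz)) := by
    rintro a ha hs h1 ⟨n, hn, hne⟩
    obtain ⟨s, hs1, hs2⟩ := odd_conj a ha hs h1
    exact ⟨(ι s)⁻¹ * n, mul_mem (inv_mem (ι_NE h hs1)) hn, by rw [A_mul, hne, A_ι_inv, ← hs2]; group⟩
  -- some odd element is in `O`
  have hodd : ∃ a, InV a ∧ Perm.sign a ≠ 1 ∧ O (ι a) := by
    by_contra hc
    push Not at hc
    apply hV
    intro n hn w hw hs
    by_cases h1 : w = 1
    · exact ⟨1, V_one, by decide +kernel, by rw [h1, map_one, map_one]⟩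
    · obtain ⟨a', ha', -, e⟩ := hO1 n hn w hw h1
      refine ⟨a', ha', ?_, e⟩
      by_contra hs'
      apply hc a' ha' hs'
      rw [← e, hO n hn]
      exact hOe w hw hs h1
  -- `f ∉ O`
  have hf : ¬ O (ι pf) := by
    intro hf
    by_cases hfz : O (ι (pf * pz))
    · -- everything
      have hall : ∀ a, InV a → a ≠ 1 → O (ι a) := by
        intro a ha h1
        by_cases hs : Perm.sign a = 1
        · exact hOe a ha hs h1
        · by_cases h2 : a = pf
          · rw [h2]; exact hf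
          · exact hOo hfz a ha hs h2
      have h1 := Cfsg.Agent.OddHalf.D6.Six.Parity.card_orbit (ι pz) (NE x ι)
      have h2 : {d : G | ∃ k ∈ NE x ι, k * ι pz * k⁻¹ = d} = {d : G | ∃ a, InV a ∧ ι a = d} \ {1} := by
        ext d
        constructor
        · rintro ⟨k, hk, rfl⟩
          obtain ⟨a', ha', h3, e⟩ := hO1 k hk pz V_z (by decide +kernel)
          refine ⟨⟨a', ha', e.symm⟩, ?_⟩
          show ¬ (A k (ι pz) = 1)
          rw [e, h.one_iff]; exact h3
        · rintro ⟨⟨a, ha, rfl⟩, h3⟩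
          exact hall a ha (fun h4 => h3 (by rw [h4, map_one]; rfl))
      have h3 : ({d : G | ∃ a, InV a ∧ ι a = d} \ {1}).ncard = 7 := by
        rw [Set.ncard_sdiff_singleton_of_mem (show (1 : G) ∈ {d : G | ∃ a, InV a ∧ ι a = d} from ⟨1, V_one, map_one ι⟩),
          ncard_img h h.inj]
      rw [h2, h3, card_NE h H] at h1
      omega
    · -- `{f z, f v₁, f z v₁}` is invariant
      have hstab : ∀ n ∈ NE x ι, ∀ a, InV a → Perm.sign a ≠ 1 → a ≠ pf →
          ∃ a', InV a' ∧ Perm.sign a' ≠ 1 ∧ a' ≠ pf ∧ A n (ι a) = ι a' := by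
        intro n hn a ha hs h1
        have hne1 : a ≠ 1 := by rintro rfl; exact hs (by decide +kernel)
        obtain ⟨a', ha', h2, e⟩ := hO1 n hn a ha hne1
        have h3 : ¬ O (ι a') := by
          rw [← e, hO n hn]
          exact fun h4 => hfz (hOo' a ha hs h1 h4)
        refine ⟨a', ha', fun h4 => h3 (hOe a' ha' h4 h2), ?_, e⟩
        rintro rfl
        exact h3 hf
      have hfix : ∀ n ∈ NE x ι, A n (ι pf) = ι pf := by
        intro n hn
        obtain ⟨a₁, i1, s1, m1, e1⟩ := hstab n hn (pf * pz) (V_mul V_pf V_z) (by decide +kernel) (by decide +kernel)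
        obtain ⟨a₂, i2, s2, m2, e2⟩ := hstab n hn (pf * pv1) (V_mul V_pf V_v1) (by decide +kernel) (by decide +kernel)
        obtain ⟨a₃, i3, s3, m3, e3⟩ := hstab n hn (pf * (pz * pv1)) (V_mul V_pf (V_mul V_z V_v1)) (by decide +kernel)
          (by decide +kernel)
        have n12 : a₁ ≠ a₂ := by
          rintro rfl
          have := h.inj (A_inj n (e1.trans e2.symm))
          revert this; decide +kernel
        have n13 : a₁ ≠ a₃ := by
          rintro rfl
          have := h.inj (A_inj n (e1.trans e3.symm))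
          revert this; decide +kernel
        have n23 : a₂ ≠ a₃ := by
          rintro rfl
          have := h.inj (A_inj n (e2.trans e3.symm))
          revert this; decide +kernel
        have key : ∀ a₁ ∈ vL, Perm.sign a₁ ≠ 1 → a₁ ≠ pf → ∀ a₂ ∈ vL, Perm.sign a₂ ≠ 1 → a₂ ≠ pf → a₁ ≠ a₂ →
            ∀ a₃ ∈ vL, Perm.sign a₃ ≠ 1 → a₃ ≠ pf → a₁ ≠ a₃ → a₂ ≠ a₃ → a₁ * a₂ * a₃ = pf := by decide +kernel
        have h5 := key a₁ (mem_vL.2 i1) s1 m1 a₂ (mem_vL.2 i2) s2 m2 n12 a₃ (mem_vL.2 i3) s3 m3 n13 n23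
        have h6 : pf = pf * pz * (pf * pv1) * (pf * (pz * pv1)) := by decide +kernel
        calc A n (ι pf) = A n (ι (pf * pz)) * A n (ι (pf * pv1)) * A n (ι (pf * (pz * pv1))) := by
              rw [← map_mul, ← map_mul, ← map_mul, ← map_mul, ← h6]
          _ = ι pf := by rw [e1, e2, e3, ← map_mul, ← map_mul, h5]
      obtain ⟨n, hn, hne⟩ := hf
      have h7 := hfix n⁻¹ (inv_mem hn)
      rw [A_inv_eq hne] at h7
      have := h.inj h7
      revert this; decide +kernel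
  have hfz : O (ι (pf * pz)) := by
    obtain ⟨a, ha, hs, hOa⟩ := hodd
    refine hOo' a ha hs ?_ hOa
    rintro rfl
    exact hf hOa
  intro n hn
  obtain ⟨a', ha', h1, e⟩ := hO1 n hn pf V_pf (by decide +kernel)
  by_cases h2 : a' = pf
  · rw [e, h2]
  · exfalso
    apply hf
    rw [← hO n hn, e]
    by_cases hs : Perm.sign a' = 1
    · exact hOe a' ha' hs h1
    · exact hOo hfz a' ha' hs h2

end

end Cfsg.Agent.OddHalf.D5.SixAut.FusEight
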