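import Cfsg.Agent.OddHalf.D5.SixAut.FusEight

/-!
# ODD D5, `n = 6`, (C3b), P2: case (ii) of `n = 8`: (HSx) (helper310)
-/

set_option autoImplicit false
set_option linter.unusedSectionVars false

namespace Cfsg.Agent.OddHalf.D5.SixAut.FusHS

open Subgroup Equiv
open EPerm EPerm2 EOne FusE FusN PTwoDefs FusEight

variable {G : Type*} [Group G] {x r : G} {ι : Perm (Fin 6) →* G}

/-- trivial on `U₁/⟨f⟩` -/
def TF (ι : Perm (Fin 6) →* G) (n : G) : Prop :=
  ∀ w, InV w → Perm.sign w = 1 → A n (ι w) = ι w ∨ A n (ι w) = ι w * ι pf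

section

variable (h : AutSpl x ι r)
include h

theorem TF_of {n : G} (h1 : A n (ι pz) = ι pz ∨ A n (ι pz) = ι pz * ι pf)
    (h2 : A n (ι pv1) = ι pv1 ∨ A n (ι pv1) = ι pv1 * ι pf) : TF ι n := by
  intro w hw hs
  rcases V_even w hw hs with rfl | rfl | rfl | rfl
  · left; rw [map_one, map_one]
  · exact h1
  · exact h2
  · rw [map_mul ι, map_mul]
    rcases h1 with e | e <;> rcases h2 with e' | e' <;> rw [e, e']
    · left; rfl
    · right; rw [mul_assoc]
    · right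
      rw [mul_assoc, ← vf h, ← mul_assoc]
    · left
      calc ι pz * ι pf * (ι pv1 * ι pf) = ι pz * (ι pf * (ι pv1 * ι pf)) := by group
        _ = ι pz * (ι pf * (ι pf * ι pv1)) := by rw [vf h]
        _ = ι pz * ((ι pf * ι pf) * ι pv1) := by group
        _ = _ := by rw [ff h, one_mul]

theorem conj_V [Finite G] {a w : Perm (Fin 6)} (ha : a * pf = pf * a) (hw : InV w) : InV (a * w * a⁻¹) := by
  have := A_mem (ι_NE h ha) (AutSpl'.mem h hw)
  rwa [A_ι, AutSpl'.mem_iff h] at this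

theorem sign_conj (a w : Perm (Fin 6)) : Perm.sign (a * w * a⁻¹) = Perm.sign w := by
  rw [Perm.sign_mul, Perm.sign_mul, Perm.sign_inv, mul_comm, ← mul_assoc, Int.units_mul_self, one_mul]

theorem TF_conj [Finite G] {n : G} (hn : TF ι n) {a : Perm (Fin 6)} (ha : a * pf = pf * a) :
    TF ι (ι a * n * (ι a)⁻¹) := by
  have ha' : a⁻¹ * pf = pf * a⁻¹ := by
    rw [inv_mul_eq_iff_eq_mul, ← mul_assoc, ha, mul_inv_cancel_right]
  intro w hw hs
  have h1 : InV (a⁻¹ * w * a) := by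
    have := conj_V h ha' hw
    rwa [inv_inv] at this
  have h2 : Perm.sign (a⁻¹ * w * a) = 1 := by
    have := sign_conj h a⁻¹ w
    rw [inv_inv] at this
    rw [this, hs]
  have h3 : A (ι a) (ι (a⁻¹ * w * a)) = ι w := by rw [A_ι]; congr 1; group
  have h4 : A (ι a) (ι pf) = ι pf := by rw [A_ι, ha, mul_inv_cancel_right]
  rw [A_conj, A_ι_inv]
  rcases hn _ h1 h2 with e | e
  · left; rw [e, h3]
  · right; rw [e, map_mul, h3, h4]

variable (hF : ∀ n ∈ NE x ι, A n (ι pf) = ι pf)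
include hF

theorem adjust' [Finite G] (H : Eight x ι) {n : G} (hn : n ∈ NE x ι) :
    ∃ c ∈ NE x ι, A c x = A n x ∧ TF ι c := by
  have key : ∀ v, InV v → Perm.sign v = 1 → v ≠ 1 → ∃ e, InV e ∧ Perm.sign e = 1 ∧ e ≠ 1 ∧
      (A n (ι e) = ι v ∨ A n (ι e) = ι v * ι pf) := by
    intro v hv hsv h1
    obtain ⟨a, ha, e⟩ := nU h H (inv_mem hn) hv
    have e' : A n (ι a) = ι v := A_eq_inv e
    rcases V_cases a ha with hs | ⟨w, hw, hs, rfl⟩
    · refine ⟨a, ha, hs, ?_, Or.inl e'⟩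
      rintro rfl
      rw [map_one, map_one] at e'
      exact h1 (h.one_iff.1 e'.symm)
    · have hwe : A n (ι w) = ι v * ι pf := by
        rw [map_mul ι, map_mul, hF n hn] at e'
        have h2 : A n (ι w) = ι pf * ι v := by rw [← e', ← mul_assoc, ff h, one_mul]
        rw [h2]
        exact AutSpl'.comm h (fE h) (AutSpl'.mem h hv)
      refine ⟨w, hw, hs, ?_, Or.inr hwe⟩
      rintro rfl
      rw [map_one, map_one] at hwe
      rw [← map_mul] at hwe
      have h3 := h.one_iff.1 hwe.symm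
      have h4 : Perm.sign (v * pf) = -1 := by rw [Perm.sign_mul, hsv, one_mul]; decide +kernel
      rw [h3, Perm.sign_one] at h4
      exact absurd h4 (by decide)
  obtain ⟨e₁, i1, s1, n1, h1⟩ := key pz V_z (by decide +kernel) (by decide +kernel)
  obtain ⟨e₂, i2, s2, n2, h2⟩ := key pv1 V_v1 (by decide +kernel) (by decide +kernel)
  have n3 : e₁ ≠ e₂ := by
    rintro rfl
    rw [← map_mul] at h1 h2
    rcases h1 with h1 | h1 <;> rcases h2 with h2 | h2 <;>
    · have := h.inj (h1.symm.trans h2)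
      revert this; decide +kernel
  obtain ⟨s, hs1, hs2, hs3⟩ := three i1 i2 s1 s2 n1 n2 n3
  refine ⟨n * ι s, mul_mem hn (ι_NE h hs1), ?_, TF_of h ?_ ?_⟩
  · rw [A_mul, A_ι_x h]
  · rw [A_mul, A_ι, hs2]; exact h1
  · rw [A_mul, A_ι, hs3]; exact h2

theorem uniq' [Finite G] {c c' : G} (hc : c ∈ NE x ι) (hc' : c' ∈ NE x ι) (hx : A c x = A c' x) (h1 : TF ι c)
    (h2 : TF ι c') {e : G} (he : e ∈ E1 x ι) : A c e = A c' e := by
  have hg : A (c⁻¹ * c') x = x := by rw [A_mul, ← hx, A_inv]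
  obtain ⟨a, ha, hga⟩ := stab h (mul_mem (inv_mem hc) hc') hg
  have hgι : ∀ w, A (c⁻¹ * c') (ι w) = ι (a * w * a⁻¹) := by
    intro w
    rcases hga with e | e
    · rw [e, A_ι]
    · rw [e, A_mul, A_ι, A_x_ι h]
  have hcF : A c⁻¹ (ι pf) = ι pf := hF _ (inv_mem hc)
  have key : ∀ w, InV w → Perm.sign w = 1 → A c (ι w) = A c' (ι w) := by
    intro w hw hs
    have k1 : A c⁻¹ (ι w) = ι w ∨ A c⁻¹ (ι w) = ι w * ι pf := by
      rcases h1 w hw hs with e | e
      · exact Or.inl (A_inv_eq e)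
      · right
        have h3 := A_inv_eq e
        rw [map_mul, hcF] at h3
        calc A c⁻¹ (ι w) = A c⁻¹ (ι w) * (ι pf * ι pf) := by rw [ff h, mul_one]
          _ = ι w * ι pf := by rw [← mul_assoc, h3]
    have k2 : A (c⁻¹ * c') (ι w) = ι w ∨ A (c⁻¹ * c') (ι w) = ι w * ι pf := by
      rw [A_mul]
      rcases h2 w hw hs with e | e <;> rw [e]
      · exact k1
      · rw [map_mul, hcF]
        rcases k1 with e' | e' <;> rw [e']
        · right; rfl
        · left; rw [mul_assoc, ff h, mul_one]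
    have k3 : A (c⁻¹ * c') (ι w) = ι w := by
      rcases k2 with e | e
      · exact e
      · exfalso
        rw [hgι, ← map_mul] at e
        have h3 := congrArg Perm.sign (h.inj e)
        rw [sign_conj h, Perm.sign_mul, hs, one_mul] at h3
        revert h3; decide +kernel
    rw [A_mul] at k3
    exact A_eq_inv k3
  exact uniq h hx (key _ V_z (by decide +kernel)) (key _ V_v1 (by decide +kernel)) he

theorem hsx [Finite G] (H : Eight x ι) (hV : ¬ VInv x ι) : HSx x ι := by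
  have cN := ι_NE h c_f
  have sN := ι_NE h v2_f
  have hVF : ι pv1 * ι pf ≠ ι pv1 := by
    intro e
    have := mul_eq_left.1 e
    rw [h.one_iff] at this
    revert this; decide +kernel
  have hZF : ι pz * ι pf ≠ ι pz := by
    intro e
    have := mul_eq_left.1 e
    rw [h.one_iff] at this
    revert this; decide +kernel
  have dzF : A (ι pc) (ι pv1 * ι pf) = ι pz * ι pf := by rw [map_mul, d_v h, d_f h]
  -- `b`
  obtain ⟨n, hn, hnx⟩ := fus' h (AutSpl'.mem' h V_pf) (H.yes _ V_pf)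
  obtain ⟨b, hb, hbx, hbT⟩ := adjust' h hF H hn
  rw [hnx] at hbx
  have ub : ∀ {e}, e ∈ E1 x ι → A (ι pc * b * (ι pc)⁻¹) e = A b e := fun he =>
    uniq' h hF (mul_mem (mul_mem cN hb) (inv_mem cN)) hb
      (by rw [A_conj, A_ι_x_inv h, hbx, map_mul (A (ι pc)), A_ι_x h, d_f h]) (TF_conj h hbT c_f) hbT he
  have ub1 := ub (zE h)
  have ub2 := ub (vE h)
  rw [A_conj, d_z' h] at ub1
  rw [A_conj, d_v' h, map_mul ι, map_mul (A b)] at ub2
  have hbv : A b (ι pv1) = ι pv1 := by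
    rcases hbT pv1 V_v1 (by decide +kernel) with e | e
    · exact e
    · exfalso
      rw [e, dzF] at ub1
      rw [← ub1, e] at ub2
      have h3 : ι pz * ι pf * (ι pv1 * ι pf) = ι (pz * pv1) := by
        rw [map_mul ι]
        calc ι pz * ι pf * (ι pv1 * ι pf) = ι pz * (ι pf * (ι pv1 * ι pf)) := by group
          _ = ι pz * (ι pf * (ι pf * ι pv1)) := by rw [vf h]
          _ = ι pz * ((ι pf * ι pf) * ι pv1) := by group
          _ = _ := by rw [ff h, one_mul]
      rw [h3, d_zv h] at ub2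
      exact hVF ub2.symm
  have hbz : A b (ι pz) = ι pz := by rw [← ub1, hbv, d_v h]
  -- `c`
  obtain ⟨m, hm, hmx⟩ := fus' h (AutSpl'.mem' h V_z) (H.yes _ V_z)
  obtain ⟨c, hc, hcx, hcT⟩ := adjust' h hF H hm
  rw [hmx] at hcx
  have uc : A (ι pv2 * c * (ι pv2)⁻¹) (ι pv1) = A c (ι pv1) :=
    uniq' h hF (mul_mem (mul_mem sN hc) (inv_mem sN)) hc
      (by rw [A_conj, A_ι_x_inv h, hcx, map_mul (A (ι pv2)), A_ι_x h, s_z h]) (TF_conj h hcT v2_f) hcT (vE h)
  rw [A_conj, s_v' h, map_mul ι, map_mul (A c)] at uc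
  have hcz : A c (ι pz) = ι pz := by
    rcases hcT pz V_z (by decide +kernel) with e | e
    · exact e
    · exfalso
      rw [e] at uc
      rcases hcT pv1 V_v1 (by decide +kernel) with e' | e'
      · rw [e'] at uc
        have h3 : ι pz * ι pf * ι pv1 = ι (pz * pv1) * ι pf := by rw [map_mul, mul_assoc, ← vf h, ← mul_assoc]
        rw [h3, map_mul (A (ι pv2)), s_zv h, s_f h] at uc
        exact hVF uc
      · rw [e'] at uc
        have h3 : ι pz * ι pf * (ι pv1 * ι pf) = ι (pz * pv1) := by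
          rw [map_mul ι]
          calc ι pz * ι pf * (ι pv1 * ι pf) = ι pz * (ι pf * (ι pv1 * ι pf)) := by group
            _ = ι pz * (ι pf * (ι pf * ι pv1)) := by rw [vf h]
            _ = ι pz * ((ι pf * ι pf) * ι pv1) := by group
            _ = _ := by rw [ff h, one_mul]
        rw [h3, s_zv h] at uc
        exact hVF uc.symm
  have hcv : A c (ι pv1) = ι pv1 * ι pf := by
    rcases hcT pv1 V_v1 (by decide +kernel) with e | e
    · exfalso
      apply hV
      -- elements centralising `U₁` which are transitive on `x U₁`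
      have hP : ∀ w, InV w → Perm.sign w = 1 → ∃ g ∈ NE x ι, A g x = x * ι w ∧ A g (ι pz) = ι pz ∧
          A g (ι pv1) = ι pv1 := by
        intro w hw hs
        have hzv : A c (ι (pz * pv1)) = ι (pz * pv1) := by rw [map_mul ι, map_mul, hcz, e]
        rcases V_even w hw hs with rfl | rfl | rfl | rfl
        · refine ⟨1, one_mem _, ?_, ?_, ?_⟩ <;> rw [A_def, one_mul, inv_one, mul_one]
          rw [map_one, mul_one]
        · exact ⟨c, hc, hcx, hcz, e⟩
        · refine ⟨(ι pc)⁻¹ * c * (ι pc)⁻¹⁻¹, mul_mem (mul_mem (inv_mem cN) hc) (inv_mem (inv_mem cN)), ?_, ?_, ?_⟩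
          · rw [A_conj, inv_inv, A_ι_x h, hcx, map_mul (A (ι pc)⁻¹), A_ι_x_inv h, d_z' h]
          · rw [A_conj, inv_inv, d_z h, hzv]
            exact A_inv_eq (d_z h)
          · rw [A_conj, inv_inv, d_v h, hcz, d_z' h]
        · refine ⟨ι pc * c * (ι pc)⁻¹, mul_mem (mul_mem cN hc) (inv_mem cN), ?_, ?_, ?_⟩
          · rw [A_conj, A_ι_x_inv h, hcx, map_mul (A (ι pc)), A_ι_x h, d_z h]
          · rw [A_conj, d_z' h, e, d_v h]
          · rw [A_conj, d_v' h, hzv, d_zv h]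
      have hQ : ∀ a, InV a → ∃ g ∈ NE x ι, A g x = x * ι a ∧ A g (ι pz) = ι pz ∧ A g (ι pv1) = ι pv1 := by
        intro a ha
        rcases V_cases a ha with hs | ⟨w, hw, hs, rfl⟩
        · exact hP a ha hs
        · obtain ⟨g, hg, h1, h2, h3⟩ := hP w hw hs
          refine ⟨g * b, mul_mem hg hb, ?_, ?_, ?_⟩
          · have h4 := AutSpl'.comm h (fE h) (AutSpl'.mem h hw)
            rw [A_mul, hbx, map_mul, h1, hF g hg, map_mul, h4, mul_assoc]
          · rw [A_mul, hbz, h2]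
          · rw [A_mul, hbv, h3]
      intro n hn w hw hs
      obtain ⟨a, ha, hnx⟩ : ∃ a, InV a ∧ A n x = x * ι a := by
        obtain ⟨a, ha, e | e⟩ := AutSpl'.form h (A_mem hn (AutSpl'.x_mem h))
        · exact absurd ⟨n, e⟩ (H.no a ha)
        · exact ⟨a, ha, e⟩
      obtain ⟨g, hg, h1, h2, h3⟩ := hQ a ha
      have hk : A (g⁻¹ * n) x = x := by rw [A_mul, hnx, ← h1, A_inv]
      obtain ⟨s, hs1, hks⟩ := stab h (mul_mem (inv_mem hg) hn) hk
      have hkι : A (g⁻¹ * n) (ι w) = ι (s * w * s⁻¹) := by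
        rcases hks with e | e
        · rw [e, A_ι]
        · rw [e, A_mul, A_ι, A_x_ι h]
      have h5 := conj_V h hs1 hw
      have h6 : Perm.sign (s * w * s⁻¹) = 1 := by rw [sign_conj h, hs]
      refine ⟨s * w * s⁻¹, h5, h6, ?_⟩
      rw [A_mul] at hkι
      rw [← A_eq_inv hkι]
      rcases V_even _ h5 h6 with e | e | e | e <;> rw [e]
      · rw [map_one, map_one]
      · exact h2
      · exact h3
      · rw [map_mul ι, map_mul, h2, h3]
    · exact e
  -- `m`
  obtain ⟨s, hs1, hs2, hs3⟩ := three V_v1 V_z (by decide +kernel) (by decide +kernel) (by decide +kernel)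
    (by decide +kernel) (by decide +kernel)
  have sN' := ι_NE h hs1
  have s1 : A (ι s) (ι pz) = ι pv1 := by rw [A_ι, hs2]
  have s2 : A (ι s) (ι pv1) = ι pz := by rw [A_ι, hs3]
  have s3 : A (ι s)⁻¹ (ι pz) = ι pv1 := A_inv_eq s2
  have s4 : A (ι s)⁻¹ (ι pv1) = ι pz := A_inv_eq s1
  have s5 : A (ι s) (ι pf) = ι pf := hF _ sN'
  have q1 : A (ι s * c * (ι s)⁻¹) x = x * ι pv1 := by
    rw [A_conj, A_ι_x_inv h, hcx, map_mul (A (ι s)), A_ι_x h, s1]
  have q2 : A (ι s * c * (ι s)⁻¹) (ι pz) = ι pz * ι pf := by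
    rw [A_conj, s3, hcv, map_mul (A (ι s)), s2, s5]
  have q3 : A (ι s * c * (ι s)⁻¹) (ι pv1) = ι pv1 := by
    rw [A_conj, s4, hcz, s1]
  have q0 : ι s * c * (ι s)⁻¹ ∈ NE x ι := mul_mem (mul_mem sN' hc) (inv_mem sN')
  have w1 : A (ι pc * c * (ι pc)⁻¹) x = x * ι (pz * pv1) := by
    rw [A_conj, A_ι_x_inv h, hcx, map_mul (A (ι pc)), A_ι_x h, d_z h]
  have w2 : A (ι pc * c * (ι pc)⁻¹) (ι pz) = ι pz * ι pf := by
    rw [A_conj, d_z' h, hcv, dzF]
  have w0 : ι pc * c * (ι pc)⁻¹ ∈ NE x ι := mul_mem (mul_mem cN hc) (inv_mem cN)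
  refine ⟨⟨b, A_eq_iff.1 (hF b hb), A_eq_iff.1 hbz, A_eq_iff.1 hbv, hbx⟩,
    ⟨c, A_eq_iff.1 (hF c hc), A_eq_iff.1 hcz, hcv, hcx⟩,
    ⟨_, A_eq_iff.1 (hF _ q0), A_eq_iff.1 q3, q2, q1⟩, ?_, fun g hg => A_eq_iff.1 (hF g hg), card_NE h H⟩
  -- `tr`
  intro g hg hgF hgZ hgV
  have hgT : TF ι g := TF_of h (Or.inl (A_eq_iff.2 hgZ)) (Or.inl (A_eq_iff.2 hgV))
  have key : ∀ w, InV w → Perm.sign w = 1 → w ≠ 1 → ∃ k ∈ NE x ι, A k x = x * ι w ∧ TF ι k ∧
      (A k (ι pz) ≠ ι pz ∨ A k (ι pv1) ≠ ι pv1) := by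
    intro w hw hs h1
    rcases V_even w hw hs with rfl | rfl | rfl | rfl
    · exact absurd rfl h1
    · exact ⟨c, hc, hcx, hcT, Or.inr (by rw [hcv]; exact hVF)⟩
    · exact ⟨_, q0, q1, TF_conj h hcT hs1, Or.inl (by rw [q2]; exact hZF)⟩
    · exact ⟨_, w0, w1, TF_conj h hcT c_f, Or.inl (by rw [w2]; exact hZF)⟩
  have kill : ∀ w, InV w → Perm.sign w = 1 → w ≠ 1 → A g x ≠ x * ι w ∧ A g x ≠ x * (ι pf * ι w) := by
    intro w hw hs h1
    obtain ⟨k, hk, hkx, hkT, hk1⟩ := key w hw hs h1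
    constructor
    · intro hgx
      have u1 := uniq' h hF hg hk (hgx.trans hkx.symm) hgT hkT (zE h)
      have u2 := uniq' h hF hg hk (hgx.trans hkx.symm) hgT hkT (vE h)
      rw [A_eq_iff.2 hgZ] at u1
      rw [A_eq_iff.2 hgV] at u2
      rcases hk1 with e | e
      · exact e u1.symm
      · exact e u2.symm
    · intro hgx
      have h4 := AutSpl'.comm h (fE h) (AutSpl'.mem h hw)
      have hx2 : A (k * b) x = x * (ι pf * ι w) := by rw [A_mul, hbx, map_mul, hkx, hF k hk, h4, mul_assoc]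
      have hT2 : TF ι (k * b) := by
        apply TF_of h
        · rw [A_mul, hbz]; exact hkT _ V_z (by decide +kernel)
        · rw [A_mul, hbv]; exact hkT _ V_v1 (by decide +kernel)
      have u1 := uniq' h hF hg (mul_mem hk hb) (hgx.trans hx2.symm) hgT hT2 (zE h)
      have u2 := uniq' h hF hg (mul_mem hk hb) (hgx.trans hx2.symm) hgT hT2 (vE h)
      rw [A_eq_iff.2 hgZ, A_mul, hbz] at u1
      rw [A_eq_iff.2 hgV, A_mul, hbv] at u2
      rcases hk1 with e | e
      · exact e u1.symm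
      · exact e u2.symm
  obtain ⟨a, ha, hgx⟩ : ∃ a, InV a ∧ A g x = x * ι a := by
    obtain ⟨a, ha, e | e⟩ := AutSpl'.form h (A_mem hg (AutSpl'.x_mem h))
    · exact absurd ⟨g, e⟩ (H.no a ha)
    · exact ⟨a, ha, e⟩
  rcases V_cases a ha with hs | ⟨w, hw, hs, rfl⟩
  · by_cases h1 : a = 1
    · left
      have := hgx
      rw [h1, map_one, mul_one] at this
      exact this
    · exact absurd hgx (kill a ha hs h1).1
  · by_cases h1 : w = 1
    · right
      have := hgx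
      rw [h1, mul_one] at this
      exact this
    · rw [map_mul ι] at hgx
      exact absurd hgx (kill w hw hs h1).2

end

/-- **`n = 8`** -/
theorem dbl_or_hsx [Finite G] (h : AutSpl x ι r) (H : Eight x ι) : DBL x ι ∨ HSx x ι := by
  by_cases hV : VInv x ι
  · exact Or.inl (dbl h H hV)
  · exact Or.inr (hsx h (fix_f h H hV) H hV)

end Cfsg.Agent.OddHalf.D5.SixAut.FusHS
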