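import Cfsg.Agent.OddHalf.D5.SixAut.FusE

/-!
# ODD D5, `n = 6`, (C3b), P2: `x^G ∩ E₁` (helper310)

`D x e` : `e ∈ x^G`. `twelve` : not both of `f`, `x f` are in `x^G`. `adjust`: if `N(E₁)` normalises `V₁`, every
`x^n`, `n ∈ N(E₁)`, is `x^c` with `c ∈ C(V₁)`.
-/

set_option autoImplicit false
set_option linter.unusedSectionVars false

namespace Cfsg.Agent.OddHalf.D5.SixAut.FusN

open Subgroup Equiv
open EPerm EPerm2 EOne FusE

variable {G : Type*} [Group G] {x r : G} {ι : Perm (Fin 6) →* G}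

/-- `e` is a conjugate of `x` -/
def D (x e : G) : Prop := ∃ g, A g x = e

theorem D_A {x e : G} (g : G) : D x (A g e) ↔ D x e := by
  constructor
  · rintro ⟨k, hk⟩
    exact ⟨g⁻¹ * k, by rw [A_mul, hk, A_inv]⟩
  · rintro ⟨k, hk⟩
    exact ⟨g * k, by rw [A_mul, hk]⟩

theorem D_of_A {x e e' : G} {g : G} (h : A g e = e') : D x e' ↔ D x e := by rw [← h, D_A]

theorem D_self (x : G) : D x x := ⟨1, by rw [A_def, one_mul, inv_one, mul_one]⟩

theorem even_conj : ∀ a, InV a → Perm.sign a = 1 → a ≠ 1 → ∃ s, s * pf = pf * s ∧ s * pz * s⁻¹ = a := by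
  have key : ∀ a ∈ vL, Perm.sign a = 1 → a ≠ 1 → ∃ s ∈ [1, pc, pc⁻¹], s * pf = pf * s ∧ s * pz * s⁻¹ = a := by
    decide +kernel
  intro a ha h1 h2
  obtain ⟨s, -, hs⟩ := key a (mem_vL.2 ha) h1 h2
  exact ⟨s, hs⟩

theorem odd_conj : ∀ a, InV a → Perm.sign a ≠ 1 → a ≠ pf → ∃ s, s * pf = pf * s ∧ s * (pf * pz) * s⁻¹ = a := by
  have key : ∀ a ∈ vL, Perm.sign a ≠ 1 → a ≠ pf → ∃ s ∈ [1, pc, pc⁻¹], s * pf = pf * s ∧ s * (pf * pz) * s⁻¹ = a := by
    decide +kernel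
  intro a ha h1 h2
  obtain ⟨s, -, hs⟩ := key a (mem_vL.2 ha) h1 h2
  exact ⟨s, hs⟩

/-- `V₁` is invariant under `N(E₁)` -/
def VInv (x : G) (ι : Perm (Fin 6) →* G) : Prop :=
  ∀ n ∈ NE x ι, ∀ w, InV w → Perm.sign w = 1 → ∃ w', InV w' ∧ Perm.sign w' = 1 ∧ A n (ι w) = ι w'

section

variable (h : AutSpl x ι r)
include h

theorem g_even {a : Perm (Fin 6)} (ha : InV a) (hs : Perm.sign a = 1) (h1 : a ≠ 1) :
    ∃ g, A g x = x ∧ A g (ι pz) = ι a := by
  obtain ⟨s, -, hs⟩ := even_conj a ha hs h1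
  exact ⟨ι s, A_ι_x h s, by rw [A_ι, hs]⟩

theorem g_odd {a : Perm (Fin 6)} (ha : InV a) (hs : Perm.sign a ≠ 1) :
    ∃ g, A g x = x ∧ A g (ι pf) = ι a := by
  by_cases h1 : a = pf
  · exact ⟨1, by rw [A_def, one_mul, inv_one, mul_one], by rw [A_def, one_mul, inv_one, mul_one, h1]⟩
  · obtain ⟨s, -, hs⟩ := odd_conj a ha hs h1
    refine ⟨ι s * r, ?_, ?_⟩
    · rw [A_mul, A_eq_iff.2 h.rx, A_ι_x h]
    · rw [A_mul, A_def r, h.conj, θ_f, A_ι, hs]

theorem not_D_even (nxz : ∀ g, A g x ≠ ι pz) {a : Perm (Fin 6)} (ha : InV a) (hs : Perm.sign a = 1) :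
    ¬ D x (ι a) := by
  by_cases h1 : a = 1
  · rintro ⟨g, hg⟩
    rw [h1, map_one] at hg
    apply h.x1
    exact A_inj g (hg.trans (map_one _).symm)
  · obtain ⟨g, -, hg⟩ := g_even h ha hs h1
    rw [D_of_A hg]
    rintro ⟨k, hk⟩
    exact nxz k hk

theorem D_even (hs0 : D x (x * ι pz)) {a : Perm (Fin 6)} (ha : InV a) (hs : Perm.sign a = 1) : D x (x * ι a) := by
  by_cases h1 : a = 1
  · rw [h1, map_one, mul_one]; exact D_self x
  · obtain ⟨g, hg1, hg2⟩ := g_even h ha hs h1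
    have : A g (x * ι pz) = x * ι a := by rw [map_mul, hg1, hg2]
    rw [D_of_A this]; exact hs0

theorem D_odd {a : Perm (Fin 6)} (ha : InV a) (hs : Perm.sign a ≠ 1) : D x (ι a) ↔ D x (ι pf) := by
  obtain ⟨g, -, hg⟩ := g_odd h ha hs
  exact D_of_A hg

theorem D_odd' {a : Perm (Fin 6)} (ha : InV a) (hs : Perm.sign a ≠ 1) : D x (x * ι a) ↔ D x (x * ι pf) := by
  obtain ⟨g, hg1, hg2⟩ := g_odd h ha hs
  have : A g (x * ι pf) = x * ι a := by rw [map_mul, hg1, hg2]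
  exact D_of_A this

theorem fus' [Finite G] {e : G} (he : e ∈ E1 x ι) (hD : D x e) : ∃ n ∈ NE x ι, A n x = e := by
  obtain ⟨g, hg⟩ := hD
  have h1 : g * x * g⁻¹ ∈ E1 x ι := by
    have : g * x * g⁻¹ = e := hg
    rw [this]; exact he
  obtain ⟨n, hn, hx⟩ := AutSpl'.fus h h1
  exact ⟨n, mem_NE hn, hx.trans hg⟩

theorem adjust [Finite G] (hV : VInv x ι) {n : G} (hn : n ∈ NE x ι) :
    ∃ c ∈ NE x ι, A c x = A n x ∧ A c (ι pz) = ι pz ∧ A c (ι pv1) = ι pv1 := by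
  obtain ⟨e₁, i1, s1, h1⟩ := hV n⁻¹ (inv_mem hn) pz V_z (by decide +kernel)
  obtain ⟨e₂, i2, s2, h2⟩ := hV n⁻¹ (inv_mem hn) pv1 V_v1 (by decide +kernel)
  have n1 : e₁ ≠ 1 := by
    rintro rfl
    rw [map_one] at h1
    have := A_inj n⁻¹ (h1.trans (map_one _).symm)
    rw [h.one_iff] at this
    revert this; decide +kernel
  have n2 : e₂ ≠ 1 := by
    rintro rfl
    rw [map_one] at h2
    have := A_inj n⁻¹ (h2.trans (map_one _).symm)
    rw [h.one_iff] at this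
    revert this; decide +kernel
  have n3 : e₁ ≠ e₂ := by
    rintro rfl
    have := h.inj (A_inj n⁻¹ (h1.trans h2.symm))
    revert this; decide +kernel
  obtain ⟨s, hs1, hs2, hs3⟩ := three i1 i2 s1 s2 n1 n2 n3
  refine ⟨n * ι s, mul_mem hn (ι_NE h hs1), ?_, ?_, ?_⟩
  · rw [A_mul, A_ι_x h]
  · rw [A_mul, A_ι, hs2]; exact A_eq_inv h1
  · rw [A_mul, A_ι, hs3]; exact A_eq_inv h2

/-- `n = 12` is impossible -/
theorem twelve [Finite G] (hs0 : D x (x * ι pz)) (nxz : ∀ g, A g x ≠ ι pz) (h1 : D x (ι pf))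
    (h2 : D x (x * ι pf)) : False := by
  have hDo : ∀ a, InV a → D x (x * ι a) := by
    intro a ha
    by_cases hs : Perm.sign a = 1
    · exact D_even h hs0 ha hs
    · exact (D_odd' h ha hs).2 h2
  have hDo' : ∀ a, InV a → Perm.sign a ≠ 1 → D x (ι a) := fun a ha hs => (D_odd h ha hs).2 h1
  have hV : VInv x ι := by
    intro n hn w hw hws
    have h3 : ¬ D x (A n (ι w)) := by rw [D_A]; exact not_D_even h nxz hw hws
    obtain ⟨a, ha, e | e⟩ := AutSpl'.form h (A_mem hn (AutSpl'.mem h hw))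
    · by_cases hs : Perm.sign a = 1
      · exact ⟨a, ha, hs, e⟩
      · rw [e] at h3
        exact absurd (hDo' a ha hs) h3
    · rw [e] at h3
      exact absurd (hDo a ha) h3
  obtain ⟨n, hn, hnx⟩ := fus' h (AutSpl'.mem' h V_z) hs0
  obtain ⟨c, hc, hcx, hcz, hcv⟩ := adjust h hV hn
  rw [hnx] at hcx
  have hzv : ∀ w, InV w → Perm.sign w = 1 → A c (ι w) = ι w := by
    intro w hw hs
    rcases V_even w hw hs with rfl | rfl | rfl | rfl
    · rw [map_one, map_one]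
    · exact hcz
    · exact hcv
    · rw [map_mul, map_mul, hcz, hcv]
  -- `c` fixes an element `e ∈ x^G ∩ E₁`
  have key : ∀ e, e ∈ E1 x ι → D x e → A c e = e → False := by
    intro e he hD hce
    obtain ⟨m, hm, hmx⟩ := fus' h he hD
    have k1 : A (m⁻¹ * c * m) x = x := by
      rw [A_mul, A_mul, hmx, hce, ← hmx, A_inv]
    have k2 : ∀ w, InV w → Perm.sign w = 1 → A (m⁻¹ * c * m) (ι w) = ι w := by
      intro w hw hs
      obtain ⟨w', hw', hs', e'⟩ := hV m hm w hw hs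
      rw [A_mul, A_mul, e', hzv w' hw' hs', ← e', A_inv]
    have k3 : m⁻¹ * c * m ∈ E1 x ι :=
      ⟨A_eq_iff.1 k1, A_eq_iff.1 (k2 _ V_z (by decide +kernel)), A_eq_iff.1 (k2 _ V_v1 (by decide +kernel))⟩
    have k4 : c ∈ E1 x ι := by
      have := A_mem hm k3
      rw [A_def] at this
      have e2 : m * (m⁻¹ * c * m) * m⁻¹ = c := by group
      rwa [e2] at this
    have k5 : A c x = x := A_eq_iff.2 (AutSpl'.comm h k4 (AutSpl'.x_mem h))
    rw [k5] at hcx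
    have k6 : ι pz = 1 := mul_eq_left.1 hcx.symm
    rw [h.one_iff] at k6
    revert k6; decide +kernel
  rcases lemC h hcx hcz hcv with e | e
  · exact key _ (fE h) h1 e
  · apply key _ (AutSpl'.mem' h V_pf) h2
    have hzz : ι pz * ι pz = 1 := AutSpl'.sq h (zE h)
    have hzf : ι pz * ι pf = ι pf * ι pz := AutSpl'.comm h (zE h) (fE h)
    rw [map_mul, hcx, e, map_mul]
    calc x * ι pz * (ι pf * ι pz) = x * (ι pz * ι pf) * ι pz := by group
      _ = x * ι pf * (ι pz * ι pz) := by rw [hzf]; group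
      _ = x * ι pf := by rw [hzz, mul_one]

end

end Cfsg.Agent.OddHalf.D5.SixAut.FusN
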