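import Cfsg.Agent.OddHalf.D5.SixAut.HsxW

/-!
# ODD D5, `n = 6`, `C_G(x)/⟨x⟩ = Aut(A_6)`, the case (HSx): `b ∉ W_f`

If `b ∈ W_f`, then `T₈ = ⟨W, W_f, W_{fz}⟩` is normalised by the element `ρ = r m` of order 3 on `⟨z, f⟩`;
`y = x v₁ v₂` has `[y, T₈] = ⟨z⟩`, `y² = z`; but the elements `t` of `T₈` with `[t, T₈] ≤ ⟨f⟩` are involutions.
-/

set_option autoImplicit false
set_option linter.unusedSectionVars false

namespace Cfsg.Agent.OddHalf.D5.SixAut.HsxB

open HsxW

/-- refute a commutation modulo `⟨f⟩` -/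
local macro "kill8" r:ident e:ident e':ident t:ident : tactic => `(tactic| (
  rcases $t:ident with $t:ident | $t:ident <;> nf8a $r $t <;>
  simp only [($e), ($e'), mul_right_inj, left_eq_mul, mul_eq_left, right_eq_mul, mul_eq_right] at $t:ident <;>
  first
  | exact ($r).z1 $t
  | exact ($r).f1 $t
  | exact ($r).fz1 $t
  | exact ($r).fz $t
  | exact ($r).fz ($t).symm))

variable {G : Type*} [Group G]

/-- `g` commutes with `y` modulo `⟨z⟩` -/
def Q (y z g : G) : Prop := y * g = g * y ∨ y * g = g * (y * z)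

theorem Q.mul {y z g g' : G} (zz : z * z = 1) (hz : g' * z = z * g') (h1 : Q y z g) (h2 : Q y z g') :
    Q y z (g * g') := by
  rcases h1 with e1 | e1 <;> rcases h2 with e2 | e2
  · left; rw [← mul_assoc, e1, mul_assoc, e2, mul_assoc]
  · right; rw [← mul_assoc, e1, mul_assoc, e2, mul_assoc]
  · right
    calc y * (g * g') = (y * g) * g' := by group
      _ = g * y * (z * g') := by rw [e1]; group
      _ = g * (y * g') * z := by rw [← hz]; group
      _ = g * g' * (y * z) := by rw [e2]; group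
  · left
    calc y * (g * g') = (y * g) * g' := by group
      _ = g * y * (z * g') := by rw [e1]; group
      _ = g * (y * g') * z := by rw [← hz]; group
      _ = g * g' * y * (z * z) := by rw [e2]; group
      _ = g * g' * y := by rw [zz, mul_one]

section

variable {x z f v₁ v₂ b c r d m : G} (h : HX x z f v₁ v₂ b c r d m)
include h

theorem q_all {g : G} (hg : T8 x z f g) : Q (x * (v₁ * v₂)) z g := by
  have hr := h.toT8R
  obtain ⟨β, t, hβ, ⟨p, q, s, l, hp, hq, hs, hl, rfl⟩, rfl⟩ := hg.nform h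
  have q1 : Q (x * (v₁ * v₂)) z (1 : G) := by left; rw [one_mul, mul_one]
  have qx : Q (x * (v₁ * v₂)) z x := by left; nf8 hr
  have qv₁ : Q (x * (v₁ * v₂)) z v₁ := by right; nf8 hr
  have qv₂ : Q (x * (v₁ * v₂)) z v₂ := by right; nf8 hr
  have qb : Q (x * (v₁ * v₂)) z b := by left; nf8 hr
  have qc : Q (x * (v₁ * v₂)) z c := by left; nf8 hr
  have qf : Q (x * (v₁ * v₂)) z f := by left; nf8 hr
  have qz : Q (x * (v₁ * v₂)) z z := by left; nf8 hr
  have o : (1 : G) * z = z * 1 := by rw [one_mul, mul_one]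
  have ql : Q (x * (v₁ * v₂)) z l ∧ l * z = z * l := by
    rcases hl with rfl | rfl | rfl | rfl
    · exact ⟨q1, o⟩
    · exact ⟨qz, rfl⟩
    · exact ⟨qf, hr.zf.symm⟩
    · exact ⟨qf.mul hr.zz rfl qz, by rw [mul_assoc, ← mul_assoc z, hr.zf, mul_assoc]⟩
  have qs : Q (x * (v₁ * v₂)) z s ∧ s * z = z * s := by
    rcases hs with rfl | rfl
    · exact ⟨q1, o⟩
    · exact ⟨qv₂, hr.zv₂.symm⟩
  have qq : Q (x * (v₁ * v₂)) z q ∧ q * z = z * q := by
    rcases hq with rfl | rfl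
    · exact ⟨q1, o⟩
    · exact ⟨qv₁, hr.zv₁.symm⟩
  have qp : Q (x * (v₁ * v₂)) z p ∧ p * z = z * p := by
    rcases hp with rfl | rfl
    · exact ⟨q1, o⟩
    · exact ⟨qx, hr.zx.symm⟩
  have qβ : Q (x * (v₁ * v₂)) z β ∧ β * z = z * β := by
    rcases hβ with rfl | rfl | rfl | rfl
    · exact ⟨q1, o⟩
    · exact ⟨qb, hr.zb.symm⟩
    · exact ⟨qc, hr.zc.symm⟩
    · exact ⟨qb.mul hr.zz hr.zc.symm qc, by nf8 hr⟩
  have mz : ∀ {a b : G}, a * z = z * a → b * z = z * b → a * b * z = z * (a * b) := by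
    intro a b ha hb
    rw [mul_assoc, hb, ← mul_assoc, ha, mul_assoc]
  have z1 := mz qs.2 ql.2
  have z2 := mz qq.2 z1
  have z3 := mz qp.2 z2
  exact qβ.1.mul hr.zz z3 (qp.1.mul hr.zz z2 (qq.1.mul hr.zz z1 (qs.1.mul hr.zz ql.2 ql.1)))

/-- an element of `T₈` commuting with `T₈` modulo `⟨f⟩` is an involution -/
theorem elim (hcb : c * b = b * c) {t : G} (hT : T8 x z f t)
    (cx : t * x = x * t ∨ t * x = x * (t * f)) (c1 : t * v₁ = v₁ * t ∨ t * v₁ = v₁ * (t * f))
    (c2 : t * v₂ = v₂ * t ∨ t * v₂ = v₂ * (t * f)) (c3 : t * c = c * t ∨ t * c = c * (t * f)) : t * t = 1 := by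
  have hr := h.toT8R
  have hcb' : ∀ t, c * (b * t) = b * (c * t) := by
    intro t; rw [← mul_assoc, hcb, mul_assoc]
  obtain ⟨β, t, hβ, ⟨p, q, s, l, hp, hq, hs, hl, rfl⟩, rfl⟩ := hT.nform h
  have l2 := lsq hr hl
  have key : ∀ g, g * f = f * g → g * z = z * g → ∀ t', (t' * l * g = g * (t' * l) ∨ t' * l * g = g * (t' * l * f)) →
      t' * g = g * t' ∨ t' * g = g * (t' * f) := by
    intro g hf hz t' e
    have hc : g * l = l * g := lcomm hl hf hz
    have hlf : l * f = f * l := (lcomm hl rfl hr.zf.symm).symm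
    rcases e with e | e
    · left
      apply mul_right_cancel (b := l)
      calc t' * g * l = t' * (g * l) := by group
        _ = t' * l * g := by rw [hc]; group
        _ = g * t' * l := by rw [e]; group
    · right
      apply mul_right_cancel (b := l)
      calc t' * g * l = t' * (g * l) := by group
        _ = t' * l * g := by rw [hc]; group
        _ = g * t' * (l * f) := by rw [e]; group
        _ = g * (t' * f) * l := by rw [hlf]; group
  have e0 : β * (p * (q * (s * l))) = β * (p * (q * s)) * l := by group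
  rw [e0] at cx c1 c2 c3 ⊢
  have cx' := key x hr.fx.symm hr.zx.symm _ cx
  have c1' := key v₁ hr.fv₁.symm hr.zv₁.symm _ c1
  have c2' := key v₂ hr.fv₂.symm hr.zv₂.symm _ c2
  have c3' := key c hr.fc.symm hr.zc.symm _ c3
  have hlt : β * (p * (q * s)) * l * (β * (p * (q * s)) * l) = β * (p * (q * s)) * (β * (p * (q * s))) := by
    have hT' := hT
    rw [e0] at hT'
    have hc : β * (p * (q * s)) * l * l = l * (β * (p * (q * s)) * l) := lcomm hl hT'.1 hT'.2.1
    have hc2 : β * (p * (q * s)) * l = l * (β * (p * (q * s))) := by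
      apply mul_right_cancel (b := l)
      rw [hc]; group
    calc β * (p * (q * s)) * l * (β * (p * (q * s)) * l) = β * (p * (q * s)) * l * (l * (β * (p * (q * s)))) := by
          rw [← hc2]
      _ = β * (p * (q * s)) * (l * l) * (β * (p * (q * s))) := by group
      _ = β * (p * (q * s)) * (β * (p * (q * s))) := by rw [l2, mul_one]
  rw [hlt]
  clear cx c1 c2 c3 hlt e0 key hT
  have n1 := hr.z1
  have n2 := hr.f1
  have n3 := hr.fz1
  have n4 := hr.fz
  rcases hβ with rfl | rfl | rfl | rfl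
  · rcases hp with rfl | rfl <;> rcases hq with rfl | rfl <;> rcases hs with rfl | rfl
    all_goals first
      | (exfalso; kill8 hr hcb hcb' cx')
      | (exfalso; kill8 hr hcb hcb' c1')
      | (exfalso; kill8 hr hcb hcb' c2')
      | (exfalso; kill8 hr hcb hcb' c3')
      | nf8 hr
  · rcases hp with rfl | rfl <;> rcases hq with rfl | rfl <;> rcases hs with rfl | rfl
    all_goals first
      | (exfalso; kill8 hr hcb hcb' cx')
      | (exfalso; kill8 hr hcb hcb' c1')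
      | (exfalso; kill8 hr hcb hcb' c2')
      | (exfalso; kill8 hr hcb hcb' c3')
      | nf8 hr
  · rcases hp with rfl | rfl <;> rcases hq with rfl | rfl <;> rcases hs with rfl | rfl
    all_goals exfalso; kill8 hr hcb hcb' cx'
  · rcases hp with rfl | rfl <;> rcases hq with rfl | rfl <;> rcases hs with rfl | rfl
    all_goals exfalso; kill8 hr hcb hcb' cx'

variable {W : Subgroup G} (hW : WN x z f W)
include hW

theorem t8_z {w : G} (hw : In z W z w) : T8 x z f w :=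
  ⟨(cl h hW hw).1, (cl h hW hw).2, mv h hW hw⟩

theorem t8_f {w : G} (hw : In z W f w) : T8 x z f w := by
  refine ⟨(cU h hW hw).1, (cU h hW hw).2.1, ?_⟩
  rcases mv_f h hW hw with e | e
  · exact ⟨1, Or.inl rfl, by rw [e, mul_one]⟩
  · exact ⟨f, Or.inr (Or.inr (Or.inl rfl)), e⟩

theorem t8_fz {w : G} (hw : In z W (f * z) w) : T8 x z f w := by
  have hr := h.toT8R
  have h1 := of_fz h hW hw
  have e0 : w = r * (r⁻¹ * w * r) * r⁻¹ := by group
  refine ⟨In.comm hW hw (fz_f h hW), In.comm hW hw (fz_z h hW), ?_⟩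
  have hx : r⁻¹ * x * r = x := by
    calc r⁻¹ * x * r = r⁻¹ * (r * x * r⁻¹) * r := by rw [h.rx]
      _ = x := by group
  rcases mv_f h hW h1 with e | e
  · refine ⟨1, Or.inl rfl, ?_⟩
    calc w * x * w⁻¹ = r * ((r⁻¹ * w * r) * (r⁻¹ * x * r) * (r⁻¹ * w * r)⁻¹) * r⁻¹ := by group
      _ = x * 1 := by rw [hx, e, h.rx, mul_one]
  · refine ⟨f * z, Or.inr (Or.inr (Or.inr rfl)), ?_⟩
    calc w * x * w⁻¹ = r * ((r⁻¹ * w * r) * (r⁻¹ * x * r) * (r⁻¹ * w * r)⁻¹) * r⁻¹ := by group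
      _ = (r * x * r⁻¹) * (r * f * r⁻¹) := by rw [hx, e]; group
      _ = x * (f * z) := by rw [h.rx, h.rf]

/-- **(2)** -/
theorem not_b : ¬ In z W f b := by
  intro hb
  have hr := h.toT8R
  have hcb := cb0 h hW hb
  have hc := c_fz h hW hb
  have hv1 := f_v₁ h hW
  have hv2 := fz_v₂ h hW
  have hy := y_mem h hW hb
  -- conjugates under `ρ`
  have ρv1 := t8_fz h hW (rho2 h hW hv1)
  have ρb := t8_fz h hW (rho2 h hW hb)
  have ρv2 := t8_z h hW (rho3 h hW hv2)
  have ρy := t8_f h hW (rho1 h hW hy)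
  have ρ'v1 := t8_z h hW (rho1' h hW hv1)
  have ρ'b := t8_z h hW (rho1' h hW hb)
  have ρ'v2 := t8_f h hW (rho2' h hW hv2)
  have ρ'c := t8_f h hW (rho2' h hW hc)
  have ρ'y := t8_fz h hW (rho3' h hW hy)
  have ex : b * (b * (x * v₂)) * v₂ = x := by nf8 hr
  have ρx : T8 x z f ((r * m) * x * (r * m)⁻¹) := by
    have h1 := T8.mul h (T8.mul h ρb ρy) ρv2
    have e1 : (r * m) * b * (r * m)⁻¹ * ((r * m) * (b * (x * v₂)) * (r * m)⁻¹) * ((r * m) * v₂ * (r * m)⁻¹) =
        (r * m) * (b * (b * (x * v₂)) * v₂) * (r * m)⁻¹ := by group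
    rwa [e1, ex] at h1
  have ρ'x : T8 x z f ((r * m)⁻¹ * x * (r * m)) := by
    have h1 := T8.mul h (T8.mul h ρ'b ρ'y) ρ'v2
    have e1 : (r * m)⁻¹ * b * (r * m) * ((r * m)⁻¹ * (b * (x * v₂)) * (r * m)) * ((r * m)⁻¹ * v₂ * (r * m)) =
        (r * m)⁻¹ * (b * (b * (x * v₂)) * v₂) * (r * m) := by group
    rwa [e1, ex] at h1
  have ρt : T8 x z f ((r * m) * (x * (v₁ * v₂)) * (r * m)⁻¹) := by
    have h1 := T8.mul h ρx (T8.mul h ρv1 ρv2)
    have e1 : (r * m) * x * (r * m)⁻¹ * ((r * m) * v₁ * (r * m)⁻¹ * ((r * m) * v₂ * (r * m)⁻¹)) =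
        (r * m) * (x * (v₁ * v₂)) * (r * m)⁻¹ := by group
    rwa [e1] at h1
  have key : ∀ g, T8 x z f ((r * m)⁻¹ * g * (r * m)) →
      ((r * m) * (x * (v₁ * v₂)) * (r * m)⁻¹) * g = g * ((r * m) * (x * (v₁ * v₂)) * (r * m)⁻¹) ∨
      ((r * m) * (x * (v₁ * v₂)) * (r * m)⁻¹) * g = g * (((r * m) * (x * (v₁ * v₂)) * (r * m)⁻¹) * f) := by
    intro g hg
    have e0 : ((r * m) * (x * (v₁ * v₂)) * (r * m)⁻¹) * g =
        (r * m) * ((x * (v₁ * v₂)) * ((r * m)⁻¹ * g * (r * m))) * (r * m)⁻¹ := by group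
    rcases q_all h hg with e | e
    · left; rw [e0, e]; group
    · right
      rw [e0, e]
      calc (r * m) * ((r * m)⁻¹ * g * (r * m) * (x * (v₁ * v₂) * z)) * (r * m)⁻¹
          = g * (((r * m) * (x * (v₁ * v₂)) * (r * m)⁻¹) * ((r * m) * z * (r * m)⁻¹)) := by group
        _ = _ := by rw [rho_z h]
  have h1 := elim h hcb ρt (key _ ρ'x) (key _ ρ'v1) (key _ ρ'v2) (key _ ρ'c)
  have e1 : (r * m) * (x * (v₁ * v₂)) * (r * m)⁻¹ * ((r * m) * (x * (v₁ * v₂)) * (r * m)⁻¹) =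
      (r * m) * ((x * (v₁ * v₂)) * (x * (v₁ * v₂))) * (r * m)⁻¹ := by group
  have e2 : (x * (v₁ * v₂)) * (x * (v₁ * v₂)) = z := by nf8 hr
  rw [e1, e2, rho_z h] at h1
  exact hr.f1 h1

/-- `W_f = U₁` -/
theorem mem_f {w : G} : In z W f w ↔ InU z f v₁ w :=
  ⟨fun hw => (dich h hW).elim (fun h1 => h1 w hw) fun h1 => absurd h1 (not_b h hW), InU_f h hW⟩

/-- **`U₁` is normal in `C(f)`** -/
theorem normU {g u : G} (hg : g * f = f * g) (hu : InU z f v₁ u) : InU z f v₁ (g * u * g⁻¹) := by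
  rw [← mem_f h hW] at hu ⊢
  exact hu.conj' hg

end

end Cfsg.Agent.OddHalf.D5.SixAut.HsxB
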