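import Cfsg.Agent.OddHalf.D5.SixAut.HsxB
import Cfsg.Agent.OddHalf.D5.SixAut.HsxD

/-!
# ODD D5, `n = 6`, `C_G(x)/⟨x⟩ = Aut(A_6)`, the case (HSx): the end

`no_W` : in the situation `HX`, `C(z)` has no elementary abelian normal subgroup other than `1`, `⟨z⟩`.
-/

set_option autoImplicit false
set_option linter.unusedSectionVars false

namespace Cfsg.Agent.OddHalf.D5.SixAut.HsxEnd

open HsxW HsxB Subgroup Cfsg

/-- refute a commutation -/
local macro "kl8" r:ident t:ident : tactic => `(tactic| (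
  nf8a $r $t
  simp only [mul_right_inj, left_eq_mul, mul_eq_left, right_eq_mul, mul_eq_right] at $t:ident
  first
  | exact ($r).z1 $t
  | exact ($r).f1 $t
  | exact ($r).fz1 $t
  | exact ($r).fz $t
  | exact ($r).fz ($t).symm))

variable {G : Type*} [Group G]

/-- `A ∪ v A` -/
def grow (A : Subgroup G) (v : G) (hv : v * v = 1) (hc : ∀ a ∈ A, v * a = a * v) : Subgroup G where
  carrier := {g | g ∈ A ∨ ∃ a ∈ A, g = v * a}
  one_mem' := Or.inl A.one_mem
  mul_mem' := by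
    rintro g g' (hg | ⟨a, ha, rfl⟩) (hg' | ⟨a', ha', rfl⟩)
    · exact Or.inl (A.mul_mem hg hg')
    · exact Or.inr ⟨g * a', A.mul_mem hg ha', by rw [← mul_assoc, ← hc g hg, mul_assoc]⟩
    · exact Or.inr ⟨a * g', A.mul_mem ha hg', by rw [mul_assoc]⟩
    · left
      have e : v * a * (v * a') = a * a' := by
        calc v * a * (v * a') = (v * a) * v * a' := by group
          _ = a * (v * v) * a' := by rw [hc a ha]; group
          _ = a * a' := by rw [hv, mul_one]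
      show v * a * (v * a') ∈ A
      rw [e]
      exact A.mul_mem ha ha'
  inv_mem' := by
    rintro g (hg | ⟨a, ha, rfl⟩)
    · exact Or.inl (A.inv_mem hg)
    · right
      refine ⟨a⁻¹, A.inv_mem ha, ?_⟩
      rw [mul_inv_rev, inv_eq_of_mul_eq_one_left hv, hc _ (A.inv_mem ha)]

theorem mem_grow {A : Subgroup G} {v : G} {hv : v * v = 1} {hc : ∀ a ∈ A, v * a = a * v} {g : G} :
    g ∈ grow A v hv hc ↔ g ∈ A ∨ ∃ a ∈ A, g = v * a := Iff.rfl

theorem card_grow [Finite G] {A : Subgroup G} {v : G} {hv : v * v = 1} {hc : ∀ a ∈ A, v * a = a * v} :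
    Nat.card (grow A v hv hc) ≤ 2 * Nat.card A := by
  have e : ((grow A v hv hc : Subgroup G) : Set G) = (A : Set G) ∪ (fun a => v * a) '' (A : Set G) := by
    ext g
    constructor
    · rintro (h | ⟨a, ha, rfl⟩)
      · exact Or.inl h
      · exact Or.inr ⟨a, ha, rfl⟩
    · rintro (h | ⟨a, ha, rfl⟩)
      · exact Or.inl h
      · exact Or.inr ⟨a, ha, rfl⟩
  have h1 : Nat.card (grow A v hv hc) = ((grow A v hv hc : Subgroup G) : Set G).ncard := rfl
  have h2 : Nat.card A = (A : Set G).ncard := rfl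
  rw [h1, h2, e, two_mul]
  refine (Set.ncard_union_le _ _).trans (Nat.add_le_add_left ?_ _)
  exact Set.ncard_image_le (Set.toFinite _)

section

variable {x z f v₁ v₂ b c r d m : G} (h : HX x z f v₁ v₂ b c r d m)
include h

theorem linv {s : G} (hs : InL z f s) : InL z f s⁻¹ := by
  rw [inv_eq_of_mul_eq_one_left (lsq h.toT8R hs)]; exact hs

/-- `L = ⟨z, f⟩` -/
def Lg : Subgroup G where
  carrier := {g | InL z f g}
  one_mem' := Or.inl rfl
  mul_mem' := fun ha hb => lmul h.toT8R ha hb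
  inv_mem' := fun ha => linv h ha

theorem mem_Lg {g : G} : g ∈ Lg h ↔ InL z f g := Iff.rfl

theorem card_Lg [Finite G] : Nat.card (Lg h) = 4 := by
  classical
  have hr := h.toT8R
  have e : ((Lg h : Subgroup G) : Set G) = (({1, z, f, f * z} : Finset G) : Set G) := by
    ext g
    rw [Finset.mem_coe]
    simp only [Finset.mem_insert, Finset.mem_singleton]
    exact Iff.rfl
  have h1 : Nat.card (Lg h) = ((Lg h : Subgroup G) : Set G).ncard := rfl
  rw [h1, e, Set.ncard_coe_finset]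
  rw [Finset.card_insert_of_notMem, Finset.card_insert_of_notMem, Finset.card_insert_of_notMem,
    Finset.card_singleton]
  · rw [Finset.mem_singleton]
    intro e'
    rw [left_eq_mul] at e'
    exact hr.z1 e'
  · simp only [Finset.mem_insert, Finset.mem_singleton, not_or]
    refine ⟨fun e' => hr.fz e'.symm, fun e' => ?_⟩
    rw [right_eq_mul] at e'
    exact hr.f1 e'
  · simp only [Finset.mem_insert, Finset.mem_singleton, not_or]
    exact ⟨fun e' => hr.z1 e'.symm, fun e' => hr.f1 e'.symm, fun e' => hr.fz1 e'.symm⟩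

theorem lc {g : G} (hf : f * g = g * f) (hz : z * g = g * z) : ∀ a ∈ Lg h, g * a = a * g :=
  fun _ ha => lcomm ha hf.symm hz.symm

/-- `U₁ = ⟨z, f, v₁⟩` -/
def U1 : Subgroup G := grow (Lg h) v₁ h.v₁v₁ (lc h h.fv₁ h.zv₁)

/-- `U₂ = ⟨z, f, v₂⟩` -/
def U2 : Subgroup G := grow (Lg h) v₂ h.v₂v₂ (lc h h.fv₂ h.zv₂)

/-- `Y = ⟨z, f, x⟩` -/
def Yg : Subgroup G := grow (Lg h) x h.xx (lc h h.toT8R.fx h.zx)

theorem xU1 : ∀ a ∈ U1 h, x * a = a * x := by
  rintro a (ha | ⟨l, hl, rfl⟩)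
  · exact lc h h.toT8R.fx h.zx a ha
  · have := lc h h.toT8R.fx h.zx l hl
    rw [← mul_assoc, ← h.v₁x, mul_assoc, this, mul_assoc]

/-- `E₁ = ⟨z, f, v₁, x⟩` -/
def E1 : Subgroup G := grow (U1 h) x h.xx (xU1 h)

theorem mem_U1 {g : G} : g ∈ U1 h ↔ InU z f v₁ g := by
  constructor
  · rintro (ha | ⟨l, hl, rfl⟩)
    · exact ⟨g, ha, Or.inl rfl⟩
    · exact ⟨l, hl, Or.inr rfl⟩
  · rintro ⟨l, hl, e | e⟩
    · left; rw [e]; exact hl
    · exact Or.inr ⟨l, hl, e⟩

/-- `C(v₁) ∩ C(v₂) ∩ T₈ = Y` -/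
theorem centY {t : G} (hT : T8 x z f t) (c1 : t * v₁ = v₁ * t) (c2 : t * v₂ = v₂ * t) : t ∈ Yg h := by
  have hr := h.toT8R
  obtain ⟨β, t, hβ, ⟨p, q, s, l, hp, hq, hs, hl, rfl⟩, rfl⟩ := hT.nform h
  have key : ∀ g, g * f = f * g → g * z = z * g → ∀ t', t' * l * g = g * (t' * l) → t' * g = g * t' := by
    intro g hf hz t' e
    have hc : g * l = l * g := lcomm hl hf hz
    apply mul_right_cancel (b := l)
    calc t' * g * l = t' * (g * l) := by group
      _ = t' * l * g := by rw [hc]; group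
      _ = g * t' * l := by rw [e]; group
  have e0 : β * (p * (q * (s * l))) = β * (p * (q * s)) * l := by group
  rw [e0] at c1 c2
  have c1' := key v₁ hr.fv₁.symm hr.zv₁.symm _ c1
  have c2' := key v₂ hr.fv₂.symm hr.zv₂.symm _ c2
  clear c1 c2 e0 key hT
  rcases hβ with rfl | rfl | rfl | rfl
  · rcases hp with rfl | rfl <;> rcases hq with rfl | rfl <;> rcases hs with rfl | rfl
    all_goals first
      | (exfalso; kl8 hr c1')
      | (exfalso; kl8 hr c2')
      | (simp only [one_mul]; exact Or.inl hl)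
      | (simp only [one_mul]; exact Or.inr ⟨l, hl, rfl⟩)
  · rcases hp with rfl | rfl <;> rcases hq with rfl | rfl <;> rcases hs with rfl | rfl
    all_goals first
      | (exfalso; kl8 hr c1')
      | (exfalso; kl8 hr c2')
  · rcases hp with rfl | rfl <;> rcases hq with rfl | rfl <;> rcases hs with rfl | rfl
    all_goals exfalso; kl8 hr c1'
  · rcases hp with rfl | rfl <;> rcases hq with rfl | rfl <;> rcases hs with rfl | rfl
    all_goals exfalso; kl8 hr c1'

theorem r_L {l : G} (hl : InL z f l) : InL z f (r * l * r⁻¹) := by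
  have hr := h.toT8R
  rcases hl with rfl | rfl | rfl | rfl
  · left; group
  · right; left; exact h.rz
  · right; right; right; exact h.rf
  · right; right; left
    calc r * (f * z) * r⁻¹ = (r * f * r⁻¹) * (r * z * r⁻¹) := by group
      _ = f := by rw [h.rf, h.rz]; nf8 hr

theorem r'_L {l : G} (hl : InL z f l) : InL z f (r⁻¹ * l * r) := by
  have hr := h.toT8R
  have e1 : r⁻¹ * z * r = z := by
    calc r⁻¹ * z * r = r⁻¹ * (r * z * r⁻¹) * r := by rw [h.rz]
      _ = z := by group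
  have e2 : r⁻¹ * (f * z) * r = f := by
    calc r⁻¹ * (f * z) * r = r⁻¹ * (r * f * r⁻¹) * r := by rw [h.rf]
      _ = f := by group
  rcases hl with e | e | e | e
  · left; rw [e]; group
  · right; left; rw [e]; exact e1
  · right; right; right
    rw [e]
    calc r⁻¹ * f * r = (r⁻¹ * (f * z) * r) * (r⁻¹ * z * r)⁻¹ := by group
      _ = f * z := by rw [e1, e2, hr.z_inv]
  · right; right; left; rw [e]; exact e2

theorem r_U {u : G} (hu : u ∈ U1 h) : r * u * r⁻¹ ∈ U2 h := by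
  rcases hu with hl | ⟨l, hl, rfl⟩
  · exact Or.inl (r_L h hl)
  · refine Or.inr ⟨_, r_L h hl, ?_⟩
    rw [← h.rv₁]; group

theorem r'_U {u : G} (hu : u ∈ U2 h) : r⁻¹ * u * r ∈ U1 h := by
  rcases hu with hl | ⟨l, hl, rfl⟩
  · exact Or.inl (r'_L h hl)
  · refine Or.inr ⟨_, r'_L h hl, ?_⟩
    rw [← h.rv₁]; group

theorem card_le [Finite G] {W : Subgroup G} (hW : WN x z f W) (hO : centralizerPPrimeCore 2 f = ⊥) :
    Nat.card (centralizer ({f} : Set G)) ≤ 768 := by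
  have hr := h.toT8R
  have nU1 : ∀ g, g * f = f * g → ∀ u ∈ U1 h, g * u * g⁻¹ ∈ U1 h := by
    intro g hg u hu
    rw [mem_U1] at hu ⊢
    exact normU h hW hg hu
  have hv1L : v₁ ∉ Lg h := by
    intro hv
    have h3 := lcomm hv hr.fv₂.symm hr.zv₂.symm
    rw [hr.v₂v₁, ← mul_assoc, mul_eq_left] at h3
    exact hr.z1 h3
  have hv2L : v₂ ∉ Lg h := by
    intro hv
    have h3 := lcomm hv hr.fv₁.symm hr.zv₁.symm
    rw [hr.v₂v₁, ← mul_assoc, left_eq_mul] at h3
    exact hr.z1 h3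
  have cY : Nat.card (Yg h) ≤ 8 := by
    have h1 := card_grow (A := Lg h) (hv := h.xx) (hc := lc h h.toT8R.fx h.zx)
    rw [card_Lg] at h1
    exact h1
  have sqY : ∀ y ∈ Yg h, y * y = 1 := by
    rintro y (hl | ⟨l, hl, rfl⟩)
    · exact lsq hr hl
    · have h1 := lc h h.toT8R.fx h.zx l hl
      calc x * l * (x * l) = x * l * (l * x) := by rw [h1]
        _ = x * (l * l) * x := by group
        _ = 1 := by rw [lsq hr hl, mul_one, hr.xx]
  have memc : ∀ {g}, g ∈ centralizer (U1 h : Set G) ⊓ centralizer (U2 h : Set G) →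
      g * z = z * g ∧ g * f = f * g ∧ g * v₁ = v₁ * g ∧ g * v₂ = v₂ * g := by
    intro g hg
    rw [mem_inf, mem_centralizer_iff, mem_centralizer_iff] at hg
    refine ⟨(hg.1 z (Or.inl ?_)).symm, (hg.1 f (Or.inl ?_)).symm, (hg.1 v₁ (Or.inr ⟨1, (Lg h).one_mem, ?_⟩)).symm,
      (hg.2 v₂ (Or.inr ⟨1, (Lg h).one_mem, ?_⟩)).symm⟩
    · exact Or.inr (Or.inl rfl)
    · exact Or.inr (Or.inr (Or.inl rfl))
    · rw [mul_one]
    · rw [mul_one]
  refine HsxJ.card_le (x := x) (z := z) (f := f) (v₁ := v₁) (v₂ := v₂) (L := Lg h) (U₁ := U1 h) (U₂ := U2 h)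
    (Y := Yg h) (card_Lg h) cY (Or.inr (Or.inl rfl)) (Or.inr (Or.inr (Or.inl rfl))) hr.f1 hr.z1 (fun e => hr.fz e.symm)
    (fun a ha => Or.inl ha) (fun u hu => hu) (fun u hu => hu) (Or.inr ⟨1, (Lg h).one_mem, by rw [mul_one]⟩)
    (Or.inr ⟨1, (Lg h).one_mem, by rw [mul_one]⟩) hv1L hv2L (fun c hc g hz hf => lcomm hc hf hz) nU1 ?_ hO ?_ ?_ ?_
    (Or.inr ⟨1, (Lg h).one_mem, by rw [mul_one]⟩) ?_
  · -- `U₂` normal in `C(f z)`
    intro g hg u hu
    have h1 := r'_U h hu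
    have e1 : r⁻¹ * (f * z) * r = f := by
      calc r⁻¹ * (f * z) * r = r⁻¹ * (r * f * r⁻¹) * r := by rw [h.rf]
        _ = f := by group
    have h2 : (r⁻¹ * g * r) * f = f * (r⁻¹ * g * r) := by
      calc (r⁻¹ * g * r) * f = (r⁻¹ * g * r) * (r⁻¹ * (f * z) * r) := by rw [e1]
        _ = r⁻¹ * (g * (f * z)) * r := by group
        _ = r⁻¹ * (f * z) * r * (r⁻¹ * g * r) := by rw [hg]; group
        _ = f * (r⁻¹ * g * r) := by rw [e1]
    have h3 := r_U h (nU1 _ h2 _ h1)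
    have e2 : r * (r⁻¹ * g * r * (r⁻¹ * u * r) * (r⁻¹ * g * r)⁻¹) * r⁻¹ = g * u * g⁻¹ := by group
    rwa [e2] at h3
  · -- `Y` centralises `U₁`, `U₂`
    intro y hy
    have hyz : y * z = z * y := by
      rcases hy with hl | ⟨l, hl, rfl⟩
      · exact (lcomm hl hr.zf rfl).symm
      · have := lcomm hl hr.zf rfl
        rw [mul_assoc, ← this, ← mul_assoc, ← hr.zx, mul_assoc]
    have hyf : y * f = f * y := by
      rcases hy with hl | ⟨l, hl, rfl⟩
      · exact (lcomm hl rfl hr.zf.symm).symm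
      · have := lcomm hl rfl hr.zf.symm
        rw [mul_assoc, ← this, ← mul_assoc, ← hr.fx, mul_assoc]
    have hy1 : y * v₁ = v₁ * y := by
      rcases hy with hl | ⟨l, hl, rfl⟩
      · exact (lcomm hl hr.fv₁.symm hr.zv₁.symm).symm
      · have := lcomm hl hr.fv₁.symm hr.zv₁.symm
        rw [mul_assoc, ← this, ← mul_assoc, ← hr.v₁x, mul_assoc]
    have hy2 : y * v₂ = v₂ * y := by
      rcases hy with hl | ⟨l, hl, rfl⟩
      · exact (lcomm hl hr.fv₂.symm hr.zv₂.symm).symm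
      · have := lcomm hl hr.fv₂.symm hr.zv₂.symm
        rw [mul_assoc, ← this, ← mul_assoc, ← hr.v₂x, mul_assoc]
    refine mem_inf.2 ⟨mem_centralizer_iff.2 ?_, mem_centralizer_iff.2 ?_⟩
    · rintro u (hu | ⟨l, hl, rfl⟩)
      · exact (lcomm hu hyf hyz).symm
      · have := lcomm hl hyf hyz
        rw [mul_assoc, ← this, ← mul_assoc, ← hy1, mul_assoc]
    · rintro u (hu | ⟨l, hl, rfl⟩)
      · exact (lcomm hu hyf hyz).symm
      · have := lcomm hl hyf hyz
        rw [mul_assoc, ← this, ← mul_assoc, ← hy2, mul_assoc]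
  · -- a 2-group
    intro y
    refine ⟨1, ?_⟩
    rw [pow_one, pow_two]
    apply Subtype.ext
    exact sqY y y.2
  · intro y hy y' hy'
    exact comm_of_sq (sqY y hy) (sqY y' hy') (sqY _ ((Yg h).mul_mem hy hy'))
  · -- self-normalising
    intro n hn hnx
    obtain ⟨hz, hf, hv1, hv2⟩ := memc hn
    refine centY h ⟨hf, hz, ?_⟩ hv1 hv2
    rcases hnx with hl | ⟨l, hl, e⟩
    · exfalso
      apply x_notL h
      have hl' : InL z f (n * x * n⁻¹) := hl
      have e2 : n * (n * x * n⁻¹) = (n * x * n⁻¹) * n := lcomm hl' hf hz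
      have e3 : x = n * x * n⁻¹ := by
        have e4 : n⁻¹ * (n * (n * x * n⁻¹)) * n⁻¹ = n⁻¹ * ((n * x * n⁻¹) * n) * n⁻¹ := by rw [e2]
        have e5 : n⁻¹ * (n * (n * x * n⁻¹)) * n⁻¹ = n * x * n⁻¹ * n⁻¹ := by group
        have e6 : n⁻¹ * ((n * x * n⁻¹) * n) * n⁻¹ = x * n⁻¹ := by group
        rw [e5, e6] at e4
        exact (mul_right_cancel e4).symm
      rw [e3]; exact hl'
    · exact ⟨l, hl, e⟩

theorem mem_E1 {g : G} : g ∈ E1 h ↔ InU z f v₁ g ∨ ∃ t, InU z f v₁ t ∧ g = x * t := by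
  constructor
  · rintro (hu | ⟨u, hu, rfl⟩)
    · exact Or.inl ((mem_U1 h).1 hu)
    · exact Or.inr ⟨u, (mem_U1 h).1 hu, rfl⟩
  · rintro (hu | ⟨u, hu, rfl⟩)
    · exact Or.inl ((mem_U1 h).2 hu)
    · exact Or.inr ⟨u, (mem_U1 h).2 hu, rfl⟩

theorem E1_sq : ∀ a ∈ E1 h, a * a = 1 := by
  have hr := h.toT8R
  have hU : ∀ a ∈ U1 h, a * a = 1 := by
    rintro a (hl | ⟨l, hl, rfl⟩)
    · exact lsq hr hl
    · have h1 := lc h h.fv₁ h.zv₁ l hl
      calc v₁ * l * (v₁ * l) = v₁ * l * (l * v₁) := by rw [h1]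
        _ = v₁ * (l * l) * v₁ := by group
        _ = 1 := by rw [lsq hr hl, mul_one, hr.v₁v₁]
  rintro a (hu | ⟨u, hu, rfl⟩)
  · exact hU a hu
  · have h1 := xU1 h u hu
    calc x * u * (x * u) = x * u * (u * x) := by rw [h1]
      _ = x * (u * u) * x := by group
      _ = 1 := by rw [hU u hu, mul_one, hr.xx]

/-- **(HSx) is dead with `W`** -/
theorem no_W [Finite G] (hO : centralizerPPrimeCore 2 f = ⊥)
    (N : Subgroup G) (hNf : ∀ g ∈ N, g * f = f * g) (hN : ∀ g ∈ N, ∀ e ∈ E1 h, g * e * g⁻¹ ∈ E1 h)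
    (hcN : 768 ≤ Nat.card N)
    (hd : ∀ W : Subgroup G, (∀ a ∈ W, a * a = 1) → (∀ w ∈ W, w * z = z * w) →
      (∀ g, g * z = z * g → ∀ w ∈ W, g * w * g⁻¹ ∈ W) → (∃ w ∈ W, w ≠ 1 ∧ w ≠ z) → WN x z f W)
    {W : Subgroup G} (hW : WN x z f W) : False := by
  have hr := h.toT8R
  have h1 := card_le h hW hO
  have h2 : N ≤ centralizer ({f} : Set G) := fun g hg => mem_centralizer_singleton_iff.2 (hNf g hg)
  have h3 : N = centralizer ({f} : Set G) :=
    Subgroup.eq_of_le_of_card_ge h2 (h1.trans hcN)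
  have hE : ∀ g, g * f = f * g → ∀ e ∈ E1 h, g * e * g⁻¹ ∈ E1 h := by
    intro g hg
    apply hN
    rw [h3]
    exact mem_centralizer_singleton_iff.2 hg
  let φ : G ≃* G := MulAut.conj (r * m)
  let W' : Subgroup G := (E1 h).comap φ.toMonoidHom
  have memW' : ∀ {w}, w ∈ W' ↔ (r * m) * w * (r * m)⁻¹ ∈ E1 h := fun {w} => Iff.rfl
  have fE : f ∈ E1 h := (mem_E1 h).2 (Or.inl ⟨f, Or.inr (Or.inr (Or.inl rfl)), Or.inl rfl⟩)
  have fzE : f * z ∈ E1 h := (mem_E1 h).2 (Or.inl ⟨f * z, Or.inr (Or.inr (Or.inr rfl)), Or.inl rfl⟩)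
  have xE : x ∈ E1 h := Or.inr ⟨1, (U1 h).one_mem, by rw [mul_one]⟩
  have elW' : ∀ a ∈ W', a * a = 1 := by
    intro a ha
    have h5 := E1_sq h _ (memW'.1 ha)
    have e : (r * m) * a * (r * m)⁻¹ * ((r * m) * a * (r * m)⁻¹) = (r * m) * (a * a) * (r * m)⁻¹ := by group
    rw [e] at h5
    have e3 : (r * m)⁻¹ * ((r * m) * (a * a) * (r * m)⁻¹) * (r * m) = a * a := by group
    rw [← e3, h5]; group
  have hW' : WN x z f W' := by
    apply hd
    · exact elW'
    · intro w hw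
      have hz' : z ∈ W' := by rw [memW', rho_z h]; exact fE
      exact comm_of_sq (elW' w hw) (elW' z hz') (elW' _ (W'.mul_mem hw hz'))
    · intro g hg w hw
      rw [memW'] at hw ⊢
      have h5 : ((r * m) * g * (r * m)⁻¹) * f = f * ((r * m) * g * (r * m)⁻¹) := by
        calc ((r * m) * g * (r * m)⁻¹) * f = ((r * m) * g * (r * m)⁻¹) * ((r * m) * z * (r * m)⁻¹) := by rw [rho_z h]
          _ = (r * m) * (g * z) * (r * m)⁻¹ := by group
          _ = ((r * m) * z * (r * m)⁻¹) * ((r * m) * g * (r * m)⁻¹) := by rw [hg]; group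
          _ = f * ((r * m) * g * (r * m)⁻¹) := by rw [rho_z h]
      have h6 := hE _ h5 _ hw
      have e : (r * m) * g * (r * m)⁻¹ * ((r * m) * w * (r * m)⁻¹) * ((r * m) * g * (r * m)⁻¹)⁻¹ =
          (r * m) * (g * w * g⁻¹) * (r * m)⁻¹ := by group
      rwa [e] at h6
    · refine ⟨f, ?_, hr.f1, hr.fz⟩
      rw [memW', rho_f h]; exact fzE
  apply not_x h hW'
  refine ⟨r * m, rho_z h, ?_⟩
  rw [memW']
  have e : (r * m) * ((r * m)⁻¹ * x * (r * m)) * (r * m)⁻¹ = x := by group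
  rw [e]; exact xE

end

end Cfsg.Agent.OddHalf.D5.SixAut.HsxEnd
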