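import Cfsg.Agent.OddHalf.D5.SixAut.HsxFrame
import Cfsg.Agent.OddHalf.D5.SixAut.PTwoDefs

/-!
# ODD D5, `K = A₆`, `C(x)/⟨x⟩ = Aut(A₆)`, case (HSx): `HX` from helper310's `HSx` (helper383)
-/

set_option autoImplicit false
set_option linter.unusedSectionVars false

namespace Cfsg.Agent.OddHalf.D5.SixAut.HsxGlue

open Equiv EPerm EOne FusE PTwoDefs DblNorm

variable {G : Type*} [Group G] [Finite G] {x r : G} {ι : Perm (Fin 6) →* G}

theorem exists_HX (h : AutSpl x ι r) (hs : HSx x ι) :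
    ∃ b c d m, HX x (ι pz) (ι pf) (ι pv1) (ι pv2) b c r d m := by
  obtain ⟨b, bf, bz, bv, bx⟩ := hs.b
  obtain ⟨m, mf, mv, mz, mx⟩ := hs.m
  refine HsxFrame.exists_HX h ⟨b, bf, bz, bv, bx⟩ ⟨m, mf, ?_⟩ ?_
  · rw [mz, ← map_mul, ← map_mul, V_comm V_z V_pf]
  · rintro g gf gz gv ⟨l, hl, hx⟩
    refine hs.tr g (gen_NE h ?_ ?_ ?_) gf gz gv
    · have hl' : l ∈ E1 x ι := by
        rcases hl with rfl | rfl | rfl | rfl
        · exact one_mem _
        · exact zE h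
        · exact fE h
        · exact mul_mem (fE h) (zE h)
      rw [A_def]
      rcases hx with e | e
      · rw [e]; exact mul_mem (AutSpl'.x_mem h) hl'
      · rw [e]; exact mul_mem (AutSpl'.x_mem h) (mul_mem (vE h) hl')
    · rw [A_eq_iff.2 gz]; exact zE h
    · rw [A_eq_iff.2 gv]; exact vE h

end Cfsg.Agent.OddHalf.D5.SixAut.HsxGlue
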