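import Cfsg.Agent.OddHalf.D5.SixAut.HsxDefs

/-!
# ODD D5, `n = 6`, `C_G(x)/⟨x⟩ = Aut(A_6)`, the case (HSx): the elementary abelian normal subgroups of `C(z)`

For `i ∈ {z, f, f z}` let `W_i` be the conjugate of `W` normal in `C(i)` (`In z W i w` : `w ∈ W_i`). Then
`U₁ = ⟨z, f, v₁⟩ ≤ W_f`, `x ∉ W_f` (`not_x`), and if `W_f ≠ U₁` then `b ∈ W_f`, which is impossible (`not_b`).
-/

set_option autoImplicit false
set_option linter.unusedSectionVars false

namespace Cfsg.Agent.OddHalf.D5.SixAut.HsxW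

variable {G : Type*} [Group G]

theorem comm_of_sq {a b : G} (ha : a * a = 1) (hb : b * b = 1) (hab : a * b * (a * b) = 1) : a * b = b * a := by
  have h1 : (a * b)⁻¹ = a * b := inv_eq_of_mul_eq_one_left hab
  have h2 : a⁻¹ = a := inv_eq_of_mul_eq_one_left ha
  have h3 : b⁻¹ = b := inv_eq_of_mul_eq_one_left hb
  calc a * b = (a * b)⁻¹ := h1.symm
    _ = b * a := by rw [mul_inv_rev, h2, h3]

/-- `w ∈ W_i` -/
def In (z : G) (W : Subgroup G) (i w : G) : Prop := ∃ h, h * z * h⁻¹ = i ∧ h⁻¹ * w * h ∈ W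

theorem In.conj {z i w : G} {W : Subgroup G} (h1 : In z W i w) (k : G) : In z W (k * i * k⁻¹) (k * w * k⁻¹) := by
  obtain ⟨h, e, hw⟩ := h1
  refine ⟨k * h, by rw [← e]; group, ?_⟩
  have e2 : (k * h)⁻¹ * (k * w * k⁻¹) * (k * h) = h⁻¹ * w * h := by group
  rwa [e2]

/-- conjugation inside `C(i)` -/
theorem In.conj' {z i w : G} {W : Subgroup G} (h1 : In z W i w) {k : G} (hk : k * i = i * k) :
    In z W i (k * w * k⁻¹) := by
  have h2 := h1.conj k
  rwa [hk, mul_inv_cancel_right] at h2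

theorem In.of_mem {z w : G} {W : Subgroup G} (hw : w ∈ W) : In z W z w :=
  ⟨1, by group, by simpa using hw⟩

section basic

variable {x z f : G} {W : Subgroup G} (hW : WN x z f W)
include hW

theorem In.all {i w : G} (hi : In z W i w) (h : G) (e : h * z * h⁻¹ = i) : h⁻¹ * w * h ∈ W := by
  obtain ⟨h0, e0, hw⟩ := hi
  have h1 : (h⁻¹ * h0) * z = z * (h⁻¹ * h0) := by
    have e1 : h0 * z * h0⁻¹ = h * z * h⁻¹ := by rw [e0, e]
    calc (h⁻¹ * h0) * z = h⁻¹ * (h0 * z * h0⁻¹) * h0 := by group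
      _ = h⁻¹ * (h * z * h⁻¹) * h0 := by rw [e1]
      _ = z * (h⁻¹ * h0) := by group
  have h2 := hW.nz _ h1 _ hw
  have e2 : (h⁻¹ * h0) * (h0⁻¹ * w * h0) * (h⁻¹ * h0)⁻¹ = h⁻¹ * w * h := by group
  rwa [e2] at h2

theorem In.mem {w : G} (hi : In z W z w) : w ∈ W := by
  have := In.all hW hi 1 (by group)
  simpa using this

theorem In.mul {i w w' : G} (h1 : In z W i w) (h2 : In z W i w') : In z W i (w * w') := by
  obtain ⟨h, e, hw⟩ := h1
  have h3 := In.all hW h2 h e
  refine ⟨h, e, ?_⟩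
  have e2 : h⁻¹ * (w * w') * h = (h⁻¹ * w * h) * (h⁻¹ * w' * h) := by group
  rw [e2]
  exact W.mul_mem hw h3

theorem In.sq {i w : G} (h1 : In z W i w) : w * w = 1 := by
  obtain ⟨h, e, hw⟩ := h1
  have h2 := hW.el _ hw
  have e2 : (h⁻¹ * w * h) * (h⁻¹ * w * h) = h⁻¹ * (w * w) * h := by group
  rw [e2] at h2
  have e3 : h * (h⁻¹ * (w * w) * h) * h⁻¹ = w * w := by group
  rw [← e3, h2]; group

theorem In.comm {i w w' : G} (h1 : In z W i w) (h2 : In z W i w') : w * w' = w' * w :=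
  comm_of_sq (In.sq hW h1) (In.sq hW h2) (In.sq hW (In.mul hW h1 h2))

/-- `[w, x] ∈ C(x)` for `w ∈ W_i`, `x ∈ C(i)` -/
theorem In.brak {i w : G} (xx : x * x = 1) (hi : x * i = i * x) (h1 : In z W i w) :
    ∃ u, In z W i u ∧ u * x = x * u ∧ w * x * w⁻¹ = x * u := by
  have xi : x⁻¹ = x := inv_eq_of_mul_eq_one_left xx
  have h2 : In z W i (x * w * x⁻¹) := h1.conj' hi
  have h3 := In.mul hW h2 h1
  have h4 := In.comm hW h2 h1
  have wi : w⁻¹ = w := inv_eq_of_mul_eq_one_left (In.sq hW h1)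
  refine ⟨_, h3, ?_, ?_⟩
  · have e1 : x * (x * w * x⁻¹ * w) * x⁻¹ = (x * x) * w * (x * x)⁻¹ * (x * w * x⁻¹) := by group
    rw [xx, inv_one, one_mul, mul_one] at e1
    have e2 : x * (x * w * x⁻¹ * w) * x⁻¹ = x * w * x⁻¹ * w := by rw [e1, h4]
    rw [mul_inv_eq_iff_eq_mul] at e2
    exact e2.symm
  · calc w * x * w⁻¹ = w * x * w := by rw [wi]
      _ = x * (x⁻¹ * w * x * w) := by group
      _ = x * (x * w * x⁻¹ * w) := by rw [xi]

end basic

section InL

theorem lcomm {z f s g : G} (hs : InL z f s) (hf : g * f = f * g) (hz : g * z = z * g) : g * s = s * g := by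
  unfold InL at hs
  rcases hs with rfl | rfl | rfl | rfl
  · rw [mul_one, one_mul]
  · exact hz
  · exact hf
  · rw [← mul_assoc, hf, mul_assoc, hz, mul_assoc]

variable {x z f v₁ v₂ b c : G} (h : T8R x z f v₁ v₂ b c)
include h

theorem lmul {s t : G} (hs : InL z f s) (ht : InL z f t) : InL z f (s * t) := by
  unfold InL at *
  rcases hs with rfl | rfl | rfl | rfl <;> rcases ht with rfl | rfl | rfl | rfl <;> nf8 h <;> simp

theorem lsq {s : G} (hs : InL z f s) : s * s = 1 := by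
  unfold InL at hs
  rcases hs with rfl | rfl | rfl | rfl <;> nf8 h

end InL

/-- `t ∈ U₁ = ⟨z, f, v₁⟩` -/
def InU (z f v₁ t : G) : Prop := ∃ l, InL z f l ∧ (t = l ∨ t = v₁ * l)

section frame

variable {x z f v₁ v₂ b c r d m : G} (h : HX x z f v₁ v₂ b c r d m)
include h

theorem t8 : T8R x z f v₁ v₂ b c := h.toT8R

theorem rho_z : (r * m) * z * (r * m)⁻¹ = f := by
  have hr := h.toT8R
  calc (r * m) * z * (r * m)⁻¹ = r * (m * z * m⁻¹) * r⁻¹ := by group
    _ = (r * f * r⁻¹) * (r * z * r⁻¹) := by rw [h.mz]; group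
    _ = f := by rw [h.rf, h.rz]; nf8 hr

theorem rho_f : (r * m) * f * (r * m)⁻¹ = f * z := by
  calc (r * m) * f * (r * m)⁻¹ = r * (m * f * m⁻¹) * r⁻¹ := by group
    _ = f * z := by rw [h.mf, h.rf]

theorem rho_fz : (r * m) * (f * z) * (r * m)⁻¹ = z := by
  have hr := h.toT8R
  calc (r * m) * (f * z) * (r * m)⁻¹ = ((r * m) * f * (r * m)⁻¹) * ((r * m) * z * (r * m)⁻¹) := by group
    _ = z := by rw [rho_f h, rho_z h]; nf8 hr

theorem fx : f * x = x * f := h.toT8R.fx

/-- `x ∉ ⟨z, f⟩` -/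
theorem x_notL : ¬ InL z f x := by
  intro hx
  have hr := h.toT8R
  have e1 := lcomm hx hr.fb.symm hr.zb.symm
  rw [hr.xb] at e1
  have e2 := mul_left_cancel e1
  rw [left_eq_mul] at e2
  exact hr.f1 e2

theorem rho_L {t : G} : InL z f ((r * m) * t * (r * m)⁻¹) → InL z f t := by
  intro ht
  have key : ∀ a b : G, (r * m) * t * (r * m)⁻¹ = a → (r * m) * b * (r * m)⁻¹ = a → t = b := by
    intro a b e1 e2
    exact mul_left_cancel (mul_right_cancel (e1.trans e2.symm))
  rcases ht with e | e | e | e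
  · left; exact key _ _ e (by group)
  · right; right; right; exact key _ _ e (rho_fz h)
  · right; left; exact key _ _ e (rho_z h)
  · right; right; left; exact key _ _ e (rho_f h)

theorem rho_L' {t : G} : InL z f ((r * m)⁻¹ * t * (r * m)) → InL z f t := by
  intro ht
  have e0 : (r * m) * ((r * m)⁻¹ * t * (r * m)) * (r * m)⁻¹ = t := by group
  rcases ht with e | e | e | e
  · left; rw [← e0, e]; group
  · right; right; left; rw [← e0, e]; exact rho_z h
  · right; right; right; rw [← e0, e]; exact rho_f h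
  · right; left; rw [← e0, e]; exact rho_fz h

/-- `C_G(x, U₁) = E₁` -/
theorem centU {g : G} (hx : g * x = x * g) (hf : g * f = f * g) (hz : g * z = z * g) (hv : g * v₁ = v₁ * g) :
    InU z f v₁ g ∨ ∃ t, InU z f v₁ t ∧ g = x * t := by
  have hr := h.toT8R
  obtain ⟨p, q, s, l, hp, hq, hs, hl, rfl⟩ := h.cent g hx hf hz
  have hlv : v₁ * l = l * v₁ := lcomm hl hr.fv₁.symm hr.zv₁.symm
  have hs1 : s = 1 := by
    rcases hs with hs | hs
    · exact hs
    · exfalso
      rw [hs] at hv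
      have hpv : p * v₁ = v₁ * p := by
        rcases hp with rfl | rfl
        · rw [one_mul, mul_one]
        · exact hr.v₁x.symm
      have hqv : q * v₁ = v₁ * q := by
        rcases hq with rfl | rfl
        · rw [one_mul, mul_one]
        · rfl
      have e1 : p * (q * (v₂ * l)) * v₁ = p * q * (v₂ * v₁) * l := by
        calc p * (q * (v₂ * l)) * v₁ = p * q * v₂ * (l * v₁) := by group
          _ = p * q * (v₂ * v₁) * l := by rw [← hlv]; group
      have e2 : v₁ * (p * (q * (v₂ * l))) = p * q * (v₁ * v₂) * l := by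
        calc v₁ * (p * (q * (v₂ * l))) = (v₁ * p) * (q * (v₂ * l)) := by group
          _ = p * (v₁ * q) * (v₂ * l) := by rw [← hpv]; group
          _ = p * q * (v₁ * v₂) * l := by rw [← hqv]; group
      rw [e1, e2] at hv
      have e3 := mul_left_cancel (mul_right_cancel hv)
      rw [hr.v₂v₁] at e3
      have e4 := mul_left_cancel e3
      rw [mul_eq_left] at e4
      exact hr.z1 e4
  subst hs1
  rw [one_mul]
  have hU : InU z f v₁ (q * l) := by
    refine ⟨l, hl, ?_⟩
    rcases hq with rfl | rfl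
    · left; rw [one_mul]
    · right; rfl
  rcases hp with rfl | rfl
  · left; rwa [one_mul]
  · right; exact ⟨_, hU, rfl⟩

variable {W : Subgroup G} (hW : WN x z f W)
include hW

theorem rz_ : r * z = z * r := by
  have := h.rz; rwa [mul_inv_eq_iff_eq_mul] at this

/-- `W_f ∋ f, z` -/
theorem f_f : In z W f f := by
  have h1 := (In.of_mem (z := z) hW.zW).conj (r * m)
  rwa [rho_z h] at h1

theorem f_fz : In z W f (f * z) := by
  have h1 := (In.of_mem (z := z) hW.fW).conj (r * m)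
  rwa [rho_z h, rho_f h] at h1

theorem f_z : In z W f z := by
  have h1 := In.mul hW (f_f h hW) (f_fz h hW)
  rwa [← mul_assoc, h.ff, one_mul] at h1

theorem f_v₁ : In z W f v₁ := by
  have h1 := (f_z h hW).conj d
  rwa [h.df, h.dz] at h1

theorem fz_of {w : G} (hw : In z W f w) : In z W (f * z) (r * w * r⁻¹) := by
  have h1 := hw.conj r
  rwa [h.rf] at h1

theorem of_fz {w : G} (hw : In z W (f * z) w) : In z W f (r⁻¹ * w * r) := by
  have hr := h.toT8R
  have h1 := hw.conj r⁻¹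
  rw [inv_inv] at h1
  have e1 : r⁻¹ * (f * z) * r = f := by rw [← h.rf]; group
  rwa [e1] at h1

theorem fz_f : In z W (f * z) f := by
  have h1 := (f_fz h hW).conj r
  have hr := h.toT8R
  have e1 : r * (f * z) * r⁻¹ = f := by
    calc r * (f * z) * r⁻¹ = (r * f * r⁻¹) * (r * z * r⁻¹) := by group
      _ = f := by rw [h.rf, h.rz]; nf8 hr
  rwa [e1, h.rf] at h1

theorem fz_z : In z W (f * z) z := by
  have h1 := fz_of h hW (f_z h hW)
  rwa [h.rz] at h1

theorem fz_v₂ : In z W (f * z) v₂ := by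
  have h1 := fz_of h hW (f_v₁ h hW)
  rwa [h.rv₁] at h1

/-- `ρ : W_z → W_f → W_{fz} → W_z` -/
theorem rho1 {w : G} (hw : In z W z w) : In z W f ((r * m) * w * (r * m)⁻¹) := by
  have h1 := hw.conj (r * m)
  rwa [rho_z h] at h1

theorem rho2 {w : G} (hw : In z W f w) : In z W (f * z) ((r * m) * w * (r * m)⁻¹) := by
  have h1 := hw.conj (r * m)
  rwa [rho_f h] at h1

theorem rho3 {w : G} (hw : In z W (f * z) w) : In z W z ((r * m) * w * (r * m)⁻¹) := by
  have h1 := hw.conj (r * m)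
  rwa [rho_fz h] at h1

theorem rho1' {w : G} (hw : In z W f w) : In z W z ((r * m)⁻¹ * w * (r * m)) := by
  have h1 := hw.conj (r * m)⁻¹
  have e1 : (r * m)⁻¹ * f * (r * m) = z := by rw [← rho_z h]; group
  rwa [inv_inv, e1] at h1

theorem rho2' {w : G} (hw : In z W (f * z) w) : In z W f ((r * m)⁻¹ * w * (r * m)) := by
  have h1 := hw.conj (r * m)⁻¹
  have e1 : (r * m)⁻¹ * (f * z) * (r * m) = f := by rw [← rho_f h]; group
  rwa [inv_inv, e1] at h1

theorem rho3' {w : G} (hw : In z W z w) : In z W (f * z) ((r * m)⁻¹ * w * (r * m)) := by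
  have h1 := hw.conj (r * m)⁻¹
  have e1 : (r * m)⁻¹ * z * (r * m) = f * z := by
    calc (r * m)⁻¹ * z * (r * m) = (r * m)⁻¹ * ((r * m) * (f * z) * (r * m)⁻¹) * (r * m) := by rw [rho_fz h]
      _ = f * z := by group
  rwa [inv_inv, e1] at h1

/-- **(1)** -/
theorem not_x : ¬ In z W f x := by
  intro hx
  have h1 : In z W (f * z) x := by
    have := fz_of h hW hx
    rwa [h.rx] at this
  have h2 := rho2 h hW hx
  have h3 := rho3 h hW h1
  have h4 := In.comm hW h2 h1
  exact x_notL h (rho_L h (hW.cx _ (In.mem hW h3) h4))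

/-- an element of `W_f` centralises `U₁` -/
theorem cU {w : G} (hw : In z W f w) : w * f = f * w ∧ w * z = z * w ∧ w * v₁ = v₁ * w :=
  ⟨In.comm hW hw (f_f h hW), In.comm hW hw (f_z h hW), In.comm hW hw (f_v₁ h hW)⟩

theorem InU_f {t : G} (ht : InU z f v₁ t) : In z W f t := by
  obtain ⟨l, hl, e⟩ := ht
  have hl' : In z W f l := by
    rcases hl with rfl | rfl | rfl | rfl
    · have := In.mul hW (f_f h hW) (f_f h hW)
      rwa [h.ff] at this
    · exact f_z h hW
    · exact f_f h hW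
    · exact f_fz h hW
  rcases e with rfl | rfl
  · exact hl'
  · exact In.mul hW (f_v₁ h hW) hl'

theorem cxU {w : G} (hw : In z W f w) (hx : w * x = x * w) : InU z f v₁ w := by
  obtain ⟨hf, hz, hv⟩ := cU h hW hw
  rcases centU h hx hf hz hv with h1 | ⟨t, ht, e⟩
  · exact h1
  · exfalso
    apply not_x h hW
    have h2 := In.mul hW hw (InU_f h hW ht)
    have h3 := In.sq hW (InU_f h hW ht)
    rw [e, mul_assoc, h3, mul_one] at h2
    exact h2

/-- the elements of `W_f` -/
theorem form {w : G} (hw : In z W f w) : InU z f v₁ w ∨ ∃ u, InU z f v₁ u ∧ w = b * u := by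
  have hr := h.toT8R
  obtain ⟨hf, hz, hv⟩ := cU h hW hw
  obtain ⟨u, hu, hux, e⟩ := In.brak hW h.xx (fx h).symm hw
  have hU := cxU h hW hu hux
  have htr := h.tr w hf hz hv (by
    obtain ⟨l, hl, e'⟩ := hU
    refine ⟨l, hl, ?_⟩
    rcases e' with e' | e'
    · left; rw [e, e']
    · right; rw [e, e'])
  rcases htr with e1 | e1
  · left
    apply cxU h hW hw
    rwa [mul_inv_eq_iff_eq_mul] at e1
  · right
    have e2 : w * x = x * f * w := by rwa [mul_inv_eq_iff_eq_mul] at e1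
    have hbx : (b * w) * x = x * (b * w) := by
      rw [mul_assoc, e2]
      nf8 hr
    have hbf : (b * w) * f = f * (b * w) := by
      rw [mul_assoc, hf]; nf8 hr
    have hbz : (b * w) * z = z * (b * w) := by
      rw [mul_assoc, hz]; nf8 hr
    have hbv : (b * w) * v₁ = v₁ * (b * w) := by
      rw [mul_assoc, hv]; nf8 hr
    rcases centU h hbx hbf hbz hbv with h1 | ⟨t, ht, e3⟩
    · exact ⟨b * w, h1, by nf8 hr⟩
    · exfalso
      have e4 : w = b * (x * t) := by rw [← e3]; nf8 hr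
      have e5 := In.sq hW hw
      rw [e4] at e5
      obtain ⟨l, hl, e'⟩ := ht
      rcases hl with rfl | rfl | rfl | rfl <;> rcases e' with rfl | rfl <;> nf8a hr e5 <;> exact hr.f1 e5

/-- **the dichotomy** -/
theorem dich : (∀ w, In z W f w → InU z f v₁ w) ∨ In z W f b := by
  by_cases hA : ∀ w, In z W f w → InU z f v₁ w
  · exact Or.inl hA
  · right
    push Not at hA
    obtain ⟨w, hw, hn⟩ := hA
    rcases form h hW hw with h1 | ⟨u, hu, e⟩
    · exact absurd h1 hn
    · have h2 := In.mul hW hw (InU_f h hW hu)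
      have h3 := In.sq hW (InU_f h hW hu)
      rwa [e, mul_assoc, h3, mul_one] at h2

theorem fz_form {w : G} (hw : In z W (f * z) w) :
    (∃ l, InL z f l ∧ (w = l ∨ w = v₂ * l)) ∨ ∃ l, InL z f l ∧ (w = c * l ∨ w = c * (v₂ * l)) := by
  have hr := h.toT8R
  have h1 := of_fz h hW hw
  have key : ∀ l, InL z f l → InL z f (r * l * r⁻¹) := by
    intro l hl
    rcases hl with rfl | rfl | rfl | rfl
    · left; group
    · right; left; exact h.rz
    · right; right; right; exact h.rf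
    · right; right; left
      calc r * (f * z) * r⁻¹ = (r * f * r⁻¹) * (r * z * r⁻¹) := by group
        _ = f := by rw [h.rf, h.rz]; nf8 hr
  have e0 : w = r * (r⁻¹ * w * r) * r⁻¹ := by group
  rcases form h hW h1 with ⟨l, hl, e | e⟩ | ⟨u, ⟨l, hl, e | e⟩, e'⟩
  · left; exact ⟨_, key l hl, Or.inl (by rw [e0, e])⟩
  · left
    refine ⟨_, key l hl, Or.inr ?_⟩
    rw [e0, e, ← h.rv₁]; group
  · right
    refine ⟨_, key l hl, Or.inl ?_⟩
    rw [e0, e', e, ← h.rb]; group
  · right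
    refine ⟨_, key l hl, Or.inr ?_⟩
    rw [e0, e', e, ← h.rb, ← h.rv₁]; group

/-- `W_f ∩ W_{fz} = ⟨z, f⟩` -/
theorem inter {w : G} (h1 : In z W f w) (h2 : In z W (f * z) w) : InL z f w := by
  have hr := h.toT8R
  have hv := In.comm hW h2 (fz_v₂ h hW)
  rcases form h hW h1 with ⟨l, hl, e | e⟩ | ⟨u, ⟨l, hl, e | e⟩, e'⟩
  · rw [e]; exact hl
  · exfalso
    have hlv : l * v₂ = v₂ * l := (lcomm hl hr.fv₂.symm hr.zv₂.symm).symm
    rw [e, mul_assoc, hlv, ← mul_assoc, ← mul_assoc] at hv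
    have e1 := mul_right_cancel hv
    rw [hr.v₂v₁, ← mul_assoc, left_eq_mul] at e1
    exact hr.z1 e1
  · exfalso
    have hlv : l * v₂ = v₂ * l := (lcomm hl hr.fv₂.symm hr.zv₂.symm).symm
    rw [e', e, mul_assoc, hlv, ← mul_assoc, ← mul_assoc] at hv
    have e1 := mul_right_cancel hv
    rw [hr.v₂b, ← mul_assoc, left_eq_mul] at e1
    exact hr.f1 e1
  · exfalso
    have hlv : l * v₂ = v₂ * l := (lcomm hl hr.fv₂.symm hr.zv₂.symm).symm
    rw [e', e] at hv
    have e1 : b * (v₁ * l) * v₂ = b * (v₁ * v₂) * l := by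
      calc b * (v₁ * l) * v₂ = b * v₁ * (l * v₂) := by group
        _ = b * (v₁ * v₂) * l := by rw [hlv]; group
    have e2 : v₂ * (b * (v₁ * l)) = v₂ * (b * v₁) * l := by group
    rw [e1, e2] at hv
    have e3 := mul_right_cancel hv
    nf8a hr e3
    simp only [mul_right_inj, left_eq_mul] at e3
    exact hr.fz1 e3

/-- `W ∩ W_f ≤ ⟨z, f⟩` -/
theorem inter1 {w : G} (h1 : In z W z w) (h2 : In z W f w) : InL z f w :=
  rho_L h (inter h hW (rho1 h hW h1) (rho2 h hW h2))

/-- `W ∩ W_{fz} ≤ ⟨z, f⟩` -/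
theorem inter2 {w : G} (h1 : In z W z w) (h2 : In z W (f * z) w) : InL z f w :=
  rho_L' h (inter h hW (rho2' h hW h2) (rho3' h hW h1))

/-- `x^w ∈ x ⟨z, f⟩` for `w ∈ W` -/
theorem mv {w : G} (hw : In z W z w) : ∃ l, InL z f l ∧ w * x * w⁻¹ = x * l := by
  have hr := h.toT8R
  obtain ⟨u, hu, hux, e⟩ := In.brak hW h.xx hr.zx.symm hw
  exact ⟨u, hW.cx _ (In.mem hW hu) hux, e⟩

theorem L_z {l : G} (hl : InL z f l) : In z W z l := by
  rcases hl with rfl | rfl | rfl | rfl
  · exact In.of_mem W.one_mem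
  · exact In.of_mem hW.zW
  · exact In.of_mem hW.fW
  · exact In.of_mem (W.mul_mem hW.fW hW.zW)

theorem cl {w : G} (hw : In z W z w) : w * f = f * w ∧ w * z = z * w :=
  ⟨In.comm hW hw (In.of_mem hW.fW), In.comm hW hw (In.of_mem hW.zW)⟩

/-- `W` covers `T₈/T₀` -/
theorem covers (hb : In z W f b) : (∃ y, In z W z y ∧ y * x * y⁻¹ = x * f) ∧
    (∃ y, In z W z y ∧ y * x * y⁻¹ = x * (f * z)) := by
  have hr := h.toT8R
  have w1 := rho1' h hW (f_v₁ h hW)
  have w2 := rho1' h hW hb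
  obtain ⟨u1, hu1, e1⟩ := mv h hW w1
  obtain ⟨u2, hu2, e2⟩ := mv h hW w2
  set y1 := (r * m)⁻¹ * v₁ * (r * m) with hy1
  set y2 := (r * m)⁻¹ * b * (r * m) with hy2
  -- products
  have e3 : (y1 * y2) * x * (y1 * y2)⁻¹ = x * (u1 * u2) := by
    have hc : y1 * u2 = u2 * y1 := lcomm hu2 (cl h hW w1).1 (cl h hW w1).2
    calc (y1 * y2) * x * (y1 * y2)⁻¹ = y1 * (y2 * x * y2⁻¹) * y1⁻¹ := by group
      _ = y1 * x * (u2 * y1⁻¹) := by rw [e2]; group
      _ = y1 * x * (y1⁻¹ * u2) := by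
          congr 1
          rw [eq_inv_mul_iff_mul_eq, ← mul_assoc, hc, mul_inv_cancel_right]
      _ = (y1 * x * y1⁻¹) * u2 := by group
      _ = x * (u1 * u2) := by rw [e1]; group
  have w3 := In.mul hW w1 w2
  -- non-triviality
  have k1 : u1 ≠ 1 := by
    intro e
    rw [e, mul_one, mul_inv_eq_iff_eq_mul] at e1
    have h1 := hW.cx _ (In.mem hW w1) e1
    have h2 := rho_L' h h1
    have h3 := lcomm h2 hr.fv₂.symm hr.zv₂.symm
    rw [hr.v₂v₁, ← mul_assoc, mul_eq_left] at h3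
    exact hr.z1 h3
  have k2 : u2 ≠ 1 := by
    intro e
    rw [e, mul_one, mul_inv_eq_iff_eq_mul] at e2
    have h1 := hW.cx _ (In.mem hW w2) e2
    have h2 := rho_L' h h1
    have h3 := lcomm h2 hr.fv₂.symm hr.zv₂.symm
    rw [hr.v₂b, ← mul_assoc, mul_eq_left] at h3
    exact hr.f1 h3
  have k3 : u1 * u2 ≠ 1 := by
    intro e
    rw [e, mul_one, mul_inv_eq_iff_eq_mul] at e3
    have h1 := hW.cx _ (In.mem hW w3) e3
    have e4 : y1 * y2 = (r * m)⁻¹ * (v₁ * b) * (r * m) := by rw [hy1, hy2]; group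
    rw [e4] at h1
    have h2 := rho_L' h h1
    have h3 := lcomm h2 hr.fv₂.symm hr.zv₂.symm
    nf8a hr h3
    simp only [mul_right_inj, mul_eq_left] at h3
    exact hr.fz1 h3
  have sel : ∀ t, (t = u1 ∨ t = u2 ∨ t = u1 * u2) → ∃ y, In z W z y ∧ y * x * y⁻¹ = x * t := by
    rintro t (rfl | rfl | rfl)
    · exact ⟨_, w1, e1⟩
    · exact ⟨_, w2, e2⟩
    · exact ⟨_, w3, e3⟩
  constructor
  · apply sel
    rcases hu1 with rfl | rfl | rfl | rfl <;> rcases hu2 with rfl | rfl | rfl | rfl <;> (try nf8a hr k3) <;>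
      first
      | exact absurd rfl k1
      | exact absurd rfl k2
      | exact absurd rfl k3
      | (left; rfl)
      | (right; left; rfl)
      | (right; right; nf8 hr)
  · apply sel
    rcases hu1 with rfl | rfl | rfl | rfl <;> rcases hu2 with rfl | rfl | rfl | rfl <;> (try nf8a hr k3) <;>
      first
      | exact absurd rfl k1
      | exact absurd rfl k2
      | exact absurd rfl k3
      | (left; rfl)
      | (right; left; rfl)
      | (right; right; nf8 hr)

/-- the element `y ∈ W`, `x^y = x f` -/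
theorem y_mem (hb : In z W f b) : In z W z (b * (x * v₂)) := by
  have hr := h.toT8R
  obtain ⟨⟨y, hy, e⟩, -⟩ := covers h hW hb
  obtain ⟨hf, hz⟩ := cl h hW hy
  have e2 : y * x = x * f * y := by rwa [mul_inv_eq_iff_eq_mul] at e
  have hbx : (b * y) * x = x * (b * y) := by
    rw [mul_assoc, e2]; nf8 hr
  have hbf : (b * y) * f = f * (b * y) := by rw [mul_assoc, hf]; nf8 hr
  have hbz : (b * y) * z = z * (b * y) := by rw [mul_assoc, hz]; nf8 hr
  obtain ⟨p, q, s, l, hp, hq, hs, hl, e3⟩ := h.cent _ hbx hbf hbz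
  have e4 : y = b * (p * (q * (s * l))) := by rw [← e3]; nf8 hr
  have h5 := In.mul hW hy (L_z h hW hl)
  have e5 : y * l = b * (p * (q * s)) := by
    rw [e4]
    calc b * (p * (q * (s * l))) * l = b * (p * (q * s)) * (l * l) := by group
      _ = b * (p * (q * s)) := by rw [lsq hr hl, mul_one]
  rw [e5] at h5
  have e6 := In.sq hW h5
  have nb : ∀ w, In z W f w → In z W z w → w * v₂ = v₂ * w := by
    intro w h1 h2
    exact (lcomm (inter1 h hW h2 h1) hr.fv₂.symm hr.zv₂.symm).symm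
  have hbv : In z W f (b * v₁) := In.mul hW hb (f_v₁ h hW)
  rcases hp with rfl | rfl
  · exfalso
    rcases hq with rfl | rfl
    · rcases hs with rfl | rfl
      · simp only [mul_one] at h5
        have e7 := nb _ hb h5
        nf8a hr e7
        simp only [mul_right_inj, left_eq_mul] at e7
        exact hr.f1 e7
      · nf8a hr e6; exact hr.f1 e6
    · rcases hs with rfl | rfl
      · simp only [one_mul, mul_one] at h5
        have e7 := nb _ hbv h5
        nf8a hr e7
        simp only [mul_right_inj, left_eq_mul] at e7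
        exact hr.fz1 e7
      · nf8a hr e6; exact hr.fz1 e6
  · rcases hq with rfl | rfl
    · rcases hs with rfl | rfl
      · exfalso; nf8a hr e6; exact hr.f1 e6
      · rwa [one_mul] at h5
    · exfalso
      rcases hs with rfl | rfl
      · nf8a hr e6; exact hr.f1 e6
      · nf8a hr e6; exact hr.z1 e6

theorem c_fz (hb : In z W f b) : In z W (f * z) c := by
  have h1 := fz_of h hW hb
  rwa [h.rb] at h1

/-- the element `y' ∈ W`, `x^{y'} = x f z` -/
theorem y'_mem (hb : In z W f b) : In z W z (c * (x * v₁)) := by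
  have hr := h.toT8R
  obtain ⟨-, y, hy, e⟩ := covers h hW hb
  obtain ⟨hf, hz⟩ := cl h hW hy
  have e2 : y * x = x * (f * z) * y := by rwa [mul_inv_eq_iff_eq_mul] at e
  have hbx : (c * y) * x = x * (c * y) := by
    rw [mul_assoc, e2]; nf8 hr
  have hbf : (c * y) * f = f * (c * y) := by rw [mul_assoc, hf]; nf8 hr
  have hbz : (c * y) * z = z * (c * y) := by rw [mul_assoc, hz]; nf8 hr
  obtain ⟨p, q, s, l, hp, hq, hs, hl, e3⟩ := h.cent _ hbx hbf hbz
  have e4 : y = c * (p * (q * (s * l))) := by rw [← e3]; nf8 hr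
  have h5 := In.mul hW hy (L_z h hW hl)
  have e5 : y * l = c * (p * (q * s)) := by
    rw [e4]
    calc c * (p * (q * (s * l))) * l = c * (p * (q * s)) * (l * l) := by group
      _ = c * (p * (q * s)) := by rw [lsq hr hl, mul_one]
  rw [e5] at h5
  have e6 := In.sq hW h5
  have nb : ∀ w, In z W (f * z) w → In z W z w → w * v₁ = v₁ * w := by
    intro w h1 h2
    exact (lcomm (inter2 h hW h2 h1) hr.fv₁.symm hr.zv₁.symm).symm
  have hc := c_fz h hW hb
  have hcv : In z W (f * z) (c * v₂) := In.mul hW hc (fz_v₂ h hW)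
  rcases hp with rfl | rfl
  · exfalso
    rcases hq with rfl | rfl
    · rcases hs with rfl | rfl
      · simp only [mul_one] at h5
        have e7 := nb _ hc h5
        nf8a hr e7
        simp only [mul_right_inj, left_eq_mul] at e7
        exact hr.fz1 e7
      · simp only [one_mul] at h5
        have e7 := nb _ hcv h5
        nf8a hr e7
        simp only [mul_right_inj, right_eq_mul] at e7
        exact hr.f1 e7
    · rcases hs with rfl | rfl
      · nf8a hr e6; exact hr.fz1 e6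
      · nf8a hr e6; exact hr.f1 e6
  · rcases hq with rfl | rfl
    · exfalso
      rcases hs with rfl | rfl
      · nf8a hr e6; exact hr.fz1 e6
      · nf8a hr e6; exact hr.fz1 e6
    · rcases hs with rfl | rfl
      · rwa [mul_one] at h5
      · exfalso; nf8a hr e6; exact hr.z1 e6

/-- `e = 0` -/
theorem cb0 (hb : In z W f b) : c * b = b * c := by
  have hr := h.toT8R
  have h1 := In.comm hW (y_mem h hW hb) (y'_mem h hW hb)
  rcases hr.cb with h2 | h2
  · exact h2
  · exfalso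
    have h2' : ∀ t, c * (b * t) = b * (c * (z * t)) := by
      intro t; rw [← mul_assoc, h2]; simp only [mul_assoc]
    nf8a hr h1
    simp only [h2', mul_right_inj] at h1
    nf8a hr h1
    simp only [mul_right_inj, left_eq_mul] at h1
    exact hr.z1 h1

/-- the images of `x` under `W_f` -/
theorem mv_f {w : G} (hw : In z W f w) : w * x * w⁻¹ = x ∨ w * x * w⁻¹ = x * f := by
  obtain ⟨hf, hz, hv⟩ := cU h hW hw
  obtain ⟨u, hu, hux, e⟩ := In.brak hW h.xx (fx h).symm hw
  have hU := cxU h hW hu hux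
  apply h.tr w hf hz hv
  obtain ⟨l, hl, e'⟩ := hU
  refine ⟨l, hl, ?_⟩
  rcases e' with e' | e'
  · left; rw [e, e']
  · right; rw [e, e']

end frame

/-- `g ∈ T₈` -/
def T8 (x z f g : G) : Prop := g * f = f * g ∧ g * z = z * g ∧ ∃ l, InL z f l ∧ g * x * g⁻¹ = x * l

section eight

variable {x z f v₁ v₂ b c r d m : G} (h : HX x z f v₁ v₂ b c r d m)
include h

theorem T8.mul {g g' : G} (h1 : T8 x z f g) (h2 : T8 x z f g') : T8 x z f (g * g') := by
  have hr := h.toT8R
  obtain ⟨a1, a2, l, hl, a3⟩ := h1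
  obtain ⟨b1, b2, l', hl', b3⟩ := h2
  refine ⟨by rw [mul_assoc, b1, ← mul_assoc, a1, mul_assoc], by rw [mul_assoc, b2, ← mul_assoc, a2, mul_assoc],
    l * l', lmul hr hl hl', ?_⟩
  have hc : g * l' = l' * g := lcomm hl' a1 a2
  calc (g * g') * x * (g * g')⁻¹ = g * (g' * x * g'⁻¹) * g⁻¹ := by group
    _ = g * x * (l' * g⁻¹) := by rw [b3]; group
    _ = g * x * (g⁻¹ * l') := by
        congr 1
        rw [eq_inv_mul_iff_mul_eq, ← mul_assoc, hc, mul_inv_cancel_right]
    _ = (g * x * g⁻¹) * l' := by group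
    _ = x * (l * l') := by rw [a3]; group

/-- the normal form in `T₈` -/
theorem T8.nform {g : G} (h1 : T8 x z f g) :
    ∃ β t, (β = 1 ∨ β = b ∨ β = c ∨ β = b * c) ∧ InT0 x z f v₁ v₂ t ∧ g = β * t := by
  have hr := h.toT8R
  obtain ⟨a1, a2, l, hl, a3⟩ := h1
  have a4 : g * x = x * l * g := by rwa [mul_inv_eq_iff_eq_mul] at a3
  rcases hl with rfl | rfl | rfl | rfl
  · rw [mul_one] at a4
    exact ⟨1, g, Or.inl rfl, h.cent g a4 a1 a2, by group⟩
  · -- `x z`
    refine ⟨b * c, c * (b * g), Or.inr (Or.inr (Or.inr rfl)), ?_, by nf8 hr⟩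
    apply h.cent
    · rw [mul_assoc, mul_assoc, a4]; nf8 hr
    · rw [mul_assoc, mul_assoc, a1]; nf8 hr
    · rw [mul_assoc, mul_assoc, a2]; nf8 hr
  · refine ⟨b, b * g, Or.inr (Or.inl rfl), ?_, by nf8 hr⟩
    apply h.cent
    · rw [mul_assoc, a4]; nf8 hr
    · rw [mul_assoc, a1]; nf8 hr
    · rw [mul_assoc, a2]; nf8 hr
  · refine ⟨c, c * g, Or.inr (Or.inr (Or.inl rfl)), ?_, by nf8 hr⟩
    apply h.cent
    · rw [mul_assoc, a4]; nf8 hr
    · rw [mul_assoc, a1]; nf8 hr
    · rw [mul_assoc, a2]; nf8 hr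

end eight

end Cfsg.Agent.OddHalf.D5.SixAut.HsxW
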