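import Cfsg.Agent.OddHalf.TFormula

/-!
# The T-formula with one contributing class

`t` an involution of the finite simple group `G`, `T ≤ C(t)` a 2-group, `T ≤ H`, `|C(t) : C_H(t)|` odd, `N ≤ H`
with `[H, H] ≤ N`. If every `g` with `T^g ≤ H` and `t^g ∉ N` has `t^g ∈ t^H`, then `t ∈ N`.
-/

set_option autoImplicit false

namespace Cfsg.Agent.OddHalf.D5.SixAut.OneClass

open MulAction Subgroup

theorem transfer_eq {G A : Type*} [Group G] [CommGroup A] [Finite G] (H : Subgroup G)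
    (φ : H →* A) (t : G) (ht : t * t = 1) (htH : t ∈ H) (T : Subgroup G) (hT : IsPGroup 2 T)
    (hTt : ∀ x ∈ T, x * t = t * x)
    (hcl : ∀ g : G, (∀ x ∈ T, g⁻¹ * x * g ∈ H) → ∀ hg : g⁻¹ * t * g ∈ H, φ ⟨g⁻¹ * t * g, hg⟩ ≠ 1 →
      ∃ x ∈ H, g⁻¹ * t * g = x⁻¹ * t * x)
    (hodd : Odd (H.subgroupOf (centralizer ({t} : Set G))).index) :
    MonoidHom.transfer φ t = φ ⟨t, htH⟩ := by
  classical
  have := Fintype.ofFinite (G ⧸ H)
  obtain ⟨f, hf, s, hs, hprod⟩ := TFormula.transfer_eq_prod H φ t ht T hT hTt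
  have hφ2 : φ ⟨t, htH⟩ * φ ⟨t, htH⟩ = 1 := by
    rw [← map_mul]
    have : (⟨t, htH⟩ : H) * ⟨t, htH⟩ = 1 := Subtype.ext ht
    rw [this, map_one]
  set C := centralizer ({t} : Set G) with hC
  set q0 : G ⧸ H := ((1 : G) : G ⧸ H) with hq0
  have hmem : ∀ (x g : G), x • (g : G ⧸ H) = g ↔ g⁻¹ * x * g ∈ H := by
    intro x g
    rw [MulAction.Quotient.smul_mk, smul_eq_mul, eq_comm, QuotientGroup.eq, mul_assoc]
  -- the points of the orbit of `q0`
  have hval : ∀ q : G ⧸ H, q ∈ orbit C q0 → t • q = q ∧ f q = φ ⟨t, htH⟩ := by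
    rintro q ⟨⟨c, hc⟩, rfl⟩
    have e' : (c : G ⧸ H) = (⟨c, hc⟩ : C) • q0 := by
      show _ = c • q0
      rw [hq0, MulAction.Quotient.smul_mk, smul_eq_mul, mul_one]
    have hc' := hc
    rw [hC, mem_centralizer_singleton_iff] at hc'
    have hc1 : c⁻¹ * t * c = t := by rw [mul_assoc, ← hc']; group
    have hcH : c⁻¹ * t * c ∈ H := by rw [hc1]; exact htH
    constructor
    · show t • ((⟨c, hc⟩ : C) • q0) = (⟨c, hc⟩ : C) • q0
      rw [← e', hmem]
      exact hcH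
    · show f ((⟨c, hc⟩ : C) • q0) = _
      rw [hf _ c e' hcH]
      have h3 : (⟨c⁻¹ * t * c, hcH⟩ : H) = ⟨t, htH⟩ := Subtype.ext hc1
      rw [h3]
  have hnot : ∀ q ∈ s, q ∉ orbit C q0 → f q = 1 := by
    intro q hq hqn
    obtain ⟨g, rfl⟩ := QuotientGroup.mk_surjective q
    obtain ⟨h1, h2⟩ := (hs _).1 hq
    have hg := (hmem t g).1 h1
    by_contra hne
    rw [hf _ g rfl hg] at hne
    obtain ⟨x, hx, e⟩ := hcl g (fun y hy => (hmem y g).1 (h2 y hy)) hg hne
    apply hqn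
    have hc : g * x⁻¹ ∈ C := by
      rw [hC, mem_centralizer_singleton_iff]
      have h2 : g * x⁻¹ * t * (g * x⁻¹)⁻¹ = t := by
        calc g * x⁻¹ * t * (g * x⁻¹)⁻¹ = g * (x⁻¹ * t * x) * g⁻¹ := by group
          _ = t := by rw [← e]; group
      calc g * x⁻¹ * t = g * x⁻¹ * t * (g * x⁻¹)⁻¹ * (g * x⁻¹) := by group
        _ = t * (g * x⁻¹) := by rw [h2]
    refine ⟨⟨g * x⁻¹, hc⟩, ?_⟩
    show (g * x⁻¹) • q0 = _
    rw [hq0, MulAction.Quotient.smul_mk, smul_eq_mul, mul_one, QuotientGroup.eq]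
    have : (g * x⁻¹)⁻¹ * g = x := by group
    rw [this]; exact hx
  set s' := s.filter (fun q => q ∈ orbit C q0) with hs'
  have h1 : ∏ q ∈ s, f q = φ ⟨t, htH⟩ ^ s'.card := by
    rw [← Finset.prod_filter_mul_prod_filter_not s (fun q => q ∈ orbit C q0)]
    have h2 : ∏ q ∈ s.filter (fun q => ¬ q ∈ orbit C q0), f q = 1 := by
      apply Finset.prod_eq_one
      intro q hq
      exact hnot q (Finset.mem_filter.1 hq).1 (Finset.mem_filter.1 hq).2
    rw [h2, mul_one, Finset.prod_congr rfl (fun q hq => (hval q (Finset.mem_filter.1 hq).2).2),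
      Finset.prod_const]
  -- parity
  let Y := {q : G ⧸ H // q ∈ orbit C q0}
  have hTC : ∀ x ∈ T, x ∈ C := fun x hx => by
    rw [hC, mem_centralizer_singleton_iff]; exact hTt x hx
  let _ : MulAction T Y :=
    { smul := fun x q => ⟨(x : G) • q.1, by
        obtain ⟨c, hc⟩ := q.2
        exact ⟨⟨x, hTC x x.2⟩ * c, by rw [← hc]; exact mul_smul _ _ _⟩⟩
      one_smul := fun q => Subtype.ext (one_smul G q.1)
      mul_smul := fun x y q => Subtype.ext (mul_smul (x : G) (y : G) q.1) }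
  have hp2 : Fact (Nat.Prime 2) := ⟨Nat.prime_two⟩
  have hcard := hT.card_modEq_card_fixedPoints Y
  have h2 : Nat.card Y = (H.subgroupOf C).index := by
    have h2 : (stabilizer C q0) = H.subgroupOf C := by
      ext ⟨c, hc⟩
      rw [mem_stabilizer_iff, mem_subgroupOf]
      show c • q0 = q0 ↔ c ∈ H
      rw [hq0, hmem, inv_one, one_mul, mul_one]
    rw [← h2, index_stabilizer]
    rfl
  have h3 : Nat.card (fixedPoints T Y) = s'.card := by
    have e : fixedPoints T Y ≃ {q : G ⧸ H // (t • q = q ∧ ∀ x ∈ T, x • q = q) ∧ q ∈ orbit C q0} :=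
      { toFun := fun q => ⟨q.1.1, ⟨(hval _ q.1.2).1, fun x hx => congrArg Subtype.val (q.2 ⟨x, hx⟩)⟩,
          q.1.2⟩
        invFun := fun q => ⟨⟨q.1, q.2.2⟩, fun x => Subtype.ext (q.2.1.2 x x.2)⟩
        left_inv := fun q => rfl
        right_inv := fun q => rfl }
    rw [Nat.card_congr e, Nat.subtype_card]
    intro q
    rw [hs', Finset.mem_filter, hs]
  have h4 : Odd s'.card := by
    rw [← h3]
    rw [h2] at hcard
    rw [Nat.odd_iff] at hodd ⊢
    rw [← hodd]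
    exact hcard.symm
  rw [hprod, h1]
  obtain ⟨k, hk⟩ := h4
  rw [hk, pow_succ, pow_mul, pow_two, hφ2, one_pow, one_mul]

/-- The form with subgroups. -/
theorem mem {G : Type*} [Group G] [Finite G] [IsSimpleGroup G] (hG : ¬ ∀ a b : G, a * b = b * a)
    {H N : Subgroup G} (hc : ∀ a ∈ H, ∀ b ∈ H, a * b * a⁻¹ * b⁻¹ ∈ N) {t : G} (ht : t * t = 1)
    (htH : t ∈ H) (T : Subgroup G) (hT : IsPGroup 2 T) (hTt : ∀ x ∈ T, x * t = t * x)
    (hcl : ∀ g : G, (∀ x ∈ T, g⁻¹ * x * g ∈ H) → g⁻¹ * t * g ∈ H → g⁻¹ * t * g ∉ N →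
      ∃ x ∈ H, g⁻¹ * t * g = x⁻¹ * t * x)
    (hodd : Odd (H.subgroupOf (centralizer ({t} : Set G))).index) : t ∈ N := by
  have hn : (N.subgroupOf H).Normal := by
    refine ⟨fun a ha g => ?_⟩
    rw [mem_subgroupOf] at ha ⊢
    have h1 := hc g g.2 a a.2
    have h2 : (g : G) * a * (g : G)⁻¹ = g * a * (g : G)⁻¹ * (a : G)⁻¹ * a := by group
    show (g : G) * a * (g : G)⁻¹ ∈ N
    rw [h2]
    exact N.mul_mem h1 ha
  let A := H ⧸ N.subgroupOf H
  let _ : CommGroup A :=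
    { (inferInstance : Group A) with
      mul_comm := by
        intro a b
        obtain ⟨a, rfl⟩ := QuotientGroup.mk'_surjective (N.subgroupOf H) a
        obtain ⟨b, rfl⟩ := QuotientGroup.mk'_surjective (N.subgroupOf H) b
        have h1 : (QuotientGroup.mk' (N.subgroupOf H)) (a * b * a⁻¹ * b⁻¹) = 1 :=
          (QuotientGroup.eq_one_iff _).mpr (hc a a.2 b b.2)
        rw [map_mul, map_mul, map_mul, map_inv, map_inv, mul_inv_eq_one, mul_inv_eq_iff_eq_mul] at h1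
        exact h1 }
  let φ : H →* A := QuotientGroup.mk' (N.subgroupOf H)
  have hφ : ∀ a : H, φ a = 1 ↔ (a : G) ∈ N := fun a => by
    rw [← mem_subgroupOf]
    exact QuotientGroup.eq_one_iff a
  have h1 : MonoidHom.transfer φ t = φ ⟨t, htH⟩ :=
    transfer_eq H φ t ht htH T hT hTt (fun g h1 h2 h3 => hcl g h1 h2 fun h4 => h3 ((hφ _).2 h4)) hodd
  have h2 : MonoidHom.transfer φ t = 1 := by
    set f := MonoidHom.transfer φ with hf
    rcases (inferInstance : f.ker.Normal).eq_bot_or_eq_top with hk | hk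
    · exfalso
      apply hG
      intro a b
      apply (MonoidHom.ker_eq_bot_iff f).mp hk
      rw [map_mul, map_mul, mul_comm]
    · have : t ∈ f.ker := hk ▸ mem_top t
      exact this
  rw [h2] at h1
  exact (hφ _).1 h1.symm

end Cfsg.Agent.OddHalf.D5.SixAut.OneClass
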