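import Cfsg.Agent.OddHalf.D5.SixAut.Defs2
import Cfsg.Agent.OddHalf.D6.FieldInv
import Cfsg.Agent.OddHalf.D6.Six.Defs
import Cfsg.Agent.StdAlt.Six.Act
import Cfsg.Agent.Lib.NormalAbelian

/-!
# ODD D5, `n = 6`: the split of `C(x)/⟨x⟩ ≤ Aut(A_6)`

`SixFr x K`: `K ⊴ C(x)`, `C(x) ∩ C(K) = {1, x}`. If `K ≅ A_6` and the sectional 2-rank of `G` is at least 5 then
`C(x) = ⟨x⟩ × S_6` (`SSix`) or `C(x)/⟨x⟩ = Aut(A_6)` (`AutGen`): `split`.
-/

set_option autoImplicit false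

namespace Cfsg.Agent.OddHalf.D5.SixAut

open Subgroup Equiv Cfsg
open Cfsg.Agent.StdAlt.Six (Act NS emb act_emb exists_act exists_emb emb_mem emb_inj act_one_iff act_one ns_iff ns_pc
  Z0 A0 ns_of_a0)
open Cfsg.Agent.StdAlt.Conj (mem_N_of)

/-- conjugation by a permutation, as an automorphism of `A_6` -/
abbrev pcA : Perm (Fin 6) →* MulAut A6 := Cfsg.Agent.StdAlt.Six.pc

/-- `K ⊴ C(x)`, `C(x) ∩ C(K) = {1, x}` -/
structure SixFr {G : Type*} [Group G] (x : G) (K : Subgroup G) : Prop where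
  xx : x * x = 1
  x1 : x ≠ 1
  xK : x ∉ K
  le : ∀ k ∈ K, x * k = k * x
  norm : ∀ g, g * x = x * g → ∀ k ∈ K, g * k * g⁻¹ ∈ K
  ker : ∀ g, g * x = x * g → (∀ k ∈ K, g * k = k * g) → g = 1 ∨ g = x

theorem sign_ne {σ : Perm (Fin 6)} (h : Perm.sign σ ≠ 1) : Perm.sign σ = -1 :=
  (Int.units_eq_one_or _).resolve_left h

theorem pcA_even {σ : Perm (Fin 6)} (h : Perm.sign σ = 1) : pcA σ = MulAut.conj (⟨σ, mem_A6.2 h⟩ : A6) :=
  Cfsg.Agent.StdAlt.Six.pc_val ⟨σ, mem_A6.2 h⟩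

theorem pcA_coe (a : A6) : pcA (a : Perm (Fin 6)) = MulAut.conj a := Cfsg.Agent.StdAlt.Six.pc_val a

/-- `θ` as an automorphism of `A_6` -/
def θM : MulAut A6 where
  toFun := θA
  invFun := θA
  left_inv a := Subtype.ext (θ_θ _)
  right_inv a := Subtype.ext (θ_θ _)
  map_mul' a b := Subtype.ext (map_mul θ _ _)

theorem θM_apply (a : A6) : θM a = θA a := rfl

theorem θM_sq : θM * θM = 1 := by
  ext a : 1
  exact Subtype.ext (θ_θ _)

theorem θM_ns : ¬ NS θM := by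
  rintro ⟨σ, h⟩
  have h1 : (θ pc).support.card = (σ * pc * σ⁻¹).support.card := by
    rw [← h ⟨pc, pc_mem⟩]; rfl
  rw [Perm.card_support_conj] at h1
  revert h1
  decide +kernel

theorem θM_pc (σ : Perm (Fin 6)) : θM * pcA σ * θM⁻¹ = pcA (θ σ) := by
  rw [mul_inv_eq_iff_eq_mul]
  ext a : 1
  apply Subtype.ext
  show θ ((pcA σ a : A6) : Perm (Fin 6)) = ((pcA (θ σ) (θM a) : A6) : Perm (Fin 6))
  rw [Cfsg.Agent.StdAlt.Six.pc_apply, Cfsg.Agent.StdAlt.Six.pc_apply, map_mul, map_mul, map_inv]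
  rfl

namespace SixFr

variable {G : Type*} [Group G] {x : G} {K : Subgroup G} (F : SixFr x K) (e : A6 ≃* K)
include F

theorem inv_comm {g : G} (hg : g * x = x * g) : g⁻¹ * x = x * g⁻¹ := by
  rw [inv_mul_eq_iff_eq_mul, ← mul_assoc, hg, mul_inv_cancel_right]

theorem mul_comm' {g h : G} (hg : g * x = x * g) (hh : h * x = x * h) : g * h * x = x * (g * h) := by
  rw [mul_assoc, hh, ← mul_assoc, hg, mul_assoc]

theorem emb_x (a : A6) : emb e a * x = x * emb e a := (F.le _ (emb_mem e a)).symm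

theorem emb_ne (a : A6) : emb e a ≠ x := fun h => F.xK (by rw [← h]; exact emb_mem e a)

theorem act_x : Act e x 1 := by
  intro a
  rw [F.le _ (emb_mem e a), mul_inv_cancel_right]; rfl

/-- elements acting trivially -/
theorem one_or {g : G} (hg : g * x = x * g) (h1 : Act e g 1) : g = 1 ∨ g = x := by
  refine F.ker g hg fun k hk => ?_
  obtain ⟨a, rfl⟩ := exists_emb e hk
  exact mul_inv_eq_iff_eq_mul.1 (h1 a)

/-- elements with the same action -/
theorem eq_or {g h : G} (hg : g * x = x * g) (hh : h * x = x * h) {α : MulAut A6} (h1 : Act e g α)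
    (h2 : Act e h α) : g = h ∨ g = x * h := by
  have h3 : Act e (g * h⁻¹) 1 := by
    have := h1.mul h2.inv
    rwa [mul_inv_cancel] at this
  rcases F.one_or e (F.mul_comm' hg (F.inv_comm hh)) h3 with h4 | h4
  · left; exact mul_inv_eq_one.1 h4
  · right; exact mul_inv_eq_iff_eq_mul.1 h4

variable [Finite G]

theorem act {g : G} (hg : g * x = x * g) : ∃ α, Act e g α :=
  exists_act e (mem_N_of (F.norm g hg))

/-- (I): if all the permutations induced by `C(x)` are even then the sectional 2-rank is at most 4 -/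
theorem exists_odd (h5 : ¬ SectionalPRankLE 2 4 G) :
    ∃ g σ, g * x = x * g ∧ Act e g (pcA σ) ∧ Perm.sign σ = -1 := by
  by_contra hno
  push Not at hno
  apply h5
  have hZ1 : (Z0 : A6) ≠ 1 := Cfsg.Agent.StdAlt.Six.Z0_ne
  have hA1 : (A0 : A6) ≠ 1 := Cfsg.Agent.StdAlt.Six.A0_ne
  have hfour : Cfsg.Agent.GH.L2Aut.Four (emb e A0) (emb e Z0) := by
    refine ⟨?_, ?_, ?_, ?_, ?_, ?_⟩
    · rw [← map_mul, Cfsg.Agent.StdAlt.Six.A0_sq, map_one]
    · rw [← map_mul, Cfsg.Agent.StdAlt.Six.Z0_sq, map_one]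
    · intro h; exact hA1 (emb_inj (e := e) (h.trans (map_one _).symm))
    · intro h; exact hZ1 (emb_inj (e := e) (h.trans (map_one _).symm))
    · intro h; exact Cfsg.Agent.StdAlt.Six.A0_ne_Z0 (emb_inj h)
    · rw [← map_mul, ← map_mul, Cfsg.Agent.StdAlt.Six.A0_Z0]
  have ca := (F.emb_x e A0).symm
  have cb := (F.emb_x e Z0).symm
  have hxV : x ∉ hfour.sub := by
    rintro (h | h | h | h)
    · exact F.x1 h
    · exact F.emb_ne e _ h.symm
    · exact F.emb_ne e _ h.symm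
    · rw [← map_mul] at h
      exact F.emb_ne e _ h.symm
  have hp : IsPGroup 2 (D6.eight hfour F.xx ca cb) :=
    IsPGroup.of_card (n := 3) (by rw [D6.eight_card hxV]; norm_num)
  obtain ⟨S, hS⟩ := hp.exists_le_sylow
  refine D6.Harada.rank_of_self S (D6.eight hfour F.xx ca cb) hS ?_ ?_ (D6.eight_card hxV) ?_
  · intro c hc d hd
    have hcs : ∀ y, y = emb e A0 ∨ y = emb e Z0 ∨ y = x → c * y = y * c := by
      rintro y (rfl | rfl | rfl)
      · exact (D6.eight_comm (d := emb e A0) rfl hfour.comm ca.symm hc).symm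
      · exact (D6.eight_comm (d := emb e Z0) hfour.comm.symm rfl cb.symm hc).symm
      · exact (D6.eight_comm ca cb rfl hc).symm
    exact D6.eight_comm (hcs _ (Or.inl rfl)) (hcs _ (Or.inr (Or.inl rfl)))
      (hcs _ (Or.inr (Or.inr rfl))) hd
  · intro g hg
    obtain ⟨v, hv, rfl | rfl⟩ := D6.eight_cases hg
    · exact D6.four_sq hfour hv
    · rw [mul_assoc, ← mul_assoc x, D6.four_comm hfour ca cb hv, mul_assoc v, F.xx, mul_one]
      exact D6.four_sq hfour hv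
  · intro s _ hsE
    have hsx := hsE x D6.eight_mem.2.2
    obtain ⟨α, hα⟩ := F.act e hsx
    have h1 := hα.fix (hsE _ D6.eight_mem.1)
    have h2 := hα.fix (hsE _ D6.eight_mem.2.1)
    obtain ⟨σ, rfl⟩ := ns_iff.1 (ns_of_a0 h2 (Or.inl h1))
    have hσ : Perm.sign σ = 1 := by
      by_contra h
      exact hno s σ hsx hα (sign_ne h)
    have h3 : σ * Cfsg.Agent.StdAlt.Six.a0 = Cfsg.Agent.StdAlt.Six.a0 * σ := by
      have := congrArg Subtype.val h1
      rw [Cfsg.Agent.StdAlt.Six.pc_apply] at this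
      exact mul_inv_eq_iff_eq_mul.1 this
    have h4 : σ * Cfsg.Agent.StdAlt.Six.z0 = Cfsg.Agent.StdAlt.Six.z0 * σ := by
      have := congrArg Subtype.val h2
      rw [Cfsg.Agent.StdAlt.Six.pc_apply] at this
      exact mul_inv_eq_iff_eq_mul.1 this
    have key : ∀ σ : Perm (Fin 6), σ * Cfsg.Agent.StdAlt.Six.a0 = Cfsg.Agent.StdAlt.Six.a0 * σ →
        σ * Cfsg.Agent.StdAlt.Six.z0 = Cfsg.Agent.StdAlt.Six.z0 * σ → Perm.sign σ = 1 →
        σ = 1 ∨ σ = Cfsg.Agent.StdAlt.Six.a0 ∨ σ = Cfsg.Agent.StdAlt.Six.z0 ∨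
          σ = Cfsg.Agent.StdAlt.Six.a0 * Cfsg.Agent.StdAlt.Six.z0 := by decide +kernel
    rw [pcA_even hσ] at hα
    have hu : emb e ⟨σ, mem_A6.2 hσ⟩ ∈ hfour.sub := by
      rcases key σ h3 h4 hσ with h | h | h | h
      · left
        have : (⟨σ, mem_A6.2 hσ⟩ : A6) = 1 := Subtype.ext h
        rw [this, map_one]
      · right; left
        have : (⟨σ, mem_A6.2 hσ⟩ : A6) = A0 := Subtype.ext h
        rw [this]
      · right; right; left
        have : (⟨σ, mem_A6.2 hσ⟩ : A6) = Z0 := Subtype.ext h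
        rw [this]
      · right; right; right
        have : (⟨σ, mem_A6.2 hσ⟩ : A6) = A0 * Z0 := Subtype.ext h
        rw [this, map_mul]
    rcases F.eq_or e hsx (F.emb_x e _) hα (act_emb e _) with h6 | h6
    · left; rw [h6]; exact hu
    · right
      rw [h6, F.le _ (emb_mem e _), mul_assoc, F.xx, mul_one]; exact hu

/-- an element acting as the transposition `(4 5)` -/
theorem exists_f (h5 : ¬ SectionalPRankLE 2 4 G) : ∃ f, f * x = x * f ∧ Act e f (pcA pf) := by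
  obtain ⟨g, σ, h1, h2, h3⟩ := F.exists_odd e h5
  have h4 : Perm.sign (pf * σ⁻¹) = 1 := by
    rw [Perm.sign_mul, Perm.sign_inv, sign_pf, h3]; decide
  refine ⟨emb e ⟨pf * σ⁻¹, mem_A6.2 h4⟩ * g, F.mul_comm' (F.emb_x e _) h1, ?_⟩
  have h6 := (act_emb e (⟨pf * σ⁻¹, mem_A6.2 h4⟩ : A6)).mul h2
  rw [← pcA_even h4, ← map_mul, inv_mul_cancel_right] at h6
  exact h6

end SixFr

end Cfsg.Agent.OddHalf.D5.SixAut
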