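import Cfsg.Agent.OddHalf.D5.SixAut.TT
import Cfsg.Agent.S0254

/-!
# ODD D5, `n = 6`: the split, second part

`split`: if the sectional 2-rank is at least 5 then `C(x) = ⟨x⟩ × S_6` (`D6.Six.SSix`) or `C(x)/⟨x⟩ = Aut(A_6)`
(`AutGen`).
-/

set_option autoImplicit false

namespace Cfsg.Agent.OddHalf.D5.SixAut

open Subgroup Equiv Cfsg
open Cfsg.Agent.StdAlt.Six (Act NS emb act_emb exists_act exists_emb emb_mem emb_inj act_one_iff act_one ns_iff ns_pc
  Z0 A0 ns_of_a0)
open Cfsg.Agent.StdAlt.Conj (mem_N_of)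

theorem exists_field : ∃ (F : Type) (_ : Field F) (_ : Fintype F), Fintype.card F = 9 := by
  have : Fact (Nat.Prime 3) := ⟨Nat.prime_three⟩
  have hfin : Finite (GaloisField 3 2) := inferInstance
  have hft : Fintype (GaloisField 3 2) := Fintype.ofFinite _
  refine ⟨GaloisField 3 2, inferInstance, hft, ?_⟩
  rw [← Nat.card_eq_fintype_card, GaloisField.card 3 2 (by norm_num)]
  norm_num

/-- `A_6 ≅ PSL(2, 9)` -/
theorem exists_psl {L : Type*} [Group L] (e : A6 ≃* L) : ∃ (F : Type) (_ : Field F) (_ : Fintype F),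
    Fintype.card F = 9 ∧ Nonempty (L ≃* Matrix.ProjectiveSpecialLinearGroup (Fin 2) F) := by
  obtain ⟨F, i1, i2, hF⟩ := exists_field
  obtain ⟨φ⟩ := Cfsg.Agent.S0254.result hF
  exact ⟨F, i1, i2, hF, ⟨e.symm.trans φ.symm⟩⟩

theorem two_ne {F : Type} [Field F] [Fintype F] (hF : Fintype.card F = 9) : (2 : F) ≠ 0 := by
  intro h
  have h1 : (9 : F) = 0 := by
    have := Nat.cast_card_eq_zero F
    rw [hF] at this
    exact_mod_cast this
  have h2 : (1 : F) = 9 - 2 * 4 := by norm_num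
  rw [h1, h, zero_mul, sub_zero] at h2
  exact one_ne_zero h2

theorem exists_rep {L : Type*} [Group L] (e : A6 ≃* L) : ∃ (F : Type) (_ : Field F) (_ : Finite F),
    Nonempty (Cfsg.Agent.GH.L2Aut.Rep F L) := by
  obtain ⟨F, i1, i2, hF, ⟨φ⟩⟩ := exists_psl e
  exact ⟨F, i1, inferInstance, ⟨Cfsg.Agent.GH.L2Aut.Rep.ofEquiv (two_ne hF) φ⟩⟩

theorem isL2odd_of {L : Type*} [Group L] (e : A6 ≃* L) : Cfsg.Agent.GH.Defs.IsL2odd L := by
  obtain ⟨F, i1, i2, hF, h⟩ := exists_psl e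
  exact ⟨F, i1, i2, by rw [hF]; decide, by rw [hF]; norm_num, h⟩

theorem z_f : ∀ σ : Perm (Fin 6), σ * pz = pz * σ → σ * pf = pf * σ := by decide +kernel

theorem cent_D' : ∀ σ : Perm (Fin 6), σ * pv1 = pv1 * σ → σ * pv2 = pv2 * σ →
    σ = 1 ∨ σ = pz ∨ σ = pf ∨ σ = pf * pz := by decide +kernel

theorem pf_z : pf * pz = pz * pf := by decide +kernel

theorem cA_pf {a : A6} (h : (a : Perm (Fin 6)) * pf = pf * a) : cA pf a = a :=
  Subtype.ext (by rw [coe_cA, ← h, mul_inv_cancel_right])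

theorem pcA_cA (σ : Perm (Fin 6)) (a : A6) : pcA σ a = cA σ a :=
  Subtype.ext (Cfsg.Agent.StdAlt.Six.pc_apply σ a)

namespace SixFr

variable {G : Type*} [Group G] {x : G} {K : Subgroup G} (F : SixFr x K) (e : A6 ≃* K)
include F

theorem grow [Finite G] (h5 : ¬ SectionalPRankLE 2 4 G) :
    ∃ s, (∀ t ∈ TT x (emb e qz), s * t * s⁻¹ ∈ TT x (emb e qz)) ∧ s * s ∈ TT x (emb e qz) ∧
      s ∉ TT x (emb e qz) ∧ s * x ≠ x * s ∧ ∃ n, s ^ 2 ^ n = 1 := by
  obtain ⟨F', i1, i2, ⟨R⟩⟩ := exists_rep e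
  exact (F.setup e).exists_grow R h5

theorem cf {f : G} (hf : Act e f (pcA pf)) (a : A6) : f * emb e a * f⁻¹ = emb e (cA pf a) := by
  rw [hf, pcA_cA]

/-- `σ` even: the element is in `{1, x} K` -/
theorem of_even {g : G} (hg : g * x = x * g) {σ : Perm (Fin 6)} (h : Act e g (pcA σ)) (hs : Perm.sign σ = 1) :
    g = emb e ⟨σ, mem_A6.2 hs⟩ ∨ g = x * emb e ⟨σ, mem_A6.2 hs⟩ := by
  rw [pcA_even hs] at h
  exact F.eq_or e hg (F.emb_x e _) h (act_emb e _)

theorem of_odd {f : G} (hfx : f * x = x * f) (hf : Act e f (pcA pf)) {g : G} (hg : g * x = x * g)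
    {σ : Perm (Fin 6)} (h : Act e g (pcA σ)) (hs : Perm.sign σ = -1) :
    g = emb e ⟨σ * pf, odd_mem (not_even hs)⟩ * f ∨
      g = x * (emb e ⟨σ * pf, odd_mem (not_even hs)⟩ * f) := by
  refine F.eq_or e hg (F.mul_comm' (F.emb_x e _) hfx) h ?_
  have h1 := (act_emb e (⟨σ * pf, odd_mem (not_even hs)⟩ : A6)).mul hf
  rw [← pcA_coe, ← map_mul, mul_assoc, pf_pf, mul_one] at h1
  exact h1

/-- `f² ∈ {1, x}` -/
theorem f_sq {f : G} (hfx : f * x = x * f) (hf : Act e f (pcA pf)) : f * f = 1 ∨ f * f = x := by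
  apply F.one_or e (F.mul_comm' hfx hfx)
  have h1 := hf.mul hf
  rwa [← map_mul, pf_pf, map_one] at h1

theorem f_mem {f : G} (hfx : f * x = x * f) (hf : Act e f (pcA pf)) : f ∈ TT x (emb e qz) := by
  refine mem_TT.2 ⟨hfx, ?_⟩
  have h1 := F.cf e hf qz
  rw [cA_pf (show ((qz : A6) : Perm (Fin 6)) * pf = pf * qz from pf_z.symm)] at h1
  exact mul_inv_eq_iff_eq_mul.1 h1

/-- the isoclinic extension of `S_6` is impossible -/
theorem iso_false [Finite G] (h5 : ¬ SectionalPRankLE 2 4 G)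
    (hNS : ∀ g, g * x = x * g → ∀ α, Act e g α → NS α) {f : G} (hfx : f * x = x * f)
    (hf : Act e f (pcA pf)) (hff : f * f = x) : False := by
  obtain ⟨s, hsT, -, -, hsx, -⟩ := F.grow e h5
  have hsn : s ∈ normalizer ((TT x (emb e qz) : Subgroup G) : Set G) := mem_normalizer_fintype hsT
  have hfT := F.f_mem e hfx hf
  -- `f` centralizes `T`
  have hemb : ∀ a : A6, (a : Perm (Fin 6)) * pf = pf * a → f * emb e a = emb e a * f := by
    intro a ha
    have h1 := F.cf e hf a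
    rw [cA_pf ha] at h1
    exact mul_inv_eq_iff_eq_mul.1 h1
  have hfc : ∀ t ∈ TT x (emb e qz), f * t = t * f := by
    intro t ht
    obtain ⟨h1, h2⟩ := mem_TT.1 ht
    obtain ⟨α, hα⟩ := F.act e h1
    obtain ⟨σ, rfl⟩ := ns_iff.1 (hNS t h1 α hα)
    have hσz : σ * pz = pz * σ := comm_of_fix (a := qz) (hα.fix h2)
    have hσf := z_f σ hσz
    rcases Int.units_eq_one_or (Perm.sign σ) with hs | hs
    · have h3 := hemb ⟨σ, mem_A6.2 hs⟩ hσf
      rcases F.of_even e h1 hα hs with h | h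
      · rw [h]; exact h3
      · rw [h, ← mul_assoc, hfx, mul_assoc, h3, mul_assoc]
    · have h3 := hemb ⟨σ * pf, odd_mem (not_even hs)⟩ (by
        show σ * pf * pf = pf * (σ * pf)
        rw [hσf, mul_assoc, hσf])
      rcases F.of_odd e hfx hf h1 hα hs with h | h
      · rw [h, ← mul_assoc, h3]
      · rw [h, ← mul_assoc, hfx, mul_assoc, ← mul_assoc f, h3, mul_assoc, mul_assoc, mul_assoc]
  have hfT' : s * f * s⁻¹ ∈ TT x (emb e qz) := hsT f hfT
  have hfc' : ∀ t ∈ TT x (emb e qz), (s * f * s⁻¹) * t = t * (s * f * s⁻¹) := by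
    intro t ht
    have h1 : s⁻¹ * t * s ∈ TT x (emb e qz) := (mem_normalizer_iff''.1 hsn t).1 ht
    have h2 := hfc _ h1
    calc (s * f * s⁻¹) * t = s * (f * (s⁻¹ * t * s)) * s⁻¹ := by group
      _ = t * (s * f * s⁻¹) := by rw [h2]; group
  have hsq : (s * f * s⁻¹) * (s * f * s⁻¹) = s * x * s⁻¹ := by rw [← hff]; group
  obtain ⟨h1, -⟩ := mem_TT.1 hfT'
  obtain ⟨α, hα⟩ := F.act e h1
  obtain ⟨σ, rfl⟩ := ns_iff.1 (hNS _ h1 α hα)
  have hv1 : σ * pv1 = pv1 * σ := comm_of_fix (a := qv1) (hα.fix (hfc' _ (F.v_mem e pv1_z)))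
  have hv2 : σ * pv2 = pv2 * σ := comm_of_fix (a := qv2) (hα.fix (hfc' _ (F.v_mem e pv2_z)))
  apply hsx
  rw [← mul_inv_eq_iff_eq_mul, ← hsq]
  -- an element of `{1, x} ⟨z⟩` has square one
  have hne : s * x * s⁻¹ ≠ 1 := by
    intro h
    rw [mul_inv_eq_one] at h
    exact F.x1 (mul_eq_left.1 h)
  have heven : ∀ a : A6, a * a = 1 → s * f * s⁻¹ = emb e a ∨ s * f * s⁻¹ = x * emb e a → False := by
    intro a ha h
    apply hne
    rw [← hsq]
    rcases h with h | h
    · rw [h, ← map_mul, ha, map_one]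
    · rw [h]
      calc x * emb e a * (x * emb e a) = x * (emb e a * x) * emb e a := by group
        _ = (x * x) * (emb e a * emb e a) := by rw [F.emb_x]; group
        _ = 1 := by rw [F.xx, ← map_mul, ha, map_one, one_mul]
  rcases cent_D' σ hv1 hv2 with h | h | h | h
  · exfalso
    subst h
    refine heven _ ?_ (F.of_even e h1 hα (map_one _))
    exact Subtype.ext (one_mul 1)
  · exfalso
    subst h
    refine heven _ ?_ (F.of_even e h1 hα (mem_A6.1 pz_mem))
    exact Subtype.ext pz_pz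
  · subst h
    rcases F.eq_or e h1 hfx hα hf with h | h
    · rw [h, hff]
    · rw [h]
      calc x * f * (x * f) = x * (f * x) * f := by group
        _ = (x * x) * (f * f) := by rw [hfx]; group
        _ = x := by rw [F.xx, hff, one_mul]
  · subst h
    have h4 : Act e (f * emb e qz) (pcA (pf * pz)) := by
      have := hf.mul (act_emb e qz)
      rw [← pcA_coe, ← map_mul] at this
      exact this
    have h5 := hemb qz (show pz * pf = pf * pz from pf_z.symm)
    have h6 : f * emb e qz * (f * emb e qz) = x := by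
      calc f * emb e qz * (f * emb e qz) = f * (emb e qz * f) * emb e qz := by group
        _ = (f * f) * (emb e qz * emb e qz) := by rw [← h5]; group
        _ = x * emb e (qz * qz) := by rw [hff, map_mul]
        _ = x := by
          have : (qz * qz : A6) = 1 := Subtype.ext pz_pz
          rw [this, map_one, mul_one]
    rcases F.eq_or e h1 (F.mul_comm' hfx (F.emb_x e qz)) hα h4 with h | h
    · rw [h, h6]
    · rw [h]
      have h7 := F.mul_comm' hfx (F.emb_x e qz)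
      calc x * (f * emb e qz) * (x * (f * emb e qz)) = x * ((f * emb e qz) * x) * (f * emb e qz) := by group
        _ = (x * x) * ((f * emb e qz) * (f * emb e qz)) := by rw [h7]; group
        _ = x := by rw [F.xx, h6, one_mul]

/-- the case `C(x) = ⟨x⟩ × S_6` -/
theorem ssix [Finite G] (hNS : ∀ g, g * x = x * g → ∀ α, Act e g α → NS α) {f : G} (hfx : f * x = x * f)
    (hf : Act e f (pcA pf)) (hff : f * f = 1) :
    D6.Six.SSix x (extH (emb e) f (F.cf e hf) hff) := by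
  have hev : ∀ {σ : Perm (Fin 6)} (hs : Perm.sign σ = 1),
      extH (emb e) f (F.cf e hf) hff σ = emb e ⟨σ, mem_A6.2 hs⟩ := fun hs => extf_even _ _ hs
  have hod : ∀ {σ : Perm (Fin 6)} (hs : Perm.sign σ = -1),
      extH (emb e) f (F.cf e hf) hff σ = emb e ⟨σ * pf, odd_mem (not_even hs)⟩ * f :=
    fun hs => extf_odd _ _ hs
  have hact : ∀ σ, Act e (extH (emb e) f (F.cf e hf) hff σ) (pcA σ) := by
    intro σ
    rcases Int.units_eq_one_or (Perm.sign σ) with hs | hs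
    · rw [hev hs, pcA_even hs]; exact act_emb e _
    · rw [hod hs]
      have h1 := (act_emb e (⟨σ * pf, odd_mem (not_even hs)⟩ : A6)).mul hf
      rw [← pcA_coe, ← map_mul, mul_assoc, pf_pf, mul_one] at h1
      exact h1
  have hcx : ∀ σ, extH (emb e) f (F.cf e hf) hff σ * x = x * extH (emb e) f (F.cf e hf) hff σ := by
    intro σ
    rcases Int.units_eq_one_or (Perm.sign σ) with hs | hs
    · rw [hev hs]; exact F.emb_x e _
    · rw [hod hs]; exact F.mul_comm' (F.emb_x e _) hfx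
  refine ⟨F.xx, ?_, fun σ => (hcx σ).symm, ?_, ?_⟩
  · intro σ τ h
    have h1 := (hact σ)
    rw [h] at h1
    exact Cfsg.Agent.StdAlt.Six.pc_inj (h1.unique (hact τ))
  · intro σ h
    have h1 := hact σ
    rw [h] at h1
    have h2 : pcA σ = pcA 1 := by rw [map_one]; exact h1.unique (F.act_x e)
    have h3 := Cfsg.Agent.StdAlt.Six.pc_inj h2
    rw [h3, map_one] at h
    exact F.x1 h.symm
  · intro g hg
    obtain ⟨α, hα⟩ := F.act e hg
    obtain ⟨σ, rfl⟩ := ns_iff.1 (hNS g hg α hα)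
    exact ⟨σ, F.eq_or e hg (hcx σ) hα (hact σ)⟩

/-- the case `C(x)/⟨x⟩ = Aut(A_6)` -/
theorem autGen [Finite G] {f g : G} (hfx : f * x = x * f) (hf : Act e f (pcA pf)) (hg : g * x = x * g)
    {α : MulAut A6} (hα : Act e g α) (hns : ¬ NS α) : ∃ r, AutGen x (emb e) f r ∧ Act e r θM := by
  -- an element acting as `θ`
  obtain ⟨r, hrx, hr⟩ : ∃ r, r * x = x * r ∧ Act e r θM := by
    have h1 : NS (θM * α⁻¹) := Cfsg.Agent.StdAlt.Six.NS.mul_of_not θM_ns (fun h => hns (by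
      have := h.inv
      rwa [inv_inv] at this))
    obtain ⟨σ, hσ⟩ := ns_iff.1 h1
    have h2 : θM = pcA σ * α := by rw [← hσ, inv_mul_cancel_right]
    rcases Int.units_eq_one_or (Perm.sign σ) with hs | hs
    · refine ⟨emb e ⟨σ, mem_A6.2 hs⟩ * g, F.mul_comm' (F.emb_x e _) hg, ?_⟩
      rw [h2, pcA_even hs]
      exact (act_emb e _).mul hα
    · refine ⟨emb e ⟨σ * pf, odd_mem (not_even hs)⟩ * f * g,
        F.mul_comm' (F.mul_comm' (F.emb_x e _) hfx) hg, ?_⟩
      have h3 := ((act_emb e (⟨σ * pf, odd_mem (not_even hs)⟩ : A6)).mul hf).mul hα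
      rw [← pcA_coe, ← map_mul, mul_assoc σ, pf_pf, mul_one] at h3
      rw [h2]; exact h3
  refine ⟨r, ?_, hr⟩
  have hlift : ∀ σ, ∃ (a : A6) (u : G), (u = 1 ∨ u = f) ∧ (emb e a * u) * x = x * (emb e a * u) ∧
      Act e (emb e a * u) (pcA σ) := by
    intro σ
    rcases Int.units_eq_one_or (Perm.sign σ) with hs | hs
    · refine ⟨⟨σ, mem_A6.2 hs⟩, 1, Or.inl rfl, ?_, ?_⟩
      · rw [mul_one]; exact F.emb_x e _
      · rw [mul_one, pcA_even hs]; exact act_emb e _
    · refine ⟨⟨σ * pf, odd_mem (not_even hs)⟩, f, Or.inr rfl, F.mul_comm' (F.emb_x e _) hfx, ?_⟩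
      have h3 := (act_emb e (⟨σ * pf, odd_mem (not_even hs)⟩ : A6)).mul hf
      rw [← pcA_coe, ← map_mul, mul_assoc σ, pf_pf, mul_one] at h3
      exact h3
  refine ⟨F.xx, F.x1, fun a b h => emb_inj h, fun a => (F.emb_x e a).symm, F.emb_ne e, hfx, hrx, F.f_sq e hfx hf,
    ?_, F.cf e hf, ?_, ?_, ?_⟩
  · apply F.one_or e (F.mul_comm' hrx hrx)
    have := hr.mul hr
    rwa [θM_sq] at this
  · intro a
    rw [hr, θM_apply]
  · have h1 : Act e (r * f * r⁻¹) (pcA (pf * pz)) := by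
      have := (hr.mul hf).mul hr.inv
      rwa [θM_pc, θ_f] at this
    have h2 : Act e (f * emb e qz) (pcA (pf * pz)) := by
      have := hf.mul (act_emb e qz)
      rw [← pcA_coe, ← map_mul] at this
      exact this
    exact F.eq_or e (F.mul_comm' (F.mul_comm' hrx hfx) (F.inv_comm hrx))
      (F.mul_comm' hfx (F.emb_x e qz)) h1 h2
  · intro h hh
    obtain ⟨β, hβ⟩ := F.act e hh
    by_cases hn : NS β
    · obtain ⟨σ, rfl⟩ := ns_iff.1 hn
      obtain ⟨a, u, hu, hux, hact⟩ := hlift σ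
      refine ⟨a, u, 1, hu, Or.inl rfl, ?_⟩
      rw [mul_one]
      exact F.eq_or e hh hux hβ hact
    · have h1 : NS (β * θM⁻¹) := Cfsg.Agent.StdAlt.Six.NS.mul_of_not hn (fun h => θM_ns (by
        have := h.inv
        rwa [inv_inv] at this))
      obtain ⟨σ, hσ⟩ := ns_iff.1 h1
      obtain ⟨a, u, hu, hux, hact⟩ := hlift σ
      refine ⟨a, u, r, hu, Or.inr rfl, ?_⟩
      refine F.eq_or e hh (F.mul_comm' hux hrx) hβ ?_
      have h2 := hact.mul hr
      have h3 : pcA σ * θM = β := by rw [← hσ, inv_mul_cancel_right]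
      rwa [h3] at h2

/-- **the split** -/
theorem split [Finite G] (h5 : ¬ SectionalPRankLE 2 4 G) :
    (∃ φ : Perm (Fin 6) →* G, D6.Six.SSix x φ) ∨ ∃ f r, AutGen x (emb e) f r := by
  obtain ⟨f, hfx, hf⟩ := F.exists_f e h5
  by_cases hNS : ∀ g, g * x = x * g → ∀ α, Act e g α → NS α
  · left
    rcases F.f_sq e hfx hf with hff | hff
    · exact ⟨_, F.ssix e hNS hfx hf hff⟩
    · exact (F.iso_false e h5 hNS hfx hf hff).elim
  · right
    push Not at hNS
    obtain ⟨g, hg, α, hα, hns⟩ := hNS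
    obtain ⟨r, h, -⟩ := F.autGen e hfx hf hg hα hns
    exact ⟨f, r, h⟩

end SixFr

end Cfsg.Agent.OddHalf.D5.SixAut
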