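import Cfsg.Agent.OddHalf.D5.SixAut.Defs2

/-!
# ODD D5, `n = 6`, `C_G(x)/⟨x⟩ = Aut(A_6)`, the case (HSx): the group `T₈`

`T8R x z f v₁ v₂ b c` : the relations of the 2-group `T₈ = ⟨x, f, z, v₁, v₂, b, c⟩` of order 128, with centre
`⟨z, f⟩`; `⟨v₁, v₂⟩` is dihedral of order 8. The tactic `nf r` brings words to normal form
(`b`, `c`, `x`, `v₁`, `v₂`, `f`, `z` in this order).
-/

set_option autoImplicit false

namespace Cfsg.Agent.OddHalf.D5.SixAut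

variable {G : Type*} [Group G]

/-- the relations of `T₈` -/
structure T8R (x z f v₁ v₂ b c : G) : Prop where
  z1 : z ≠ 1
  f1 : f ≠ 1
  fz : f ≠ z
  xx : x * x = 1
  zz : z * z = 1
  ff : f * f = 1
  v₁v₁ : v₁ * v₁ = 1
  v₂v₂ : v₂ * v₂ = 1
  bb : b * b = 1
  cc : c * c = 1
  xb : x * b = b * (x * f)
  v₁b : v₁ * b = b * v₁
  v₂b : v₂ * b = b * (v₂ * f)
  xc : x * c = c * (x * (f * z))
  v₁c : v₁ * c = c * (v₁ * (f * z))
  v₂c : v₂ * c = c * v₂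
  v₁x : v₁ * x = x * v₁
  v₂x : v₂ * x = x * v₂
  v₂v₁ : v₂ * v₁ = v₁ * (v₂ * z)
  fb : f * b = b * f
  fc : f * c = c * f
  fx : f * x = x * f
  fv₁ : f * v₁ = v₁ * f
  fv₂ : f * v₂ = v₂ * f
  zb : z * b = b * z
  zc : z * c = c * z
  zx : z * x = x * z
  zv₁ : z * v₁ = v₁ * z
  zv₂ : z * v₂ = v₂ * z
  zf : z * f = f * z
  cb : c * b = b * c ∨ c * b = b * (c * z)

namespace T8R

variable {x z f v₁ v₂ b c : G} (h : T8R x z f v₁ v₂ b c)
include h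

theorem xx' (t : G) : x * (x * t) = t := by rw [← mul_assoc, h.xx, one_mul]
theorem zz' (t : G) : z * (z * t) = t := by rw [← mul_assoc, h.zz, one_mul]
theorem ff' (t : G) : f * (f * t) = t := by rw [← mul_assoc, h.ff, one_mul]
theorem v₁v₁' (t : G) : v₁ * (v₁ * t) = t := by rw [← mul_assoc, h.v₁v₁, one_mul]
theorem v₂v₂' (t : G) : v₂ * (v₂ * t) = t := by rw [← mul_assoc, h.v₂v₂, one_mul]
theorem bb' (t : G) : b * (b * t) = t := by rw [← mul_assoc, h.bb, one_mul]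
theorem cc' (t : G) : c * (c * t) = t := by rw [← mul_assoc, h.cc, one_mul]

theorem xb' (t : G) : x * (b * t) = b * (x * (f * t)) := by rw [← mul_assoc, h.xb]; simp only [mul_assoc]
theorem v₁b' (t : G) : v₁ * (b * t) = b * (v₁ * t) := by rw [← mul_assoc, h.v₁b]; simp only [mul_assoc]
theorem v₂b' (t : G) : v₂ * (b * t) = b * (v₂ * (f * t)) := by rw [← mul_assoc, h.v₂b]; simp only [mul_assoc]
theorem xc' (t : G) : x * (c * t) = c * (x * (f * (z * t))) := by rw [← mul_assoc, h.xc]; simp only [mul_assoc]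
theorem v₁c' (t : G) : v₁ * (c * t) = c * (v₁ * (f * (z * t))) := by rw [← mul_assoc, h.v₁c]; simp only [mul_assoc]
theorem v₂c' (t : G) : v₂ * (c * t) = c * (v₂ * t) := by rw [← mul_assoc, h.v₂c]; simp only [mul_assoc]
theorem v₁x' (t : G) : v₁ * (x * t) = x * (v₁ * t) := by rw [← mul_assoc, h.v₁x]; simp only [mul_assoc]
theorem v₂x' (t : G) : v₂ * (x * t) = x * (v₂ * t) := by rw [← mul_assoc, h.v₂x]; simp only [mul_assoc]
theorem v₂v₁' (t : G) : v₂ * (v₁ * t) = v₁ * (v₂ * (z * t)) := by rw [← mul_assoc, h.v₂v₁]; simp only [mul_assoc]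
theorem fb' (t : G) : f * (b * t) = b * (f * t) := by rw [← mul_assoc, h.fb]; simp only [mul_assoc]
theorem fc' (t : G) : f * (c * t) = c * (f * t) := by rw [← mul_assoc, h.fc]; simp only [mul_assoc]
theorem fx' (t : G) : f * (x * t) = x * (f * t) := by rw [← mul_assoc, h.fx]; simp only [mul_assoc]
theorem fv₁' (t : G) : f * (v₁ * t) = v₁ * (f * t) := by rw [← mul_assoc, h.fv₁]; simp only [mul_assoc]
theorem fv₂' (t : G) : f * (v₂ * t) = v₂ * (f * t) := by rw [← mul_assoc, h.fv₂]; simp only [mul_assoc]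
theorem zb' (t : G) : z * (b * t) = b * (z * t) := by rw [← mul_assoc, h.zb]; simp only [mul_assoc]
theorem zc' (t : G) : z * (c * t) = c * (z * t) := by rw [← mul_assoc, h.zc]; simp only [mul_assoc]
theorem zx' (t : G) : z * (x * t) = x * (z * t) := by rw [← mul_assoc, h.zx]; simp only [mul_assoc]
theorem zv₁' (t : G) : z * (v₁ * t) = v₁ * (z * t) := by rw [← mul_assoc, h.zv₁]; simp only [mul_assoc]
theorem zv₂' (t : G) : z * (v₂ * t) = v₂ * (z * t) := by rw [← mul_assoc, h.zv₂]; simp only [mul_assoc]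
theorem zf' (t : G) : z * (f * t) = f * (z * t) := by rw [← mul_assoc, h.zf]; simp only [mul_assoc]

theorem z_inv : z⁻¹ = z := inv_eq_of_mul_eq_one_left h.zz
theorem f_inv : f⁻¹ = f := inv_eq_of_mul_eq_one_left h.ff
theorem x_inv : x⁻¹ = x := inv_eq_of_mul_eq_one_left h.xx
theorem v₁_inv : v₁⁻¹ = v₁ := inv_eq_of_mul_eq_one_left h.v₁v₁
theorem v₂_inv : v₂⁻¹ = v₂ := inv_eq_of_mul_eq_one_left h.v₂v₂
theorem b_inv : b⁻¹ = b := inv_eq_of_mul_eq_one_left h.bb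
theorem c_inv : c⁻¹ = c := inv_eq_of_mul_eq_one_left h.cc
theorem fz1 : f * z ≠ 1 := fun e => h.fz ((mul_eq_one_iff_eq_inv.1 e).trans h.z_inv)

end T8R

/-- collection in `T₈` -/
macro "nf8" r:ident : tactic => `(tactic| simp only [mul_assoc, mul_inv_rev, one_mul, mul_one, ($r).xx, ($r).zz, ($r).ff, ($r).v₁v₁, ($r).v₂v₂, ($r).bb, ($r).cc, ($r).xb, ($r).v₁b, ($r).v₂b, ($r).xc, ($r).v₁c, ($r).v₂c, ($r).v₁x, ($r).v₂x, ($r).v₂v₁, ($r).fb, ($r).fc, ($r).fx, ($r).fv₁, ($r).fv₂, ($r).zb, ($r).zc, ($r).zx, ($r).zv₁, ($r).zv₂, ($r).zf, ($r).xx', ($r).zz', ($r).ff', ($r).v₁v₁', ($r).v₂v₂', ($r).bb', ($r).cc', ($r).xb', ($r).v₁b', ($r).v₂b', ($r).xc', ($r).v₁c', ($r).v₂c', ($r).v₁x', ($r).v₂x', ($r).v₂v₁', ($r).fb', ($r).fc', ($r).fx', ($r).fv₁', ($r).fv₂', ($r).zb', ($r).zc', ($r).zx', ($r).zv₁', ($r).zv₂', ($r).zf', ($r).z_inv, ($r).f_inv, ($r).x_inv, ($r).v₁_inv, ($r).v₂_inv, ($r).b_inv,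 ($r).c_inv])

/-- collection in `T₈`, in a hypothesis -/
macro "nf8a" r:ident t:ident : tactic => `(tactic| simp only [mul_assoc, mul_inv_rev, one_mul, mul_one, ($r).xx, ($r).zz, ($r).ff, ($r).v₁v₁, ($r).v₂v₂, ($r).bb, ($r).cc, ($r).xb, ($r).v₁b, ($r).v₂b, ($r).xc, ($r).v₁c, ($r).v₂c, ($r).v₁x, ($r).v₂x, ($r).v₂v₁, ($r).fb, ($r).fc, ($r).fx, ($r).fv₁, ($r).fv₂, ($r).zb, ($r).zc, ($r).zx, ($r).zv₁, ($r).zv₂, ($r).zf, ($r).xx', ($r).zz', ($r).ff', ($r).v₁v₁', ($r).v₂v₂', ($r).bb', ($r).cc', ($r).xb', ($r).v₁b', ($r).v₂b', ($r).xc', ($r).v₁c', ($r).v₂c', ($r).v₁x', ($r).v₂x', ($r).v₂v₁', ($r).fb', ($r).fc', ($r).fx', ($r).fv₁', ($r).fv₂', ($r).zb', ($r).zc', ($r).zx', ($r).zv₁', ($r).zv₂', ($r).zf', ($r).z_inv, ($r).f_inv, ($r).x_inv, ($r).v₁_inv, ($r).v₂_inv, ($r).b_inv, ($r).c_inv] at $t:ident)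

end Cfsg.Agent.OddHalf.D5.SixAut
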