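import Cfsg.Agent.OddHalf.D5.SixAut.Split

/-!
# ODD D5, `n = 6`: `T = C(x) ∩ C(z)` is a Sylow 2-subgroup of `C(x)`
-/

set_option autoImplicit false

namespace Cfsg.Agent.OddHalf.D5.SixAut

open Subgroup Equiv Cfsg
open Cfsg.Agent.StdAlt.Six (Act NS emb act_emb exists_act exists_emb emb_mem emb_inj act_one_iff act_one ns_iff ns_pc
  Z0 A0 ns_of_a0)
open Cfsg.Agent.StdAlt.Conj (mem_N_of)

theorem comm_of_fix {σ : Perm (Fin 6)} {a : A6} (h : pcA σ a = a) : σ * (a : Perm (Fin 6)) = a * σ := by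
  have := congrArg Subtype.val h
  rw [Cfsg.Agent.StdAlt.Six.pc_apply] at this
  exact mul_inv_eq_iff_eq_mul.1 this

theorem pow_four_of : ∀ σ : Perm (Fin 6), σ * pz = pz * σ → σ ^ 4 = 1 := by decide +kernel

theorem cent_D : ∀ σ : Perm (Fin 6), σ * pv1 = pv1 * σ → σ * pv2 = pv2 * σ → Perm.sign σ = 1 → σ = 1 ∨ σ = pz := by
  decide +kernel

theorem pv1_z : pv1 * pz = pz * pv1 := by decide +kernel
theorem pv2_z : pv2 * pz = pz * pv2 := by decide +kernel
theorem pz_pz : pz * pz = 1 := by decide +kernel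
theorem pz_ne : pz ≠ 1 := by decide +kernel

/-- an automorphism fixing `z` has order dividing `8` -/
theorem pow_eight_of {α : MulAut A6} (h : α qz = qz) : α ^ 8 = 1 := by
  have key : ∀ β : MulAut A6, NS β → β qz = qz → β ^ 4 = 1 := by
    intro β hβ hβz
    obtain ⟨σ, rfl⟩ := ns_iff.1 hβ
    have h1 := pow_four_of σ (comm_of_fix hβz)
    rw [← map_pow, h1, map_one]
  have h2 : (α * α) qz = qz := by rw [MulAut.mul_apply, h, h]
  have h3 := key _ (Cfsg.Agent.StdAlt.Six.ns_sq α) h2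
  rw [← pow_two, ← pow_mul] at h3
  exact h3

/-- `T = C(x) ∩ C(z)` -/
def TT {G : Type*} [Group G] (x z : G) : Subgroup G := centralizer ({x} : Set G) ⊓ centralizer ({z} : Set G)

theorem mem_TT {G : Type*} [Group G] {x z g : G} : g ∈ TT x z ↔ g * x = x * g ∧ g * z = z * g := by
  unfold TT
  rw [mem_inf, mem_centralizer_singleton_iff, mem_centralizer_singleton_iff]

namespace SixFr

variable {G : Type*} [Group G] [Finite G] {x : G} {K : Subgroup G} (F : SixFr x K) (e : A6 ≃* K)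
include F

theorem pT : IsPGroup 2 (TT x (emb e qz)) := by
  rintro ⟨t, ht⟩
  obtain ⟨h1, h2⟩ := mem_TT.1 ht
  refine ⟨4, Subtype.ext ?_⟩
  show t ^ 2 ^ 4 = 1
  obtain ⟨α, hα⟩ := F.act e h1
  have h3 := pow_eight_of (hα.fix h2)
  have h4 : Act e (t ^ 8) (α ^ 8) := by
    have : ∀ n : ℕ, Act e (t ^ n) (α ^ n) := by
      intro n
      induction n with
      | zero => rw [pow_zero, pow_zero]; exact act_one e
      | succ n ih => rw [pow_succ, pow_succ]; exact ih.mul hα
    exact this 8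
  rw [h3] at h4
  have h5 : t ^ 8 * x = x * t ^ 8 := ((show Commute t x from h1).pow_left 8).eq
  have h6 : t ^ 2 ^ 4 = t ^ 8 * t ^ 8 := by rw [← pow_add]; norm_num
  rw [h6]
  rcases F.one_or e h5 h4 with h7 | h7
  · rw [h7, one_mul]
  · rw [h7, F.xx]

theorem qz_x : emb e qz * x = x * emb e qz := F.emb_x e qz

theorem v_mem {a : A6} (h : (a : Perm (Fin 6)) * pz = pz * a) : emb e a ∈ TT x (emb e qz) := by
  refine mem_TT.2 ⟨F.emb_x e a, ?_⟩
  rw [← map_mul, ← map_mul]
  congr 1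
  exact Subtype.ext h

/-- a 2-group in `C(x)` containing `T` is `T` -/
theorem max_TT {U : Subgroup G} (hU : IsPGroup 2 U) (hUx : ∀ u ∈ U, u * x = x * u) (hT : TT x (emb e qz) ≤ U) :
    U = TT x (emb e qz) := by
  apply le_antisymm _ hT
  have hn : ((K ⊓ U).subgroupOf U).Normal := by
    refine ⟨fun n hn g => ?_⟩
    rw [mem_subgroupOf, mem_inf] at hn ⊢
    exact ⟨F.norm g (hUx g g.2) n hn.1, (g * n * g⁻¹).2⟩
  have hzU : emb e qz ∈ U := hT (F.v_mem e rfl)
  have hz1 : emb e qz ≠ 1 := by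
    intro h
    have := emb_inj (e := e) (h.trans (map_one _).symm)
    exact pz_ne (congrArg Subtype.val this)
  have hne : (K ⊓ U).subgroupOf U ≠ ⊥ := by
    intro h
    have h1 : (⟨emb e qz, hzU⟩ : U) ∈ (K ⊓ U).subgroupOf U := mem_subgroupOf.2 ⟨emb_mem e qz, hzU⟩
    rw [h, mem_bot] at h1
    exact hz1 (congrArg Subtype.val h1)
  have hnil : Group.IsNilpotent U := hU.isNilpotent
  have h2 := Cfsg.Agent.Lib.NormalAbelian.normal_inf_center_ne_bot _ hne
  obtain ⟨w, hw⟩ := Subgroup.ne_bot_iff_exists_ne_one.1 h2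
  obtain ⟨hwK, hwc⟩ := mem_inf.1 w.2
  rw [mem_subgroupOf, mem_inf] at hwK
  obtain ⟨a, ha⟩ := exists_emb e hwK.1
  have hc : ∀ u ∈ U, u * emb e a = emb e a * u := by
    intro u hu
    rw [ha]
    exact congrArg Subtype.val (mem_center_iff.1 hwc ⟨u, hu⟩)
  have hcA : ∀ b : A6, (b : Perm (Fin 6)) * pz = pz * b → (a : Perm (Fin 6)) * b = b * a := by
    intro b hb
    have h3 := hc _ (hT (F.v_mem e hb))
    rw [← map_mul, ← map_mul] at h3
    exact (congrArg Subtype.val (emb_inj h3)).symm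
  have ha1 : a = qz := by
    rcases cent_D a (hcA qv1 pv1_z) (hcA qv2 pv2_z) (mem_A6.1 a.2) with h3 | h3
    · exfalso
      have h4 : a = 1 := Subtype.ext h3
      rw [h4, map_one] at ha
      exact hw (Subtype.ext (Subtype.ext ha.symm))
    · exact Subtype.ext h3
  intro u hu
  refine mem_TT.2 ⟨hUx u hu, ?_⟩
  have h3 := hc u hu
  rwa [ha1] at h3

/-- **the setup of D6** -/
theorem setup : D6.Setup x K (TT x (emb e qz)) where
  xx := F.xx
  x1 := F.x1
  Kx k hk := (F.le k hk).symm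
  Kn := F.norm
  CK := F.ker
  pT := F.pT e
  cx t ht := (mem_TT.1 ht).1
  syl := by
    intro P hP hPx
    have hle : TT x (emb e qz) ≤ centralizer ({x} : Set G) := inf_le_left
    have h1 : IsPGroup 2 ((TT x (emb e qz)).subgroupOf (centralizer ({x} : Set G))) :=
      (F.pT e).of_injective (subgroupOfEquivOfLe hle).toMonoidHom (MulEquiv.injective _)
    obtain ⟨S, hS⟩ := h1.exists_le_sylow
    have hP' : P ≤ centralizer ({x} : Set G) := fun y hy => mem_centralizer_singleton_iff.2 (hPx y hy)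
    have h2 : IsPGroup 2 (P.subgroupOf (centralizer ({x} : Set G))) :=
      hP.of_injective (subgroupOfEquivOfLe hP').toMonoidHom (MulEquiv.injective _)
    obtain ⟨R, hR⟩ := h2.exists_le_sylow
    have h3 : (S : Subgroup (centralizer ({x} : Set G))).map (centralizer ({x} : Set G)).subtype =
        TT x (emb e qz) := by
      apply F.max_TT e (S.isPGroup'.map _)
      · rintro _ ⟨y, -, rfl⟩
        exact mem_centralizer_singleton_iff.1 y.2
      · intro t ht
        exact ⟨⟨t, hle ht⟩, hS (mem_subgroupOf.2 ht), rfl⟩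
    obtain ⟨g, hg⟩ := MulAction.exists_smul_eq (centralizer ({x} : Set G)) R S
    refine ⟨g, mem_centralizer_singleton_iff.1 g.2, fun y hy => ?_⟩
    rw [← h3]
    have h4 : (⟨y, hP' hy⟩ : centralizer ({x} : Set G)) ∈ (R : Subgroup (centralizer ({x} : Set G))) :=
      hR (mem_subgroupOf.2 hy)
    refine ⟨g * ⟨y, hP' hy⟩ * g⁻¹, ?_, rfl⟩
    rw [← hg, Sylow.coe_subgroup_smul]
    exact ⟨_, h4, rfl⟩

end SixFr

end Cfsg.Agent.OddHalf.D5.SixAut
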