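import Mathlib

/-!
# ODD D5, `n = 6`: an explicit involutory outer automorphism `θ` of `S_6`

`T a b = θ (a b)`. `θ` is an involution with `θ f = f z`, `θ z = z`, `θ v₁ = v₂`, `θ v₂ = v₁`, `f = (4 5)`,
`z = (0 1)(2 3)`, `v₁ = (0 2)(1 3)`, `v₂ = (0 1)(4 5)`, `d = v₁ v₂`. `θ` is computable (`thf`): `decide +kernel` works.
-/

set_option autoImplicit false

namespace Cfsg.Agent.OddHalf.D5.SixAut

open Equiv

theorem app_inv (σ : Perm (Fin 6)) (i : Fin 6) : σ (σ⁻¹ i) = i := Equiv.apply_symm_apply σ i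

theorem inv_app (σ : Perm (Fin 6)) (i : Fin 6) : σ⁻¹ (σ i) = i := Equiv.symm_apply_apply σ i

/-- the product of three transpositions -/
def s3 (a b c d e f : Fin 6) : Perm (Fin 6) := swap a b * swap c d * swap e f

/-- the images of the transpositions -/
def T : Fin 6 → Fin 6 → Perm (Fin 6) :=
  ![![1, s3 0 3 1 2 4 5, s3 0 5 1 4 2 3, s3 0 1 2 4 3 5, s3 0 4 1 3 2 5, s3 0 2 1 5 3 4],
    ![s3 0 3 1 2 4 5, 1, s3 0 1 2 5 3 4, s3 0 4 1 5 2 3, s3 0 2 1 4 3 5, s3 0 5 1 3 2 4],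
    ![s3 0 5 1 4 2 3, s3 0 1 2 5 3 4, 1, s3 0 2 1 3 4 5, s3 0 3 1 5 2 4, s3 0 4 1 2 3 5],
    ![s3 0 1 2 4 3 5, s3 0 4 1 5 2 3, s3 0 2 1 3 4 5, 1, s3 0 5 1 2 3 4, s3 0 3 1 4 2 5],
    ![s3 0 4 1 3 2 5, s3 0 2 1 4 3 5, s3 0 3 1 5 2 4, s3 0 5 1 2 3 4, 1, s3 0 1 2 3 4 5],
    ![s3 0 2 1 5 3 4, s3 0 5 1 3 2 4, s3 0 4 1 2 3 5, s3 0 3 1 4 2 5, s3 0 1 2 3 4 5, 1]]

/-- the graph of `θ` -/
def J : Subgroup (Perm (Fin 6) × Perm (Fin 6)) where
  carrier := {p | ∀ i j, p.1 * T i j * p.1⁻¹ = T (p.2 i) (p.2 j)}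
  one_mem' := by intro i j; simp
  mul_mem' := by
    intro a b ha hb i j
    have h1 := hb i j
    have h2 := ha (b.2 i) (b.2 j)
    show a.1 * b.1 * T i j * (a.1 * b.1)⁻¹ = T (a.2 (b.2 i)) (a.2 (b.2 j))
    rw [← h2, ← h1]; group
  inv_mem' := by
    intro a ha i j
    have h1 := ha (a.2⁻¹ i) (a.2⁻¹ j)
    rw [app_inv, app_inv] at h1
    show a.1⁻¹ * T i j * a.1⁻¹⁻¹ = T (a.2⁻¹ i) (a.2⁻¹ j)
    rw [← h1]; group

theorem mem_J {σ τ : Perm (Fin 6)} : (σ, τ) ∈ J ↔ ∀ i j, σ * T i j * σ⁻¹ = T (τ i) (τ j) := Iff.rfl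

theorem T_mem : ∀ a b, (T a b, swap a b) ∈ J := by
  have h : ∀ a b i j, T a b * T i j * (T a b)⁻¹ = T (swap a b i) (swap a b j) := by decide +kernel
  intro a b
  rw [mem_J]
  exact h a b

theorem T_mem' : ∀ a b, (swap a b, T a b) ∈ J := by
  have h : ∀ a b i j, swap a b * T i j * (swap a b)⁻¹ = T (T a b i) (T a b j) := by decide +kernel
  intro a b
  rw [mem_J]
  exact h a b

/-- the partner of `c` in the syntheme of the total `i` containing the edge `{a, b}` -/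
def part (i a b c : Fin 6) : Fin 6 :=
  if T i 0 a = b then T i 0 c else if T i 1 a = b then T i 1 c else if T i 2 a = b then T i 2 c else
  if T i 3 a = b then T i 3 c else if T i 4 a = b then T i 4 c else T i 5 c

theorem part_eq : ∀ i j a b c, a ≠ b → T i j a = b → part i a b c = T i j c := by decide +kernel

theorem part_ex : ∀ i a b, a ≠ b → ∃ j, T i j a = b := by decide +kernel

/-- the total with given partners -/
def code (p q : Fin 6) : Fin 6 :=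
  if part 0 0 1 2 = p ∧ part 0 0 2 1 = q then 0 else
  if part 1 0 1 2 = p ∧ part 1 0 2 1 = q then 1 else
  if part 2 0 1 2 = p ∧ part 2 0 2 1 = q then 2 else
  if part 3 0 1 2 = p ∧ part 3 0 2 1 = q then 3 else
  if part 4 0 1 2 = p ∧ part 4 0 2 1 = q then 4 else 5

theorem code_eq : ∀ i, code (part i 0 1 2) (part i 0 2 1) = i := by decide +kernel

/-- the function `θ` -/
def thf (σ : Perm (Fin 6)) (i : Fin 6) : Fin 6 :=
  code (σ (part i (σ⁻¹ 0) (σ⁻¹ 1) (σ⁻¹ 2))) (σ (part i (σ⁻¹ 0) (σ⁻¹ 2) (σ⁻¹ 1)))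

theorem part_J {σ τ : Perm (Fin 6)} (h : (σ, τ) ∈ J) (i a b c : Fin 6) (hab : a ≠ b) :
    part (τ i) a b c = σ (part i (σ⁻¹ a) (σ⁻¹ b) (σ⁻¹ c)) := by
  have hne : σ⁻¹ a ≠ σ⁻¹ b := fun e => hab (σ⁻¹.injective e)
  obtain ⟨j, hj⟩ := part_ex i (σ⁻¹ a) (σ⁻¹ b) hne
  have h1 := mem_J.1 h i j
  rw [part_eq i j _ _ _ hne hj]
  have h2 : T (τ i) (τ j) a = b := by
    rw [← h1, Perm.mul_apply, Perm.mul_apply, hj, app_inv]
  rw [part_eq (τ i) (τ j) a b c hab h2, ← h1, Perm.mul_apply, Perm.mul_apply]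

theorem thf_eq {σ τ : Perm (Fin 6)} (h : (σ, τ) ∈ J) (i : Fin 6) : thf σ i = τ i := by
  unfold thf
  rw [← part_J h i 0 1 2 (by decide), ← part_J h i 0 2 1 (by decide), code_eq]

theorem exists_J (σ : Perm (Fin 6)) : ∃ τ, (σ, τ) ∈ J := by
  induction σ using Perm.swap_induction_on with
  | one => exact ⟨1, J.one_mem⟩
  | swap_mul σ a b hab ih =>
    obtain ⟨τ, hτ⟩ := ih
    exact ⟨T a b * τ, J.mul_mem (T_mem' a b) hτ⟩

theorem thf_inv (σ : Perm (Fin 6)) (i : Fin 6) : thf σ⁻¹ (thf σ i) = i := by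
  obtain ⟨τ, h⟩ := exists_J σ
  have h' : (σ⁻¹, τ⁻¹) ∈ J := J.inv_mem h
  rw [thf_eq h, thf_eq h', inv_app]

/-- `θ σ` as a permutation -/
def thp (σ : Perm (Fin 6)) : Perm (Fin 6) where
  toFun := thf σ
  invFun := thf σ⁻¹
  left_inv := thf_inv σ
  right_inv i := by
    have := thf_inv σ⁻¹ i
    rwa [inv_inv] at this

theorem thp_eq {σ τ : Perm (Fin 6)} (h : (σ, τ) ∈ J) : thp σ = τ := Equiv.ext fun i => thf_eq h i

theorem thp_mem (σ : Perm (Fin 6)) : (σ, thp σ) ∈ J := by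
  obtain ⟨τ, h⟩ := exists_J σ
  rw [thp_eq h]; exact h

theorem thp_mul (σ τ : Perm (Fin 6)) : thp (σ * τ) = thp σ * thp τ :=
  thp_eq (J.mul_mem (thp_mem σ) (thp_mem τ))

theorem thp_swap (a b : Fin 6) : thp (swap a b) = T a b := thp_eq (T_mem' a b)

theorem thp_T (a b : Fin 6) : thp (T a b) = swap a b := thp_eq (T_mem a b)

theorem thp_one : thp 1 = 1 := thp_eq J.one_mem

theorem thp_thp (σ : Perm (Fin 6)) : thp (thp σ) = σ := by
  induction σ using Perm.swap_induction_on with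
  | one => rw [thp_one, thp_one]
  | swap_mul σ a b hab ih => rw [thp_mul, thp_mul, ih, thp_swap, thp_T]

/-- **the outer automorphism** -/
def θ : Perm (Fin 6) →* Perm (Fin 6) where
  toFun := thp
  map_one' := thp_one
  map_mul' := thp_mul

theorem θ_apply (σ : Perm (Fin 6)) : θ σ = thp σ := rfl

@[simp] theorem θ_θ (σ : Perm (Fin 6)) : θ (θ σ) = σ := thp_thp σ

theorem θ_swap (a b : Fin 6) : θ (swap a b) = T a b := thp_swap a b

theorem θ_inj : Function.Injective θ := fun a b h => by rw [← θ_θ a, h, θ_θ]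

theorem sign_T : ∀ a b, Perm.sign (T a b) = Perm.sign (swap a b) := by decide +kernel

theorem sign_θ (σ : Perm (Fin 6)) : Perm.sign (θ σ) = Perm.sign σ := by
  induction σ using Perm.swap_induction_on with
  | one => rw [map_one]
  | swap_mul σ a b hab ih => rw [map_mul, Perm.sign_mul, Perm.sign_mul, ih, θ_swap, sign_T]

/-- the transposition `(4 5)` -/
def pf : Perm (Fin 6) := swap 4 5

/-- `(0 1)(2 3)` -/
def pz : Perm (Fin 6) := swap 0 1 * swap 2 3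

/-- `(0 2)(1 3)` -/
def pv1 : Perm (Fin 6) := swap 0 2 * swap 1 3

/-- `(0 1)(4 5)` -/
def pv2 : Perm (Fin 6) := swap 0 1 * swap 4 5

/-- `v₁ v₂`, of order `4`, `d² = z` -/
def pd : Perm (Fin 6) := pv1 * pv2

/-- an element of order `3` centralizing `f`, normalizing `V₁ = ⟨z, v₁⟩`: `(0 1 2)` -/
def pc : Perm (Fin 6) := swap 0 1 * swap 1 2

/-- an element of order `3` normalizing `V₂ = ⟨z, v₂⟩` : `(0 2 4)(1 3 5)` -/
def pc' : Perm (Fin 6) := swap 0 2 * swap 2 4 * (swap 1 3 * swap 3 5)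

theorem θ_f : θ pf = pf * pz := by decide +kernel
theorem θ_z : θ pz = pz := by decide +kernel
theorem θ_v1 : θ pv1 = pv2 := by decide +kernel
theorem θ_v2 : θ pv2 = pv1 := by decide +kernel
theorem θ_d : θ pd = pd⁻¹ := by decide +kernel
theorem θ_c : θ pc = pc' := by decide +kernel
theorem θ_c' : θ pc' = pc := by decide +kernel
theorem θ_fz : θ (pf * pz) = pf := by decide +kernel

end Cfsg.Agent.OddHalf.D5.SixAut
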