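import Cfsg.Agent.OddHalf.D5.SixAut.Defs2
import Cfsg.Agent.OddHalf.D5.SixAut.EPerm2

/-!
# ODD D5, `n = 6`, (C3b), the non-abelian variant: the weak structure `AutE` (helper310)

`AutE x ι r`: `C(x) = ⟨x⟩ × ι(S_6)` extended by `r`, `r ι(a) r⁻¹ = ι(θ a)` for even `a`, and up to a factor `x` for odd
`a`. Both `AutSpl` and `AutTw` give it.
-/

set_option autoImplicit false

namespace Cfsg.Agent.OddHalf.D5.SixAut.TwE

open Equiv EPerm2

variable {G : Type*} [Group G]

structure AutE (x : G) (ι : Perm (Fin 6) →* G) (r : G) : Prop where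
  xx : x * x = 1
  x1 : x ≠ 1
  inj : Function.Injective ι
  comm : ∀ a, x * ι a = ι a * x
  ne : ∀ a, ι a ≠ x
  rx : r * x = x * r
  rr : r * r = 1 ∨ r * r = x
  cv : ∀ a, Perm.sign a = 1 → r * ι a * r⁻¹ = ι (θ a)
  cw : ∀ a, r * ι a * r⁻¹ = ι (θ a) ∨ r * ι a * r⁻¹ = x * ι (θ a)
  cent : ∀ g, g * x = x * g → ∃ a, g = ι a ∨ g = x * ι a ∨ g = ι a * r ∨ g = x * (ι a * r)

namespace AutE

variable {x r : G} {ι : Perm (Fin 6) →* G} (h : AutE x ι r)
include h

theorem comm' (a : Perm (Fin 6)) : ι a * x = x * ι a := (h.comm a).symm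

theorem x_inv : x⁻¹ = x := inv_eq_of_mul_eq_one_left h.xx

theorem one_iff {a : Perm (Fin 6)} : ι a = 1 ↔ a = 1 :=
  ⟨fun e => h.inj (e.trans (map_one ι).symm), fun e => by rw [e, map_one]⟩

theorem ne_x (a b : Perm (Fin 6)) : ι a ≠ x * ι b := by
  intro e
  apply h.ne (a * b⁻¹)
  rw [map_mul, map_inv, e, mul_assoc, mul_inv_cancel, mul_one]

theorem r_notin (a : Perm (Fin 6)) : r ≠ ι a := by
  intro e
  obtain ⟨b, hb⟩ := θ_ne_conj a
  have h1 : r * ι b * r⁻¹ = ι (a * b * a⁻¹) := by rw [e, map_mul, map_mul, map_inv]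
  rcases h.cw b with e' | e'
  · exact hb (h.inj (e'.symm.trans h1))
  · exact h.ne_x _ _ (h1.symm.trans e')

theorem r_notin' (a : Perm (Fin 6)) : r ≠ x * ι a := by
  intro e
  obtain ⟨b, hb⟩ := θ_ne_conj a
  have h1 : r * ι b * r⁻¹ = ι (a * b * a⁻¹) := by
    rw [e, map_mul, map_mul, map_inv]
    have h1 := h.comm (a * b * a⁻¹)
    rw [map_mul, map_mul, map_inv] at h1
    calc x * ι a * ι b * (x * ι a)⁻¹ = (x * (ι a * ι b * (ι a)⁻¹)) * x⁻¹ := by group
      _ = ι a * ι b * (ι a)⁻¹ := by rw [h1]; group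
  rcases h.cw b with e' | e'
  · exact hb (h.inj (e'.symm.trans h1))
  · exact h.ne_x _ _ (h1.symm.trans e')

theorem ne_r (a b : Perm (Fin 6)) : ι a ≠ ι b * r := by
  intro e
  apply h.r_notin (b⁻¹ * a)
  rw [map_mul, map_inv, e, inv_mul_cancel_left]

theorem ne_xr (a b : Perm (Fin 6)) : ι a ≠ x * (ι b * r) := by
  intro e
  apply h.r_notin' (b⁻¹ * a)
  rw [map_mul, map_inv, e]
  calc r = (x * x) * r := by rw [h.xx, one_mul]
    _ = x * (ι b)⁻¹ * (ι b * x) * r := by group
    _ = x * (ι b)⁻¹ * (x * ι b) * r := by rw [h.comm']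
    _ = x * ((ι b)⁻¹ * (x * (ι b * r))) := by group

theorem xι_inj {a b : Perm (Fin 6)} (e : x * ι a = x * ι b) : a = b := h.inj (mul_left_cancel e)

theorem comm_ι {a b : Perm (Fin 6)} : ι a * ι b = ι b * ι a ↔ a * b = b * a := by
  rw [← map_mul, ← map_mul]
  exact ⟨fun e => h.inj e, fun e => by rw [e]⟩

theorem comm_r {a b : Perm (Fin 6)} (e : (ι a * r) * ι b = ι b * (ι a * r)) : a * θ b = b * a := by
  have h1 : ι a * (r * ι b * r⁻¹) = ι (b * a) := by
    calc ι a * (r * ι b * r⁻¹) = (ι a * r) * ι b * r⁻¹ := by group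
      _ = ι b * (ι a * r) * r⁻¹ := by rw [e]
      _ = ι (b * a) := by rw [map_mul]; group
  rcases h.cw b with e' | e'
  · rw [e', ← map_mul] at h1
    exact h.inj h1
  · exfalso
    rw [e', ← mul_assoc, h.comm', mul_assoc, ← map_mul] at h1
    exact h.ne_x _ _ h1.symm

/-- involutions outside `⟨x⟩ × ι(S₆)` -/
theorem sq_one {a : Perm (Fin 6)} (e : (ι a * r) * (ι a * r) = 1) : a * θ a = 1 := by
  have h1 : ι a * (r * ι a * r⁻¹) * (r * r) = 1 := by
    rw [← e]; group
  have h2 : ι (a * θ a) = 1 ∨ ι (a * θ a) = x := by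
    rcases h.cw a with e' | e' <;> rcases h.rr with e'' | e'' <;> rw [e', e''] at h1
    · left; rw [map_mul]; simpa using h1
    · right; rw [map_mul, eq_inv_of_mul_eq_one_left h1, h.x_inv]
    · right
      rw [mul_one, ← mul_assoc, h.comm', mul_assoc, ← map_mul] at h1
      rw [eq_inv_of_mul_eq_one_right h1, h.x_inv]
    · left
      rw [← mul_assoc, h.comm', mul_assoc, mul_assoc, ← mul_assoc (ι a), ← map_mul, h.comm', ← mul_assoc, h.xx,
        one_mul] at h1
      exact h1
  rcases h2 with e' | e'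
  · exact h.one_iff.1 e'
  · exact absurd e' (h.ne _)

/-- everything in `C(x)` -/
theorem mem_cent (g : G) (hg : ∃ a, g = ι a ∨ g = x * ι a ∨ g = ι a * r ∨ g = x * (ι a * r)) : g * x = x * g := by
  obtain ⟨a, rfl | rfl | rfl | rfl⟩ := hg
  · exact h.comm' a
  · rw [mul_assoc, h.comm']
  · rw [mul_assoc, h.rx, ← mul_assoc, h.comm', mul_assoc]
  · calc x * (ι a * r) * x = x * (ι a * (r * x)) := by group
      _ = x * (ι a * x * r) := by rw [h.rx]; group
      _ = x * (x * (ι a * r)) := by rw [h.comm']; group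

/-- replace `r` by `x r` -/
theorem xr : AutE x ι (x * r) := by
  have hc : ∀ g, x * r * g * (x * r)⁻¹ = x * (r * g * r⁻¹) * x⁻¹ := by intro g; group
  refine ⟨h.xx, h.x1, h.inj, h.comm, h.ne, by rw [mul_assoc, h.rx], ?_, ?_, ?_, ?_⟩
  · have e : x * r * (x * r) = r * r := by
      calc x * r * (x * r) = x * (r * x) * r := by group
        _ = (x * x) * (r * r) := by rw [h.rx]; group
        _ = r * r := by rw [h.xx, one_mul]
    rw [e]; exact h.rr
  · intro a ha
    rw [hc, h.cv a ha, h.comm, mul_inv_cancel_right]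
  · intro a
    rcases h.cw a with e | e
    · left; rw [hc, e, h.comm, mul_inv_cancel_right]
    · right; rw [hc, e, h.comm (θ a), ← mul_assoc, h.comm, mul_inv_cancel_right]
  · intro g hg
    obtain ⟨a, e⟩ := h.cent g hg
    have h1 : ∀ k : G, x * (x * k) = k := fun k => by rw [← mul_assoc, h.xx, one_mul]
    have h2 : ι a * (x * r) = x * (ι a * r) := by rw [← mul_assoc, h.comm', mul_assoc]
    refine ⟨a, ?_⟩
    rw [h2, h1]
    tauto

end AutE

/-! ### from `AutTw` -/

open AutGen in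
theorem of_tw {x f r : G} {ι : A6 →* G} (h : AutTw x ι f r) : AutE x (h.ext h.ff1) r := by
  have hff := h.ff1
  have sgn : ∀ {σ : Perm (Fin 6)}, ¬ Perm.sign σ = 1 → Perm.sign (σ * pf) = 1 := by
    intro σ hs
    rcases Int.units_eq_one_or (Perm.sign σ) with h1 | h1
    · exact absurd h1 hs
    · rw [Perm.sign_mul, h1, sign_pf]; decide
  have hA : ∀ a : A6, r * h.ext hff a * r⁻¹ = h.ext hff (θ a) := by
    intro a
    rw [h.ext_even, h.cr, h.ext_even' hff (by rw [sign_θ]; exact mem_A6.1 a.2)]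
    rfl
  have hF : r * h.ext hff pf * r⁻¹ = x * h.ext hff (θ pf) := by
    rw [θ_f, map_mul, h.ext_f, h.rfx, h.ext_even' hff (mem_A6.1 pz_mem)]
    rfl
  refine ⟨h.xx, h.x1, ?_, ?_, ?_, h.rx, h.rr, ?_, ?_, ?_⟩
  · rw [injective_iff_map_eq_one]
    intro σ e
    by_cases hs : Perm.sign σ = 1
    · rw [h.ext_even' hff hs] at e
      have := h.inj (e.trans (map_one ι).symm)
      exact congrArg Subtype.val this
    · exfalso
      have h1 := sgn hs
      have h2 : h.ext hff (σ * pf) = f := by rw [map_mul, e, one_mul, h.ext_f]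
      rw [h.ext_even' hff h1] at h2
      exact h.f_ne _ h2.symm
  · intro σ
    by_cases hs : Perm.sign σ = 1
    · rw [h.ext_even' hff hs, h.comm]
    · have h1 := sgn hs
      have pp : pf * pf = 1 := by decide +kernel
      have h2 : h.ext hff σ = h.ext hff (σ * pf) * f := by
        rw [map_mul, h.ext_f, mul_assoc, hff, mul_one]
      rw [h2, h.ext_even' hff h1, ← mul_assoc, h.comm, mul_assoc, ← h.fx, mul_assoc]
  · intro σ e
    by_cases hs : Perm.sign σ = 1
    · rw [h.ext_even' hff hs] at e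
      exact h.ne _ e
    · have h1 := sgn hs
      have h2 : h.ext hff (σ * pf) = x * f := by rw [map_mul, e, h.ext_f]
      rw [h.ext_even' hff h1] at h2
      apply h.xf_ne ⟨σ * pf, mem_A6.2 h1⟩
      rw [h2, ← mul_assoc, h.xx, one_mul]
  · intro σ hs
    exact hA ⟨σ, mem_A6.2 hs⟩
  · intro σ
    by_cases hs : Perm.sign σ = 1
    · exact Or.inl (hA ⟨σ, mem_A6.2 hs⟩)
    · right
      have h1 := sgn hs
      have pp : pf * pf = 1 := by decide +kernel
      have h2 : σ = (σ * pf) * pf := by rw [mul_assoc, pp, mul_one]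
      have h3 := hA ⟨σ * pf, mem_A6.2 h1⟩
      have h3' : r * h.ext hff (σ * pf) * r⁻¹ = h.ext hff (θ (σ * pf)) := h3
      have hx : ∀ a : A6, x * h.ext hff a = h.ext hff a * x := by
        intro a; rw [h.ext_even, h.comm]
      have hx' : x * h.ext hff (θ (σ * pf)) = h.ext hff (θ (σ * pf)) * x :=
        hx ⟨θ (σ * pf), mem_A6.2 (by rw [sign_θ]; exact h1)⟩
      calc r * h.ext hff σ * r⁻¹ = r * h.ext hff ((σ * pf) * pf) * r⁻¹ := by rw [← h2]
        _ = (r * h.ext hff (σ * pf) * r⁻¹) * (r * h.ext hff pf * r⁻¹) := by rw [map_mul]; group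
        _ = x * h.ext hff (θ ((σ * pf) * pf)) := by
            rw [h3', hF, ← mul_assoc, ← hx', mul_assoc, ← map_mul, ← map_mul]
        _ = x * h.ext hff (θ σ) := by rw [← h2]
  · intro g hg
    obtain ⟨a, u, v, hu, hv, e⟩ := h.cent g hg
    rcases hu with rfl | rfl
    · refine ⟨a, ?_⟩
      rw [h.ext_even]
      rcases hv with rfl | rfl
      · simp only [mul_one] at e
        rcases e with e | e
        · exact Or.inl e
        · exact Or.inr (Or.inl e)
      · simp only [mul_one] at e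
        rcases e with e | e
        · exact Or.inr (Or.inr (Or.inl e))
        · exact Or.inr (Or.inr (Or.inr e))
    · refine ⟨a * pf, ?_⟩
      rw [h.ext_mul_f]
      rcases hv with rfl | rfl
      · simp only [mul_one] at e
        rcases e with e | e
        · exact Or.inl e
        · exact Or.inr (Or.inl e)
      · rcases e with e | e
        · exact Or.inr (Or.inr (Or.inl e))
        · exact Or.inr (Or.inr (Or.inr e))

/-- the value at `f` -/
theorem of_tw_f {x f r : G} {ι : A6 →* G} (h : AutTw x ι f r) :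
    r * h.ext h.ff1 pf * r⁻¹ = x * (h.ext h.ff1 pf * h.ext h.ff1 pz) := by
  rw [h.ext_f, h.rfx, h.ext_even' h.ff1 (mem_A6.1 pz_mem)]
  rfl

/-! ### the outer involutions, again -/

theorem exists_fix : ∃ t : Perm (Fin 6), θ t = t ∧ Perm.sign t ≠ 1 := by decide +kernel

theorem outer_conj_even (a : Perm (Fin 6)) (h : a * θ a = 1) : ∃ s, Perm.sign s = 1 ∧ a = s * (θ s)⁻¹ := by
  obtain ⟨s, hs⟩ := outer_conj a h
  by_cases h1 : Perm.sign s = 1
  · exact ⟨s, h1, hs⟩
  · obtain ⟨t, ht, h2⟩ := exists_fix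
    refine ⟨s * t, ?_, ?_⟩
    · rw [Perm.sign_mul, (Int.units_eq_one_or _).resolve_left h1, (Int.units_eq_one_or _).resolve_left h2]
      decide
    · rw [map_mul, ht, mul_inv_rev, mul_assoc, mul_inv_cancel_left]
      exact hs

end Cfsg.Agent.OddHalf.D5.SixAut.TwE
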