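import Cfsg.Agent.OddHalf.D5.SixAut.FusN
import Cfsg.Agent.OddHalf.D5.SixAut.TwOne

/-!
# ODD D5, `n = 6`, (C3b), the non-abelian variant: the action of `N(E₁)` (helper310)
-/

set_option autoImplicit false
set_option linter.unusedSectionVars false

namespace Cfsg.Agent.OddHalf.D5.SixAut.TwFus

open Subgroup Equiv
open EPerm EPerm2 EOne TwE TwOne
open FusE (A A_def A_mul A_inv A_inv' A_inj A_inv_eq A_eq_inv A_eq_iff A_conj A_ι A_ι_inv NE A_mem mem_NE)
open FusN (D D_A D_of_A D_self even_conj odd_conj VInv)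

variable {G : Type*} [Group G] {x r : G} {ι : Perm (Fin 6) →* G}

section

variable (h : AutE x ι r)
include h

theorem A_ι_x (a : Perm (Fin 6)) : A (ι a) x = x := A_eq_iff.2 (h.comm' a)

theorem A_x_ι (a : Perm (Fin 6)) : A x (ι a) = ι a := A_eq_iff.2 (h.comm a)

theorem A_ι_x_inv (a : Perm (Fin 6)) : A (ι a)⁻¹ x = x := A_inv_eq (A_ι_x h a)

theorem zE : ι pz ∈ E1 x ι := AutE'.mem h V_z
theorem vE : ι pv1 ∈ E1 x ι := AutE'.mem h V_v1
theorem fE : ι pf ∈ E1 x ι := AutE'.mem h V_pf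

/-- **uniqueness** -/
theorem uniq {c c' : G} (hx : A c x = A c' x) (hz : A c (ι pz) = A c' (ι pz)) (hv : A c (ι pv1) = A c' (ι pv1))
    {e : G} (he : e ∈ E1 x ι) : A c e = A c' e := by
  have key : ∀ {k : G}, A c k = A c' k → A (c⁻¹ * c') k = k := fun {k} hk => by rw [A_mul, ← hk, A_inv]
  have h1 : c⁻¹ * c' ∈ E1 x ι := ⟨A_eq_iff.1 (key hx), A_eq_iff.1 (key hz), A_eq_iff.1 (key hv)⟩
  have h2 : A (c⁻¹ * c') e = e := A_eq_iff.2 (AutE'.comm h h1 he)
  rw [A_mul] at h2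
  exact (A_eq_inv h2)

/-- elements of `N(E₁)` from three images -/
theorem gen_NE [Finite G] {n : G} (h1 : A n x ∈ E1 x ι) (h2 : A n (ι pz) ∈ E1 x ι) (h3 : A n (ι pv1) ∈ E1 x ι) :
    n ∈ NE x ι := by
  have key : ∀ {k e : G}, A n k ∈ E1 x ι → e ∈ E1 x ι → n⁻¹ * e * n * k = k * (n⁻¹ * e * n) := by
    intro k e hk he
    have h4 : e * (n * k * n⁻¹) = n * k * n⁻¹ * e := AutE'.comm h he hk
    calc n⁻¹ * e * n * k = n⁻¹ * (e * (n * k * n⁻¹)) * n := by group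
      _ = n⁻¹ * (n * k * n⁻¹ * e) * n := by rw [h4]
      _ = k * (n⁻¹ * e * n) := by group
  have h5 : n⁻¹ ∈ NE x ι := by
    apply mem_NE
    intro e he
    rw [inv_inv]
    exact ⟨key h1 he, key h2 he, key h3 he⟩
  have := inv_mem h5
  rwa [inv_inv] at this

theorem ι_NE [Finite G] {a : Perm (Fin 6)} (ha : a * pf = pf * a) : ι a ∈ NE x ι := by
  obtain ⟨h1, h2⟩ := cent_f_V a ha
  apply gen_NE h
  · rw [A_ι_x h]; exact AutE'.x_mem h
  · rw [A_ι]; exact AutE'.mem h h1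
  · rw [A_ι]; exact AutE'.mem h h2

theorem x_NE [Finite G] : x ∈ NE x ι := by
  apply gen_NE h
  · rw [A_eq_iff.2 rfl]; exact AutE'.x_mem h
  · rw [A_x_ι h]; exact zE h
  · rw [A_x_ι h]; exact vE h

/-- **`N(E₁) ∩ C(x) = ⟨x⟩ × C_{S₆}(f)`** -/
theorem stab [Finite G] {n : G} (hn : n ∈ NE x ι) (hx : A n x = x) :
    ∃ a, a * pf = pf * a ∧ (n = ι a ∨ n = x * ι a) := by
  have key : ∀ a, InV (a * pz * a⁻¹) → InV (a * pv1 * a⁻¹) → InV (a * pf * a⁻¹) → a * pf = pf * a := nor_V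
  have hr : ∀ a e, A (ι a * r) (ι e) ∈ E1 x ι → InV (a * θ e * a⁻¹) := by
    intro a e he
    rw [A_mul, A_def r] at he
    rcases h.cw e with e' | e'
    · rw [e', A_ι, AutE'.mem_iff h] at he
      exact he
    · rw [e', map_mul, A_ι_x h, A_ι, AutE'.mem_iff' h] at he
      exact he
  have hx' : ∀ k e, A (x * k) (ι e) ∈ E1 x ι → A k (ι e) ∈ E1 x ι := by
    intro k e hk
    rw [A_mul] at hk
    have h1 := A_mem (x_NE h) hk
    rw [← A_mul, h.xx, A_def 1, one_mul, inv_one, mul_one] at h1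
    exact h1
  obtain ⟨a, e⟩ := h.cent n (A_eq_iff.1 hx)
  have hz := A_mem hn (zE h)
  have hv := A_mem hn (vE h)
  have hf := A_mem hn (fE h)
  rcases e with rfl | rfl | rfl | rfl
  · rw [A_ι, AutE'.mem_iff h] at hz hv hf
    exact ⟨a, key a hz hv hf, Or.inl rfl⟩
  · have hz := hx' _ _ hz
    have hv := hx' _ _ hv
    have hf := hx' _ _ hf
    rw [A_ι, AutE'.mem_iff h] at hz hv hf
    exact ⟨a, key a hz hv hf, Or.inr rfl⟩
  · exfalso
    have hz := hr _ _ hz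
    have hv := hr _ _ hv
    have hf := hr _ _ hf
    rw [θ_z] at hz
    rw [θ_v1] at hv
    rw [θ_f] at hf
    exact no_r2 a hz hv hf
  · exfalso
    have hz := hr _ _ (hx' _ _ hz)
    have hv := hr _ _ (hx' _ _ hv)
    have hf := hr _ _ (hx' _ _ hf)
    rw [θ_z] at hz
    rw [θ_v1] at hv
    rw [θ_f] at hf
    exact no_r2 a hz hv hf

theorem ne_mul (a b : Perm (Fin 6)) : x * ι a ≠ ι b := fun e => h.ne_x b a e.symm

theorem V_small : ∀ a, InV a → a * pv2 = pv2 * a → a = 1 ∨ a = pz ∨ a = pf ∨ a = pf * pz := by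
  have key : ∀ a ∈ vL, a * pv2 = pv2 * a → a = 1 ∨ a = pz ∨ a = pf ∨ a = pf * pz := by decide +kernel
  exact fun a ha => key a (mem_vL.2 ha)

/-! #### the actions of `s = ι v₂` and `d = ι c` -/

theorem s_v : A (ι pv2) (ι pv1) = ι (pz * pv1) := by rw [A_ι, v2_v1]
theorem s_z : A (ι pv2) (ι pz) = ι pz := by rw [A_ι, v2_z, mul_inv_cancel_right]
theorem s_f : A (ι pv2) (ι pf) = ι pf := by rw [A_ι, v2_f, mul_inv_cancel_right]
theorem s_z' : A (ι pv2)⁻¹ (ι pz) = ι pz := A_inv_eq (s_z h)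
theorem s_f' : A (ι pv2)⁻¹ (ι pf) = ι pf := A_inv_eq (s_f h)
theorem s_zv : A (ι pv2) (ι (pz * pv1)) = ι pv1 := by
  rw [A_ι]; congr 1; decide +kernel
theorem s_v' : A (ι pv2)⁻¹ (ι pv1) = ι (pz * pv1) := A_inv_eq (s_zv h)

theorem d_z : A (ι pc) (ι pz) = ι (pz * pv1) := by rw [A_ι, c_z]
theorem d_v : A (ι pc) (ι pv1) = ι pz := by rw [A_ι, c_v1]
theorem d_zv : A (ι pc) (ι (pz * pv1)) = ι pv1 := by
  rw [A_ι]; congr 1; decide +kernel
theorem d_f : A (ι pc) (ι pf) = ι pf := by rw [A_ι, c_f, mul_inv_cancel_right]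
theorem d_z' : A (ι pc)⁻¹ (ι pz) = ι pv1 := A_inv_eq (d_v h)
theorem d_v' : A (ι pc)⁻¹ (ι pv1) = ι (pz * pv1) := A_inv_eq (d_zv h)
theorem d_f' : A (ι pc)⁻¹ (ι pf) = ι pf := A_inv_eq (d_f h)

/-- **Lemma C** -/
theorem lemC {c : G} (hx : A c x = x * ι pz) (hz : A c (ι pz) = ι pz) (hv : A c (ι pv1) = ι pv1) :
    A c (ι pf) = ι pf ∨ A c (ι pf) = ι (pf * pz) := by
  have hzz : ι pz * ι pz = 1 := AutE'.sq h (zE h)
  have hzv : A c (ι (pz * pv1)) = ι (pz * pv1) := by rw [map_mul ι, map_mul, hz, hv]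
  have hx' : A c (x * ι pz) = x := by rw [map_mul, hx, hz, mul_assoc, hzz, mul_one]
  have hxi : A c⁻¹ x = x * ι pz := A_inv_eq hx'
  have hzi : A c⁻¹ (ι pz) = ι pz := A_inv_eq hz
  have hvi : A c⁻¹ (ι pv1) = ι pv1 := A_inv_eq hv
  -- `q ∈ E₁`
  have hq : A c (ι pf) ∈ E1 x ι := by
    have key : ∀ {k : G}, A c⁻¹ k ∈ E1 x ι → A c (ι pf) * k = k * A c (ι pf) := by
      intro k hk
      have h1 := AutE'.comm h (fE h) hk
      have h2 : A c (ι pf * A c⁻¹ k) = A c (A c⁻¹ k * ι pf) := by rw [h1]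
      rw [map_mul, map_mul, A_inv'] at h2
      exact h2
    refine ⟨key ?_, key ?_, key ?_⟩
    · rw [hxi]; exact AutE'.mem' h V_z
    · rw [hzi]; exact zE h
    · rw [hvi]; exact vE h
  obtain ⟨a, ha, hq2⟩ := AutE'.form h hq
  -- invariance under `s`
  have hs : A (ι pv2) (A c (ι pf)) = A c (ι pf) := by
    have h1 := uniq h (c := ι pv2 * c * (ι pv2)⁻¹) (c' := c)
      (by rw [A_conj, A_ι_x_inv h, hx, map_mul, A_ι_x h, s_z h])
      (by rw [A_conj, s_z' h, hz, s_z h])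
      (by rw [A_conj, s_v' h, hzv, s_zv h, hv]) (fE h)
    rw [A_conj, s_f' h] at h1
    exact h1
  have hsa : a * pv2 = pv2 * a := by
    have h1 : ∀ a, A (ι pv2) (ι a) = ι a → a * pv2 = pv2 * a := by
      intro a e
      exact (h.comm_ι.1 (A_eq_iff.1 e)).symm
    rcases hq2 with e | e
    · rw [e] at hs
      exact h1 a hs
    · rw [e, map_mul, A_ι_x h] at hs
      exact h1 a (mul_left_cancel hs)
  -- the equation `c c' = c''`
  have hc1 : ∀ w, (w = 1 ∨ w = pz) → A c (ι pf) ≠ x * ι (pf * w) := by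
    intro w hw hqw
    have e1 : A (ι pc * c * (ι pc)⁻¹) x = x * ι (pz * pv1) := by
      rw [A_conj, A_ι_x_inv h, hx, map_mul, A_ι_x h, d_z h]
    have e2 : A (ι pc * c * (ι pc)⁻¹) (ι pz) = ι pz := by rw [A_conj, d_z' h, hv, d_v h]
    have e3 : A (ι pc * c * (ι pc)⁻¹) (ι pv1) = ι pv1 := by rw [A_conj, d_v' h, hzv, d_zv h]
    have e4 : A (ι pc * c * (ι pc)⁻¹) (ι (pz * pv1)) = ι (pz * pv1) := by rw [map_mul ι, map_mul, e2, e3]
    have h1 := uniq h (c := c * (ι pc * c * (ι pc)⁻¹))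
      (c' := ι pc * (ι pc * c * (ι pc)⁻¹) * (ι pc)⁻¹)
      (by
        rw [A_mul, e1, map_mul, hx, hzv, A_conj (ι pc) (ι pc * c * (ι pc)⁻¹), A_ι_x_inv h, e1, map_mul (A (ι pc)),
          A_ι_x h, d_zv h, mul_assoc, ← map_mul ι]
        congr 2
        decide +kernel)
      (by rw [A_mul, e2, hz, A_conj (ι pc) (ι pc * c * (ι pc)⁻¹), d_z' h, e3, d_v h])
      (by rw [A_mul, e3, hv, A_conj (ι pc) (ι pc * c * (ι pc)⁻¹), d_v' h, e4, d_zv h]) (fE h)
    have e5 : A (ι pc * c * (ι pc)⁻¹) (ι pf) = x * (ι pf * A (ι pc) (ι w)) := by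
      rw [A_conj, d_f' h, hqw, map_mul, map_mul ι, map_mul, A_ι_x h, d_f h]
    rw [A_mul, e5, A_conj (ι pc) (ι pc * c * (ι pc)⁻¹), d_f' h, e5] at h1
    rw [map_mul (A c), map_mul (A c), hx, hqw, map_mul (A (ι pc)), map_mul (A (ι pc)), A_ι_x h, d_f h, A_ι, A_ι] at h1
    have hcw : A c (ι (pc * w * pc⁻¹)) = ι (pc * w * pc⁻¹) := by
      rcases hw with rfl | rfl
      · simp
      · rw [c_z, hzv]
    rw [hcw] at h1
    apply h.ne_x (pz * (pf * w) * (pc * w * pc⁻¹)) (pf * (pc * (pc * w * pc⁻¹) * pc⁻¹))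
    have h2 : x * ι pz * (x * ι (pf * w) * ι (pc * w * pc⁻¹)) = ι (pz * (pf * w) * (pc * w * pc⁻¹)) := by
      have h3 := h.comm' pz
      calc x * ι pz * (x * ι (pf * w) * ι (pc * w * pc⁻¹)) = x * (ι pz * x) * (ι (pf * w) * ι (pc * w * pc⁻¹)) := by
            group
        _ = (x * x) * (ι pz * (ι (pf * w) * ι (pc * w * pc⁻¹))) := by rw [h3]; group
        _ = _ := by rw [h.xx, one_mul]; simp only [map_mul, mul_assoc]
    rw [h2] at h1
    rw [h1, map_mul ι pf]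
  have hinv : ∀ {k e : G}, A c k = e → A c (ι pf) = e → ι pf = k := by
    intro k e h1 h2
    exact A_inj c (h2.trans h1.symm)
  rcases V_small h a ha hsa with rfl | rfl | rfl | rfl
  · exfalso
    rcases hq2 with e | e
    · rw [map_one] at e
      have := hinv (k := 1) (map_one _) e
      rw [h.one_iff] at this
      revert this; decide +kernel
    · rw [map_one, mul_one] at e
      have := hinv hx' e
      exact h.ne_x _ _ this
  · exfalso
    rcases hq2 with e | e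
    · have := h.inj (hinv hz e)
      revert this; decide +kernel
    · have := hinv hx e
      exact h.ne _ this
  · rcases hq2 with e | e
    · exact Or.inl e
    · exact absurd (by rw [mul_one]; exact e) (hc1 1 (Or.inl rfl))
  · rcases hq2 with e | e
    · exact Or.inr e
    · exact absurd e (hc1 pz (Or.inr rfl))

theorem g_even {a : Perm (Fin 6)} (ha : InV a) (hs : Perm.sign a = 1) (h1 : a ≠ 1) :
    ∃ g, A g x = x ∧ A g (ι pz) = ι a := by
  obtain ⟨s, -, hs⟩ := even_conj a ha hs h1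
  exact ⟨ι s, A_ι_x h s, by rw [A_ι, hs]⟩

/-- the odd elements of `V` -/
theorem D_odd {a : Perm (Fin 6)} (ha : InV a) (hs : Perm.sign a ≠ 1) :
    ((D x (ι a) ↔ D x (ι pf)) ∧ (D x (x * ι a) ↔ D x (x * ι pf))) ∨
    ((D x (ι a) ↔ D x (x * ι pf)) ∧ (D x (x * ι a) ↔ D x (ι pf))) := by
  by_cases h1 : a = pf
  · left; rw [h1]; exact ⟨Iff.rfl, Iff.rfl⟩
  · obtain ⟨s, -, hs⟩ := odd_conj a ha hs h1
    have k1 : A (ι s * r) x = x := by rw [A_mul, A_eq_iff.2 h.rx, A_ι_x h]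
    rcases h.cw pf with e | e
    · left
      have k2 : A (ι s * r) (ι pf) = ι a := by rw [A_mul, A_def r, e, θ_f, A_ι, hs]
      have k3 : A (ι s * r) (x * ι pf) = x * ι a := by rw [map_mul, k1, k2]
      exact ⟨D_of_A k2, D_of_A k3⟩
    · right
      have k2 : A (ι s * r) (ι pf) = x * ι a := by rw [A_mul, A_def r, e, θ_f, map_mul, A_ι_x h, A_ι, hs]
      have k3 : A (ι s * r) (x * ι pf) = ι a := by rw [map_mul, k1, k2, ← mul_assoc, h.xx, one_mul]
      exact ⟨D_of_A k3, D_of_A k2⟩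

theorem not_D_even (nxz : ∀ g, A g x ≠ ι pz) {a : Perm (Fin 6)} (ha : InV a) (hs : Perm.sign a = 1) :
    ¬ D x (ι a) := by
  by_cases h1 : a = 1
  · rintro ⟨g, hg⟩
    rw [h1, map_one] at hg
    apply h.x1
    exact A_inj g (hg.trans (map_one _).symm)
  · obtain ⟨g, -, hg⟩ := g_even h ha hs h1
    rw [D_of_A hg]
    rintro ⟨k, hk⟩
    exact nxz k hk

theorem D_even (hs0 : D x (x * ι pz)) {a : Perm (Fin 6)} (ha : InV a) (hs : Perm.sign a = 1) : D x (x * ι a) := by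
  by_cases h1 : a = 1
  · rw [h1, map_one, mul_one]; exact D_self x
  · obtain ⟨g, hg1, hg2⟩ := g_even h ha hs h1
    have : A g (x * ι pz) = x * ι a := by rw [map_mul, hg1, hg2]
    rw [D_of_A this]; exact hs0

theorem fus' [Finite G] {e : G} (he : e ∈ E1 x ι) (hD : D x e) : ∃ n ∈ NE x ι, A n x = e := by
  obtain ⟨g, hg⟩ := hD
  have h1 : g * x * g⁻¹ ∈ E1 x ι := by
    have : g * x * g⁻¹ = e := hg
    rw [this]; exact he
  obtain ⟨n, hn, hx⟩ := AutE'.fus h h1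
  exact ⟨n, mem_NE hn, hx.trans hg⟩

theorem adjust [Finite G] (hV : VInv x ι) {n : G} (hn : n ∈ NE x ι) :
    ∃ c ∈ NE x ι, A c x = A n x ∧ A c (ι pz) = ι pz ∧ A c (ι pv1) = ι pv1 := by
  obtain ⟨e₁, i1, s1, h1⟩ := hV n⁻¹ (inv_mem hn) pz V_z (by decide +kernel)
  obtain ⟨e₂, i2, s2, h2⟩ := hV n⁻¹ (inv_mem hn) pv1 V_v1 (by decide +kernel)
  have n1 : e₁ ≠ 1 := by
    rintro rfl
    rw [map_one] at h1
    have := A_inj n⁻¹ (h1.trans (map_one _).symm)
    rw [h.one_iff] at this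
    revert this; decide +kernel
  have n2 : e₂ ≠ 1 := by
    rintro rfl
    rw [map_one] at h2
    have := A_inj n⁻¹ (h2.trans (map_one _).symm)
    rw [h.one_iff] at this
    revert this; decide +kernel
  have n3 : e₁ ≠ e₂ := by
    rintro rfl
    have := h.inj (A_inj n⁻¹ (h1.trans h2.symm))
    revert this; decide +kernel
  obtain ⟨s, hs1, hs2, hs3⟩ := three i1 i2 s1 s2 n1 n2 n3
  refine ⟨n * ι s, mul_mem hn (ι_NE h hs1), ?_, ?_, ?_⟩
  · rw [A_mul, A_ι_x h]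
  · rw [A_mul, A_ι, hs2]; exact A_eq_inv h1
  · rw [A_mul, A_ι, hs3]; exact A_eq_inv h2

/-- `n = 12` is impossible -/
theorem twelve [Finite G] (hs0 : D x (x * ι pz)) (nxz : ∀ g, A g x ≠ ι pz) (h1 : D x (ι pf))
    (h2 : D x (x * ι pf)) : False := by
  have hDo : ∀ a, InV a → D x (x * ι a) := by
    intro a ha
    by_cases hs : Perm.sign a = 1
    · exact D_even h hs0 ha hs
    · rcases D_odd h ha hs with ⟨-, e⟩ | ⟨-, e⟩
      · exact e.2 h2
      · exact e.2 h1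
  have hDo' : ∀ a, InV a → Perm.sign a ≠ 1 → D x (ι a) := by
    intro a ha hs
    rcases D_odd h ha hs with ⟨e, -⟩ | ⟨e, -⟩
    · exact e.2 h1
    · exact e.2 h2
  have hV : VInv x ι := by
    intro n hn w hw hws
    have h3 : ¬ D x (A n (ι w)) := by rw [D_A]; exact not_D_even h nxz hw hws
    obtain ⟨a, ha, e | e⟩ := AutE'.form h (A_mem hn (AutE'.mem h hw))
    · by_cases hs : Perm.sign a = 1
      · exact ⟨a, ha, hs, e⟩
      · rw [e] at h3
        exact absurd (hDo' a ha hs) h3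
    · rw [e] at h3
      exact absurd (hDo a ha) h3
  obtain ⟨n, hn, hnx⟩ := fus' h (AutE'.mem' h V_z) hs0
  obtain ⟨c, hc, hcx, hcz, hcv⟩ := adjust h hV hn
  rw [hnx] at hcx
  have hzv : ∀ w, InV w → Perm.sign w = 1 → A c (ι w) = ι w := by
    intro w hw hs
    rcases V_even w hw hs with rfl | rfl | rfl | rfl
    · rw [map_one, map_one]
    · exact hcz
    · exact hcv
    · rw [map_mul, map_mul, hcz, hcv]
  -- `c` fixes an element `e ∈ x^G ∩ E₁`
  have key : ∀ e, e ∈ E1 x ι → D x e → A c e = e → False := by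
    intro e he hD hce
    obtain ⟨m, hm, hmx⟩ := fus' h he hD
    have k1 : A (m⁻¹ * c * m) x = x := by
      rw [A_mul, A_mul, hmx, hce, ← hmx, A_inv]
    have k2 : ∀ w, InV w → Perm.sign w = 1 → A (m⁻¹ * c * m) (ι w) = ι w := by
      intro w hw hs
      obtain ⟨w', hw', hs', e'⟩ := hV m hm w hw hs
      rw [A_mul, A_mul, e', hzv w' hw' hs', ← e', A_inv]
    have k3 : m⁻¹ * c * m ∈ E1 x ι :=
      ⟨A_eq_iff.1 k1, A_eq_iff.1 (k2 _ V_z (by decide +kernel)), A_eq_iff.1 (k2 _ V_v1 (by decide +kernel))⟩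
    have k4 : c ∈ E1 x ι := by
      have := A_mem hm k3
      rw [A_def] at this
      have e2 : m * (m⁻¹ * c * m) * m⁻¹ = c := by group
      rwa [e2] at this
    have k5 : A c x = x := A_eq_iff.2 (AutE'.comm h k4 (AutE'.x_mem h))
    rw [k5] at hcx
    have k6 : ι pz = 1 := mul_eq_left.1 hcx.symm
    rw [h.one_iff] at k6
    revert k6; decide +kernel
  rcases lemC h hcx hcz hcv with e | e
  · exact key _ (fE h) h1 e
  · apply key _ (AutE'.mem' h V_pf) h2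
    have hzz : ι pz * ι pz = 1 := AutE'.sq h (zE h)
    have hzf : ι pz * ι pf = ι pf * ι pz := AutE'.comm h (zE h) (fE h)
    rw [map_mul, hcx, e, map_mul]
    calc x * ι pz * (ι pf * ι pz) = x * (ι pz * ι pf) * ι pz := by group
      _ = x * ι pf * (ι pz * ι pz) := by rw [hzf]; group
      _ = x * ι pf := by rw [hzz, mul_one]

end

end Cfsg.Agent.OddHalf.D5.SixAut.TwFus
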