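import Cfsg.Agent.OddHalf.D5.SixAut.Ext
import Cfsg.Agent.OddHalf.D5.SixAut.DblDefs

/-!
# ODD half, `K = A₆`, C3b, (DBL), `e = 0`: the 2-group `P = U₁* U₂*` of order `2⁸`

`L = ⟨z, f, s, b⟩` is central in `P = ⟨L, v₁, v₂, w, w₂⟩`, `P / L` is elementary abelian of order 16. All the
involutions of `xP` are conjugate to `x` under `P`.
-/

set_option autoImplicit false
set_option linter.unusedSimpArgs false
set_option linter.unusedVariables false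

namespace Cfsg.Agent.OddHalf.D5.SixAut.Zero

open Subgroup

variable {G : Type*} [Group G]

theorem asc {a c d : G} (h : a * c = d) (k : G) : a * (c * k) = d * k := by rw [← mul_assoc, h]

/-- `n ∈ ⟨z, f⟩` -/
def InL (z f n : G) : Prop := n = 1 ∨ n = z ∨ n = f ∨ n = f * z

/-- The relations, in collected form (order `x, w₂, w, v₂, v₁, b, s, f, z, n`). -/
structure Base (x z f v₁ v₂ s b w w₂ n : G) : Prop where
  z1 : z ≠ 1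
  f1 : f ≠ 1
  fz1 : f ≠ z
  hn : InL z f n
  xx : x * x = 1
  zz : z * z = 1
  ff : f * f = 1
  v11 : v₁ * v₁ = 1
  v22 : v₂ * v₂ = 1
  ss : s * s = 1
  bb : b * b = 1
  ww : w * w = 1
  w22 : w₂ * w₂ = 1
  nn : n * n = 1
  w2x : w₂ * x = x * (w₂ * v₂)
  wx : w * x = x * (w * v₁)
  v2x : v₂ * x = x * v₂
  v1x : v₁ * x = x * v₁
  bx : b * x = x * (b * f)
  sx : s * x = x * (s * z)
  fx : f * x = x * f
  zx : z * x = x * z
  nx : n * x = x * n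
  v2w2 : v₂ * w₂ = w₂ * v₂
  v1w2 : v₁ * w₂ = w₂ * (v₁ * (s * n))
  bw2 : b * w₂ = w₂ * b
  sw2 : s * w₂ = w₂ * s
  fw2 : f * w₂ = w₂ * f
  zw2 : z * w₂ = w₂ * z
  nw2 : n * w₂ = w₂ * n
  v2w : v₂ * w = w * (v₂ * s)
  v1w : v₁ * w = w * v₁
  bw : b * w = w * b
  sw : s * w = w * s
  fw : f * w = w * f
  zw : z * w = w * z
  nw : n * w = w * n
  v1v2 : v₁ * v₂ = v₂ * (v₁ * z)
  bv2 : b * v₂ = v₂ * b
  sv2 : s * v₂ = v₂ * s
  fv2 : f * v₂ = v₂ * f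
  zv2 : z * v₂ = v₂ * z
  nv2 : n * v₂ = v₂ * n
  bv1 : b * v₁ = v₁ * b
  sv1 : s * v₁ = v₁ * s
  fv1 : f * v₁ = v₁ * f
  zv1 : z * v₁ = v₁ * z
  nv1 : n * v₁ = v₁ * n
  sb : s * b = b * s
  fb : f * b = b * f
  zb : z * b = b * z
  nb : n * b = b * n
  fs : f * s = s * f
  zs : z * s = s * z
  ns : n * s = s * n
  zf : z * f = f * z
  nf : n * f = f * n
  nz : n * z = z * n
  /-- `C(x) ∩ C(⟨z, f⟩) = T₀` -/
  cent : ∀ g, g * x = x * g → g * z = z * g → g * f = f * g → g ∈ T0 x z f v₁ v₂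

variable {x z f v₁ v₂ s b w w₂ n : G}

namespace Base

variable (h : Base x z f v₁ v₂ s b w w₂ n)

/-- an extension by a commuting involution -/
def extc (Q : Subgroup G) (g : G) (hg : g * g = 1) (hc : ∀ q ∈ Q, g * q = q * g) : Subgroup G :=
  ext Q g (by rw [hg]; exact Q.one_mem) (fun q hq => by
    rw [mul_assoc, ← hc q hq, inv_mul_cancel_left]; exact hq)

theorem mem_extc {Q : Subgroup G} {g : G} {hg : g * g = 1} {hc : ∀ q ∈ Q, g * q = q * g} {p : G} :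
    p ∈ extc Q g hg hc ↔ p ∈ Q ∨ ∃ q ∈ Q, p = g * q := Iff.rfl

theorem comm_extc {Q : Subgroup G} {g : G} {hg : g * g = 1} {hc : ∀ q ∈ Q, g * q = q * g} {k : G}
    (h1 : ∀ q ∈ Q, k * q = q * k) (h2 : k * g = g * k) : ∀ p ∈ extc Q g hg hc, k * p = p * k :=
  comm_ext h1 h2

theorem conj_extc {Q : Subgroup G} {g : G} {hg : g * g = 1} {hc : ∀ q ∈ Q, g * q = q * g} {k : G}
    (h1 : ∀ q ∈ Q, k⁻¹ * q * k ∈ extc Q g hg hc) (h2 : k⁻¹ * g * k ∈ extc Q g hg hc) :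
    ∀ p ∈ extc Q g hg hc, k⁻¹ * p * k ∈ extc Q g hg hc := conj_ext h1 h2

theorem comm_bot (k : G) : ∀ q ∈ (⊥ : Subgroup G), k * q = q * k := by
  intro q hq
  rw [mem_bot.1 hq, mul_one, one_mul]

/-- `{1, z}` -/
def Z : Subgroup G := extc ⊥ z h.zz (comm_bot z)

theorem comm_Z {k : G} (hk : k * z = z * k) : ∀ q ∈ h.Z, k * q = q * k := comm_extc (comm_bot k) hk

/-- `l = ⟨z, f⟩` -/
def l : Subgroup G := extc h.Z f h.ff (h.comm_Z h.zf.symm)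

theorem comm_l {k : G} (hk : k * z = z * k) (hf : k * f = f * k) : ∀ q ∈ h.l, k * q = q * k :=
  comm_extc (h.comm_Z hk) hf

theorem mem_l {m : G} : m ∈ h.l ↔ InL z f m := by
  constructor
  · rintro ((hm | ⟨q, hq, rfl⟩) | ⟨_, (hm | ⟨q, hq, rfl⟩), rfl⟩)
    · exact Or.inl (mem_bot.1 hm)
    · rw [mem_bot.1 hq, mul_one]; exact Or.inr (Or.inl rfl)
    · rw [mem_bot.1 hm, mul_one]; exact Or.inr (Or.inr (Or.inl rfl))
    · rw [mem_bot.1 hq, mul_one]; exact Or.inr (Or.inr (Or.inr rfl))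
  · rintro (rfl | rfl | rfl | rfl)
    · exact one_mem _
    · exact Or.inl (Or.inr ⟨1, one_mem _, (mul_one _).symm⟩)
    · exact Or.inr ⟨1, one_mem _, (mul_one _).symm⟩
    · exact Or.inr ⟨z, Or.inr ⟨1, one_mem _, (mul_one _).symm⟩, rfl⟩

def Ls : Subgroup G := extc h.l s h.ss (h.comm_l h.zs.symm h.fs.symm)

theorem comm_Ls {k : G} (hk : k * z = z * k) (hf : k * f = f * k) (hs : k * s = s * k) :
    ∀ q ∈ h.Ls, k * q = q * k := comm_extc (h.comm_l hk hf) hs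

/-- `L = ⟨z, f, s, b⟩` -/
def L : Subgroup G := extc h.Ls b h.bb (h.comm_Ls h.zb.symm h.fb.symm h.sb.symm)

theorem comm_L {k : G} (hk : k * z = z * k) (hf : k * f = f * k) (hs : k * s = s * k)
    (hb : k * b = b * k) : ∀ q ∈ h.L, k * q = q * k := comm_extc (h.comm_Ls hk hf hs) hb

theorem mem_L {m : G} : m ∈ h.L ↔ ∃ k, InL z f k ∧ (m = k ∨ m = s * k ∨ m = b * k ∨ m = b * (s * k)) := by
  constructor
  · rintro ((hm | ⟨q, hq, rfl⟩) | ⟨_, (hm | ⟨q, hq, rfl⟩), rfl⟩)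
    · exact ⟨m, h.mem_l.1 hm, Or.inl rfl⟩
    · exact ⟨q, h.mem_l.1 hq, Or.inr (Or.inl rfl)⟩
    · exact ⟨_, h.mem_l.1 hm, Or.inr (Or.inr (Or.inl rfl))⟩
    · exact ⟨q, h.mem_l.1 hq, Or.inr (Or.inr (Or.inr rfl))⟩
  · rintro ⟨k, hk, rfl | rfl | rfl | rfl⟩
    · exact Or.inl (Or.inl (h.mem_l.2 hk))
    · exact Or.inl (Or.inr ⟨_, h.mem_l.2 hk, rfl⟩)
    · exact Or.inr ⟨_, Or.inl (h.mem_l.2 hk), rfl⟩
    · exact Or.inr ⟨_, Or.inr ⟨_, h.mem_l.2 hk, rfl⟩, rfl⟩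

theorem l_le : h.l ≤ h.L := fun _ hm => Or.inl (Or.inl hm)
theorem zL : z ∈ h.L := h.l_le (h.mem_l.2 (Or.inr (Or.inl rfl)))
theorem fL : f ∈ h.L := h.l_le (h.mem_l.2 (Or.inr (Or.inr (Or.inl rfl))))
theorem nL : n ∈ h.L := h.l_le (h.mem_l.2 h.hn)
theorem sL : s ∈ h.L := Or.inl (Or.inr ⟨1, one_mem _, (mul_one _).symm⟩)
theorem bL : b ∈ h.L := Or.inr ⟨1, one_mem _, (mul_one _).symm⟩

/-- the rules for `m ∈ L` -/
structure MR (z f v₁ v₂ s b w w₂ n m : G) : Prop where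
  mw2 : m * w₂ = w₂ * m
  mw : m * w = w * m
  mv2 : m * v₂ = v₂ * m
  mv1 : m * v₁ = v₁ * m
  mb : m * b = b * m
  ms : m * s = s * m
  mf : m * f = f * m
  mz : m * z = z * m
  mn : m * n = n * m
  mm : m * m = 1

theorem mr {m : G} (hm : m ∈ h.L) : MR z f v₁ v₂ s b w w₂ n m := by
  refine ⟨?_, ?_, ?_, ?_, ?_, ?_, ?_, ?_, ?_, ?_⟩
  · exact (h.comm_L h.zw2.symm h.fw2.symm h.sw2.symm h.bw2.symm m hm).symm
  · exact (h.comm_L h.zw.symm h.fw.symm h.sw.symm h.bw.symm m hm).symm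
  · exact (h.comm_L h.zv2.symm h.fv2.symm h.sv2.symm h.bv2.symm m hm).symm
  · exact (h.comm_L h.zv1.symm h.fv1.symm h.sv1.symm h.bv1.symm m hm).symm
  · exact (h.comm_L h.zb.symm h.fb.symm h.sb.symm rfl m hm).symm
  · exact (h.comm_L h.zs.symm h.fs.symm rfl h.sb m hm).symm
  · exact (h.comm_L h.zf.symm rfl h.fs h.fb m hm).symm
  · exact (h.comm_L rfl h.zf h.zs h.zb m hm).symm
  · exact (h.comm_L h.nz h.nf h.ns h.nb m hm).symm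
  · obtain ⟨k, hk, hm⟩ := h.mem_L.1 hm
    rcases hk with hk | hk | hk | hk <;> rcases hm with hm | hm | hm | hm <;> rw [hm, hk] <;>
      simp only [mul_assoc, one_mul, mul_one, h.xx, asc h.xx, h.zz, asc h.zz, h.ff, asc h.ff, h.v11, asc h.v11,
    h.v22, asc h.v22, h.ss, asc h.ss, h.bb, asc h.bb, h.ww, asc h.ww, h.w22, asc h.w22, h.nn, asc h.nn, h.w2x,
    asc h.w2x, h.wx, asc h.wx, h.v2x, asc h.v2x, h.v1x, asc h.v1x, h.bx, asc h.bx, h.sx, asc h.sx, h.fx,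
    asc h.fx, h.zx, asc h.zx, h.nx, asc h.nx, h.v2w2, asc h.v2w2, h.v1w2, asc h.v1w2, h.bw2, asc h.bw2, h.sw2,
    asc h.sw2, h.fw2, asc h.fw2, h.zw2, asc h.zw2, h.nw2, asc h.nw2, h.v2w, asc h.v2w, h.v1w, asc h.v1w, h.bw,
    asc h.bw, h.sw, asc h.sw, h.fw, asc h.fw, h.zw, asc h.zw, h.nw, asc h.nw, h.v1v2, asc h.v1v2, h.bv2,
    asc h.bv2, h.sv2, asc h.sv2, h.fv2, asc h.fv2, h.zv2, asc h.zv2, h.nv2, asc h.nv2, h.bv1, asc h.bv1, h.sv1,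
    asc h.sv1, h.fv1, asc h.fv1, h.zv1, asc h.zv1, h.nv1, asc h.nv1, h.sb, asc h.sb, h.fb, asc h.fb, h.zb,
    asc h.zb, h.nb, asc h.nb, h.fs, asc h.fs, h.zs, asc h.zs, h.ns, asc h.ns, h.zf, asc h.zf, h.nf, asc h.nf,
    h.nz, asc h.nz]

include h in
theorem s_ne : s ≠ n := by
  intro e
  have h1 := h.sx
  have h3 := h.nx
  rw [← e, h1] at h3
  have h2 : s * z = s := mul_left_cancel h3
  exact h.z1 (mul_eq_left.mp h2)

/-- `x m = m x` only for `m ∈ l` -/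
theorem mem_l_of_comm {m : G} (hm : m ∈ h.L) (hx : m * x = x * m) : InL z f m := by
  obtain ⟨k, hk, hm⟩ := h.mem_L.1 hm
  have hkx : k * x = x * k := by
    rcases hk with hk | hk | hk | hk <;> rw [hk] <;> simp only [mul_assoc, one_mul, mul_one, h.xx, asc h.xx, h.zz, asc h.zz, h.ff, asc h.ff, h.v11, asc h.v11,
    h.v22, asc h.v22, h.ss, asc h.ss, h.bb, asc h.bb, h.ww, asc h.ww, h.w22, asc h.w22, h.nn, asc h.nn, h.w2x,
    asc h.w2x, h.wx, asc h.wx, h.v2x, asc h.v2x, h.v1x, asc h.v1x, h.bx, asc h.bx, h.sx, asc h.sx, h.fx,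
    asc h.fx, h.zx, asc h.zx, h.nx, asc h.nx, h.v2w2, asc h.v2w2, h.v1w2, asc h.v1w2, h.bw2, asc h.bw2, h.sw2,
    asc h.sw2, h.fw2, asc h.fw2, h.zw2, asc h.zw2, h.nw2, asc h.nw2, h.v2w, asc h.v2w, h.v1w, asc h.v1w, h.bw,
    asc h.bw, h.sw, asc h.sw, h.fw, asc h.fw, h.zw, asc h.zw, h.nw, asc h.nw, h.v1v2, asc h.v1v2, h.bv2,
    asc h.bv2, h.sv2, asc h.sv2, h.fv2, asc h.fv2, h.zv2, asc h.zv2, h.nv2, asc h.nv2, h.bv1, asc h.bv1, h.sv1,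
    asc h.sv1, h.fv1, asc h.fv1, h.zv1, asc h.zv1, h.nv1, asc h.nv1, h.sb, asc h.sb, h.fb, asc h.fb, h.zb,
    asc h.zb, h.nb, asc h.nb, h.fs, asc h.fs, h.zs, asc h.zs, h.ns, asc h.ns, h.zf, asc h.zf, h.nf, asc h.nf,
    h.nz, asc h.nz]
  rcases hm with rfl | rfl | rfl | rfl
  · exact hk
  · exfalso
    rw [mul_assoc, hkx, ← mul_assoc, h.sx] at hx
    have h1 : s * z * k = s * k := by
      have h2 : x * (s * z * k) = x * (s * k) := by rw [← hx]; group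
      exact mul_left_cancel h2
    have h3 : z * k = k := by rw [mul_assoc] at h1; exact mul_left_cancel h1
    exact h.z1 (mul_eq_right.mp h3)
  · exfalso
    rw [mul_assoc, hkx, ← mul_assoc, h.bx] at hx
    have h1 : b * f * k = b * k := by
      have h2 : x * (b * f * k) = x * (b * k) := by rw [← hx]; group
      exact mul_left_cancel h2
    have h3 : f * k = k := by rw [mul_assoc] at h1; exact mul_left_cancel h1
    exact h.f1 (mul_eq_right.mp h3)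
  · exfalso
    have e : b * (s * k) * x = x * (b * (s * (f * (z * k)))) := by
      rw [mul_assoc, mul_assoc, hkx, ← mul_assoc s, h.sx]
      simp only [mul_assoc, one_mul, mul_one, h.xx, asc h.xx, h.zz, asc h.zz, h.ff, asc h.ff, h.v11, asc h.v11,
    h.v22, asc h.v22, h.ss, asc h.ss, h.bb, asc h.bb, h.ww, asc h.ww, h.w22, asc h.w22, h.nn, asc h.nn, h.w2x,
    asc h.w2x, h.wx, asc h.wx, h.v2x, asc h.v2x, h.v1x, asc h.v1x, h.bx, asc h.bx, h.sx, asc h.sx, h.fx,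
    asc h.fx, h.zx, asc h.zx, h.nx, asc h.nx, h.v2w2, asc h.v2w2, h.v1w2, asc h.v1w2, h.bw2, asc h.bw2, h.sw2,
    asc h.sw2, h.fw2, asc h.fw2, h.zw2, asc h.zw2, h.nw2, asc h.nw2, h.v2w, asc h.v2w, h.v1w, asc h.v1w, h.bw,
    asc h.bw, h.sw, asc h.sw, h.fw, asc h.fw, h.zw, asc h.zw, h.nw, asc h.nw, h.v1v2, asc h.v1v2, h.bv2,
    asc h.bv2, h.sv2, asc h.sv2, h.fv2, asc h.fv2, h.zv2, asc h.zv2, h.nv2, asc h.nv2, h.bv1, asc h.bv1, h.sv1,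
    asc h.sv1, h.fv1, asc h.fv1, h.zv1, asc h.zv1, h.nv1, asc h.nv1, h.sb, asc h.sb, h.fb, asc h.fb, h.zb,
    asc h.zb, h.nb, asc h.nb, h.fs, asc h.fs, h.zs, asc h.zs, h.ns, asc h.ns, h.zf, asc h.zf, h.nf, asc h.nf,
    h.nz, asc h.nz]
    rw [e] at hx
    have h1 : b * (s * (f * (z * k))) = b * (s * k) := mul_left_cancel hx
    have h3 : f * (z * k) = k := mul_left_cancel (mul_left_cancel h1)
    rw [← mul_assoc] at h3
    have h4 : f * z = 1 := mul_eq_right.mp h3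
    exact h.fz1 (by rw [← mul_one f, ← h.zz, ← mul_assoc, h4, one_mul])

/-! ### `T₀` -/

def D1 : Subgroup G := extc h.l v₁ h.v11 (h.comm_l h.zv1.symm h.fv1.symm)

theorem hn2 : ∀ q ∈ h.D1, v₂⁻¹ * q * v₂ ∈ h.D1 := by
  apply conj_extc
  · intro q hq
    have : v₂⁻¹ * q * v₂ = q := by
      rw [mul_assoc, ← h.comm_l h.zv2.symm h.fv2.symm q hq, inv_mul_cancel_left]
    rw [this]
    exact Or.inl hq
  · have : v₂⁻¹ * v₁ * v₂ = v₁ * z := by rw [mul_assoc, h.v1v2, inv_mul_cancel_left]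
    rw [this]
    exact Or.inr ⟨z, h.mem_l.2 (Or.inr (Or.inl rfl)), rfl⟩

def D2 : Subgroup G := ext h.D1 v₂ (by rw [h.v22]; exact one_mem _) h.hn2

theorem comm_D2 {k : G} (hk : k * z = z * k) (hf : k * f = f * k) (h1 : k * v₁ = v₁ * k)
    (h2 : k * v₂ = v₂ * k) : ∀ q ∈ h.D2, k * q = q * k :=
  comm_ext (comm_extc (h.comm_l hk hf) h1) h2

def E0 : Subgroup G := extc h.D2 x h.xx (h.comm_D2 h.zx.symm h.fx.symm h.v1x.symm h.v2x.symm)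

theorem T0_le : T0 x z f v₁ v₂ ≤ h.E0 := by
  rw [T0, closure_le]
  rintro g (rfl | rfl | rfl | rfl | rfl)
  · exact Or.inr ⟨1, one_mem _, (mul_one _).symm⟩
  · exact Or.inl (Or.inl (Or.inl (h.mem_l.2 (Or.inr (Or.inl rfl)))))
  · exact Or.inl (Or.inl (Or.inl (h.mem_l.2 (Or.inr (Or.inr (Or.inl rfl))))))
  · exact Or.inl (Or.inl (Or.inr ⟨1, one_mem _, (mul_one _).symm⟩))
  · exact Or.inl (Or.inr ⟨1, one_mem _, (mul_one _).symm⟩)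

/-! ### `[w, w₂] ∈ L` -/

theorem c_mem : w * (w₂ * (w * w₂)) ∈ h.L := by
  set c := w * (w₂ * (w * w₂)) with hc
  have hcx : c * (x * (z * n)) = x * c := by
    rw [hc]
    simp only [mul_assoc, one_mul, mul_one, h.xx, asc h.xx, h.zz, asc h.zz, h.ff, asc h.ff, h.v11, asc h.v11,
    h.v22, asc h.v22, h.ss, asc h.ss, h.bb, asc h.bb, h.ww, asc h.ww, h.w22, asc h.w22, h.nn, asc h.nn, h.w2x,
    asc h.w2x, h.wx, asc h.wx, h.v2x, asc h.v2x, h.v1x, asc h.v1x, h.bx, asc h.bx, h.sx, asc h.sx, h.fx,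
    asc h.fx, h.zx, asc h.zx, h.nx, asc h.nx, h.v2w2, asc h.v2w2, h.v1w2, asc h.v1w2, h.bw2, asc h.bw2, h.sw2,
    asc h.sw2, h.fw2, asc h.fw2, h.zw2, asc h.zw2, h.nw2, asc h.nw2, h.v2w, asc h.v2w, h.v1w, asc h.v1w, h.bw,
    asc h.bw, h.sw, asc h.sw, h.fw, asc h.fw, h.zw, asc h.zw, h.nw, asc h.nw, h.v1v2, asc h.v1v2, h.bv2,
    asc h.bv2, h.sv2, asc h.sv2, h.fv2, asc h.fv2, h.zv2, asc h.zv2, h.nv2, asc h.nv2, h.bv1, asc h.bv1, h.sv1,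
    asc h.sv1, h.fv1, asc h.fv1, h.zv1, asc h.zv1, h.nv1, asc h.nv1, h.sb, asc h.sb, h.fb, asc h.fb, h.zb,
    asc h.zb, h.nb, asc h.nb, h.fs, asc h.fs, h.zs, asc h.zs, h.ns, asc h.ns, h.zf, asc h.zf, h.nf, asc h.nf,
    h.nz, asc h.nz]
  have hs1 : s ≠ 1 := by
    rintro rfl
    have h1 := h.sx
    rw [one_mul, one_mul] at h1
    exact h.z1 (mul_eq_left.mp h1.symm)
  have hsz : s ≠ z := by
    rintro rfl
    have h1 := h.sx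
    rw [h.zx, h.zz, mul_one] at h1
    exact h.z1 (mul_eq_left.mp h1)
  -- an element of `L` with the same action on `x`
  obtain ⟨k, hk, hkx⟩ : ∃ k ∈ h.L, k * x = x * (k * (z * n)) := by
    rcases h.hn with h0 | h0 | h0 | h0
    · exact ⟨s, h.sL, by rw [h.sx, h0, mul_one]⟩
    · exact ⟨1, one_mem _, by rw [h0, h.zz]; simp⟩
    · refine ⟨b * s, mul_mem h.bL h.sL, ?_⟩
      rw [h0]
      simp only [mul_assoc, one_mul, mul_one, h.xx, asc h.xx, h.zz, asc h.zz, h.ff, asc h.ff, h.v11, asc h.v11,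
    h.v22, asc h.v22, h.ss, asc h.ss, h.bb, asc h.bb, h.ww, asc h.ww, h.w22, asc h.w22, h.nn, asc h.nn, h.w2x,
    asc h.w2x, h.wx, asc h.wx, h.v2x, asc h.v2x, h.v1x, asc h.v1x, h.bx, asc h.bx, h.sx, asc h.sx, h.fx,
    asc h.fx, h.zx, asc h.zx, h.nx, asc h.nx, h.v2w2, asc h.v2w2, h.v1w2, asc h.v1w2, h.bw2, asc h.bw2, h.sw2,
    asc h.sw2, h.fw2, asc h.fw2, h.zw2, asc h.zw2, h.nw2, asc h.nw2, h.v2w, asc h.v2w, h.v1w, asc h.v1w, h.bw,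
    asc h.bw, h.sw, asc h.sw, h.fw, asc h.fw, h.zw, asc h.zw, h.nw, asc h.nw, h.v1v2, asc h.v1v2, h.bv2,
    asc h.bv2, h.sv2, asc h.sv2, h.fv2, asc h.fv2, h.zv2, asc h.zv2, h.nv2, asc h.nv2, h.bv1, asc h.bv1, h.sv1,
    asc h.sv1, h.fv1, asc h.fv1, h.zv1, asc h.zv1, h.nv1, asc h.nv1, h.sb, asc h.sb, h.fb, asc h.fb, h.zb,
    asc h.zb, h.nb, asc h.nb, h.fs, asc h.fs, h.zs, asc h.zs, h.ns, asc h.ns, h.zf, asc h.zf, h.nf, asc h.nf,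
    h.nz, asc h.nz]
    · refine ⟨b, h.bL, ?_⟩
      rw [h0]
      simp only [mul_assoc, one_mul, mul_one, h.xx, asc h.xx, h.zz, asc h.zz, h.ff, asc h.ff, h.v11, asc h.v11,
    h.v22, asc h.v22, h.ss, asc h.ss, h.bb, asc h.bb, h.ww, asc h.ww, h.w22, asc h.w22, h.nn, asc h.nn, h.w2x,
    asc h.w2x, h.wx, asc h.wx, h.v2x, asc h.v2x, h.v1x, asc h.v1x, h.bx, asc h.bx, h.sx, asc h.sx, h.fx,
    asc h.fx, h.zx, asc h.zx, h.nx, asc h.nx, h.v2w2, asc h.v2w2, h.v1w2, asc h.v1w2, h.bw2, asc h.bw2, h.sw2,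
    asc h.sw2, h.fw2, asc h.fw2, h.zw2, asc h.zw2, h.nw2, asc h.nw2, h.v2w, asc h.v2w, h.v1w, asc h.v1w, h.bw,
    asc h.bw, h.sw, asc h.sw, h.fw, asc h.fw, h.zw, asc h.zw, h.nw, asc h.nw, h.v1v2, asc h.v1v2, h.bv2,
    asc h.bv2, h.sv2, asc h.sv2, h.fv2, asc h.fv2, h.zv2, asc h.zv2, h.nv2, asc h.nv2, h.bv1, asc h.bv1, h.sv1,
    asc h.sv1, h.fv1, asc h.fv1, h.zv1, asc h.zv1, h.nv1, asc h.nv1, h.sb, asc h.sb, h.fb, asc h.fb, h.zb,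
    asc h.zb, h.nb, asc h.nb, h.fs, asc h.fs, h.zs, asc h.zs, h.ns, asc h.ns, h.zf, asc h.zf, h.nf, asc h.nf,
    h.nz, asc h.nz]
  have M := h.mr hk
  have hgx : c * k * x = x * (c * k) := by
    have h1 : k * (z * n) = z * n * k := by rw [← mul_assoc, M.mz, mul_assoc, M.mn, mul_assoc]
    rw [mul_assoc, hkx, h1, ← mul_assoc x, ← mul_assoc, hcx, mul_assoc]
  have hgz : c * k * z = z * (c * k) := by
    rw [hc]
    simp only [mul_assoc, one_mul, mul_one, h.xx, asc h.xx, h.zz, asc h.zz, h.ff, asc h.ff, h.v11, asc h.v11,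
    h.v22, asc h.v22, h.ss, asc h.ss, h.bb, asc h.bb, h.ww, asc h.ww, h.w22, asc h.w22, h.nn, asc h.nn, h.w2x,
    asc h.w2x, h.wx, asc h.wx, h.v2x, asc h.v2x, h.v1x, asc h.v1x, h.bx, asc h.bx, h.sx, asc h.sx, h.fx,
    asc h.fx, h.zx, asc h.zx, h.nx, asc h.nx, h.v2w2, asc h.v2w2, h.v1w2, asc h.v1w2, h.bw2, asc h.bw2, h.sw2,
    asc h.sw2, h.fw2, asc h.fw2, h.zw2, asc h.zw2, h.nw2, asc h.nw2, h.v2w, asc h.v2w, h.v1w, asc h.v1w, h.bw,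
    asc h.bw, h.sw, asc h.sw, h.fw, asc h.fw, h.zw, asc h.zw, h.nw, asc h.nw, h.v1v2, asc h.v1v2, h.bv2,
    asc h.bv2, h.sv2, asc h.sv2, h.fv2, asc h.fv2, h.zv2, asc h.zv2, h.nv2, asc h.nv2, h.bv1, asc h.bv1, h.sv1,
    asc h.sv1, h.fv1, asc h.fv1, h.zv1, asc h.zv1, h.nv1, asc h.nv1, h.sb, asc h.sb, h.fb, asc h.fb, h.zb,
    asc h.zb, h.nb, asc h.nb, h.fs, asc h.fs, h.zs, asc h.zs, h.ns, asc h.ns, h.zf, asc h.zf, h.nf, asc h.nf,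
    h.nz, asc h.nz, M.mw2, asc M.mw2, M.mw, asc M.mw, M.mv2, asc M.mv2, M.mv1, asc M.mv1, M.mb, asc M.mb, M.ms,
    asc M.ms, M.mf, asc M.mf, M.mz, asc M.mz, M.mn, asc M.mn, M.mm, asc M.mm]
  have hgf : c * k * f = f * (c * k) := by
    rw [hc]
    simp only [mul_assoc, one_mul, mul_one, h.xx, asc h.xx, h.zz, asc h.zz, h.ff, asc h.ff, h.v11, asc h.v11,
    h.v22, asc h.v22, h.ss, asc h.ss, h.bb, asc h.bb, h.ww, asc h.ww, h.w22, asc h.w22, h.nn, asc h.nn, h.w2x,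
    asc h.w2x, h.wx, asc h.wx, h.v2x, asc h.v2x, h.v1x, asc h.v1x, h.bx, asc h.bx, h.sx, asc h.sx, h.fx,
    asc h.fx, h.zx, asc h.zx, h.nx, asc h.nx, h.v2w2, asc h.v2w2, h.v1w2, asc h.v1w2, h.bw2, asc h.bw2, h.sw2,
    asc h.sw2, h.fw2, asc h.fw2, h.zw2, asc h.zw2, h.nw2, asc h.nw2, h.v2w, asc h.v2w, h.v1w, asc h.v1w, h.bw,
    asc h.bw, h.sw, asc h.sw, h.fw, asc h.fw, h.zw, asc h.zw, h.nw, asc h.nw, h.v1v2, asc h.v1v2, h.bv2,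
    asc h.bv2, h.sv2, asc h.sv2, h.fv2, asc h.fv2, h.zv2, asc h.zv2, h.nv2, asc h.nv2, h.bv1, asc h.bv1, h.sv1,
    asc h.sv1, h.fv1, asc h.fv1, h.zv1, asc h.zv1, h.nv1, asc h.nv1, h.sb, asc h.sb, h.fb, asc h.fb, h.zb,
    asc h.zb, h.nb, asc h.nb, h.fs, asc h.fs, h.zs, asc h.zs, h.ns, asc h.ns, h.zf, asc h.zf, h.nf, asc h.nf,
    h.nz, asc h.nz, M.mw2, asc M.mw2, M.mw, asc M.mw, M.mv2, asc M.mv2, M.mv1, asc M.mv1, M.mb, asc M.mb, M.ms,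
    asc M.ms, M.mf, asc M.mf, M.mz, asc M.mz, M.mn, asc M.mn, M.mm, asc M.mm]
  have hgs : c * k * s = s * (c * k) := by
    rw [hc]
    simp only [mul_assoc, one_mul, mul_one, h.xx, asc h.xx, h.zz, asc h.zz, h.ff, asc h.ff, h.v11, asc h.v11,
    h.v22, asc h.v22, h.ss, asc h.ss, h.bb, asc h.bb, h.ww, asc h.ww, h.w22, asc h.w22, h.nn, asc h.nn, h.w2x,
    asc h.w2x, h.wx, asc h.wx, h.v2x, asc h.v2x, h.v1x, asc h.v1x, h.bx, asc h.bx, h.sx, asc h.sx, h.fx,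
    asc h.fx, h.zx, asc h.zx, h.nx, asc h.nx, h.v2w2, asc h.v2w2, h.v1w2, asc h.v1w2, h.bw2, asc h.bw2, h.sw2,
    asc h.sw2, h.fw2, asc h.fw2, h.zw2, asc h.zw2, h.nw2, asc h.nw2, h.v2w, asc h.v2w, h.v1w, asc h.v1w, h.bw,
    asc h.bw, h.sw, asc h.sw, h.fw, asc h.fw, h.zw, asc h.zw, h.nw, asc h.nw, h.v1v2, asc h.v1v2, h.bv2,
    asc h.bv2, h.sv2, asc h.sv2, h.fv2, asc h.fv2, h.zv2, asc h.zv2, h.nv2, asc h.nv2, h.bv1, asc h.bv1, h.sv1,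
    asc h.sv1, h.fv1, asc h.fv1, h.zv1, asc h.zv1, h.nv1, asc h.nv1, h.sb, asc h.sb, h.fb, asc h.fb, h.zb,
    asc h.zb, h.nb, asc h.nb, h.fs, asc h.fs, h.zs, asc h.zs, h.ns, asc h.ns, h.zf, asc h.zf, h.nf, asc h.nf,
    h.nz, asc h.nz, M.mw2, asc M.mw2, M.mw, asc M.mw, M.mv2, asc M.mv2, M.mv1, asc M.mv1, M.mb, asc M.mb, M.ms,
    asc M.ms, M.mf, asc M.mf, M.mz, asc M.mz, M.mn, asc M.mn, M.mm, asc M.mm]
  have hg := h.T0_le (h.cent _ hgx hgz hgf)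
  obtain ⟨q, hq, hq2⟩ : ∃ q ∈ h.D2, c * k = q := by
    rcases hg with hg | ⟨q, hq, hg⟩
    · exact ⟨_, hg, rfl⟩
    · exfalso
      rw [hg] at hgs
      have h1 := h.comm_D2 h.zs.symm h.fs.symm h.sv1 h.sv2 q hq
      rw [mul_assoc, ← h1, ← mul_assoc s, h.sx] at hgs
      have h2 : s * q = s * z * q := by
        have h3 : x * (s * q) = x * (s * z * q) := by rw [hgs]; group
        exact mul_left_cancel h3
      rw [mul_assoc] at h2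
      exact h.z1 (mul_eq_right.mp (mul_left_cancel h2).symm)
  have hck : c = q * k := by
    rw [← hq2, mul_assoc, M.mm, mul_one]
  have hcw : c * (w * (c * w)) = 1 := by
    rw [hc]
    simp only [mul_assoc, one_mul, mul_one, h.xx, asc h.xx, h.zz, asc h.zz, h.ff, asc h.ff, h.v11, asc h.v11,
    h.v22, asc h.v22, h.ss, asc h.ss, h.bb, asc h.bb, h.ww, asc h.ww, h.w22, asc h.w22, h.nn, asc h.nn, h.w2x,
    asc h.w2x, h.wx, asc h.wx, h.v2x, asc h.v2x, h.v1x, asc h.v1x, h.bx, asc h.bx, h.sx, asc h.sx, h.fx,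
    asc h.fx, h.zx, asc h.zx, h.nx, asc h.nx, h.v2w2, asc h.v2w2, h.v1w2, asc h.v1w2, h.bw2, asc h.bw2, h.sw2,
    asc h.sw2, h.fw2, asc h.fw2, h.zw2, asc h.zw2, h.nw2, asc h.nw2, h.v2w, asc h.v2w, h.v1w, asc h.v1w, h.bw,
    asc h.bw, h.sw, asc h.sw, h.fw, asc h.fw, h.zw, asc h.zw, h.nw, asc h.nw, h.v1v2, asc h.v1v2, h.bv2,
    asc h.bv2, h.sv2, asc h.sv2, h.fv2, asc h.fv2, h.zv2, asc h.zv2, h.nv2, asc h.nv2, h.bv1, asc h.bv1, h.sv1,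
    asc h.sv1, h.fv1, asc h.fv1, h.zv1, asc h.zv1, h.nv1, asc h.nv1, h.sb, asc h.sb, h.fb, asc h.fb, h.zb,
    asc h.zb, h.nb, asc h.nb, h.fs, asc h.fs, h.zs, asc h.zs, h.ns, asc h.ns, h.zf, asc h.zf, h.nf, asc h.nf,
    h.nz, asc h.nz]
  have hcw2 : c * (w₂ * (c * w₂)) = 1 := by
    rw [hc]
    simp only [mul_assoc, one_mul, mul_one, h.xx, asc h.xx, h.zz, asc h.zz, h.ff, asc h.ff, h.v11, asc h.v11,
    h.v22, asc h.v22, h.ss, asc h.ss, h.bb, asc h.bb, h.ww, asc h.ww, h.w22, asc h.w22, h.nn, asc h.nn, h.w2x,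
    asc h.w2x, h.wx, asc h.wx, h.v2x, asc h.v2x, h.v1x, asc h.v1x, h.bx, asc h.bx, h.sx, asc h.sx, h.fx,
    asc h.fx, h.zx, asc h.zx, h.nx, asc h.nx, h.v2w2, asc h.v2w2, h.v1w2, asc h.v1w2, h.bw2, asc h.bw2, h.sw2,
    asc h.sw2, h.fw2, asc h.fw2, h.zw2, asc h.zw2, h.nw2, asc h.nw2, h.v2w, asc h.v2w, h.v1w, asc h.v1w, h.bw,
    asc h.bw, h.sw, asc h.sw, h.fw, asc h.fw, h.zw, asc h.zw, h.nw, asc h.nw, h.v1v2, asc h.v1v2, h.bv2,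
    asc h.bv2, h.sv2, asc h.sv2, h.fv2, asc h.fv2, h.zv2, asc h.zv2, h.nv2, asc h.nv2, h.bv1, asc h.bv1, h.sv1,
    asc h.sv1, h.fv1, asc h.fv1, h.zv1, asc h.zv1, h.nv1, asc h.nv1, h.sb, asc h.sb, h.fb, asc h.fb, h.zb,
    asc h.zb, h.nb, asc h.nb, h.fs, asc h.fs, h.zs, asc h.zs, h.ns, asc h.ns, h.zf, asc h.zf, h.nf, asc h.nf,
    h.nz, asc h.nz]
  have hsn : s * n ≠ 1 := by
    intro h0
    rcases h.hn with h1 | h1 | h1 | h1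
    · rw [h1, mul_one] at h0; exact hs1 h0
    · rw [h1] at h0; exact hsz (by rw [← mul_one s, ← h.zz, ← mul_assoc, h0, one_mul])
    · have h2 : s = n := by rw [← mul_one s, ← h.nn, ← mul_assoc, h0, one_mul]
      exact h.s_ne h2
    · have h2 : s = n := by rw [← mul_one s, ← h.nn, ← mul_assoc, h0, one_mul]
      exact h.s_ne h2
  -- `q = v₂^j v₁^i q₀`
  rcases hq with (hq | ⟨q₀, hq0, rfl⟩) | ⟨_, (hq | ⟨q₀, hq0, rfl⟩), rfl⟩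
  · rw [hck]
    exact mul_mem (h.l_le hq) hk
  · exfalso
    have hm : q₀ * k ∈ h.L := mul_mem (h.l_le hq0) hk
    set m := q₀ * k with hm0
    have M := h.mr hm
    have e : c = v₁ * m := by rw [hck, hm0, mul_assoc]
    rw [e] at hcw2
    have h1 : v₁ * m * (w₂ * (v₁ * m * w₂)) = s * n := by
      simp only [mul_assoc, one_mul, mul_one, h.xx, asc h.xx, h.zz, asc h.zz, h.ff, asc h.ff, h.v11, asc h.v11,
    h.v22, asc h.v22, h.ss, asc h.ss, h.bb, asc h.bb, h.ww, asc h.ww, h.w22, asc h.w22, h.nn, asc h.nn, h.w2x,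
    asc h.w2x, h.wx, asc h.wx, h.v2x, asc h.v2x, h.v1x, asc h.v1x, h.bx, asc h.bx, h.sx, asc h.sx, h.fx,
    asc h.fx, h.zx, asc h.zx, h.nx, asc h.nx, h.v2w2, asc h.v2w2, h.v1w2, asc h.v1w2, h.bw2, asc h.bw2, h.sw2,
    asc h.sw2, h.fw2, asc h.fw2, h.zw2, asc h.zw2, h.nw2, asc h.nw2, h.v2w, asc h.v2w, h.v1w, asc h.v1w, h.bw,
    asc h.bw, h.sw, asc h.sw, h.fw, asc h.fw, h.zw, asc h.zw, h.nw, asc h.nw, h.v1v2, asc h.v1v2, h.bv2,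
    asc h.bv2, h.sv2, asc h.sv2, h.fv2, asc h.fv2, h.zv2, asc h.zv2, h.nv2, asc h.nv2, h.bv1, asc h.bv1, h.sv1,
    asc h.sv1, h.fv1, asc h.fv1, h.zv1, asc h.zv1, h.nv1, asc h.nv1, h.sb, asc h.sb, h.fb, asc h.fb, h.zb,
    asc h.zb, h.nb, asc h.nb, h.fs, asc h.fs, h.zs, asc h.zs, h.ns, asc h.ns, h.zf, asc h.zf, h.nf, asc h.nf,
    h.nz, asc h.nz, M.mw2, asc M.mw2, M.mw, asc M.mw, M.mv2, asc M.mv2, M.mv1, asc M.mv1, M.mb, asc M.mb, M.ms,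
    asc M.ms, M.mf, asc M.mf, M.mz, asc M.mz, M.mn, asc M.mn, M.mm, asc M.mm]
    exact hsn (h1.symm.trans hcw2)
  · exfalso
    rename_i q₀
    have hm : q₀ * k ∈ h.L := mul_mem (h.l_le hq) hk
    set m := q₀ * k with hm0
    have M := h.mr hm
    have e : c = v₂ * m := by rw [hck, hm0, mul_assoc]
    rw [e] at hcw
    have h1 : v₂ * m * (w * (v₂ * m * w)) = s := by
      simp only [mul_assoc, one_mul, mul_one, h.xx, asc h.xx, h.zz, asc h.zz, h.ff, asc h.ff, h.v11, asc h.v11,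
    h.v22, asc h.v22, h.ss, asc h.ss, h.bb, asc h.bb, h.ww, asc h.ww, h.w22, asc h.w22, h.nn, asc h.nn, h.w2x,
    asc h.w2x, h.wx, asc h.wx, h.v2x, asc h.v2x, h.v1x, asc h.v1x, h.bx, asc h.bx, h.sx, asc h.sx, h.fx,
    asc h.fx, h.zx, asc h.zx, h.nx, asc h.nx, h.v2w2, asc h.v2w2, h.v1w2, asc h.v1w2, h.bw2, asc h.bw2, h.sw2,
    asc h.sw2, h.fw2, asc h.fw2, h.zw2, asc h.zw2, h.nw2, asc h.nw2, h.v2w, asc h.v2w, h.v1w, asc h.v1w, h.bw,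
    asc h.bw, h.sw, asc h.sw, h.fw, asc h.fw, h.zw, asc h.zw, h.nw, asc h.nw, h.v1v2, asc h.v1v2, h.bv2,
    asc h.bv2, h.sv2, asc h.sv2, h.fv2, asc h.fv2, h.zv2, asc h.zv2, h.nv2, asc h.nv2, h.bv1, asc h.bv1, h.sv1,
    asc h.sv1, h.fv1, asc h.fv1, h.zv1, asc h.zv1, h.nv1, asc h.nv1, h.sb, asc h.sb, h.fb, asc h.fb, h.zb,
    asc h.zb, h.nb, asc h.nb, h.fs, asc h.fs, h.zs, asc h.zs, h.ns, asc h.ns, h.zf, asc h.zf, h.nf, asc h.nf,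
    h.nz, asc h.nz, M.mw2, asc M.mw2, M.mw, asc M.mw, M.mv2, asc M.mv2, M.mv1, asc M.mv1, M.mb, asc M.mb, M.ms,
    asc M.ms, M.mf, asc M.mf, M.mz, asc M.mz, M.mn, asc M.mn, M.mm, asc M.mm]
    exact hs1 (h1.symm.trans hcw)
  · exfalso
    have hm : q₀ * k ∈ h.L := mul_mem (h.l_le hq0) hk
    set m := q₀ * k with hm0
    have M := h.mr hm
    have e : c = v₂ * (v₁ * m) := by rw [hck, hm0, mul_assoc, mul_assoc]
    rw [e] at hcw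
    have h1 : v₂ * (v₁ * m) * (w * (v₂ * (v₁ * m) * w)) = s * z := by
      simp only [mul_assoc, one_mul, mul_one, h.xx, asc h.xx, h.zz, asc h.zz, h.ff, asc h.ff, h.v11, asc h.v11,
    h.v22, asc h.v22, h.ss, asc h.ss, h.bb, asc h.bb, h.ww, asc h.ww, h.w22, asc h.w22, h.nn, asc h.nn, h.w2x,
    asc h.w2x, h.wx, asc h.wx, h.v2x, asc h.v2x, h.v1x, asc h.v1x, h.bx, asc h.bx, h.sx, asc h.sx, h.fx,
    asc h.fx, h.zx, asc h.zx, h.nx, asc h.nx, h.v2w2, asc h.v2w2, h.v1w2, asc h.v1w2, h.bw2, asc h.bw2, h.sw2,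
    asc h.sw2, h.fw2, asc h.fw2, h.zw2, asc h.zw2, h.nw2, asc h.nw2, h.v2w, asc h.v2w, h.v1w, asc h.v1w, h.bw,
    asc h.bw, h.sw, asc h.sw, h.fw, asc h.fw, h.zw, asc h.zw, h.nw, asc h.nw, h.v1v2, asc h.v1v2, h.bv2,
    asc h.bv2, h.sv2, asc h.sv2, h.fv2, asc h.fv2, h.zv2, asc h.zv2, h.nv2, asc h.nv2, h.bv1, asc h.bv1, h.sv1,
    asc h.sv1, h.fv1, asc h.fv1, h.zv1, asc h.zv1, h.nv1, asc h.nv1, h.sb, asc h.sb, h.fb, asc h.fb, h.zb,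
    asc h.zb, h.nb, asc h.nb, h.fs, asc h.fs, h.zs, asc h.zs, h.ns, asc h.ns, h.zf, asc h.zf, h.nf, asc h.nf,
    h.nz, asc h.nz, M.mw2, asc M.mw2, M.mw, asc M.mw, M.mv2, asc M.mv2, M.mv1, asc M.mv1, M.mb, asc M.mb, M.ms,
    asc M.ms, M.mf, asc M.mf, M.mz, asc M.mz, M.mn, asc M.mn, M.mm, asc M.mm]
    have h2 := h1.symm.trans hcw
    exact hsz (by rw [← mul_one s, ← h.zz, ← mul_assoc, h2, one_mul])

end Base

end Cfsg.Agent.OddHalf.D5.SixAut.Zero
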