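import Cfsg.Agent.OddHalf.D5.SixAut.ZeroR
import Cfsg.Agent.OddHalf.D5.SixAut.OneClass

/-!
# ODD half, `K = A₆`, C3b, (DBL), `e = 0`, `r² = v₁ v₂ x`
-/

set_option autoImplicit false
set_option linter.unusedSimpArgs false
set_option linter.unusedVariables false

namespace Cfsg.Agent.OddHalf.D5.SixAut.Zero

open Subgroup

variable {G : Type*} [Group G] {x z f v₁ v₂ s₀ s b w w₂ n m₀ r r₀ g n₀ : G} {T : Subgroup G}

theorem mem_of_eq {Q : Subgroup G} {a c : G} (e : a = c) (h : c ∈ Q) : a ∈ Q := by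
  rw [e]; exact h

/-- `T₀ ≤ H` -/
theorem T0_le {H : Subgroup G} (hx : x ∈ H) (hz : z ∈ H) (hf : f ∈ H) (h1 : v₁ ∈ H) (h2 : v₂ ∈ H) :
    T0 x z f v₁ v₂ ≤ H := by
  rw [T0, closure_le]
  rintro g (rfl | rfl | rfl | rfl | rfl) <;> assumption

namespace B2

variable (k : B2 x z f v₁ v₂ s b w w₂ n m₀)

/-- `P⟨x⟩` -/
def Px : Subgroup G := ext k.P x (by rw [k.h.xx]; exact one_mem _) k.conj_x

theorem P_lePx : k.P ≤ k.Px := fun _ hp => Or.inl hp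
theorem x_mem_Px : x ∈ k.Px := Or.inr ⟨1, one_mem _, (mul_one _).symm⟩

theorem Px_comm : ∀ a ∈ k.Px, ∀ c ∈ k.Px, a * c * a⁻¹ * c⁻¹ ∈ k.P := commutator_ext_self

include k in
/-- `ε = 1` -/
theorem false_one [Finite G] [IsSimpleGroup G] (hG : ¬ ∀ a b : G, a * b = b * a)
    (D : Dbl x z f v₁ v₂ s₀ b r T) (R : RR x z f v₁ v₂ s b r n g) (hg : InL z f g) (hw : w * r = r * w₂)
    (hrr : r * r = v₁ * v₂ * x) : False := by
  have h := k.h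
  -- `w₂^r`
  have hw2 : w₂ * r = r * (w * (v₁ * (s * z))) := by
    apply mul_left_cancel (a := r)
    have e1 : r * (w₂ * r) = w * (r * r) := by rw [← mul_assoc, ← hw, mul_assoc]
    rw [e1, ← mul_assoc r r, hrr]
    simp only [mul_assoc, one_mul, mul_one, h.xx, asc h.xx, h.zz, asc h.zz, h.ff, asc h.ff, h.v11, asc h.v11,
    h.v22, asc h.v22, h.ss, asc h.ss, h.bb, asc h.bb, h.ww, asc h.ww, h.w22, asc h.w22, h.nn, asc h.nn, h.w2x,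
    asc h.w2x, h.wx, asc h.wx, h.v2x, asc h.v2x, h.v1x, asc h.v1x, h.bx, asc h.bx, h.sx, asc h.sx, h.fx,
    asc h.fx, h.zx, asc h.zx, h.nx, asc h.nx, h.v2w2, asc h.v2w2, h.v1w2, asc h.v1w2, h.bw2, asc h.bw2, h.sw2,
    asc h.sw2, h.fw2, asc h.fw2, h.zw2, asc h.zw2, h.nw2, asc h.nw2, h.v2w, asc h.v2w, h.v1w, asc h.v1w, h.bw,
    asc h.bw, h.sw, asc h.sw, h.fw, asc h.fw, h.zw, asc h.zw, h.nw, asc h.nw, h.v1v2, asc h.v1v2, h.bv2,
    asc h.bv2, h.sv2, asc h.sv2, h.fv2, asc h.fv2, h.zv2, asc h.zv2, h.nv2, asc h.nv2, h.bv1, asc h.bv1, h.sv1,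
    asc h.sv1, h.fv1, asc h.fv1, h.zv1, asc h.zv1, h.nv1, asc h.nv1, h.sb, asc h.sb, h.fb, asc h.fb, h.zb,
    asc h.zb, h.nb, asc h.nb, h.fs, asc h.fs, h.zs, asc h.zs, h.ns, asc h.ns, h.zf, asc h.zf, h.nf, asc h.nf,
    h.nz, asc h.nz]
  have hwm : w * (v₁ * (s * z)) ∈ k.P := mul_mem k.wm (mul_mem k.v1m (k.Lm (mul_mem h.sL h.zL)))
  have hPr : ∀ p ∈ k.P, r⁻¹ * p * r ∈ k.P := k.conj_r R hg hw (by rw [cj_of hw2]; exact hwm)
  have hrx : r⁻¹ * x * r = x := cj_of R.xr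
  have hrr2 : r * r ∈ k.Px := by
    rw [hrr]
    exact mul_mem (k.P_lePx (mul_mem k.v1m k.v2m)) k.x_mem_Px
  have hPxr : ∀ p ∈ k.Px, r⁻¹ * p * r ∈ k.Px := by
    rintro p (hp | ⟨q, hq, rfl⟩)
    · exact k.P_lePx (hPr p hp)
    · have : r⁻¹ * (x * q) * r = (r⁻¹ * x * r) * (r⁻¹ * q * r) := by group
      rw [this, hrx]
      exact mul_mem k.x_mem_Px (k.P_lePx (hPr q hq))
  set H : Subgroup G := ext k.Px r hrr2 hPxr with hH
  have hPH : k.P ≤ H := fun p hp => Or.inl (Or.inl hp)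
  have hxH : x ∈ H := Or.inl k.x_mem_Px
  have hrH : r ∈ H := self_mem
  -- `r` normalises `P`
  have hPr' : ∀ p ∈ k.P, r * p * r⁻¹ ∈ k.P := by
    intro p hp
    have e : r * p * r⁻¹ = (r * r) * (r⁻¹ * p * r) * (r * r)⁻¹ := by group
    rw [e, hrr]
    have e2 : v₁ * v₂ * x * (r⁻¹ * p * r) * (v₁ * v₂ * x)⁻¹ =
        (v₁ * v₂) * (x * (r⁻¹ * p * r) * x⁻¹) * (v₁ * v₂)⁻¹ := by group
    rw [e2]
    have hv : v₁ * v₂ ∈ k.P := mul_mem k.v1m k.v2m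
    exact mul_mem (mul_mem hv (k.conj_x' _ (hPr p hp))) (inv_mem hv)
  have hc : ∀ a ∈ H, ∀ c ∈ H, a * c * a⁻¹ * c⁻¹ ∈ k.P := by
    apply commutator_ext hPr' k.Px_comm
    have key : ∀ p ∈ k.P, r * p * r⁻¹ * p⁻¹ ∈ k.P := fun p hp => mul_mem (hPr' p hp) (inv_mem hp)
    rintro p (hp | ⟨q, hq, rfl⟩)
    · exact key p hp
    · have e : r * (x * q) * r⁻¹ * (x * q)⁻¹ = x * (r * q * r⁻¹ * q⁻¹) * x⁻¹ := by
        calc r * (x * q) * r⁻¹ * (x * q)⁻¹ = (r * x) * q * r⁻¹ * q⁻¹ * x⁻¹ := by group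
          _ = _ := by rw [← R.xr]; group
      rw [e]
      exact k.conj_x' _ (key q hq)
  -- `T ≤ H`
  have hTH : T ≤ H := by
    have h0 : T0 x z f v₁ v₂ ≤ H :=
      T0_le hxH (hPH (k.Lm h.zL)) (hPH (k.Lm h.fL)) (hPH k.v1m) (hPH k.v2m)
    intro t ht
    rcases D.T_form t ht with h1 | ⟨u, hu, rfl⟩
    · exact h0 h1
    · exact mul_mem hrH (h0 hu)
  -- involutions of `H ∖ P`
  have hv12 : v₁ * v₂ ∈ k.P := mul_mem k.v1m k.v2m
  have hinv : ∀ y ∈ H, y * y = 1 → y ∉ k.P → ∃ p ∈ k.P, y = x * p := by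
    rintro y ((hy | ⟨q, hq, rfl⟩) | ⟨q, hq, rfl⟩) hyy hyP
    · exact absurd hy hyP
    · exact ⟨q, hq, rfl⟩
    · exfalso
      rcases hq with hq | ⟨p, hp, rfl⟩
      · have e : r * q * (r * q) = (v₁ * v₂) * x * ((r⁻¹ * q * r) * q) := by
          rw [← hrr]; group
        rw [e] at hyy
        have e3 : x = (v₁ * v₂)⁻¹ * (r⁻¹ * q * r * q)⁻¹ := by
          rw [eq_inv_mul_iff_mul_eq, eq_inv_iff_mul_eq_one]; exact hyy
        exact k.xP (mem_of_eq e3 (mul_mem (inv_mem hv12) (inv_mem (mul_mem (hPr q hq) hq))))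
      · have e : r * (x * p) * (r * (x * p)) = (v₁ * v₂) * x * x * ((r⁻¹ * p * r) * x * p) := by
          calc r * (x * p) * (r * (x * p)) = (r * r) * (r⁻¹ * x * r) * (r⁻¹ * p * r) * x * p := by group
            _ = _ := by rw [hrx, hrr]; simp only [mul_assoc]
        rw [e, mul_assoc (v₁ * v₂) x x, h.xx, mul_one] at hyy
        have e4 : v₁ * v₂ * (r⁻¹ * p * r) * x * p = 1 := by rw [← hyy]; simp only [mul_assoc]
        have e3 : x = (v₁ * v₂ * (r⁻¹ * p * r))⁻¹ * p⁻¹ := by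
          rw [eq_inv_mul_iff_mul_eq, eq_inv_iff_mul_eq_one]; exact e4
        exact k.xP (mem_of_eq e3 (mul_mem (inv_mem (mul_mem hv12 (hPr p hp))) (inv_mem hp)))
  refine k.xP (OneClass.mem hG hc h.xx hxH T D.pT D.Tx ?_ (odd_index D hTH))
  intro q hq h1 h2
  have hyy : q⁻¹ * x * q * (q⁻¹ * x * q) = 1 := by
    calc q⁻¹ * x * q * (q⁻¹ * x * q) = q⁻¹ * (x * x) * q := by group
      _ = 1 := by rw [h.xx, mul_one, inv_mul_cancel]
  obtain ⟨p, hp, e⟩ := hinv _ h1 hyy h2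
  rw [e] at hyy
  obtain ⟨c, hc, e2⟩ := k.conj_of_sq hp hyy
  exact ⟨c, hPH hc, by rw [e, e2]⟩

end B2

end Cfsg.Agent.OddHalf.D5.SixAut.Zero
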