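import Cfsg.Agent.OddHalf.D5.SixAut.ZeroBase

/-!
# ODD half, `K = A₆`, C3b, (DBL), `e = 0`: the involutions of `xP`
-/

set_option autoImplicit false
set_option linter.unusedSimpArgs false
set_option linter.unusedVariables false

namespace Cfsg.Agent.OddHalf.D5.SixAut.Zero

open Subgroup

variable {G : Type*} [Group G] {x z f v₁ v₂ s b w w₂ n m₀ : G}

theorem cj_comm {g q : G} (h : g * q = q * g) : g⁻¹ * q * g = q := by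
  rw [mul_assoc, ← h, inv_mul_cancel_left]

theorem cj_of {g q q' : G} (h : q * g = g * q') : g⁻¹ * q * g = q' := by
  rw [mul_assoc, h, inv_mul_cancel_left]

/-- `Base` together with `[w, w₂] = m₀` -/
structure B2 (x z f v₁ v₂ s b w w₂ n m₀ : G) : Prop where
  h : Base x z f v₁ v₂ s b w w₂ n
  m0 : m₀ ∈ h.L
  ww2 : w * w₂ = w₂ * (w * m₀)

theorem Base.toB2 (h : Base x z f v₁ v₂ s b w w₂ n) : B2 x z f v₁ v₂ s b w w₂ n (w * (w₂ * (w * w₂))) where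
  h := h
  m0 := h.c_mem
  ww2 := by
    have M := h.mr h.c_mem
    have e : w * (w₂ * (w * (w₂ * (w₂ * w)))) = w * w₂ := by
      rw [asc h.w22, one_mul, h.ww, mul_one]
    have e2 : w * (w₂ * (w * w₂)) * (w₂ * w) = w * w₂ := by simp only [mul_assoc]; exact e
    calc w * w₂ = w * (w₂ * (w * w₂)) * (w₂ * w) := e2.symm
      _ = w₂ * (w * (w * (w₂ * (w * w₂)))) := by
        rw [← mul_assoc, M.mw2, mul_assoc, M.mw]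

namespace B2

variable (k : B2 x z f v₁ v₂ s b w w₂ n m₀)

def L1 : Subgroup G := Base.extc k.h.L v₁ k.h.v11 (k.h.comm_L k.h.zv1.symm k.h.fv1.symm k.h.sv1.symm k.h.bv1.symm)

theorem cL {g : G} (hz : g * z = z * g) (hf : g * f = f * g) (hs : g * s = s * g) (hb : g * b = b * g) :
    ∀ q ∈ k.h.L, g⁻¹ * q * g = q := fun q hq => cj_comm (k.h.comm_L hz hf hs hb q hq)

theorem L_le1 {m : G} (hm : m ∈ k.h.L) : m ∈ k.L1 := Or.inl hm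
theorem v1L1 {m : G} (hm : m ∈ k.h.L) : v₁ * m ∈ k.L1 := Or.inr ⟨m, hm, rfl⟩

theorem hn2 : ∀ q ∈ k.L1, v₂⁻¹ * q * v₂ ∈ k.L1 := by
  apply Base.conj_extc
  · intro q hq
    rw [k.cL k.h.zv2.symm k.h.fv2.symm k.h.sv2.symm k.h.bv2.symm q hq]
    exact k.L_le1 hq
  · rw [cj_of k.h.v1v2]
    exact k.v1L1 k.h.zL

def L2 : Subgroup G := ext k.L1 v₂ (by rw [k.h.v22]; exact one_mem _) k.hn2

theorem L1_le2 {m : G} (hm : m ∈ k.L1) : m ∈ k.L2 := Or.inl hm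
theorem v2L2 {m : G} (hm : m ∈ k.L1) : v₂ * m ∈ k.L2 := Or.inr ⟨m, hm, rfl⟩

theorem conj_L2 {g : G} {Q : Subgroup G} (h0 : ∀ q ∈ k.h.L, g⁻¹ * q * g ∈ Q)
    (h1 : g⁻¹ * v₁ * g ∈ Q) (h2 : g⁻¹ * v₂ * g ∈ Q) :
    ∀ q ∈ k.L2, g⁻¹ * q * g ∈ Q := by
  have h3 : ∀ q ∈ k.L1, g⁻¹ * q * g ∈ Q := by
    rintro p (hp | ⟨q, hq, rfl⟩)
    · exact h0 p hp
    · have : g⁻¹ * (v₁ * q) * g = (g⁻¹ * v₁ * g) * (g⁻¹ * q * g) := by group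
      rw [this]
      exact mul_mem h1 (h0 q hq)
  rintro p (hp | ⟨q, hq, rfl⟩)
  · exact h3 p hp
  · have : g⁻¹ * (v₂ * q) * g = (g⁻¹ * v₂ * g) * (g⁻¹ * q * g) := by group
    rw [this]
    exact mul_mem h2 (h3 q hq)

theorem v1m2 : v₁ ∈ k.L2 := by
  have := k.L1_le2 (k.v1L1 (one_mem k.h.L))
  rwa [mul_one] at this
theorem v2m2 : v₂ ∈ k.L2 := by
  have := k.v2L2 (one_mem k.L1)
  rwa [mul_one] at this
theorem L_le2 {m : G} (hm : m ∈ k.h.L) : m ∈ k.L2 := k.L1_le2 (k.L_le1 hm)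

theorem hn3 : ∀ q ∈ k.L2, w⁻¹ * q * w ∈ k.L2 := by
  apply k.conj_L2
  · intro q hq
    rw [k.cL k.h.zw.symm k.h.fw.symm k.h.sw.symm k.h.bw.symm q hq]
    exact k.L_le2 hq
  · rw [cj_of k.h.v1w]
    exact k.v1m2
  · rw [cj_of k.h.v2w]
    exact mul_mem k.v2m2 (k.L_le2 k.h.sL)

def L3 : Subgroup G := ext k.L2 w (by rw [k.h.ww]; exact one_mem _) k.hn3

theorem L2_le3 {m : G} (hm : m ∈ k.L2) : m ∈ k.L3 := Or.inl hm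
theorem wL3 {m : G} (hm : m ∈ k.L2) : w * m ∈ k.L3 := Or.inr ⟨m, hm, rfl⟩
theorem wm3 : w ∈ k.L3 := by
  have := k.wL3 (one_mem k.L2)
  rwa [mul_one] at this

theorem conj_L3 {g : G} {Q : Subgroup G} (h0 : ∀ q ∈ k.h.L, g⁻¹ * q * g ∈ Q)
    (h1 : g⁻¹ * v₁ * g ∈ Q) (h2 : g⁻¹ * v₂ * g ∈ Q) (h3 : g⁻¹ * w * g ∈ Q) :
    ∀ q ∈ k.L3, g⁻¹ * q * g ∈ Q := by
  rintro p (hp | ⟨q, hq, rfl⟩)
  · exact k.conj_L2 h0 h1 h2 p hp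
  · have : g⁻¹ * (w * q) * g = (g⁻¹ * w * g) * (g⁻¹ * q * g) := by group
    rw [this]
    exact mul_mem h3 (k.conj_L2 h0 h1 h2 q hq)

theorem hn4 : ∀ q ∈ k.L3, w₂⁻¹ * q * w₂ ∈ k.L3 := by
  apply k.conj_L3
  · intro q hq
    rw [k.cL k.h.zw2.symm k.h.fw2.symm k.h.sw2.symm k.h.bw2.symm q hq]
    exact k.L2_le3 (k.L_le2 hq)
  · rw [cj_of k.h.v1w2]
    exact k.L2_le3 (mul_mem k.v1m2 (k.L_le2 (mul_mem k.h.sL k.h.nL)))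
  · rw [cj_of k.h.v2w2]
    exact k.L2_le3 k.v2m2
  · rw [cj_of k.ww2]
    exact mul_mem k.wm3 (k.L2_le3 (k.L_le2 k.m0))

/-- `P = ⟨L, v₁, v₂, w, w₂⟩` -/
def P : Subgroup G := ext k.L3 w₂ (by rw [k.h.w22]; exact one_mem _) k.hn4

theorem L3_leP {m : G} (hm : m ∈ k.L3) : m ∈ k.P := Or.inl hm
theorem w2m : w₂ ∈ k.P := Or.inr ⟨1, one_mem _, (mul_one _).symm⟩
theorem wm : w ∈ k.P := k.L3_leP k.wm3
theorem v1m : v₁ ∈ k.P := k.L3_leP (k.L2_le3 k.v1m2)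
theorem v2m : v₂ ∈ k.P := k.L3_leP (k.L2_le3 k.v2m2)
theorem Lm {m : G} (hm : m ∈ k.h.L) : m ∈ k.P := k.L3_leP (k.L2_le3 (k.L_le2 hm))

theorem conj_P {g : G} {Q : Subgroup G} (h0 : ∀ q ∈ k.h.L, g⁻¹ * q * g ∈ Q)
    (h1 : g⁻¹ * v₁ * g ∈ Q) (h2 : g⁻¹ * v₂ * g ∈ Q) (h3 : g⁻¹ * w * g ∈ Q) (h4 : g⁻¹ * w₂ * g ∈ Q) :
    ∀ q ∈ k.P, g⁻¹ * q * g ∈ Q := by
  rintro p (hp | ⟨q, hq, rfl⟩)
  · exact k.conj_L3 h0 h1 h2 h3 p hp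
  · have : g⁻¹ * (w₂ * q) * g = (g⁻¹ * w₂ * g) * (g⁻¹ * q * g) := by group
    rw [this]
    exact mul_mem h4 (k.conj_L3 h0 h1 h2 h3 q hq)

/-- the elements of `P` -/
theorem form {p : G} (hp : p ∈ k.P) : ∃ m ∈ k.h.L, ∃ u, (u = m ∨ u = v₁ * m ∨ u = v₂ * m ∨ u = v₂ * (v₁ * m)) ∧
    (p = u ∨ p = w * u ∨ p = w₂ * u ∨ p = w₂ * (w * u)) := by
  have h2 : ∀ {q : G}, q ∈ k.L2 → ∃ m ∈ k.h.L, (q = m ∨ q = v₁ * m ∨ q = v₂ * m ∨ q = v₂ * (v₁ * m)) := by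
    rintro q ((hq | ⟨q, hq, rfl⟩) | ⟨_, (hq | ⟨q, hq, rfl⟩), rfl⟩)
    · exact ⟨_, hq, Or.inl rfl⟩
    · exact ⟨_, hq, Or.inr (Or.inl rfl)⟩
    · exact ⟨_, hq, Or.inr (Or.inr (Or.inl rfl))⟩
    · exact ⟨_, hq, Or.inr (Or.inr (Or.inr rfl))⟩
  rcases hp with (hp | ⟨q, hq, rfl⟩) | ⟨_, (hq | ⟨q, hq, rfl⟩), rfl⟩
  · obtain ⟨m, hm, hu⟩ := h2 hp
    exact ⟨m, hm, _, hu, Or.inl rfl⟩
  · obtain ⟨m, hm, hu⟩ := h2 hq
    exact ⟨m, hm, _, hu, Or.inr (Or.inl rfl)⟩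
  · obtain ⟨m, hm, hu⟩ := h2 hq
    exact ⟨m, hm, _, hu, Or.inr (Or.inr (Or.inl rfl))⟩
  · obtain ⟨m, hm, hu⟩ := h2 hq
    exact ⟨m, hm, _, hu, Or.inr (Or.inr (Or.inr rfl))⟩

theorem isPGroup_extc {Q : Subgroup G} {g : G} {hg : g * g = 1} {hc : ∀ q ∈ Q, g * q = q * g}
    (hQ : IsPGroup 2 Q) : IsPGroup 2 (Base.extc Q g hg hc) := isPGroup_ext hQ

theorem pgroup : IsPGroup 2 k.P :=
  isPGroup_ext (isPGroup_ext (isPGroup_ext (isPGroup_extc (isPGroup_extc (isPGroup_extc (isPGroup_extc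
    (isPGroup_extc IsPGroup.of_bot)))))))

/-- `P` centralises `L` -/
theorem comm_P {m : G} (hm : m ∈ k.h.L) : ∀ p ∈ k.P, m * p = p * m := by
  have M := k.h.mr hm
  have hL : ∀ q ∈ k.h.L, m * q = q * m := k.h.comm_L M.mz M.mf M.ms M.mb
  exact comm_ext (comm_ext (comm_ext (Base.comm_extc hL M.mv1) M.mv2) M.mw) M.mw2

theorem xP : x ∉ k.P := by
  intro hx
  have h1 := k.comm_P k.h.sL x hx
  rw [k.h.sx] at h1
  exact k.h.z1 (mul_eq_left.mp (mul_left_cancel h1))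

/-- `x` normalises `L` -/
theorem exists_x {m : G} (hm : m ∈ k.h.L) : ∃ m' ∈ k.h.L, m * x = x * m' ∧
    ((InL z f m ∧ m' = m) ∨ (m' = m * z ∧ ∃ t, InL z f t ∧ m = s * t) ∨ m' = m * f ∨ m' = m * (f * z)) := by
  have h := k.h
  obtain ⟨t, ht, hm⟩ := k.h.mem_L.1 hm
  have htx : t * x = x * t := by
    rcases ht with ht | ht | ht | ht <;> rw [ht] <;> simp only [mul_assoc, one_mul, mul_one, h.xx, asc h.xx, h.zz, asc h.zz, h.ff, asc h.ff, h.v11, asc h.v11,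
    h.v22, asc h.v22, h.ss, asc h.ss, h.bb, asc h.bb, h.ww, asc h.ww, h.w22, asc h.w22, h.nn, asc h.nn, h.w2x,
    asc h.w2x, h.wx, asc h.wx, h.v2x, asc h.v2x, h.v1x, asc h.v1x, h.bx, asc h.bx, h.sx, asc h.sx, h.fx,
    asc h.fx, h.zx, asc h.zx, h.nx, asc h.nx, h.v2w2, asc h.v2w2, h.v1w2, asc h.v1w2, h.bw2, asc h.bw2, h.sw2,
    asc h.sw2, h.fw2, asc h.fw2, h.zw2, asc h.zw2, h.nw2, asc h.nw2, h.v2w, asc h.v2w, h.v1w, asc h.v1w, h.bw,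
    asc h.bw, h.sw, asc h.sw, h.fw, asc h.fw, h.zw, asc h.zw, h.nw, asc h.nw, h.v1v2, asc h.v1v2, h.bv2,
    asc h.bv2, h.sv2, asc h.sv2, h.fv2, asc h.fv2, h.zv2, asc h.zv2, h.nv2, asc h.nv2, h.bv1, asc h.bv1, h.sv1,
    asc h.sv1, h.fv1, asc h.fv1, h.zv1, asc h.zv1, h.nv1, asc h.nv1, h.sb, asc h.sb, h.fb, asc h.fb, h.zb,
    asc h.zb, h.nb, asc h.nb, h.fs, asc h.fs, h.zs, asc h.zs, h.ns, asc h.ns, h.zf, asc h.zf, h.nf, asc h.nf,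
    h.nz, asc h.nz]
  have M := h.mr (h.l_le (h.mem_l.2 ht))
  rcases hm with hm | hm | hm | hm
  · exact ⟨m, by rw [hm]; exact (h.l_le (h.mem_l.2 ht)), by rw [hm, htx], Or.inl ⟨by rw [hm]; exact ht, rfl⟩⟩
  · refine ⟨m * z, mul_mem ‹_› h.zL, ?_, Or.inr (Or.inl ⟨rfl, t, ht, hm⟩)⟩
    rw [hm, mul_assoc, htx, ← mul_assoc, h.sx]
    simp only [mul_assoc, one_mul, mul_one, h.xx, asc h.xx, h.zz, asc h.zz, h.ff, asc h.ff, h.v11, asc h.v11,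
    h.v22, asc h.v22, h.ss, asc h.ss, h.bb, asc h.bb, h.ww, asc h.ww, h.w22, asc h.w22, h.nn, asc h.nn, h.w2x,
    asc h.w2x, h.wx, asc h.wx, h.v2x, asc h.v2x, h.v1x, asc h.v1x, h.bx, asc h.bx, h.sx, asc h.sx, h.fx,
    asc h.fx, h.zx, asc h.zx, h.nx, asc h.nx, h.v2w2, asc h.v2w2, h.v1w2, asc h.v1w2, h.bw2, asc h.bw2, h.sw2,
    asc h.sw2, h.fw2, asc h.fw2, h.zw2, asc h.zw2, h.nw2, asc h.nw2, h.v2w, asc h.v2w, h.v1w, asc h.v1w, h.bw,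
    asc h.bw, h.sw, asc h.sw, h.fw, asc h.fw, h.zw, asc h.zw, h.nw, asc h.nw, h.v1v2, asc h.v1v2, h.bv2,
    asc h.bv2, h.sv2, asc h.sv2, h.fv2, asc h.fv2, h.zv2, asc h.zv2, h.nv2, asc h.nv2, h.bv1, asc h.bv1, h.sv1,
    asc h.sv1, h.fv1, asc h.fv1, h.zv1, asc h.zv1, h.nv1, asc h.nv1, h.sb, asc h.sb, h.fb, asc h.fb, h.zb,
    asc h.zb, h.nb, asc h.nb, h.fs, asc h.fs, h.zs, asc h.zs, h.ns, asc h.ns, h.zf, asc h.zf, h.nf, asc h.nf,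
    h.nz, asc h.nz, M.mw2, asc M.mw2, M.mw, asc M.mw, M.mv2, asc M.mv2, M.mv1, asc M.mv1, M.mb, asc M.mb, M.ms,
    asc M.ms, M.mf, asc M.mf, M.mz, asc M.mz, M.mn, asc M.mn, M.mm, asc M.mm]
  · refine ⟨m * f, mul_mem ‹_› h.fL, ?_, Or.inr (Or.inr (Or.inl rfl))⟩
    rw [hm, mul_assoc, htx, ← mul_assoc, h.bx]
    simp only [mul_assoc, one_mul, mul_one, h.xx, asc h.xx, h.zz, asc h.zz, h.ff, asc h.ff, h.v11, asc h.v11,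
    h.v22, asc h.v22, h.ss, asc h.ss, h.bb, asc h.bb, h.ww, asc h.ww, h.w22, asc h.w22, h.nn, asc h.nn, h.w2x,
    asc h.w2x, h.wx, asc h.wx, h.v2x, asc h.v2x, h.v1x, asc h.v1x, h.bx, asc h.bx, h.sx, asc h.sx, h.fx,
    asc h.fx, h.zx, asc h.zx, h.nx, asc h.nx, h.v2w2, asc h.v2w2, h.v1w2, asc h.v1w2, h.bw2, asc h.bw2, h.sw2,
    asc h.sw2, h.fw2, asc h.fw2, h.zw2, asc h.zw2, h.nw2, asc h.nw2, h.v2w, asc h.v2w, h.v1w, asc h.v1w, h.bw,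
    asc h.bw, h.sw, asc h.sw, h.fw, asc h.fw, h.zw, asc h.zw, h.nw, asc h.nw, h.v1v2, asc h.v1v2, h.bv2,
    asc h.bv2, h.sv2, asc h.sv2, h.fv2, asc h.fv2, h.zv2, asc h.zv2, h.nv2, asc h.nv2, h.bv1, asc h.bv1, h.sv1,
    asc h.sv1, h.fv1, asc h.fv1, h.zv1, asc h.zv1, h.nv1, asc h.nv1, h.sb, asc h.sb, h.fb, asc h.fb, h.zb,
    asc h.zb, h.nb, asc h.nb, h.fs, asc h.fs, h.zs, asc h.zs, h.ns, asc h.ns, h.zf, asc h.zf, h.nf, asc h.nf,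
    h.nz, asc h.nz, M.mw2, asc M.mw2, M.mw, asc M.mw, M.mv2, asc M.mv2, M.mv1, asc M.mv1, M.mb, asc M.mb, M.ms,
    asc M.ms, M.mf, asc M.mf, M.mz, asc M.mz, M.mn, asc M.mn, M.mm, asc M.mm]
  · refine ⟨m * (f * z), mul_mem ‹_› (mul_mem h.fL h.zL), ?_, Or.inr (Or.inr (Or.inr rfl))⟩
    rw [hm, mul_assoc, mul_assoc, htx, ← mul_assoc s, h.sx]
    simp only [mul_assoc, one_mul, mul_one, h.xx, asc h.xx, h.zz, asc h.zz, h.ff, asc h.ff, h.v11, asc h.v11,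
    h.v22, asc h.v22, h.ss, asc h.ss, h.bb, asc h.bb, h.ww, asc h.ww, h.w22, asc h.w22, h.nn, asc h.nn, h.w2x,
    asc h.w2x, h.wx, asc h.wx, h.v2x, asc h.v2x, h.v1x, asc h.v1x, h.bx, asc h.bx, h.sx, asc h.sx, h.fx,
    asc h.fx, h.zx, asc h.zx, h.nx, asc h.nx, h.v2w2, asc h.v2w2, h.v1w2, asc h.v1w2, h.bw2, asc h.bw2, h.sw2,
    asc h.sw2, h.fw2, asc h.fw2, h.zw2, asc h.zw2, h.nw2, asc h.nw2, h.v2w, asc h.v2w, h.v1w, asc h.v1w, h.bw,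
    asc h.bw, h.sw, asc h.sw, h.fw, asc h.fw, h.zw, asc h.zw, h.nw, asc h.nw, h.v1v2, asc h.v1v2, h.bv2,
    asc h.bv2, h.sv2, asc h.sv2, h.fv2, asc h.fv2, h.zv2, asc h.zv2, h.nv2, asc h.nv2, h.bv1, asc h.bv1, h.sv1,
    asc h.sv1, h.fv1, asc h.fv1, h.zv1, asc h.zv1, h.nv1, asc h.nv1, h.sb, asc h.sb, h.fb, asc h.fb, h.zb,
    asc h.zb, h.nb, asc h.nb, h.fs, asc h.fs, h.zs, asc h.zs, h.ns, asc h.ns, h.zf, asc h.zf, h.nf, asc h.nf,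
    h.nz, asc h.nz, M.mw2, asc M.mw2, M.mw, asc M.mw, M.mv2, asc M.mv2, M.mv1, asc M.mv1, M.mb, asc M.mb, M.ms,
    asc M.ms, M.mf, asc M.mf, M.mz, asc M.mz, M.mn, asc M.mn, M.mm, asc M.mm]

/-- elements of `L` commute -/
theorem comm_LL {m m' : G} (hm : m ∈ k.h.L) (hm' : m' ∈ k.h.L) : m * m' = m' * m :=
  k.comm_P hm m' (k.Lm hm')

include k in
/-- `x^L = x l` -/
theorem conj_l {t : G} (ht : InL z f t) : ∃ κ ∈ k.h.L, x * κ = κ * (x * t) := by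
  have h := k.h
  rcases ht with ht | ht | ht | ht
  · exact ⟨1, one_mem _, by rw [ht, mul_one, one_mul]⟩
  · refine ⟨s, h.sL, ?_⟩
    rw [ht]
    simp only [mul_assoc, one_mul, mul_one, h.xx, asc h.xx, h.zz, asc h.zz, h.ff, asc h.ff, h.v11, asc h.v11,
    h.v22, asc h.v22, h.ss, asc h.ss, h.bb, asc h.bb, h.ww, asc h.ww, h.w22, asc h.w22, h.nn, asc h.nn, h.w2x,
    asc h.w2x, h.wx, asc h.wx, h.v2x, asc h.v2x, h.v1x, asc h.v1x, h.bx, asc h.bx, h.sx, asc h.sx, h.fx,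
    asc h.fx, h.zx, asc h.zx, h.nx, asc h.nx, h.v2w2, asc h.v2w2, h.v1w2, asc h.v1w2, h.bw2, asc h.bw2, h.sw2,
    asc h.sw2, h.fw2, asc h.fw2, h.zw2, asc h.zw2, h.nw2, asc h.nw2, h.v2w, asc h.v2w, h.v1w, asc h.v1w, h.bw,
    asc h.bw, h.sw, asc h.sw, h.fw, asc h.fw, h.zw, asc h.zw, h.nw, asc h.nw, h.v1v2, asc h.v1v2, h.bv2,
    asc h.bv2, h.sv2, asc h.sv2, h.fv2, asc h.fv2, h.zv2, asc h.zv2, h.nv2, asc h.nv2, h.bv1, asc h.bv1, h.sv1,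
    asc h.sv1, h.fv1, asc h.fv1, h.zv1, asc h.zv1, h.nv1, asc h.nv1, h.sb, asc h.sb, h.fb, asc h.fb, h.zb,
    asc h.zb, h.nb, asc h.nb, h.fs, asc h.fs, h.zs, asc h.zs, h.ns, asc h.ns, h.zf, asc h.zf, h.nf, asc h.nf,
    h.nz, asc h.nz]
  · refine ⟨b, h.bL, ?_⟩
    rw [ht]
    simp only [mul_assoc, one_mul, mul_one, h.xx, asc h.xx, h.zz, asc h.zz, h.ff, asc h.ff, h.v11, asc h.v11,
    h.v22, asc h.v22, h.ss, asc h.ss, h.bb, asc h.bb, h.ww, asc h.ww, h.w22, asc h.w22, h.nn, asc h.nn, h.w2x,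
    asc h.w2x, h.wx, asc h.wx, h.v2x, asc h.v2x, h.v1x, asc h.v1x, h.bx, asc h.bx, h.sx, asc h.sx, h.fx,
    asc h.fx, h.zx, asc h.zx, h.nx, asc h.nx, h.v2w2, asc h.v2w2, h.v1w2, asc h.v1w2, h.bw2, asc h.bw2, h.sw2,
    asc h.sw2, h.fw2, asc h.fw2, h.zw2, asc h.zw2, h.nw2, asc h.nw2, h.v2w, asc h.v2w, h.v1w, asc h.v1w, h.bw,
    asc h.bw, h.sw, asc h.sw, h.fw, asc h.fw, h.zw, asc h.zw, h.nw, asc h.nw, h.v1v2, asc h.v1v2, h.bv2,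
    asc h.bv2, h.sv2, asc h.sv2, h.fv2, asc h.fv2, h.zv2, asc h.zv2, h.nv2, asc h.nv2, h.bv1, asc h.bv1, h.sv1,
    asc h.sv1, h.fv1, asc h.fv1, h.zv1, asc h.zv1, h.nv1, asc h.nv1, h.sb, asc h.sb, h.fb, asc h.fb, h.zb,
    asc h.zb, h.nb, asc h.nb, h.fs, asc h.fs, h.zs, asc h.zs, h.ns, asc h.ns, h.zf, asc h.zf, h.nf, asc h.nf,
    h.nz, asc h.nz]
  · refine ⟨b * s, mul_mem h.bL h.sL, ?_⟩
    rw [ht]
    simp only [mul_assoc, one_mul, mul_one, h.xx, asc h.xx, h.zz, asc h.zz, h.ff, asc h.ff, h.v11, asc h.v11,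
    h.v22, asc h.v22, h.ss, asc h.ss, h.bb, asc h.bb, h.ww, asc h.ww, h.w22, asc h.w22, h.nn, asc h.nn, h.w2x,
    asc h.w2x, h.wx, asc h.wx, h.v2x, asc h.v2x, h.v1x, asc h.v1x, h.bx, asc h.bx, h.sx, asc h.sx, h.fx,
    asc h.fx, h.zx, asc h.zx, h.nx, asc h.nx, h.v2w2, asc h.v2w2, h.v1w2, asc h.v1w2, h.bw2, asc h.bw2, h.sw2,
    asc h.sw2, h.fw2, asc h.fw2, h.zw2, asc h.zw2, h.nw2, asc h.nw2, h.v2w, asc h.v2w, h.v1w, asc h.v1w, h.bw,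
    asc h.bw, h.sw, asc h.sw, h.fw, asc h.fw, h.zw, asc h.zw, h.nw, asc h.nw, h.v1v2, asc h.v1v2, h.bv2,
    asc h.bv2, h.sv2, asc h.sv2, h.fv2, asc h.fv2, h.zv2, asc h.zv2, h.nv2, asc h.nv2, h.bv1, asc h.bv1, h.sv1,
    asc h.sv1, h.fv1, asc h.fv1, h.zv1, asc h.zv1, h.nv1, asc h.nv1, h.sb, asc h.sb, h.fb, asc h.fb, h.zb,
    asc h.zb, h.nb, asc h.nb, h.fs, asc h.fs, h.zs, asc h.zs, h.ns, asc h.ns, h.zf, asc h.zf, h.nf, asc h.nf,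
    h.nz, asc h.nz]

include k in
theorem conj_aux {g₀ u t : G} (hg0 : g₀ ∈ k.P) (hu : u ∈ k.P) (hg : x * g₀ = g₀ * (x * u)) (ht : InL z f t) :
    ∃ g ∈ k.P, x * (u * t) = g⁻¹ * x * g := by
  obtain ⟨κ, hκ, hx⟩ := k.conj_l ht
  refine ⟨g₀ * κ, mul_mem hg0 (k.Lm hκ), ?_⟩
  have htL : t ∈ k.h.L := k.h.l_le (k.h.mem_l.2 ht)
  have h1 : x * (g₀ * κ) = (g₀ * κ) * (x * (u * t)) := by
    calc x * (g₀ * κ) = g₀ * (x * (u * κ)) := by rw [← mul_assoc, hg]; simp only [mul_assoc]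
      _ = g₀ * (x * κ * u) := by rw [← k.comm_P hκ u hu, mul_assoc]
      _ = g₀ * κ * (x * (t * u)) := by rw [hx]; simp only [mul_assoc]
      _ = (g₀ * κ) * (x * (u * t)) := by rw [k.comm_P htL u hu]
  rw [mul_assoc, h1, inv_mul_cancel_left]

/-- (S2): every involution of `xP` is conjugate to `x` under `P`. -/
theorem conj_of_sq {p : G} (hp : p ∈ k.P) (hy : x * p * (x * p) = 1) : ∃ g ∈ k.P, x * p = g⁻¹ * x * g := by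
  have h := k.h
  obtain ⟨m, hm, u, hu, hpu⟩ := k.form hp
  obtain ⟨m', hm', hmx, hcase⟩ := k.exists_x hm
  have M := h.mr hm
  have M' := h.mr hm'
  have M0 := h.mr k.m0
  have hm0 : m * m₀ = m₀ * m := k.comm_LL hm k.m0
  have hm0' : m' * m₀ = m₀ * m' := k.comm_LL hm' k.m0
  have hno : ∀ v, v * (x * p * (x * p)) = x * p * (x * p) * (v * z) → False := by
    intro v hv
    rw [hy, mul_one, one_mul] at hv
    exact h.z1 (mul_eq_left.mp hv.symm)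
  rcases hpu with hpu | hpu | hpu | hpu
  · have hmm : ∀ {e : G}, m' * m = e → (InL z f m ∧ e = 1) ∨ (e = z ∧ ∃ t, InL z f t ∧ m = s * t) ∨
        e = f ∨ e = f * z := by
      intro e he
      rcases hcase with ⟨h1, h2⟩ | ⟨h1, h2⟩ | h1 | h1
      · exact Or.inl ⟨h1, by rw [← he, h2, M.mm]⟩
      · refine Or.inr (Or.inl ⟨?_, h2⟩)
        rw [← he, h1]
        simp only [mul_assoc, one_mul, mul_one, h.xx, asc h.xx, h.zz, asc h.zz, h.ff, asc h.ff, h.v11, asc h.v11,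
    h.v22, asc h.v22, h.ss, asc h.ss, h.bb, asc h.bb, h.ww, asc h.ww, h.w22, asc h.w22, h.nn, asc h.nn, h.w2x,
    asc h.w2x, h.wx, asc h.wx, h.v2x, asc h.v2x, h.v1x, asc h.v1x, h.bx, asc h.bx, h.sx, asc h.sx, h.fx,
    asc h.fx, h.zx, asc h.zx, h.nx, asc h.nx, h.v2w2, asc h.v2w2, h.v1w2, asc h.v1w2, h.bw2, asc h.bw2, h.sw2,
    asc h.sw2, h.fw2, asc h.fw2, h.zw2, asc h.zw2, h.nw2, asc h.nw2, h.v2w, asc h.v2w, h.v1w, asc h.v1w, h.bw,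
    asc h.bw, h.sw, asc h.sw, h.fw, asc h.fw, h.zw, asc h.zw, h.nw, asc h.nw, h.v1v2, asc h.v1v2, h.bv2,
    asc h.bv2, h.sv2, asc h.sv2, h.fv2, asc h.fv2, h.zv2, asc h.zv2, h.nv2, asc h.nv2, h.bv1, asc h.bv1, h.sv1,
    asc h.sv1, h.fv1, asc h.fv1, h.zv1, asc h.zv1, h.nv1, asc h.nv1, h.sb, asc h.sb, h.fb, asc h.fb, h.zb,
    asc h.zb, h.nb, asc h.nb, h.fs, asc h.fs, h.zs, asc h.zs, h.ns, asc h.ns, h.zf, asc h.zf, h.nf, asc h.nf,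
    h.nz, asc h.nz, M.mw2, asc M.mw2, M.mw, asc M.mw, M.mv2, asc M.mv2, M.mv1, asc M.mv1, M.mb, asc M.mb, M.ms,
    asc M.ms, M.mf, asc M.mf, M.mz, asc M.mz, M.mn, asc M.mn, M.mm, asc M.mm]
      · refine Or.inr (Or.inr (Or.inl ?_))
        rw [← he, h1]
        simp only [mul_assoc, one_mul, mul_one, h.xx, asc h.xx, h.zz, asc h.zz, h.ff, asc h.ff, h.v11, asc h.v11,
    h.v22, asc h.v22, h.ss, asc h.ss, h.bb, asc h.bb, h.ww, asc h.ww, h.w22, asc h.w22, h.nn, asc h.nn, h.w2x,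
    asc h.w2x, h.wx, asc h.wx, h.v2x, asc h.v2x, h.v1x, asc h.v1x, h.bx, asc h.bx, h.sx, asc h.sx, h.fx,
    asc h.fx, h.zx, asc h.zx, h.nx, asc h.nx, h.v2w2, asc h.v2w2, h.v1w2, asc h.v1w2, h.bw2, asc h.bw2, h.sw2,
    asc h.sw2, h.fw2, asc h.fw2, h.zw2, asc h.zw2, h.nw2, asc h.nw2, h.v2w, asc h.v2w, h.v1w, asc h.v1w, h.bw,
    asc h.bw, h.sw, asc h.sw, h.fw, asc h.fw, h.zw, asc h.zw, h.nw, asc h.nw, h.v1v2, asc h.v1v2, h.bv2,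
    asc h.bv2, h.sv2, asc h.sv2, h.fv2, asc h.fv2, h.zv2, asc h.zv2, h.nv2, asc h.nv2, h.bv1, asc h.bv1, h.sv1,
    asc h.sv1, h.fv1, asc h.fv1, h.zv1, asc h.zv1, h.nv1, asc h.nv1, h.sb, asc h.sb, h.fb, asc h.fb, h.zb,
    asc h.zb, h.nb, asc h.nb, h.fs, asc h.fs, h.zs, asc h.zs, h.ns, asc h.ns, h.zf, asc h.zf, h.nf, asc h.nf,
    h.nz, asc h.nz, M.mw2, asc M.mw2, M.mw, asc M.mw, M.mv2, asc M.mv2, M.mv1, asc M.mv1, M.mb, asc M.mb, M.ms,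
    asc M.ms, M.mf, asc M.mf, M.mz, asc M.mz, M.mn, asc M.mn, M.mm, asc M.mm]
      · refine Or.inr (Or.inr (Or.inr ?_))
        rw [← he, h1]
        simp only [mul_assoc, one_mul, mul_one, h.xx, asc h.xx, h.zz, asc h.zz, h.ff, asc h.ff, h.v11, asc h.v11,
    h.v22, asc h.v22, h.ss, asc h.ss, h.bb, asc h.bb, h.ww, asc h.ww, h.w22, asc h.w22, h.nn, asc h.nn, h.w2x,
    asc h.w2x, h.wx, asc h.wx, h.v2x, asc h.v2x, h.v1x, asc h.v1x, h.bx, asc h.bx, h.sx, asc h.sx, h.fx,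
    asc h.fx, h.zx, asc h.zx, h.nx, asc h.nx, h.v2w2, asc h.v2w2, h.v1w2, asc h.v1w2, h.bw2, asc h.bw2, h.sw2,
    asc h.sw2, h.fw2, asc h.fw2, h.zw2, asc h.zw2, h.nw2, asc h.nw2, h.v2w, asc h.v2w, h.v1w, asc h.v1w, h.bw,
    asc h.bw, h.sw, asc h.sw, h.fw, asc h.fw, h.zw, asc h.zw, h.nw, asc h.nw, h.v1v2, asc h.v1v2, h.bv2,
    asc h.bv2, h.sv2, asc h.sv2, h.fv2, asc h.fv2, h.zv2, asc h.zv2, h.nv2, asc h.nv2, h.bv1, asc h.bv1, h.sv1,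
    asc h.sv1, h.fv1, asc h.fv1, h.zv1, asc h.zv1, h.nv1, asc h.nv1, h.sb, asc h.sb, h.fb, asc h.fb, h.zb,
    asc h.zb, h.nb, asc h.nb, h.fs, asc h.fs, h.zs, asc h.zs, h.ns, asc h.ns, h.zf, asc h.zf, h.nf, asc h.nf,
    h.nz, asc h.nz, M.mw2, asc M.mw2, M.mw, asc M.mw, M.mv2, asc M.mv2, M.mv1, asc M.mv1, M.mb, asc M.mb, M.ms,
    asc M.ms, M.mf, asc M.mf, M.mz, asc M.mz, M.mn, asc M.mn, M.mm, asc M.mm]
    have hfz : f * z ≠ 1 := by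
      intro h4
      exact h.fz1 (by rw [← mul_one f, ← h.zz, ← mul_assoc, h4, one_mul])
    have hm1 : m' * m = 1 → InL z f m := by
      intro h1
      rcases hmm h1 with h2 | h2 | h2 | h2
      · exact h2.1
      · exact absurd h2.1.symm h.z1
      · exact absurd h2.symm h.f1
      · exact absurd h2.symm hfz
    rcases hu with hu | hu | hu | hu
    · have h1 : InL z f m := hm1 (by
        rw [← hy, hpu, hu]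
        simp only [mul_assoc, one_mul, mul_one, h.xx, asc h.xx, h.zz, asc h.zz, h.ff, asc h.ff, h.v11, asc h.v11,
    h.v22, asc h.v22, h.ss, asc h.ss, h.bb, asc h.bb, h.ww, asc h.ww, h.w22, asc h.w22, h.nn, asc h.nn, h.w2x,
    asc h.w2x, h.wx, asc h.wx, h.v2x, asc h.v2x, h.v1x, asc h.v1x, h.bx, asc h.bx, h.sx, asc h.sx, h.fx,
    asc h.fx, h.zx, asc h.zx, h.nx, asc h.nx, h.v2w2, asc h.v2w2, h.v1w2, asc h.v1w2, h.bw2, asc h.bw2, h.sw2,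
    asc h.sw2, h.fw2, asc h.fw2, h.zw2, asc h.zw2, h.nw2, asc h.nw2, h.v2w, asc h.v2w, h.v1w, asc h.v1w, h.bw,
    asc h.bw, h.sw, asc h.sw, h.fw, asc h.fw, h.zw, asc h.zw, h.nw, asc h.nw, h.v1v2, asc h.v1v2, h.bv2,
    asc h.bv2, h.sv2, asc h.sv2, h.fv2, asc h.fv2, h.zv2, asc h.zv2, h.nv2, asc h.nv2, h.bv1, asc h.bv1, h.sv1,
    asc h.sv1, h.fv1, asc h.fv1, h.zv1, asc h.zv1, h.nv1, asc h.nv1, h.sb, asc h.sb, h.fb, asc h.fb, h.zb,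
    asc h.zb, h.nb, asc h.nb, h.fs, asc h.fs, h.zs, asc h.zs, h.ns, asc h.ns, h.zf, asc h.zf, h.nf, asc h.nf,
    h.nz, asc h.nz, M.mw2, asc M.mw2, M.mw, asc M.mw, M.mv2, asc M.mv2, M.mv1, asc M.mv1, M.mb, asc M.mb, M.ms,
    asc M.ms, M.mf, asc M.mf, M.mz, asc M.mz, M.mn, asc M.mn, M.mm, asc M.mm, M'.mw2, asc M'.mw2, M'.mw,
    asc M'.mw, M'.mv2, asc M'.mv2, M'.mv1, asc M'.mv1, M'.mb, asc M'.mb, M'.ms, asc M'.ms, M'.mf, asc M'.mf,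
    M'.mz, asc M'.mz, M'.mn, asc M'.mn, M'.mm, asc M'.mm, M0.mw2, asc M0.mw2, M0.mw, asc M0.mw, M0.mv2,
    asc M0.mv2, M0.mv1, asc M0.mv1, M0.mb, asc M0.mb, M0.ms, asc M0.ms, M0.mf, asc M0.mf, M0.mz, asc M0.mz,
    M0.mn, asc M0.mn, M0.mm, asc M0.mm, k.ww2, asc k.ww2, hmx, asc hmx, hm0, asc hm0, hm0', asc hm0'])
      have h2 := k.conj_aux (one_mem _) (one_mem _) (by rw [one_mul, mul_one]) h1
      rw [one_mul] at h2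
      rw [hpu, hu]
      exact h2
    · have h1 : InL z f m := hm1 (by
        rw [← hy, hpu, hu]
        simp only [mul_assoc, one_mul, mul_one, h.xx, asc h.xx, h.zz, asc h.zz, h.ff, asc h.ff, h.v11, asc h.v11,
    h.v22, asc h.v22, h.ss, asc h.ss, h.bb, asc h.bb, h.ww, asc h.ww, h.w22, asc h.w22, h.nn, asc h.nn, h.w2x,
    asc h.w2x, h.wx, asc h.wx, h.v2x, asc h.v2x, h.v1x, asc h.v1x, h.bx, asc h.bx, h.sx, asc h.sx, h.fx,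
    asc h.fx, h.zx, asc h.zx, h.nx, asc h.nx, h.v2w2, asc h.v2w2, h.v1w2, asc h.v1w2, h.bw2, asc h.bw2, h.sw2,
    asc h.sw2, h.fw2, asc h.fw2, h.zw2, asc h.zw2, h.nw2, asc h.nw2, h.v2w, asc h.v2w, h.v1w, asc h.v1w, h.bw,
    asc h.bw, h.sw, asc h.sw, h.fw, asc h.fw, h.zw, asc h.zw, h.nw, asc h.nw, h.v1v2, asc h.v1v2, h.bv2,
    asc h.bv2, h.sv2, asc h.sv2, h.fv2, asc h.fv2, h.zv2, asc h.zv2, h.nv2, asc h.nv2, h.bv1, asc h.bv1, h.sv1,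
    asc h.sv1, h.fv1, asc h.fv1, h.zv1, asc h.zv1, h.nv1, asc h.nv1, h.sb, asc h.sb, h.fb, asc h.fb, h.zb,
    asc h.zb, h.nb, asc h.nb, h.fs, asc h.fs, h.zs, asc h.zs, h.ns, asc h.ns, h.zf, asc h.zf, h.nf, asc h.nf,
    h.nz, asc h.nz, M.mw2, asc M.mw2, M.mw, asc M.mw, M.mv2, asc M.mv2, M.mv1, asc M.mv1, M.mb, asc M.mb, M.ms,
    asc M.ms, M.mf, asc M.mf, M.mz, asc M.mz, M.mn, asc M.mn, M.mm, asc M.mm, M'.mw2, asc M'.mw2, M'.mw,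
    asc M'.mw, M'.mv2, asc M'.mv2, M'.mv1, asc M'.mv1, M'.mb, asc M'.mb, M'.ms, asc M'.ms, M'.mf, asc M'.mf,
    M'.mz, asc M'.mz, M'.mn, asc M'.mn, M'.mm, asc M'.mm, M0.mw2, asc M0.mw2, M0.mw, asc M0.mw, M0.mv2,
    asc M0.mv2, M0.mv1, asc M0.mv1, M0.mb, asc M0.mb, M0.ms, asc M0.ms, M0.mf, asc M0.mf, M0.mz, asc M0.mz,
    M0.mn, asc M0.mn, M0.mm, asc M0.mm, k.ww2, asc k.ww2, hmx, asc hmx, hm0, asc hm0, hm0', asc hm0'])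
      rw [hpu, hu]
      refine k.conj_aux k.wm k.v1m ?_ h1
      simp only [mul_assoc, one_mul, mul_one, h.xx, asc h.xx, h.zz, asc h.zz, h.ff, asc h.ff, h.v11, asc h.v11,
    h.v22, asc h.v22, h.ss, asc h.ss, h.bb, asc h.bb, h.ww, asc h.ww, h.w22, asc h.w22, h.nn, asc h.nn, h.w2x,
    asc h.w2x, h.wx, asc h.wx, h.v2x, asc h.v2x, h.v1x, asc h.v1x, h.bx, asc h.bx, h.sx, asc h.sx, h.fx,
    asc h.fx, h.zx, asc h.zx, h.nx, asc h.nx, h.v2w2, asc h.v2w2, h.v1w2, asc h.v1w2, h.bw2, asc h.bw2, h.sw2,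
    asc h.sw2, h.fw2, asc h.fw2, h.zw2, asc h.zw2, h.nw2, asc h.nw2, h.v2w, asc h.v2w, h.v1w, asc h.v1w, h.bw,
    asc h.bw, h.sw, asc h.sw, h.fw, asc h.fw, h.zw, asc h.zw, h.nw, asc h.nw, h.v1v2, asc h.v1v2, h.bv2,
    asc h.bv2, h.sv2, asc h.sv2, h.fv2, asc h.fv2, h.zv2, asc h.zv2, h.nv2, asc h.nv2, h.bv1, asc h.bv1, h.sv1,
    asc h.sv1, h.fv1, asc h.fv1, h.zv1, asc h.zv1, h.nv1, asc h.nv1, h.sb, asc h.sb, h.fb, asc h.fb, h.zb,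
    asc h.zb, h.nb, asc h.nb, h.fs, asc h.fs, h.zs, asc h.zs, h.ns, asc h.ns, h.zf, asc h.zf, h.nf, asc h.nf,
    h.nz, asc h.nz]
    · have h1 : InL z f m := hm1 (by
        rw [← hy, hpu, hu]
        simp only [mul_assoc, one_mul, mul_one, h.xx, asc h.xx, h.zz, asc h.zz, h.ff, asc h.ff, h.v11, asc h.v11,
    h.v22, asc h.v22, h.ss, asc h.ss, h.bb, asc h.bb, h.ww, asc h.ww, h.w22, asc h.w22, h.nn, asc h.nn, h.w2x,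
    asc h.w2x, h.wx, asc h.wx, h.v2x, asc h.v2x, h.v1x, asc h.v1x, h.bx, asc h.bx, h.sx, asc h.sx, h.fx,
    asc h.fx, h.zx, asc h.zx, h.nx, asc h.nx, h.v2w2, asc h.v2w2, h.v1w2, asc h.v1w2, h.bw2, asc h.bw2, h.sw2,
    asc h.sw2, h.fw2, asc h.fw2, h.zw2, asc h.zw2, h.nw2, asc h.nw2, h.v2w, asc h.v2w, h.v1w, asc h.v1w, h.bw,
    asc h.bw, h.sw, asc h.sw, h.fw, asc h.fw, h.zw, asc h.zw, h.nw, asc h.nw, h.v1v2, asc h.v1v2, h.bv2,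
    asc h.bv2, h.sv2, asc h.sv2, h.fv2, asc h.fv2, h.zv2, asc h.zv2, h.nv2, asc h.nv2, h.bv1, asc h.bv1, h.sv1,
    asc h.sv1, h.fv1, asc h.fv1, h.zv1, asc h.zv1, h.nv1, asc h.nv1, h.sb, asc h.sb, h.fb, asc h.fb, h.zb,
    asc h.zb, h.nb, asc h.nb, h.fs, asc h.fs, h.zs, asc h.zs, h.ns, asc h.ns, h.zf, asc h.zf, h.nf, asc h.nf,
    h.nz, asc h.nz, M.mw2, asc M.mw2, M.mw, asc M.mw, M.mv2, asc M.mv2, M.mv1, asc M.mv1, M.mb, asc M.mb, M.ms,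
    asc M.ms, M.mf, asc M.mf, M.mz, asc M.mz, M.mn, asc M.mn, M.mm, asc M.mm, M'.mw2, asc M'.mw2, M'.mw,
    asc M'.mw, M'.mv2, asc M'.mv2, M'.mv1, asc M'.mv1, M'.mb, asc M'.mb, M'.ms, asc M'.ms, M'.mf, asc M'.mf,
    M'.mz, asc M'.mz, M'.mn, asc M'.mn, M'.mm, asc M'.mm, M0.mw2, asc M0.mw2, M0.mw, asc M0.mw, M0.mv2,
    asc M0.mv2, M0.mv1, asc M0.mv1, M0.mb, asc M0.mb, M0.ms, asc M0.ms, M0.mf, asc M0.mf, M0.mz, asc M0.mz,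
    M0.mn, asc M0.mn, M0.mm, asc M0.mm, k.ww2, asc k.ww2, hmx, asc hmx, hm0, asc hm0, hm0', asc hm0'])
      rw [hpu, hu]
      refine k.conj_aux k.w2m k.v2m ?_ h1
      simp only [mul_assoc, one_mul, mul_one, h.xx, asc h.xx, h.zz, asc h.zz, h.ff, asc h.ff, h.v11, asc h.v11,
    h.v22, asc h.v22, h.ss, asc h.ss, h.bb, asc h.bb, h.ww, asc h.ww, h.w22, asc h.w22, h.nn, asc h.nn, h.w2x,
    asc h.w2x, h.wx, asc h.wx, h.v2x, asc h.v2x, h.v1x, asc h.v1x, h.bx, asc h.bx, h.sx, asc h.sx, h.fx,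
    asc h.fx, h.zx, asc h.zx, h.nx, asc h.nx, h.v2w2, asc h.v2w2, h.v1w2, asc h.v1w2, h.bw2, asc h.bw2, h.sw2,
    asc h.sw2, h.fw2, asc h.fw2, h.zw2, asc h.zw2, h.nw2, asc h.nw2, h.v2w, asc h.v2w, h.v1w, asc h.v1w, h.bw,
    asc h.bw, h.sw, asc h.sw, h.fw, asc h.fw, h.zw, asc h.zw, h.nw, asc h.nw, h.v1v2, asc h.v1v2, h.bv2,
    asc h.bv2, h.sv2, asc h.sv2, h.fv2, asc h.fv2, h.zv2, asc h.zv2, h.nv2, asc h.nv2, h.bv1, asc h.bv1, h.sv1,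
    asc h.sv1, h.fv1, asc h.fv1, h.zv1, asc h.zv1, h.nv1, asc h.nv1, h.sb, asc h.sb, h.fb, asc h.fb, h.zb,
    asc h.zb, h.nb, asc h.nb, h.fs, asc h.fs, h.zs, asc h.zs, h.ns, asc h.ns, h.zf, asc h.zf, h.nf, asc h.nf,
    h.nz, asc h.nz]
    · have h1 : m' * m = z := by
        have h2 : z * (m' * m) = 1 := by
          rw [← hy, hpu, hu]
          simp only [mul_assoc, one_mul, mul_one, h.xx, asc h.xx, h.zz, asc h.zz, h.ff, asc h.ff, h.v11, asc h.v11,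
    h.v22, asc h.v22, h.ss, asc h.ss, h.bb, asc h.bb, h.ww, asc h.ww, h.w22, asc h.w22, h.nn, asc h.nn, h.w2x,
    asc h.w2x, h.wx, asc h.wx, h.v2x, asc h.v2x, h.v1x, asc h.v1x, h.bx, asc h.bx, h.sx, asc h.sx, h.fx,
    asc h.fx, h.zx, asc h.zx, h.nx, asc h.nx, h.v2w2, asc h.v2w2, h.v1w2, asc h.v1w2, h.bw2, asc h.bw2, h.sw2,
    asc h.sw2, h.fw2, asc h.fw2, h.zw2, asc h.zw2, h.nw2, asc h.nw2, h.v2w, asc h.v2w, h.v1w, asc h.v1w, h.bw,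
    asc h.bw, h.sw, asc h.sw, h.fw, asc h.fw, h.zw, asc h.zw, h.nw, asc h.nw, h.v1v2, asc h.v1v2, h.bv2,
    asc h.bv2, h.sv2, asc h.sv2, h.fv2, asc h.fv2, h.zv2, asc h.zv2, h.nv2, asc h.nv2, h.bv1, asc h.bv1, h.sv1,
    asc h.sv1, h.fv1, asc h.fv1, h.zv1, asc h.zv1, h.nv1, asc h.nv1, h.sb, asc h.sb, h.fb, asc h.fb, h.zb,
    asc h.zb, h.nb, asc h.nb, h.fs, asc h.fs, h.zs, asc h.zs, h.ns, asc h.ns, h.zf, asc h.zf, h.nf, asc h.nf,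
    h.nz, asc h.nz, M.mw2, asc M.mw2, M.mw, asc M.mw, M.mv2, asc M.mv2, M.mv1, asc M.mv1, M.mb, asc M.mb, M.ms,
    asc M.ms, M.mf, asc M.mf, M.mz, asc M.mz, M.mn, asc M.mn, M.mm, asc M.mm, M'.mw2, asc M'.mw2, M'.mw,
    asc M'.mw, M'.mv2, asc M'.mv2, M'.mv1, asc M'.mv1, M'.mb, asc M'.mb, M'.ms, asc M'.ms, M'.mf, asc M'.mf,
    M'.mz, asc M'.mz, M'.mn, asc M'.mn, M'.mm, asc M'.mm, M0.mw2, asc M0.mw2, M0.mw, asc M0.mw, M0.mv2,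
    asc M0.mv2, M0.mv1, asc M0.mv1, M0.mb, asc M0.mb, M0.ms, asc M0.ms, M0.mf, asc M0.mf, M0.mz, asc M0.mz,
    M0.mn, asc M0.mn, M0.mm, asc M0.mm, k.ww2, asc k.ww2, hmx, asc hmx, hm0, asc hm0, hm0', asc hm0']
        rw [← one_mul (m' * m), ← h.zz, mul_assoc, h2, mul_one]
      rcases hmm h1 with h2 | h2 | h2 | h2
      · exact absurd h2.2 h.z1
      · obtain ⟨t, ht, hmt⟩ := h2.2
        have hnt : InL z f (n * t) :=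
          h.mem_l.1 (mul_mem (h.mem_l.2 h.hn) (h.mem_l.2 ht))
        have h3 := k.conj_aux (g₀ := w * w₂) (u := v₂ * (v₁ * (s * n))) (mul_mem k.wm k.w2m)
          (mul_mem k.v2m (mul_mem k.v1m (mul_mem (k.Lm h.sL) (k.Lm h.nL)))) (by simp only [mul_assoc, one_mul, mul_one, h.xx, asc h.xx, h.zz, asc h.zz, h.ff, asc h.ff, h.v11, asc h.v11,
    h.v22, asc h.v22, h.ss, asc h.ss, h.bb, asc h.bb, h.ww, asc h.ww, h.w22, asc h.w22, h.nn, asc h.nn, h.w2x,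
    asc h.w2x, h.wx, asc h.wx, h.v2x, asc h.v2x, h.v1x, asc h.v1x, h.bx, asc h.bx, h.sx, asc h.sx, h.fx,
    asc h.fx, h.zx, asc h.zx, h.nx, asc h.nx, h.v2w2, asc h.v2w2, h.v1w2, asc h.v1w2, h.bw2, asc h.bw2, h.sw2,
    asc h.sw2, h.fw2, asc h.fw2, h.zw2, asc h.zw2, h.nw2, asc h.nw2, h.v2w, asc h.v2w, h.v1w, asc h.v1w, h.bw,
    asc h.bw, h.sw, asc h.sw, h.fw, asc h.fw, h.zw, asc h.zw, h.nw, asc h.nw, h.v1v2, asc h.v1v2, h.bv2,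
    asc h.bv2, h.sv2, asc h.sv2, h.fv2, asc h.fv2, h.zv2, asc h.zv2, h.nv2, asc h.nv2, h.bv1, asc h.bv1, h.sv1,
    asc h.sv1, h.fv1, asc h.fv1, h.zv1, asc h.zv1, h.nv1, asc h.nv1, h.sb, asc h.sb, h.fb, asc h.fb, h.zb,
    asc h.zb, h.nb, asc h.nb, h.fs, asc h.fs, h.zs, asc h.zs, h.ns, asc h.ns, h.zf, asc h.zf, h.nf, asc h.nf,
    h.nz, asc h.nz]) hnt
        have e : x * p = x * (v₂ * (v₁ * (s * n)) * (n * t)) := by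
          rw [hpu, hu, hmt]
          have e2 : n * (n * t) = t := by rw [← mul_assoc, h.nn, one_mul]
          simp only [mul_assoc, e2]
        rw [e]
        exact h3
      · exact absurd h2.symm h.fz1
      · exact absurd (mul_right_cancel ((one_mul z).trans h2)).symm h.f1
  · exfalso
    apply hno v₂
    rcases hu with hu | hu | hu | hu <;> rw [hpu, hu] <;>
    simp only [mul_assoc, one_mul, mul_one, h.xx, asc h.xx, h.zz, asc h.zz, h.ff, asc h.ff, h.v11, asc h.v11,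
    h.v22, asc h.v22, h.ss, asc h.ss, h.bb, asc h.bb, h.ww, asc h.ww, h.w22, asc h.w22, h.nn, asc h.nn, h.w2x,
    asc h.w2x, h.wx, asc h.wx, h.v2x, asc h.v2x, h.v1x, asc h.v1x, h.bx, asc h.bx, h.sx, asc h.sx, h.fx,
    asc h.fx, h.zx, asc h.zx, h.nx, asc h.nx, h.v2w2, asc h.v2w2, h.v1w2, asc h.v1w2, h.bw2, asc h.bw2, h.sw2,
    asc h.sw2, h.fw2, asc h.fw2, h.zw2, asc h.zw2, h.nw2, asc h.nw2, h.v2w, asc h.v2w, h.v1w, asc h.v1w, h.bw,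
    asc h.bw, h.sw, asc h.sw, h.fw, asc h.fw, h.zw, asc h.zw, h.nw, asc h.nw, h.v1v2, asc h.v1v2, h.bv2,
    asc h.bv2, h.sv2, asc h.sv2, h.fv2, asc h.fv2, h.zv2, asc h.zv2, h.nv2, asc h.nv2, h.bv1, asc h.bv1, h.sv1,
    asc h.sv1, h.fv1, asc h.fv1, h.zv1, asc h.zv1, h.nv1, asc h.nv1, h.sb, asc h.sb, h.fb, asc h.fb, h.zb,
    asc h.zb, h.nb, asc h.nb, h.fs, asc h.fs, h.zs, asc h.zs, h.ns, asc h.ns, h.zf, asc h.zf, h.nf, asc h.nf,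
    h.nz, asc h.nz, M.mw2, asc M.mw2, M.mw, asc M.mw, M.mv2, asc M.mv2, M.mv1, asc M.mv1, M.mb, asc M.mb, M.ms,
    asc M.ms, M.mf, asc M.mf, M.mz, asc M.mz, M.mn, asc M.mn, M.mm, asc M.mm, M'.mw2, asc M'.mw2, M'.mw,
    asc M'.mw, M'.mv2, asc M'.mv2, M'.mv1, asc M'.mv1, M'.mb, asc M'.mb, M'.ms, asc M'.ms, M'.mf, asc M'.mf,
    M'.mz, asc M'.mz, M'.mn, asc M'.mn, M'.mm, asc M'.mm, M0.mw2, asc M0.mw2, M0.mw, asc M0.mw, M0.mv2,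
    asc M0.mv2, M0.mv1, asc M0.mv1, M0.mb, asc M0.mb, M0.ms, asc M0.ms, M0.mf, asc M0.mf, M0.mz, asc M0.mz,
    M0.mn, asc M0.mn, M0.mm, asc M0.mm, k.ww2, asc k.ww2, hmx, asc hmx, hm0, asc hm0, hm0', asc hm0']
  · exfalso
    apply hno v₁
    rcases hu with hu | hu | hu | hu <;> rw [hpu, hu] <;>
    simp only [mul_assoc, one_mul, mul_one, h.xx, asc h.xx, h.zz, asc h.zz, h.ff, asc h.ff, h.v11, asc h.v11,
    h.v22, asc h.v22, h.ss, asc h.ss, h.bb, asc h.bb, h.ww, asc h.ww, h.w22, asc h.w22, h.nn, asc h.nn, h.w2x,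
    asc h.w2x, h.wx, asc h.wx, h.v2x, asc h.v2x, h.v1x, asc h.v1x, h.bx, asc h.bx, h.sx, asc h.sx, h.fx,
    asc h.fx, h.zx, asc h.zx, h.nx, asc h.nx, h.v2w2, asc h.v2w2, h.v1w2, asc h.v1w2, h.bw2, asc h.bw2, h.sw2,
    asc h.sw2, h.fw2, asc h.fw2, h.zw2, asc h.zw2, h.nw2, asc h.nw2, h.v2w, asc h.v2w, h.v1w, asc h.v1w, h.bw,
    asc h.bw, h.sw, asc h.sw, h.fw, asc h.fw, h.zw, asc h.zw, h.nw, asc h.nw, h.v1v2, asc h.v1v2, h.bv2,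
    asc h.bv2, h.sv2, asc h.sv2, h.fv2, asc h.fv2, h.zv2, asc h.zv2, h.nv2, asc h.nv2, h.bv1, asc h.bv1, h.sv1,
    asc h.sv1, h.fv1, asc h.fv1, h.zv1, asc h.zv1, h.nv1, asc h.nv1, h.sb, asc h.sb, h.fb, asc h.fb, h.zb,
    asc h.zb, h.nb, asc h.nb, h.fs, asc h.fs, h.zs, asc h.zs, h.ns, asc h.ns, h.zf, asc h.zf, h.nf, asc h.nf,
    h.nz, asc h.nz, M.mw2, asc M.mw2, M.mw, asc M.mw, M.mv2, asc M.mv2, M.mv1, asc M.mv1, M.mb, asc M.mb, M.ms,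
    asc M.ms, M.mf, asc M.mf, M.mz, asc M.mz, M.mn, asc M.mn, M.mm, asc M.mm, M'.mw2, asc M'.mw2, M'.mw,
    asc M'.mw, M'.mv2, asc M'.mv2, M'.mv1, asc M'.mv1, M'.mb, asc M'.mb, M'.ms, asc M'.ms, M'.mf, asc M'.mf,
    M'.mz, asc M'.mz, M'.mn, asc M'.mn, M'.mm, asc M'.mm, M0.mw2, asc M0.mw2, M0.mw, asc M0.mw, M0.mv2,
    asc M0.mv2, M0.mv1, asc M0.mv1, M0.mb, asc M0.mb, M0.ms, asc M0.ms, M0.mf, asc M0.mf, M0.mz, asc M0.mz,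
    M0.mn, asc M0.mn, M0.mm, asc M0.mm, k.ww2, asc k.ww2, hmx, asc hmx, hm0, asc hm0, hm0', asc hm0']
  · exfalso
    apply hno v₁
    rcases hu with hu | hu | hu | hu <;> rw [hpu, hu] <;>
    simp only [mul_assoc, one_mul, mul_one, h.xx, asc h.xx, h.zz, asc h.zz, h.ff, asc h.ff, h.v11, asc h.v11,
    h.v22, asc h.v22, h.ss, asc h.ss, h.bb, asc h.bb, h.ww, asc h.ww, h.w22, asc h.w22, h.nn, asc h.nn, h.w2x,
    asc h.w2x, h.wx, asc h.wx, h.v2x, asc h.v2x, h.v1x, asc h.v1x, h.bx, asc h.bx, h.sx, asc h.sx, h.fx,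
    asc h.fx, h.zx, asc h.zx, h.nx, asc h.nx, h.v2w2, asc h.v2w2, h.v1w2, asc h.v1w2, h.bw2, asc h.bw2, h.sw2,
    asc h.sw2, h.fw2, asc h.fw2, h.zw2, asc h.zw2, h.nw2, asc h.nw2, h.v2w, asc h.v2w, h.v1w, asc h.v1w, h.bw,
    asc h.bw, h.sw, asc h.sw, h.fw, asc h.fw, h.zw, asc h.zw, h.nw, asc h.nw, h.v1v2, asc h.v1v2, h.bv2,
    asc h.bv2, h.sv2, asc h.sv2, h.fv2, asc h.fv2, h.zv2, asc h.zv2, h.nv2, asc h.nv2, h.bv1, asc h.bv1, h.sv1,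
    asc h.sv1, h.fv1, asc h.fv1, h.zv1, asc h.zv1, h.nv1, asc h.nv1, h.sb, asc h.sb, h.fb, asc h.fb, h.zb,
    asc h.zb, h.nb, asc h.nb, h.fs, asc h.fs, h.zs, asc h.zs, h.ns, asc h.ns, h.zf, asc h.zf, h.nf, asc h.nf,
    h.nz, asc h.nz, M.mw2, asc M.mw2, M.mw, asc M.mw, M.mv2, asc M.mv2, M.mv1, asc M.mv1, M.mb, asc M.mb, M.ms,
    asc M.ms, M.mf, asc M.mf, M.mz, asc M.mz, M.mn, asc M.mn, M.mm, asc M.mm, M'.mw2, asc M'.mw2, M'.mw,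
    asc M'.mw, M'.mv2, asc M'.mv2, M'.mv1, asc M'.mv1, M'.mb, asc M'.mb, M'.ms, asc M'.ms, M'.mf, asc M'.mf,
    M'.mz, asc M'.mz, M'.mn, asc M'.mn, M'.mm, asc M'.mm, M0.mw2, asc M0.mw2, M0.mw, asc M0.mw, M0.mv2,
    asc M0.mv2, M0.mv1, asc M0.mv1, M0.mb, asc M0.mb, M0.ms, asc M0.ms, M0.mf, asc M0.mf, M0.mz, asc M0.mz,
    M0.mn, asc M0.mn, M0.mm, asc M0.mm, k.ww2, asc k.ww2, hmx, asc hmx, hm0, asc hm0, hm0', asc hm0']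

end B2

end Cfsg.Agent.OddHalf.D5.SixAut.Zero
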