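import Cfsg.Agent.OddHalf.D5.SixAut.ZeroP

/-!
# ODD half, `K = A₆`, C3b, (DBL), `e = 0`: the element `r` and the construction of `Base`
-/

set_option autoImplicit false
set_option linter.unusedSimpArgs false
set_option linter.unusedVariables false

namespace Cfsg.Agent.OddHalf.D5.SixAut.Zero

open Subgroup

variable {G : Type*} [Group G] {x z f v₁ v₂ s₀ s b w w₂ n m₀ r r₀ g n₀ : G} {T : Subgroup G}

/-- the action of `r` -/
structure RR (x z f v₁ v₂ s b r n g : G) : Prop where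
  xr : x * r = r * x
  zr : z * r = r * z
  fr : f * r = r * (f * z)
  v1r : v₁ * r = r * v₂
  v2r : v₂ * r = r * (v₁ * z)
  sr : s * r = r * (s * n)
  br : b * r = r * (b * (s * g))

theorem cjr {r A A' B B' : G} (h : A' = B') (hA : A' * r = r * A) (hB : B' * r = r * B) : A = B := by
  apply mul_left_cancel (a := r)
  rw [← hA, ← hB, h]

theorem inl_comm {t q : G} (ht : InL z f t) (hz : z * q = q * z) (hf : f * q = q * f) : t * q = q * t := by
  rcases ht with ht | ht | ht | ht <;> rw [ht]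
  · rw [one_mul, mul_one]
  · exact hz
  · exact hf
  · rw [mul_assoc, hz, ← mul_assoc, hf, mul_assoc]

theorem inl_sq {t : G} (ht : InL z f t) (zz : z * z = 1) (ff : f * f = 1) (hz : z * f = f * z) : t * t = 1 := by
  rcases ht with ht | ht | ht | ht <;> rw [ht]
  · rw [one_mul]
  · exact zz
  · exact ff
  · rw [mul_assoc, ← mul_assoc z, hz, mul_assoc f, zz, mul_one, ff]

/-- `v₂^r = v₁ z` -/
theorem v2r_of (h : DblZero x z f v₁ v₂ s₀ b w r T) : v₂ * r = r * (v₁ * z) := by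
  apply mul_left_cancel (a := r)
  have h1 : r * (v₂ * r) = v₁ * (r * r) := by rw [← mul_assoc, ← h.v₁r, mul_assoc]
  have hv : v₁ * (v₁ * v₂) = v₁ * v₂ * (v₁ * z) := by
    have e := h.v₂v₁
    calc v₁ * (v₁ * v₂) = v₁ * (v₁ * v₂ * z * z) := by rw [mul_assoc _ z z, h.zz, mul_one]
      _ = v₁ * (v₂ * v₁ * z) := by rw [e]
      _ = v₁ * v₂ * (v₁ * z) := by simp only [mul_assoc]
  rw [h1, ← mul_assoc r r]
  rcases h.eps with ⟨h2, -⟩ | ⟨h2, -⟩ <;> rw [h2]
  · exact hv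
  · have hx : x * (v₁ * z) = v₁ * z * x := by rw [← mul_assoc, h.xv₁, mul_assoc, h.xz, mul_assoc]
    rw [← mul_assoc, hv, mul_assoc _ x, hx]
    simp only [mul_assoc]

theorem base_of (h : DblZero x z f v₁ v₂ s₀ b w r₀ T) (hs : s = s₀ * n₀) (hn0 : InL z f n₀)
    (hv : v₂ * w * v₂ = w * s) (R : RR x z f v₁ v₂ s b r n g) (hn : InL z f n) (hg : InL z f g)
    (hw : w * r = r * w₂) : Base x z f v₁ v₂ s b w w₂ n := by
  have zn0 : ∀ {q : G}, z * q = q * z → f * q = q * f → n₀ * q = q * n₀ := fun h1 h2 => inl_comm hn0 h1 h2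
  have hzf := h.zf
  have zs : z * s = s * z := by
    rw [hs, ← mul_assoc, h.zs, mul_assoc, ← zn0 rfl hzf.symm, mul_assoc]
  have fs : f * s = s * f := by
    rw [hs, ← mul_assoc, h.fs, mul_assoc, ← zn0 hzf rfl, mul_assoc]
  have scm : ∀ {q : G}, s₀ * q = q * s₀ → z * q = q * z → f * q = q * f → s * q = q * s := by
    intro q h1 h2 h3
    rw [hs, mul_assoc, zn0 h2 h3, ← mul_assoc, h1, mul_assoc]
  have ss : s * s = 1 := by
    have e : n₀ * s₀ = s₀ * n₀ := zn0 h.zs h.fs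
    calc s * s = s₀ * (n₀ * s₀) * n₀ := by rw [hs]; simp only [mul_assoc]
      _ = s₀ * s₀ * (n₀ * n₀) := by rw [e]; simp only [mul_assoc]
      _ = 1 := by rw [h.ss, inl_sq hn0 h.zz h.ff h.zf, one_mul]
  have sx : s * x = x * (s * z) := by
    have e1 : n₀ * x = x * n₀ := zn0 h.xz.symm h.xf.symm
    have e2 : s₀ * x = x * (s₀ * z) := by
      have e3 := h.xs
      calc s₀ * x = s₀ * (x * z) * z := by rw [mul_assoc, mul_assoc x, h.zz, mul_one]
        _ = x * (s₀ * z) := by rw [← e3, mul_assoc]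
    rw [hs, mul_assoc, e1, ← mul_assoc, e2]
    simp only [mul_assoc]
    rw [zn0 rfl hzf.symm]
  have bx : b * x = x * (b * f) := by
    have e3 := h.xb
    calc b * x = b * (x * f) * f := by rw [mul_assoc, mul_assoc x, h.ff, mul_one]
      _ = x * (b * f) := by rw [← e3, mul_assoc]
  have wx : w * x = x * (w * v₁) := by
    have e3 := h.xw
    calc w * x = w * (x * v₁) * v₁ := by rw [mul_assoc, mul_assoc x, h.v11, mul_one]
      _ = x * (w * v₁) := by rw [← e3, mul_assoc]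
  have v1v2 : v₁ * v₂ = v₂ * (v₁ * z) := by
    have e3 := h.v₂v₁
    rw [← mul_assoc, e3, mul_assoc, h.zz, mul_one]
  have v2w : v₂ * w = w * (v₂ * s) := by
    have e1 : s * v₂ = v₂ * s := scm h.v₂s.symm h.zv₂ h.fv₂
    rw [← e1, ← mul_assoc, ← hv, mul_assoc, h.v22, mul_one]
  -- the relations of `w₂`
  have cc : ∀ {q q' : G}, w * q = q * w → q * r = r * q' → w₂ * q' = q' * w₂ := by
    intro q q' h1 h2
    apply cjr h1
    · rw [mul_assoc, h2, ← mul_assoc, hw, mul_assoc]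
    · rw [mul_assoc, hw, ← mul_assoc, h2, mul_assoc]
  have cz : Commute w₂ z := cc h.zw.symm R.zr
  have cfz : Commute w₂ (f * z) := cc h.fw.symm R.fr
  have cf : Commute w₂ f := by
    have h1 := cfz.mul_right cz
    rwa [mul_assoc, h.zz, mul_one] at h1
  have cl : ∀ {t : G}, InL z f t → Commute w₂ t := by
    intro t ht
    exact (inl_comm ht cz.symm cf.symm).symm
  have hsw : s * w = w * s := scm h.sw h.zw h.fw
  have cs : Commute w₂ s := by
    have h1 : Commute w₂ (s * n) := cc hsw.symm R.sr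
    have h2 := h1.mul_right (cl hn)
    rwa [mul_assoc, inl_sq hn h.zz h.ff h.zf, mul_one] at h2
  have cb : Commute w₂ b := by
    have h1 : Commute w₂ (b * (s * g)) := cc h.bw.symm R.br
    have h2 := (h1.mul_right (cl hg)).mul_right cs
    have h3 : b * (s * g) * g * s = b := by
      rw [mul_assoc (b * (s * g)), mul_assoc b, mul_assoc s g, ← mul_assoc g g,
        inl_sq hg h.zz h.ff h.zf, one_mul, ss, mul_one]
    rwa [h3] at h2
  have w22 : w₂ * w₂ = 1 := by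
    apply cjr h.ww
    · rw [mul_assoc, hw, ← mul_assoc, hw, mul_assoc]
    · rw [one_mul, mul_one]
  have cv2 : Commute w₂ v₂ := cc h.v₁w.symm R.v1r
  have w2x : w₂ * x = x * (w₂ * v₂) := by
    apply cjr wx
    · rw [mul_assoc, R.xr, ← mul_assoc, hw, mul_assoc]
    · rw [mul_assoc, mul_assoc, R.v1r, ← mul_assoc w, hw, mul_assoc, ← mul_assoc x, R.xr, mul_assoc]
  have v1w2 : v₁ * w₂ = w₂ * (v₁ * (s * n)) := by
    have e : v₂ * (z * w) = w * (v₂ * (z * s)) := by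
      rw [h.zw, ← mul_assoc, v2w, mul_assoc, mul_assoc, zs]
    apply cjr e
    · rw [mul_assoc, mul_assoc, hw, ← mul_assoc z, R.zr, mul_assoc, ← mul_assoc v₂, R.v2r]
      simp only [mul_assoc]
      rw [← mul_assoc z z, h.zz, one_mul]
    · rw [mul_assoc, mul_assoc, mul_assoc, R.sr, ← mul_assoc z, R.zr, mul_assoc, ← mul_assoc v₂, R.v2r,
        mul_assoc, ← mul_assoc w, hw, mul_assoc]
      simp only [mul_assoc]
      rw [← mul_assoc z z, h.zz, one_mul]
  have nc : ∀ {q : G}, z * q = q * z → f * q = q * f → n * q = q * n := fun h1 h2 => inl_comm hn h1 h2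
  exact {
    z1 := h.z1, f1 := h.f1, fz1 := h.fz1, hn := hn, xx := h.xx, zz := h.zz, ff := h.ff, v11 := h.v11
    v22 := h.v22, ss := ss, bb := h.bb, ww := h.ww, w22 := w22, nn := inl_sq hn h.zz h.ff h.zf
    w2x := w2x, wx := wx, v2x := h.xv₂.symm, v1x := h.xv₁.symm, bx := bx, sx := sx, fx := h.xf.symm
    zx := h.xz.symm, nx := nc h.xz.symm h.xf.symm
    v2w2 := cv2.symm, v1w2 := v1w2, bw2 := cb.symm, sw2 := cs.symm, fw2 := cf.symm, zw2 := cz.symm
    nw2 := (cl hn).symm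
    v2w := v2w, v1w := h.v₁w, bw := h.bw, sw := hsw, fw := h.fw, zw := h.zw, nw := nc h.zw h.fw
    v1v2 := v1v2, bv2 := h.v₂b.symm, sv2 := scm h.v₂s.symm h.zv₂ h.fv₂, fv2 := h.fv₂, zv2 := h.zv₂
    nv2 := nc h.zv₂ h.fv₂
    bv1 := h.v₁b.symm, sv1 := scm h.v₁s.symm h.zv₁ h.fv₁, fv1 := h.fv₁, zv1 := h.zv₁, nv1 := nc h.zv₁ h.fv₁
    sb := scm h.sb h.zb h.fb, fb := h.fb, zb := h.zb, nb := nc h.zb h.fb, fs := fs, zs := zs
    ns := nc zs fs, zf := h.zf, nf := nc h.zf rfl, nz := nc rfl h.zf.symm, cent := h.cent }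

/-- `|C(x) : C_H(x)|` is odd if `T ≤ H`. -/
theorem odd_index [Finite G] (h : Dbl x z f v₁ v₂ s₀ b r T) {H : Subgroup G} (hTH : T ≤ H) :
    Odd (H.subgroupOf (centralizer ({x} : Set G))).index := by
  set C := centralizer ({x} : Set G) with hC
  have hTC : T ≤ C := fun t ht => by
    rw [hC, mem_centralizer_singleton_iff]; exact h.Tx t ht
  have hp : Fact (Nat.Prime 2) := ⟨Nat.prime_two⟩
  have hT' : IsPGroup 2 (T.subgroupOf C) := h.pT.of_equiv (subgroupOfEquivOfLe hTC).symm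
  obtain ⟨S, hS⟩ := hT'.exists_le_sylow
  have hS2 : IsPGroup 2 ((S : Subgroup C).map C.subtype) := S.2.map _
  obtain ⟨c, hc, hcT⟩ := h.syl _ hS2 (by
    rintro _ ⟨y, -, rfl⟩
    exact (mem_centralizer_singleton_iff.1 y.2))
  have hcard : Nat.card (S : Subgroup C) ≤ Nat.card (T.subgroupOf C) := by
    rw [Nat.card_congr (subgroupOfEquivOfLe hTC).toEquiv]
    let φ : ↥(S : Subgroup C) → T := fun y => ⟨c * (y : C) * c⁻¹, hcT _ ⟨y, y.2, rfl⟩⟩
    apply Nat.card_le_card_of_injective φ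
    intro y y' e
    have e1 : c * ((y : C) : G) * c⁻¹ = c * ((y' : C) : G) * c⁻¹ := congrArg Subtype.val e
    have e2 := mul_left_cancel (mul_right_cancel e1)
    exact Subtype.ext (Subtype.ext e2)
  have hSe : T.subgroupOf C = S := Subgroup.eq_of_le_of_card_ge hS hcard
  have h1 : ¬ 2 ∣ (T.subgroupOf C).index := by
    rw [hSe]; exact S.not_dvd_index
  have h2 : T.subgroupOf C ≤ H.subgroupOf C := fun y hy => hTH hy
  rw [← Nat.not_even_iff_odd, even_iff_two_dvd]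
  exact fun h3 => h1 (h3.trans (index_dvd_of_le h2))

namespace B2

variable (k : B2 x z f v₁ v₂ s b w w₂ n m₀)

theorem conj_L {q : G} {Q : Subgroup G} (hz : q⁻¹ * z * q ∈ Q) (hf : q⁻¹ * f * q ∈ Q)
    (hs : q⁻¹ * s * q ∈ Q) (hb : q⁻¹ * b * q ∈ Q) : ∀ m ∈ k.h.L, q⁻¹ * m * q ∈ Q := by
  intro m hm
  obtain ⟨t, ht, hm⟩ := k.h.mem_L.1 hm
  have h1 : q⁻¹ * t * q ∈ Q := by
    rcases ht with ht | ht | ht | ht <;> rw [ht]
    · rw [mul_one, inv_mul_cancel]; exact one_mem _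
    · exact hz
    · exact hf
    · have : q⁻¹ * (f * z) * q = (q⁻¹ * f * q) * (q⁻¹ * z * q) := by group
      rw [this]; exact mul_mem hf hz
  have h2 : q⁻¹ * (s * t) * q ∈ Q := by
    have : q⁻¹ * (s * t) * q = (q⁻¹ * s * q) * (q⁻¹ * t * q) := by group
    rw [this]; exact mul_mem hs h1
  rcases hm with hm | hm | hm | hm <;> rw [hm]
  · exact h1
  · exact h2
  · have : q⁻¹ * (b * t) * q = (q⁻¹ * b * q) * (q⁻¹ * t * q) := by group
    rw [this]; exact mul_mem hb h1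
  · have : q⁻¹ * (b * (s * t)) * q = (q⁻¹ * b * q) * (q⁻¹ * (s * t) * q) := by group
    rw [this]; exact mul_mem hb h2

theorem conj_x : ∀ p ∈ k.P, x⁻¹ * p * x ∈ k.P := by
  have h := k.h
  apply k.conj_P
  · apply k.conj_L
    · rw [cj_of h.zx]; exact k.Lm h.zL
    · rw [cj_of h.fx]; exact k.Lm h.fL
    · rw [cj_of h.sx]; exact k.Lm (mul_mem h.sL h.zL)
    · rw [cj_of h.bx]; exact k.Lm (mul_mem h.bL h.fL)
  · rw [cj_of h.v1x]; exact k.v1m
  · rw [cj_of h.v2x]; exact k.v2m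
  · rw [cj_of h.wx]; exact mul_mem k.wm k.v1m
  · rw [cj_of h.w2x]; exact mul_mem k.w2m k.v2m

include k in
theorem xinv : x⁻¹ = x := inv_eq_of_mul_eq_one_right k.h.xx

theorem conj_x' : ∀ p ∈ k.P, x * p * x⁻¹ ∈ k.P := by
  intro p hp
  have h1 := k.conj_x p hp
  rw [k.xinv] at h1 ⊢
  exact h1

variable (R : RR x z f v₁ v₂ s b r n g) (hg : InL z f g) (hw : w * r = r * w₂)

include R hg in
theorem conj_rL : ∀ m ∈ k.h.L, r⁻¹ * m * r ∈ k.h.L := by
  have h := k.h
  apply k.conj_L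
  · rw [cj_of R.zr]; exact h.zL
  · rw [cj_of R.fr]; exact mul_mem h.fL h.zL
  · rw [cj_of R.sr]; exact mul_mem h.sL h.nL
  · rw [cj_of R.br]; exact mul_mem h.bL (mul_mem h.sL (h.l_le (h.mem_l.2 hg)))

include R hg hw in
theorem conj_r (hw2 : r⁻¹ * w₂ * r ∈ k.P) : ∀ p ∈ k.P, r⁻¹ * p * r ∈ k.P := by
  have h := k.h
  apply k.conj_P
  · exact fun m hm => k.Lm (k.conj_rL R hg m hm)
  · rw [cj_of R.v1r]; exact k.v2m
  · rw [cj_of R.v2r]; exact mul_mem k.v1m (k.Lm h.zL)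
  · rw [cj_of hw]; exact k.w2m
  · exact hw2

end B2

end Cfsg.Agent.OddHalf.D5.SixAut.Zero
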