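import Cfsg.Agent.OddHalf.D5.SixAut.ZeroEpsOne

/-!
# ODD half, `K = A₆`, C3b, (DBL), `e = 0`, `r² = v₁ v₂`
-/

set_option autoImplicit false
set_option linter.unusedSimpArgs false
set_option linter.unusedVariables false

namespace Cfsg.Agent.OddHalf.D5.SixAut.Zero

open Subgroup

variable {G : Type*} [Group G] {x z f v₁ v₂ s₀ s b w w₂ m₀ r r₀ g n₀ : G} {T : Subgroup G}

namespace B2

variable (k : B2 x z f v₁ v₂ s b w w₂ 1 m₀) (R : RR x z f v₁ v₂ s b r 1 g)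
  (hg : g = 1 ∨ g = z) (hrr : r * r = v₁ * v₂) (hw : w * r = r * w₂)

include k R hrr hw in
/-- `w₂^r = w s` -/
theorem w2r : w₂ * r = r * (w * s) := by
  have h := k.h
  apply mul_left_cancel (a := r)
  have e1 : r * (w₂ * r) = w * (r * r) := by rw [← mul_assoc, ← hw, mul_assoc]
  rw [e1, ← mul_assoc r r, hrr]
  simp only [mul_assoc, one_mul, mul_one, h.xx, asc h.xx, h.zz, asc h.zz, h.ff, asc h.ff, h.v11, asc h.v11,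
    h.v22, asc h.v22, h.ss, asc h.ss, h.bb, asc h.bb, h.ww, asc h.ww, h.w22, asc h.w22, h.w2x, asc h.w2x, h.wx,
    asc h.wx, h.v2x, asc h.v2x, h.v1x, asc h.v1x, h.bx, asc h.bx, h.sx, asc h.sx, h.fx, asc h.fx, h.zx,
    asc h.zx, h.v2w2, asc h.v2w2, h.v1w2, asc h.v1w2, h.bw2, asc h.bw2, h.sw2, asc h.sw2, h.fw2, asc h.fw2,
    h.zw2, asc h.zw2, h.v2w, asc h.v2w, h.v1w, asc h.v1w, h.bw, asc h.bw, h.sw, asc h.sw, h.fw, asc h.fw, h.zw,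
    asc h.zw, h.v1v2, asc h.v1v2, h.bv2, asc h.bv2, h.sv2, asc h.sv2, h.fv2, asc h.fv2, h.zv2, asc h.zv2,
    h.bv1, asc h.bv1, h.sv1, asc h.sv1, h.fv1, asc h.fv1, h.zv1, asc h.zv1, h.sb, asc h.sb, h.fb, asc h.fb,
    h.zb, asc h.zb, h.fs, asc h.fs, h.zs, asc h.zs, h.zf, asc h.zf]

include k R hrr hw in
theorem m0_eq : m₀ = s ∨ m₀ = s * z := by
  have h := k.h
  have M := h.mr k.m0
  obtain ⟨m', hm', hmx, hcase⟩ := k.exists_x k.m0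
  have hm2 : m' = m₀ * z := by
    have M' := h.mr hm'
    have e1 : w * (w₂ * x) = x * (w * (w₂ * (v₂ * (v₁ * (s * z))))) := by
      simp only [mul_assoc, one_mul, mul_one, h.xx, asc h.xx, h.zz, asc h.zz, h.ff, asc h.ff, h.v11, asc h.v11,
    h.v22, asc h.v22, h.ss, asc h.ss, h.bb, asc h.bb, h.ww, asc h.ww, h.w22, asc h.w22, h.w2x, asc h.w2x, h.wx,
    asc h.wx, h.v2x, asc h.v2x, h.v1x, asc h.v1x, h.bx, asc h.bx, h.sx, asc h.sx, h.fx, asc h.fx, h.zx,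
    asc h.zx, h.v2w2, asc h.v2w2, h.v1w2, asc h.v1w2, h.bw2, asc h.bw2, h.sw2, asc h.sw2, h.fw2, asc h.fw2,
    h.zw2, asc h.zw2, h.v2w, asc h.v2w, h.v1w, asc h.v1w, h.bw, asc h.bw, h.sw, asc h.sw, h.fw, asc h.fw, h.zw,
    asc h.zw, h.v1v2, asc h.v1v2, h.bv2, asc h.bv2, h.sv2, asc h.sv2, h.fv2, asc h.fv2, h.zv2, asc h.zv2,
    h.bv1, asc h.bv1, h.sv1, asc h.sv1, h.fv1, asc h.fv1, h.zv1, asc h.zv1, h.sb, asc h.sb, h.fb, asc h.fb,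
    h.zb, asc h.zb, h.fs, asc h.fs, h.zs, asc h.zs, h.zf, asc h.zf]
    have e2 : w₂ * (w * (x * m')) = x * (w₂ * (w * (v₂ * (v₁ * (s * m'))))) := by
      simp only [mul_assoc, one_mul, mul_one, h.xx, asc h.xx, h.zz, asc h.zz, h.ff, asc h.ff, h.v11, asc h.v11,
    h.v22, asc h.v22, h.ss, asc h.ss, h.bb, asc h.bb, h.ww, asc h.ww, h.w22, asc h.w22, h.w2x, asc h.w2x, h.wx,
    asc h.wx, h.v2x, asc h.v2x, h.v1x, asc h.v1x, h.bx, asc h.bx, h.sx, asc h.sx, h.fx, asc h.fx, h.zx,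
    asc h.zx, h.v2w2, asc h.v2w2, h.v1w2, asc h.v1w2, h.bw2, asc h.bw2, h.sw2, asc h.sw2, h.fw2, asc h.fw2,
    h.zw2, asc h.zw2, h.v2w, asc h.v2w, h.v1w, asc h.v1w, h.bw, asc h.bw, h.sw, asc h.sw, h.fw, asc h.fw, h.zw,
    asc h.zw, h.v1v2, asc h.v1v2, h.bv2, asc h.bv2, h.sv2, asc h.sv2, h.fv2, asc h.fv2, h.zv2, asc h.zv2,
    h.bv1, asc h.bv1, h.sv1, asc h.sv1, h.fv1, asc h.fv1, h.zv1, asc h.zv1, h.sb, asc h.sb, h.fb, asc h.fb,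
    h.zb, asc h.zb, h.fs, asc h.fs, h.zs, asc h.zs, h.zf, asc h.zf]
    have e3 : w * (w₂ * x) = w₂ * (w * (x * m')) := by
      rw [← mul_assoc, k.ww2, mul_assoc, mul_assoc, hmx]
    have e4 : x * (w * (w₂ * (v₂ * (v₁ * (s * z))))) = x * (w₂ * (w * (v₂ * (v₁ * (s * (m₀ * z)))))) := by
      have e5 : w * (w₂ * (v₂ * (v₁ * (s * z)))) = w₂ * (w * (m₀ * (v₂ * (v₁ * (s * z))))) := by
        rw [← mul_assoc, k.ww2]; simp only [mul_assoc]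
      rw [e5]
      simp only [mul_assoc, M.mv2, asc M.mv2, M.mv1, asc M.mv1, M.ms, asc M.ms]
    rw [← e1, e3, e2] at e4
    exact mul_left_cancel (mul_left_cancel (mul_left_cancel (mul_left_cancel (mul_left_cancel
      (mul_left_cancel e4)))))
  have hst : ∃ t, InL z f t ∧ m₀ = s * t := by
    rcases hcase with ⟨h1, h2⟩ | ⟨h1, h2⟩ | h1 | h1
    · exact absurd (mul_eq_left.mp (hm2.symm.trans h2)) h.z1
    · exact h2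
    · exact absurd (mul_left_cancel (h1.symm.trans hm2)) h.fz1
    · have h2 : f * z = z := mul_left_cancel (h1.symm.trans hm2)
      exact absurd (mul_eq_right.mp h2) h.f1
  -- `m₀^r = m₀`
  have hm0r : ∀ m, m ∈ h.L → m₀ * r = r * m → m₀ * m = 1 := by
    intro m hm hmr
    have M1 := h.mr hm
    have hw2 := k.w2r R hrr hw
    have e1 : w * (w₂ * r) = r * (w₂ * (w * s)) := by
      rw [hw2, ← mul_assoc, hw, mul_assoc]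
    have e2 : w * (w₂ * r) = r * (w * (w₂ * (s * m))) := by
      rw [← mul_assoc, k.ww2, mul_assoc, mul_assoc, hmr, ← mul_assoc w, hw, mul_assoc, ← mul_assoc w₂, hw2]
      simp only [mul_assoc]
      rw [← mul_assoc s, h.sw2, mul_assoc]
    have e3 : w * (w₂ * (s * m)) = w₂ * (w * (s * (m₀ * m))) := by
      rw [← mul_assoc, k.ww2]
      simp only [mul_assoc]
      rw [← mul_assoc m₀ s, M.ms, mul_assoc]
    rw [e1, e3] at e2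
    have e4 := mul_left_cancel (mul_left_cancel (mul_left_cancel e2))
    exact mul_eq_left.mp e4.symm
  obtain ⟨t, ht, hmt⟩ := hst
  rcases ht with ht | ht | ht | ht
  · left; rw [hmt, ht, mul_one]
  · right; rw [hmt, ht]
  · exfalso
    have h1 := hm0r (s * (f * z)) (mul_mem h.sL (mul_mem h.fL h.zL)) (by
      rw [hmt, ht, mul_assoc, R.fr, ← mul_assoc, R.sr]; simp only [mul_assoc, one_mul])
    rw [hmt, ht] at h1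
    have h2 : s * f * (s * (f * z)) = z := by
      simp only [mul_assoc, one_mul, mul_one, h.xx, asc h.xx, h.zz, asc h.zz, h.ff, asc h.ff, h.v11, asc h.v11,
    h.v22, asc h.v22, h.ss, asc h.ss, h.bb, asc h.bb, h.ww, asc h.ww, h.w22, asc h.w22, h.w2x, asc h.w2x, h.wx,
    asc h.wx, h.v2x, asc h.v2x, h.v1x, asc h.v1x, h.bx, asc h.bx, h.sx, asc h.sx, h.fx, asc h.fx, h.zx,
    asc h.zx, h.v2w2, asc h.v2w2, h.v1w2, asc h.v1w2, h.bw2, asc h.bw2, h.sw2, asc h.sw2, h.fw2, asc h.fw2,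
    h.zw2, asc h.zw2, h.v2w, asc h.v2w, h.v1w, asc h.v1w, h.bw, asc h.bw, h.sw, asc h.sw, h.fw, asc h.fw, h.zw,
    asc h.zw, h.v1v2, asc h.v1v2, h.bv2, asc h.bv2, h.sv2, asc h.sv2, h.fv2, asc h.fv2, h.zv2, asc h.zv2,
    h.bv1, asc h.bv1, h.sv1, asc h.sv1, h.fv1, asc h.fv1, h.zv1, asc h.zv1, h.sb, asc h.sb, h.fb, asc h.fb,
    h.zb, asc h.zb, h.fs, asc h.fs, h.zs, asc h.zs, h.zf, asc h.zf]
    exact h.z1 (h2.symm.trans h1)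
  · exfalso
    have h1 := hm0r (s * f) (mul_mem h.sL h.fL) (by
      rw [hmt, ht, mul_assoc, mul_assoc, R.zr, ← mul_assoc f, R.fr, ← mul_assoc s, ← mul_assoc s, R.sr]
      simp only [mul_assoc, one_mul, h.zz, mul_one])
    rw [hmt, ht] at h1
    have h2 : s * (f * z) * (s * f) = z := by
      simp only [mul_assoc, one_mul, mul_one, h.xx, asc h.xx, h.zz, asc h.zz, h.ff, asc h.ff, h.v11, asc h.v11,
    h.v22, asc h.v22, h.ss, asc h.ss, h.bb, asc h.bb, h.ww, asc h.ww, h.w22, asc h.w22, h.w2x, asc h.w2x, h.wx,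
    asc h.wx, h.v2x, asc h.v2x, h.v1x, asc h.v1x, h.bx, asc h.bx, h.sx, asc h.sx, h.fx, asc h.fx, h.zx,
    asc h.zx, h.v2w2, asc h.v2w2, h.v1w2, asc h.v1w2, h.bw2, asc h.bw2, h.sw2, asc h.sw2, h.fw2, asc h.fw2,
    h.zw2, asc h.zw2, h.v2w, asc h.v2w, h.v1w, asc h.v1w, h.bw, asc h.bw, h.sw, asc h.sw, h.fw, asc h.fw, h.zw,
    asc h.zw, h.v1v2, asc h.v1v2, h.bv2, asc h.bv2, h.sv2, asc h.sv2, h.fv2, asc h.fv2, h.zv2, asc h.zv2,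
    h.bv1, asc h.bv1, h.sv1, asc h.sv1, h.fv1, asc h.fv1, h.zv1, asc h.zv1, h.sb, asc h.sb, h.fb, asc h.fb,
    h.zb, asc h.zb, h.fs, asc h.fs, h.zs, asc h.zs, h.zf, asc h.zf]
    exact h.z1 (h2.symm.trans h1)

include R hg in
theorem exists_r {m : G} (hm : m ∈ k.h.L) : ∃ m' ∈ k.h.L, m * r = r * m' := by
  have hgl : InL z f g := by
    rcases hg with hg | hg
    · exact Or.inl hg
    · exact Or.inr (Or.inl hg)
  exact ⟨r⁻¹ * m * r, k.conj_rL R hgl m hm, by group⟩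

set_option maxHeartbeats 4000000 in
include R hg hrr hw in
/-- (S3) -/
theorem s3 {p : G} (hp : p ∈ k.P) (hy : r * p * (r * p) = 1) :
    ∃ e₁ ∈ k.P, ∃ e₂ ∈ k.P, e₁ * (r * p) = r * p * e₁ ∧ e₂ * (r * p) = r * p * e₂ ∧
      e₁ * e₁ = z ∧ e₂ * e₂ = m₀ := by
  have h := k.h
  obtain ⟨m, hm, u, hu, hpu⟩ := k.form hp
  obtain ⟨m', hm', hmr⟩ := k.exists_r R hg hm
  have M := h.mr hm
  have M' := h.mr hm'
  have M0 := h.mr k.m0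
  have hm0 : m * m₀ = m₀ * m := k.comm_LL hm k.m0
  have hm0' : m' * m₀ = m₀ * m' := k.comm_LL hm' k.m0
  have hw2 := k.w2r R hrr hw
  have hm0s := k.m0_eq R hrr hw
  have hm0r : m₀ * r = r * m₀ := by
    rcases hm0s with e | e <;> rw [e]
    · rw [R.sr, mul_one]
    · rw [mul_assoc, R.zr, ← mul_assoc, R.sr, mul_one, mul_assoc]
  have hs1 : s ≠ 1 := h.s_ne
  have hsz : s * z ≠ 1 := by
    intro e
    have e1 : s = z := by rw [← mul_one s, ← h.zz, ← mul_assoc, e, one_mul]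
    have e2 := h.sx
    rw [e1, h.zz, mul_one, h.zx] at e2
    exact h.z1 (mul_eq_left.mp e2)
  have hno : ∀ v e, e ≠ 1 → v * (r * p * (r * p)) = r * p * (r * p) * (v * e) → False := by
    intro v e he hv
    rw [hy, mul_one, one_mul] at hv
    exact he (mul_eq_left.mp hv.symm)
  -- the remaining forms
  have main : (∃ u', (u' = v₁ * m ∨ u' = v₂ * m) ∧ (p = u' ∨ p = w₂ * (w * u'))) := by
    rcases hpu with hpu | hpu | hpu | hpu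
    · rcases hu with hu | hu | hu | hu
      · exfalso
        apply hno v₁ z h.z1
        rw [hpu, hu]
        simp only [mul_assoc, one_mul, mul_one, h.xx, asc h.xx, h.zz, asc h.zz, h.ff, asc h.ff, h.v11, asc h.v11,
    h.v22, asc h.v22, h.ss, asc h.ss, h.bb, asc h.bb, h.ww, asc h.ww, h.w22, asc h.w22, h.w2x, asc h.w2x, h.wx,
    asc h.wx, h.v2x, asc h.v2x, h.v1x, asc h.v1x, h.bx, asc h.bx, h.sx, asc h.sx, h.fx, asc h.fx, h.zx,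
    asc h.zx, h.v2w2, asc h.v2w2, h.v1w2, asc h.v1w2, h.bw2, asc h.bw2, h.sw2, asc h.sw2, h.fw2, asc h.fw2,
    h.zw2, asc h.zw2, h.v2w, asc h.v2w, h.v1w, asc h.v1w, h.bw, asc h.bw, h.sw, asc h.sw, h.fw, asc h.fw, h.zw,
    asc h.zw, h.v1v2, asc h.v1v2, h.bv2, asc h.bv2, h.sv2, asc h.sv2, h.fv2, asc h.fv2, h.zv2, asc h.zv2,
    h.bv1, asc h.bv1, h.sv1, asc h.sv1, h.fv1, asc h.fv1, h.zv1, asc h.zv1, h.sb, asc h.sb, h.fb, asc h.fb,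
    h.zb, asc h.zb, h.fs, asc h.fs, h.zs, asc h.zs, h.zf, asc h.zf, M.mw2, asc M.mw2, M.mw, asc M.mw, M.mv2,
    asc M.mv2, M.mv1, asc M.mv1, M.mb, asc M.mb, M.ms, asc M.ms, M.mf, asc M.mf, M.mz, asc M.mz, M.mm,
    asc M.mm, M'.mw2, asc M'.mw2, M'.mw, asc M'.mw, M'.mv2, asc M'.mv2, M'.mv1, asc M'.mv1, M'.mb, asc M'.mb,
    M'.ms, asc M'.ms, M'.mf, asc M'.mf, M'.mz, asc M'.mz, M'.mm, asc M'.mm, M0.mw2, asc M0.mw2, M0.mw,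
    asc M0.mw, M0.mv2, asc M0.mv2, M0.mv1, asc M0.mv1, M0.mb, asc M0.mb, M0.ms, asc M0.ms, M0.mf, asc M0.mf,
    M0.mz, asc M0.mz, M0.mm, asc M0.mm, k.ww2, asc k.ww2, R.zr, asc R.zr, R.fr, asc R.fr, R.v1r, asc R.v1r,
    R.v2r, asc R.v2r, R.sr, asc R.sr, hw, asc hw, hw2, asc hw2, hmr, asc hmr, hm0, asc hm0, hm0', asc hm0',
    hm0r, asc hm0r, hrr, asc hrr]
      · exact ⟨u, Or.inl hu, Or.inl hpu⟩
      · exact ⟨u, Or.inr hu, Or.inl hpu⟩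
      · exfalso
        apply hno v₁ z h.z1
        rw [hpu, hu]
        simp only [mul_assoc, one_mul, mul_one, h.xx, asc h.xx, h.zz, asc h.zz, h.ff, asc h.ff, h.v11, asc h.v11,
    h.v22, asc h.v22, h.ss, asc h.ss, h.bb, asc h.bb, h.ww, asc h.ww, h.w22, asc h.w22, h.w2x, asc h.w2x, h.wx,
    asc h.wx, h.v2x, asc h.v2x, h.v1x, asc h.v1x, h.bx, asc h.bx, h.sx, asc h.sx, h.fx, asc h.fx, h.zx,
    asc h.zx, h.v2w2, asc h.v2w2, h.v1w2, asc h.v1w2, h.bw2, asc h.bw2, h.sw2, asc h.sw2, h.fw2, asc h.fw2,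
    h.zw2, asc h.zw2, h.v2w, asc h.v2w, h.v1w, asc h.v1w, h.bw, asc h.bw, h.sw, asc h.sw, h.fw, asc h.fw, h.zw,
    asc h.zw, h.v1v2, asc h.v1v2, h.bv2, asc h.bv2, h.sv2, asc h.sv2, h.fv2, asc h.fv2, h.zv2, asc h.zv2,
    h.bv1, asc h.bv1, h.sv1, asc h.sv1, h.fv1, asc h.fv1, h.zv1, asc h.zv1, h.sb, asc h.sb, h.fb, asc h.fb,
    h.zb, asc h.zb, h.fs, asc h.fs, h.zs, asc h.zs, h.zf, asc h.zf, M.mw2, asc M.mw2, M.mw, asc M.mw, M.mv2,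
    asc M.mv2, M.mv1, asc M.mv1, M.mb, asc M.mb, M.ms, asc M.ms, M.mf, asc M.mf, M.mz, asc M.mz, M.mm,
    asc M.mm, M'.mw2, asc M'.mw2, M'.mw, asc M'.mw, M'.mv2, asc M'.mv2, M'.mv1, asc M'.mv1, M'.mb, asc M'.mb,
    M'.ms, asc M'.ms, M'.mf, asc M'.mf, M'.mz, asc M'.mz, M'.mm, asc M'.mm, M0.mw2, asc M0.mw2, M0.mw,
    asc M0.mw, M0.mv2, asc M0.mv2, M0.mv1, asc M0.mv1, M0.mb, asc M0.mb, M0.ms, asc M0.ms, M0.mf, asc M0.mf,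
    M0.mz, asc M0.mz, M0.mm, asc M0.mm, k.ww2, asc k.ww2, R.zr, asc R.zr, R.fr, asc R.fr, R.v1r, asc R.v1r,
    R.v2r, asc R.v2r, R.sr, asc R.sr, hw, asc hw, hw2, asc hw2, hmr, asc hmr, hm0, asc hm0, hm0', asc hm0',
    hm0r, asc hm0r, hrr, asc hrr]
    · exfalso
      rcases hu with hu | hu | hu | hu
      · apply hno v₂ (s * z) hsz
        rw [hpu, hu]
        simp only [mul_assoc, one_mul, mul_one, h.xx, asc h.xx, h.zz, asc h.zz, h.ff, asc h.ff, h.v11, asc h.v11,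
    h.v22, asc h.v22, h.ss, asc h.ss, h.bb, asc h.bb, h.ww, asc h.ww, h.w22, asc h.w22, h.w2x, asc h.w2x, h.wx,
    asc h.wx, h.v2x, asc h.v2x, h.v1x, asc h.v1x, h.bx, asc h.bx, h.sx, asc h.sx, h.fx, asc h.fx, h.zx,
    asc h.zx, h.v2w2, asc h.v2w2, h.v1w2, asc h.v1w2, h.bw2, asc h.bw2, h.sw2, asc h.sw2, h.fw2, asc h.fw2,
    h.zw2, asc h.zw2, h.v2w, asc h.v2w, h.v1w, asc h.v1w, h.bw, asc h.bw, h.sw, asc h.sw, h.fw, asc h.fw, h.zw,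
    asc h.zw, h.v1v2, asc h.v1v2, h.bv2, asc h.bv2, h.sv2, asc h.sv2, h.fv2, asc h.fv2, h.zv2, asc h.zv2,
    h.bv1, asc h.bv1, h.sv1, asc h.sv1, h.fv1, asc h.fv1, h.zv1, asc h.zv1, h.sb, asc h.sb, h.fb, asc h.fb,
    h.zb, asc h.zb, h.fs, asc h.fs, h.zs, asc h.zs, h.zf, asc h.zf, M.mw2, asc M.mw2, M.mw, asc M.mw, M.mv2,
    asc M.mv2, M.mv1, asc M.mv1, M.mb, asc M.mb, M.ms, asc M.ms, M.mf, asc M.mf, M.mz, asc M.mz, M.mm,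
    asc M.mm, M'.mw2, asc M'.mw2, M'.mw, asc M'.mw, M'.mv2, asc M'.mv2, M'.mv1, asc M'.mv1, M'.mb, asc M'.mb,
    M'.ms, asc M'.ms, M'.mf, asc M'.mf, M'.mz, asc M'.mz, M'.mm, asc M'.mm, M0.mw2, asc M0.mw2, M0.mw,
    asc M0.mw, M0.mv2, asc M0.mv2, M0.mv1, asc M0.mv1, M0.mb, asc M0.mb, M0.ms, asc M0.ms, M0.mf, asc M0.mf,
    M0.mz, asc M0.mz, M0.mm, asc M0.mm, k.ww2, asc k.ww2, R.zr, asc R.zr, R.fr, asc R.fr, R.v1r, asc R.v1r,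
    R.v2r, asc R.v2r, R.sr, asc R.sr, hw, asc hw, hw2, asc hw2, hmr, asc hmr, hm0, asc hm0, hm0', asc hm0',
    hm0r, asc hm0r, hrr, asc hrr]
      · apply hno v₂ s hs1
        rw [hpu, hu]
        simp only [mul_assoc, one_mul, mul_one, h.xx, asc h.xx, h.zz, asc h.zz, h.ff, asc h.ff, h.v11, asc h.v11,
    h.v22, asc h.v22, h.ss, asc h.ss, h.bb, asc h.bb, h.ww, asc h.ww, h.w22, asc h.w22, h.w2x, asc h.w2x, h.wx,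
    asc h.wx, h.v2x, asc h.v2x, h.v1x, asc h.v1x, h.bx, asc h.bx, h.sx, asc h.sx, h.fx, asc h.fx, h.zx,
    asc h.zx, h.v2w2, asc h.v2w2, h.v1w2, asc h.v1w2, h.bw2, asc h.bw2, h.sw2, asc h.sw2, h.fw2, asc h.fw2,
    h.zw2, asc h.zw2, h.v2w, asc h.v2w, h.v1w, asc h.v1w, h.bw, asc h.bw, h.sw, asc h.sw, h.fw, asc h.fw, h.zw,
    asc h.zw, h.v1v2, asc h.v1v2, h.bv2, asc h.bv2, h.sv2, asc h.sv2, h.fv2, asc h.fv2, h.zv2, asc h.zv2,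
    h.bv1, asc h.bv1, h.sv1, asc h.sv1, h.fv1, asc h.fv1, h.zv1, asc h.zv1, h.sb, asc h.sb, h.fb, asc h.fb,
    h.zb, asc h.zb, h.fs, asc h.fs, h.zs, asc h.zs, h.zf, asc h.zf, M.mw2, asc M.mw2, M.mw, asc M.mw, M.mv2,
    asc M.mv2, M.mv1, asc M.mv1, M.mb, asc M.mb, M.ms, asc M.ms, M.mf, asc M.mf, M.mz, asc M.mz, M.mm,
    asc M.mm, M'.mw2, asc M'.mw2, M'.mw, asc M'.mw, M'.mv2, asc M'.mv2, M'.mv1, asc M'.mv1, M'.mb, asc M'.mb,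
    M'.ms, asc M'.ms, M'.mf, asc M'.mf, M'.mz, asc M'.mz, M'.mm, asc M'.mm, M0.mw2, asc M0.mw2, M0.mw,
    asc M0.mw, M0.mv2, asc M0.mv2, M0.mv1, asc M0.mv1, M0.mb, asc M0.mb, M0.ms, asc M0.ms, M0.mf, asc M0.mf,
    M0.mz, asc M0.mz, M0.mm, asc M0.mm, k.ww2, asc k.ww2, R.zr, asc R.zr, R.fr, asc R.fr, R.v1r, asc R.v1r,
    R.v2r, asc R.v2r, R.sr, asc R.sr, hw, asc hw, hw2, asc hw2, hmr, asc hmr, hm0, asc hm0, hm0', asc hm0',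
    hm0r, asc hm0r, hrr, asc hrr]
      · apply hno v₂ s hs1
        rw [hpu, hu]
        simp only [mul_assoc, one_mul, mul_one, h.xx, asc h.xx, h.zz, asc h.zz, h.ff, asc h.ff, h.v11, asc h.v11,
    h.v22, asc h.v22, h.ss, asc h.ss, h.bb, asc h.bb, h.ww, asc h.ww, h.w22, asc h.w22, h.w2x, asc h.w2x, h.wx,
    asc h.wx, h.v2x, asc h.v2x, h.v1x, asc h.v1x, h.bx, asc h.bx, h.sx, asc h.sx, h.fx, asc h.fx, h.zx,
    asc h.zx, h.v2w2, asc h.v2w2, h.v1w2, asc h.v1w2, h.bw2, asc h.bw2, h.sw2, asc h.sw2, h.fw2, asc h.fw2,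
    h.zw2, asc h.zw2, h.v2w, asc h.v2w, h.v1w, asc h.v1w, h.bw, asc h.bw, h.sw, asc h.sw, h.fw, asc h.fw, h.zw,
    asc h.zw, h.v1v2, asc h.v1v2, h.bv2, asc h.bv2, h.sv2, asc h.sv2, h.fv2, asc h.fv2, h.zv2, asc h.zv2,
    h.bv1, asc h.bv1, h.sv1, asc h.sv1, h.fv1, asc h.fv1, h.zv1, asc h.zv1, h.sb, asc h.sb, h.fb, asc h.fb,
    h.zb, asc h.zb, h.fs, asc h.fs, h.zs, asc h.zs, h.zf, asc h.zf, M.mw2, asc M.mw2, M.mw, asc M.mw, M.mv2,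
    asc M.mv2, M.mv1, asc M.mv1, M.mb, asc M.mb, M.ms, asc M.ms, M.mf, asc M.mf, M.mz, asc M.mz, M.mm,
    asc M.mm, M'.mw2, asc M'.mw2, M'.mw, asc M'.mw, M'.mv2, asc M'.mv2, M'.mv1, asc M'.mv1, M'.mb, asc M'.mb,
    M'.ms, asc M'.ms, M'.mf, asc M'.mf, M'.mz, asc M'.mz, M'.mm, asc M'.mm, M0.mw2, asc M0.mw2, M0.mw,
    asc M0.mw, M0.mv2, asc M0.mv2, M0.mv1, asc M0.mv1, M0.mb, asc M0.mb, M0.ms, asc M0.ms, M0.mf, asc M0.mf,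
    M0.mz, asc M0.mz, M0.mm, asc M0.mm, k.ww2, asc k.ww2, R.zr, asc R.zr, R.fr, asc R.fr, R.v1r, asc R.v1r,
    R.v2r, asc R.v2r, R.sr, asc R.sr, hw, asc hw, hw2, asc hw2, hmr, asc hmr, hm0, asc hm0, hm0', asc hm0',
    hm0r, asc hm0r, hrr, asc hrr]
      · apply hno v₂ (s * z) hsz
        rw [hpu, hu]
        simp only [mul_assoc, one_mul, mul_one, h.xx, asc h.xx, h.zz, asc h.zz, h.ff, asc h.ff, h.v11, asc h.v11,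
    h.v22, asc h.v22, h.ss, asc h.ss, h.bb, asc h.bb, h.ww, asc h.ww, h.w22, asc h.w22, h.w2x, asc h.w2x, h.wx,
    asc h.wx, h.v2x, asc h.v2x, h.v1x, asc h.v1x, h.bx, asc h.bx, h.sx, asc h.sx, h.fx, asc h.fx, h.zx,
    asc h.zx, h.v2w2, asc h.v2w2, h.v1w2, asc h.v1w2, h.bw2, asc h.bw2, h.sw2, asc h.sw2, h.fw2, asc h.fw2,
    h.zw2, asc h.zw2, h.v2w, asc h.v2w, h.v1w, asc h.v1w, h.bw, asc h.bw, h.sw, asc h.sw, h.fw, asc h.fw, h.zw,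
    asc h.zw, h.v1v2, asc h.v1v2, h.bv2, asc h.bv2, h.sv2, asc h.sv2, h.fv2, asc h.fv2, h.zv2, asc h.zv2,
    h.bv1, asc h.bv1, h.sv1, asc h.sv1, h.fv1, asc h.fv1, h.zv1, asc h.zv1, h.sb, asc h.sb, h.fb, asc h.fb,
    h.zb, asc h.zb, h.fs, asc h.fs, h.zs, asc h.zs, h.zf, asc h.zf, M.mw2, asc M.mw2, M.mw, asc M.mw, M.mv2,
    asc M.mv2, M.mv1, asc M.mv1, M.mb, asc M.mb, M.ms, asc M.ms, M.mf, asc M.mf, M.mz, asc M.mz, M.mm,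
    asc M.mm, M'.mw2, asc M'.mw2, M'.mw, asc M'.mw, M'.mv2, asc M'.mv2, M'.mv1, asc M'.mv1, M'.mb, asc M'.mb,
    M'.ms, asc M'.ms, M'.mf, asc M'.mf, M'.mz, asc M'.mz, M'.mm, asc M'.mm, M0.mw2, asc M0.mw2, M0.mw,
    asc M0.mw, M0.mv2, asc M0.mv2, M0.mv1, asc M0.mv1, M0.mb, asc M0.mb, M0.ms, asc M0.ms, M0.mf, asc M0.mf,
    M0.mz, asc M0.mz, M0.mm, asc M0.mm, k.ww2, asc k.ww2, R.zr, asc R.zr, R.fr, asc R.fr, R.v1r, asc R.v1r,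
    R.v2r, asc R.v2r, R.sr, asc R.sr, hw, asc hw, hw2, asc hw2, hmr, asc hmr, hm0, asc hm0, hm0', asc hm0',
    hm0r, asc hm0r, hrr, asc hrr]
    · exfalso
      rcases hu with hu | hu | hu | hu
      · apply hno v₂ (s * z) hsz
        rw [hpu, hu]
        simp only [mul_assoc, one_mul, mul_one, h.xx, asc h.xx, h.zz, asc h.zz, h.ff, asc h.ff, h.v11, asc h.v11,
    h.v22, asc h.v22, h.ss, asc h.ss, h.bb, asc h.bb, h.ww, asc h.ww, h.w22, asc h.w22, h.w2x, asc h.w2x, h.wx,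
    asc h.wx, h.v2x, asc h.v2x, h.v1x, asc h.v1x, h.bx, asc h.bx, h.sx, asc h.sx, h.fx, asc h.fx, h.zx,
    asc h.zx, h.v2w2, asc h.v2w2, h.v1w2, asc h.v1w2, h.bw2, asc h.bw2, h.sw2, asc h.sw2, h.fw2, asc h.fw2,
    h.zw2, asc h.zw2, h.v2w, asc h.v2w, h.v1w, asc h.v1w, h.bw, asc h.bw, h.sw, asc h.sw, h.fw, asc h.fw, h.zw,
    asc h.zw, h.v1v2, asc h.v1v2, h.bv2, asc h.bv2, h.sv2, asc h.sv2, h.fv2, asc h.fv2, h.zv2, asc h.zv2,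
    h.bv1, asc h.bv1, h.sv1, asc h.sv1, h.fv1, asc h.fv1, h.zv1, asc h.zv1, h.sb, asc h.sb, h.fb, asc h.fb,
    h.zb, asc h.zb, h.fs, asc h.fs, h.zs, asc h.zs, h.zf, asc h.zf, M.mw2, asc M.mw2, M.mw, asc M.mw, M.mv2,
    asc M.mv2, M.mv1, asc M.mv1, M.mb, asc M.mb, M.ms, asc M.ms, M.mf, asc M.mf, M.mz, asc M.mz, M.mm,
    asc M.mm, M'.mw2, asc M'.mw2, M'.mw, asc M'.mw, M'.mv2, asc M'.mv2, M'.mv1, asc M'.mv1, M'.mb, asc M'.mb,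
    M'.ms, asc M'.ms, M'.mf, asc M'.mf, M'.mz, asc M'.mz, M'.mm, asc M'.mm, M0.mw2, asc M0.mw2, M0.mw,
    asc M0.mw, M0.mv2, asc M0.mv2, M0.mv1, asc M0.mv1, M0.mb, asc M0.mb, M0.ms, asc M0.ms, M0.mf, asc M0.mf,
    M0.mz, asc M0.mz, M0.mm, asc M0.mm, k.ww2, asc k.ww2, R.zr, asc R.zr, R.fr, asc R.fr, R.v1r, asc R.v1r,
    R.v2r, asc R.v2r, R.sr, asc R.sr, hw, asc hw, hw2, asc hw2, hmr, asc hmr, hm0, asc hm0, hm0', asc hm0',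
    hm0r, asc hm0r, hrr, asc hrr]
      · apply hno v₂ s hs1
        rw [hpu, hu]
        simp only [mul_assoc, one_mul, mul_one, h.xx, asc h.xx, h.zz, asc h.zz, h.ff, asc h.ff, h.v11, asc h.v11,
    h.v22, asc h.v22, h.ss, asc h.ss, h.bb, asc h.bb, h.ww, asc h.ww, h.w22, asc h.w22, h.w2x, asc h.w2x, h.wx,
    asc h.wx, h.v2x, asc h.v2x, h.v1x, asc h.v1x, h.bx, asc h.bx, h.sx, asc h.sx, h.fx, asc h.fx, h.zx,
    asc h.zx, h.v2w2, asc h.v2w2, h.v1w2, asc h.v1w2, h.bw2, asc h.bw2, h.sw2, asc h.sw2, h.fw2, asc h.fw2,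
    h.zw2, asc h.zw2, h.v2w, asc h.v2w, h.v1w, asc h.v1w, h.bw, asc h.bw, h.sw, asc h.sw, h.fw, asc h.fw, h.zw,
    asc h.zw, h.v1v2, asc h.v1v2, h.bv2, asc h.bv2, h.sv2, asc h.sv2, h.fv2, asc h.fv2, h.zv2, asc h.zv2,
    h.bv1, asc h.bv1, h.sv1, asc h.sv1, h.fv1, asc h.fv1, h.zv1, asc h.zv1, h.sb, asc h.sb, h.fb, asc h.fb,
    h.zb, asc h.zb, h.fs, asc h.fs, h.zs, asc h.zs, h.zf, asc h.zf, M.mw2, asc M.mw2, M.mw, asc M.mw, M.mv2,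
    asc M.mv2, M.mv1, asc M.mv1, M.mb, asc M.mb, M.ms, asc M.ms, M.mf, asc M.mf, M.mz, asc M.mz, M.mm,
    asc M.mm, M'.mw2, asc M'.mw2, M'.mw, asc M'.mw, M'.mv2, asc M'.mv2, M'.mv1, asc M'.mv1, M'.mb, asc M'.mb,
    M'.ms, asc M'.ms, M'.mf, asc M'.mf, M'.mz, asc M'.mz, M'.mm, asc M'.mm, M0.mw2, asc M0.mw2, M0.mw,
    asc M0.mw, M0.mv2, asc M0.mv2, M0.mv1, asc M0.mv1, M0.mb, asc M0.mb, M0.ms, asc M0.ms, M0.mf, asc M0.mf,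
    M0.mz, asc M0.mz, M0.mm, asc M0.mm, k.ww2, asc k.ww2, R.zr, asc R.zr, R.fr, asc R.fr, R.v1r, asc R.v1r,
    R.v2r, asc R.v2r, R.sr, asc R.sr, hw, asc hw, hw2, asc hw2, hmr, asc hmr, hm0, asc hm0, hm0', asc hm0',
    hm0r, asc hm0r, hrr, asc hrr]
      · apply hno v₂ s hs1
        rw [hpu, hu]
        simp only [mul_assoc, one_mul, mul_one, h.xx, asc h.xx, h.zz, asc h.zz, h.ff, asc h.ff, h.v11, asc h.v11,
    h.v22, asc h.v22, h.ss, asc h.ss, h.bb, asc h.bb, h.ww, asc h.ww, h.w22, asc h.w22, h.w2x, asc h.w2x, h.wx,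
    asc h.wx, h.v2x, asc h.v2x, h.v1x, asc h.v1x, h.bx, asc h.bx, h.sx, asc h.sx, h.fx, asc h.fx, h.zx,
    asc h.zx, h.v2w2, asc h.v2w2, h.v1w2, asc h.v1w2, h.bw2, asc h.bw2, h.sw2, asc h.sw2, h.fw2, asc h.fw2,
    h.zw2, asc h.zw2, h.v2w, asc h.v2w, h.v1w, asc h.v1w, h.bw, asc h.bw, h.sw, asc h.sw, h.fw, asc h.fw, h.zw,
    asc h.zw, h.v1v2, asc h.v1v2, h.bv2, asc h.bv2, h.sv2, asc h.sv2, h.fv2, asc h.fv2, h.zv2, asc h.zv2,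
    h.bv1, asc h.bv1, h.sv1, asc h.sv1, h.fv1, asc h.fv1, h.zv1, asc h.zv1, h.sb, asc h.sb, h.fb, asc h.fb,
    h.zb, asc h.zb, h.fs, asc h.fs, h.zs, asc h.zs, h.zf, asc h.zf, M.mw2, asc M.mw2, M.mw, asc M.mw, M.mv2,
    asc M.mv2, M.mv1, asc M.mv1, M.mb, asc M.mb, M.ms, asc M.ms, M.mf, asc M.mf, M.mz, asc M.mz, M.mm,
    asc M.mm, M'.mw2, asc M'.mw2, M'.mw, asc M'.mw, M'.mv2, asc M'.mv2, M'.mv1, asc M'.mv1, M'.mb, asc M'.mb,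
    M'.ms, asc M'.ms, M'.mf, asc M'.mf, M'.mz, asc M'.mz, M'.mm, asc M'.mm, M0.mw2, asc M0.mw2, M0.mw,
    asc M0.mw, M0.mv2, asc M0.mv2, M0.mv1, asc M0.mv1, M0.mb, asc M0.mb, M0.ms, asc M0.ms, M0.mf, asc M0.mf,
    M0.mz, asc M0.mz, M0.mm, asc M0.mm, k.ww2, asc k.ww2, R.zr, asc R.zr, R.fr, asc R.fr, R.v1r, asc R.v1r,
    R.v2r, asc R.v2r, R.sr, asc R.sr, hw, asc hw, hw2, asc hw2, hmr, asc hmr, hm0, asc hm0, hm0', asc hm0',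
    hm0r, asc hm0r, hrr, asc hrr]
      · apply hno v₂ (s * z) hsz
        rw [hpu, hu]
        simp only [mul_assoc, one_mul, mul_one, h.xx, asc h.xx, h.zz, asc h.zz, h.ff, asc h.ff, h.v11, asc h.v11,
    h.v22, asc h.v22, h.ss, asc h.ss, h.bb, asc h.bb, h.ww, asc h.ww, h.w22, asc h.w22, h.w2x, asc h.w2x, h.wx,
    asc h.wx, h.v2x, asc h.v2x, h.v1x, asc h.v1x, h.bx, asc h.bx, h.sx, asc h.sx, h.fx, asc h.fx, h.zx,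
    asc h.zx, h.v2w2, asc h.v2w2, h.v1w2, asc h.v1w2, h.bw2, asc h.bw2, h.sw2, asc h.sw2, h.fw2, asc h.fw2,
    h.zw2, asc h.zw2, h.v2w, asc h.v2w, h.v1w, asc h.v1w, h.bw, asc h.bw, h.sw, asc h.sw, h.fw, asc h.fw, h.zw,
    asc h.zw, h.v1v2, asc h.v1v2, h.bv2, asc h.bv2, h.sv2, asc h.sv2, h.fv2, asc h.fv2, h.zv2, asc h.zv2,
    h.bv1, asc h.bv1, h.sv1, asc h.sv1, h.fv1, asc h.fv1, h.zv1, asc h.zv1, h.sb, asc h.sb, h.fb, asc h.fb,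
    h.zb, asc h.zb, h.fs, asc h.fs, h.zs, asc h.zs, h.zf, asc h.zf, M.mw2, asc M.mw2, M.mw, asc M.mw, M.mv2,
    asc M.mv2, M.mv1, asc M.mv1, M.mb, asc M.mb, M.ms, asc M.ms, M.mf, asc M.mf, M.mz, asc M.mz, M.mm,
    asc M.mm, M'.mw2, asc M'.mw2, M'.mw, asc M'.mw, M'.mv2, asc M'.mv2, M'.mv1, asc M'.mv1, M'.mb, asc M'.mb,
    M'.ms, asc M'.ms, M'.mf, asc M'.mf, M'.mz, asc M'.mz, M'.mm, asc M'.mm, M0.mw2, asc M0.mw2, M0.mw,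
    asc M0.mw, M0.mv2, asc M0.mv2, M0.mv1, asc M0.mv1, M0.mb, asc M0.mb, M0.ms, asc M0.ms, M0.mf, asc M0.mf,
    M0.mz, asc M0.mz, M0.mm, asc M0.mm, k.ww2, asc k.ww2, R.zr, asc R.zr, R.fr, asc R.fr, R.v1r, asc R.v1r,
    R.v2r, asc R.v2r, R.sr, asc R.sr, hw, asc hw, hw2, asc hw2, hmr, asc hmr, hm0, asc hm0, hm0', asc hm0',
    hm0r, asc hm0r, hrr, asc hrr]
    · rcases hu with hu | hu | hu | hu
      · exfalso
        apply hno v₁ z h.z1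
        rw [hpu, hu]
        simp only [mul_assoc, one_mul, mul_one, h.xx, asc h.xx, h.zz, asc h.zz, h.ff, asc h.ff, h.v11, asc h.v11,
    h.v22, asc h.v22, h.ss, asc h.ss, h.bb, asc h.bb, h.ww, asc h.ww, h.w22, asc h.w22, h.w2x, asc h.w2x, h.wx,
    asc h.wx, h.v2x, asc h.v2x, h.v1x, asc h.v1x, h.bx, asc h.bx, h.sx, asc h.sx, h.fx, asc h.fx, h.zx,
    asc h.zx, h.v2w2, asc h.v2w2, h.v1w2, asc h.v1w2, h.bw2, asc h.bw2, h.sw2, asc h.sw2, h.fw2, asc h.fw2,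
    h.zw2, asc h.zw2, h.v2w, asc h.v2w, h.v1w, asc h.v1w, h.bw, asc h.bw, h.sw, asc h.sw, h.fw, asc h.fw, h.zw,
    asc h.zw, h.v1v2, asc h.v1v2, h.bv2, asc h.bv2, h.sv2, asc h.sv2, h.fv2, asc h.fv2, h.zv2, asc h.zv2,
    h.bv1, asc h.bv1, h.sv1, asc h.sv1, h.fv1, asc h.fv1, h.zv1, asc h.zv1, h.sb, asc h.sb, h.fb, asc h.fb,
    h.zb, asc h.zb, h.fs, asc h.fs, h.zs, asc h.zs, h.zf, asc h.zf, M.mw2, asc M.mw2, M.mw, asc M.mw, M.mv2,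
    asc M.mv2, M.mv1, asc M.mv1, M.mb, asc M.mb, M.ms, asc M.ms, M.mf, asc M.mf, M.mz, asc M.mz, M.mm,
    asc M.mm, M'.mw2, asc M'.mw2, M'.mw, asc M'.mw, M'.mv2, asc M'.mv2, M'.mv1, asc M'.mv1, M'.mb, asc M'.mb,
    M'.ms, asc M'.ms, M'.mf, asc M'.mf, M'.mz, asc M'.mz, M'.mm, asc M'.mm, M0.mw2, asc M0.mw2, M0.mw,
    asc M0.mw, M0.mv2, asc M0.mv2, M0.mv1, asc M0.mv1, M0.mb, asc M0.mb, M0.ms, asc M0.ms, M0.mf, asc M0.mf,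
    M0.mz, asc M0.mz, M0.mm, asc M0.mm, k.ww2, asc k.ww2, R.zr, asc R.zr, R.fr, asc R.fr, R.v1r, asc R.v1r,
    R.v2r, asc R.v2r, R.sr, asc R.sr, hw, asc hw, hw2, asc hw2, hmr, asc hmr, hm0, asc hm0, hm0', asc hm0',
    hm0r, asc hm0r, hrr, asc hrr]
      · exact ⟨u, Or.inl hu, Or.inr hpu⟩
      · exact ⟨u, Or.inr hu, Or.inr hpu⟩
      · exfalso
        apply hno v₁ z h.z1
        rw [hpu, hu]
        simp only [mul_assoc, one_mul, mul_one, h.xx, asc h.xx, h.zz, asc h.zz, h.ff, asc h.ff, h.v11, asc h.v11,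
    h.v22, asc h.v22, h.ss, asc h.ss, h.bb, asc h.bb, h.ww, asc h.ww, h.w22, asc h.w22, h.w2x, asc h.w2x, h.wx,
    asc h.wx, h.v2x, asc h.v2x, h.v1x, asc h.v1x, h.bx, asc h.bx, h.sx, asc h.sx, h.fx, asc h.fx, h.zx,
    asc h.zx, h.v2w2, asc h.v2w2, h.v1w2, asc h.v1w2, h.bw2, asc h.bw2, h.sw2, asc h.sw2, h.fw2, asc h.fw2,
    h.zw2, asc h.zw2, h.v2w, asc h.v2w, h.v1w, asc h.v1w, h.bw, asc h.bw, h.sw, asc h.sw, h.fw, asc h.fw, h.zw,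
    asc h.zw, h.v1v2, asc h.v1v2, h.bv2, asc h.bv2, h.sv2, asc h.sv2, h.fv2, asc h.fv2, h.zv2, asc h.zv2,
    h.bv1, asc h.bv1, h.sv1, asc h.sv1, h.fv1, asc h.fv1, h.zv1, asc h.zv1, h.sb, asc h.sb, h.fb, asc h.fb,
    h.zb, asc h.zb, h.fs, asc h.fs, h.zs, asc h.zs, h.zf, asc h.zf, M.mw2, asc M.mw2, M.mw, asc M.mw, M.mv2,
    asc M.mv2, M.mv1, asc M.mv1, M.mb, asc M.mb, M.ms, asc M.ms, M.mf, asc M.mf, M.mz, asc M.mz, M.mm,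
    asc M.mm, M'.mw2, asc M'.mw2, M'.mw, asc M'.mw, M'.mv2, asc M'.mv2, M'.mv1, asc M'.mv1, M'.mb, asc M'.mb,
    M'.ms, asc M'.ms, M'.mf, asc M'.mf, M'.mz, asc M'.mz, M'.mm, asc M'.mm, M0.mw2, asc M0.mw2, M0.mw,
    asc M0.mw, M0.mv2, asc M0.mv2, M0.mv1, asc M0.mv1, M0.mb, asc M0.mb, M0.ms, asc M0.ms, M0.mf, asc M0.mf,
    M0.mz, asc M0.mz, M0.mm, asc M0.mm, k.ww2, asc k.ww2, R.zr, asc R.zr, R.fr, asc R.fr, R.v1r, asc R.v1r,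
    R.v2r, asc R.v2r, R.sr, asc R.sr, hw, asc hw, hw2, asc hw2, hmr, asc hmr, hm0, asc hm0, hm0', asc hm0',
    hm0r, asc hm0r, hrr, asc hrr]
  obtain ⟨u', hu', hpu'⟩ := main
  have hgL : g ∈ h.L := by
    rcases hg with hg | hg <;> rw [hg]
    · exact one_mem _
    · exact h.zL
  have Mg := h.mr hgL
  have hgm : m * g = g * m := k.comm_LL hm hgL
  have hgm' : m' * g = g * m' := k.comm_LL hm' hgL
  have hgr : g * r = r * g := by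
    rcases hg with hg | hg <;> rw [hg]
    · rw [one_mul, mul_one]
    · exact R.zr
  refine ⟨v₁ * (v₂ * f), mul_mem k.v1m (mul_mem k.v2m (k.Lm h.fL)), ?_⟩
  have hsqe : v₁ * (v₂ * f) * (v₁ * (v₂ * f)) = z := by
    simp only [mul_assoc, one_mul, mul_one, h.xx, asc h.xx, h.zz, asc h.zz, h.ff, asc h.ff, h.v11, asc h.v11,
    h.v22, asc h.v22, h.ss, asc h.ss, h.bb, asc h.bb, h.ww, asc h.ww, h.w22, asc h.w22, h.w2x, asc h.w2x, h.wx,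
    asc h.wx, h.v2x, asc h.v2x, h.v1x, asc h.v1x, h.bx, asc h.bx, h.sx, asc h.sx, h.fx, asc h.fx, h.zx,
    asc h.zx, h.v2w2, asc h.v2w2, h.v1w2, asc h.v1w2, h.bw2, asc h.bw2, h.sw2, asc h.sw2, h.fw2, asc h.fw2,
    h.zw2, asc h.zw2, h.v2w, asc h.v2w, h.v1w, asc h.v1w, h.bw, asc h.bw, h.sw, asc h.sw, h.fw, asc h.fw, h.zw,
    asc h.zw, h.v1v2, asc h.v1v2, h.bv2, asc h.bv2, h.sv2, asc h.sv2, h.fv2, asc h.fv2, h.zv2, asc h.zv2,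
    h.bv1, asc h.bv1, h.sv1, asc h.sv1, h.fv1, asc h.fv1, h.zv1, asc h.zv1, h.sb, asc h.sb, h.fb, asc h.fb,
    h.zb, asc h.zb, h.fs, asc h.fs, h.zs, asc h.zs, h.zf, asc h.zf]
  have hc1 : v₁ * (v₂ * f) * (r * p) = r * p * (v₁ * (v₂ * f)) := by
    rcases hu' with hu' | hu' <;> rcases hpu' with hpu' | hpu' <;> rw [hpu', hu'] <;>
      simp only [mul_assoc, one_mul, mul_one, h.xx, asc h.xx, h.zz, asc h.zz, h.ff, asc h.ff, h.v11, asc h.v11,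
    h.v22, asc h.v22, h.ss, asc h.ss, h.bb, asc h.bb, h.ww, asc h.ww, h.w22, asc h.w22, h.w2x, asc h.w2x, h.wx,
    asc h.wx, h.v2x, asc h.v2x, h.v1x, asc h.v1x, h.bx, asc h.bx, h.sx, asc h.sx, h.fx, asc h.fx, h.zx,
    asc h.zx, h.v2w2, asc h.v2w2, h.v1w2, asc h.v1w2, h.bw2, asc h.bw2, h.sw2, asc h.sw2, h.fw2, asc h.fw2,
    h.zw2, asc h.zw2, h.v2w, asc h.v2w, h.v1w, asc h.v1w, h.bw, asc h.bw, h.sw, asc h.sw, h.fw, asc h.fw, h.zw,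
    asc h.zw, h.v1v2, asc h.v1v2, h.bv2, asc h.bv2, h.sv2, asc h.sv2, h.fv2, asc h.fv2, h.zv2, asc h.zv2,
    h.bv1, asc h.bv1, h.sv1, asc h.sv1, h.fv1, asc h.fv1, h.zv1, asc h.zv1, h.sb, asc h.sb, h.fb, asc h.fb,
    h.zb, asc h.zb, h.fs, asc h.fs, h.zs, asc h.zs, h.zf, asc h.zf, M.mw2, asc M.mw2, M.mw, asc M.mw, M.mv2,
    asc M.mv2, M.mv1, asc M.mv1, M.mb, asc M.mb, M.ms, asc M.ms, M.mf, asc M.mf, M.mz, asc M.mz, M.mm,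
    asc M.mm, M'.mw2, asc M'.mw2, M'.mw, asc M'.mw, M'.mv2, asc M'.mv2, M'.mv1, asc M'.mv1, M'.mb, asc M'.mb,
    M'.ms, asc M'.ms, M'.mf, asc M'.mf, M'.mz, asc M'.mz, M'.mm, asc M'.mm, M0.mw2, asc M0.mw2, M0.mw,
    asc M0.mw, M0.mv2, asc M0.mv2, M0.mv1, asc M0.mv1, M0.mb, asc M0.mb, M0.ms, asc M0.ms, M0.mf, asc M0.mf,
    M0.mz, asc M0.mz, M0.mm, asc M0.mm, k.ww2, asc k.ww2, R.zr, asc R.zr, R.fr, asc R.fr, R.v1r, asc R.v1r,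
    R.v2r, asc R.v2r, R.sr, asc R.sr, hw, asc hw, hw2, asc hw2, hmr, asc hmr, hm0, asc hm0, hm0', asc hm0',
    hm0r, asc hm0r, hrr, asc hrr]
  have hm0g : m₀ = s * g ∨ m₀ = s * (g * z) := by
    rcases hm0s with e | e <;> rcases hg with hg | hg <;> rw [e, hg]
    · left; rw [mul_one]
    · right; rw [h.zz, mul_one]
    · right; rw [one_mul]
    · left; rfl
  rcases hm0g with e0 | e0
  · have hww : w * w₂ = w₂ * (w * (s * g)) := by rw [← e0]; exact k.ww2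
    refine ⟨w * (w₂ * b), mul_mem k.wm (mul_mem k.w2m (k.Lm h.bL)), hc1, ?_, hsqe, ?_⟩
    · rcases hu' with hu' | hu' <;> rcases hpu' with hpu' | hpu' <;> rw [hpu', hu'] <;>
        simp only [mul_assoc, one_mul, mul_one, h.xx, asc h.xx, h.zz, asc h.zz, h.ff, asc h.ff, h.v11, asc h.v11,
    h.v22, asc h.v22, h.ss, asc h.ss, h.bb, asc h.bb, h.ww, asc h.ww, h.w22, asc h.w22, h.w2x, asc h.w2x, h.wx,
    asc h.wx, h.v2x, asc h.v2x, h.v1x, asc h.v1x, h.bx, asc h.bx, h.sx, asc h.sx, h.fx, asc h.fx, h.zx,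
    asc h.zx, h.v2w2, asc h.v2w2, h.v1w2, asc h.v1w2, h.bw2, asc h.bw2, h.sw2, asc h.sw2, h.fw2, asc h.fw2,
    h.zw2, asc h.zw2, h.v2w, asc h.v2w, h.v1w, asc h.v1w, h.bw, asc h.bw, h.sw, asc h.sw, h.fw, asc h.fw, h.zw,
    asc h.zw, h.v1v2, asc h.v1v2, h.bv2, asc h.bv2, h.sv2, asc h.sv2, h.fv2, asc h.fv2, h.zv2, asc h.zv2,
    h.bv1, asc h.bv1, h.sv1, asc h.sv1, h.fv1, asc h.fv1, h.zv1, asc h.zv1, h.sb, asc h.sb, h.fb, asc h.fb,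
    h.zb, asc h.zb, h.fs, asc h.fs, h.zs, asc h.zs, h.zf, asc h.zf, M.mw2, asc M.mw2, M.mw, asc M.mw, M.mv2,
    asc M.mv2, M.mv1, asc M.mv1, M.mb, asc M.mb, M.ms, asc M.ms, M.mf, asc M.mf, M.mz, asc M.mz, M.mm,
    asc M.mm, M'.mw2, asc M'.mw2, M'.mw, asc M'.mw, M'.mv2, asc M'.mv2, M'.mv1, asc M'.mv1, M'.mb, asc M'.mb,
    M'.ms, asc M'.ms, M'.mf, asc M'.mf, M'.mz, asc M'.mz, M'.mm, asc M'.mm, Mg.mw2, asc Mg.mw2, Mg.mw,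
    asc Mg.mw, Mg.mv2, asc Mg.mv2, Mg.mv1, asc Mg.mv1, Mg.mb, asc Mg.mb, Mg.ms, asc Mg.ms, Mg.mf, asc Mg.mf,
    Mg.mz, asc Mg.mz, Mg.mm, asc Mg.mm, hww, asc hww, R.zr, asc R.zr, R.fr, asc R.fr, R.v1r, asc R.v1r, R.v2r,
    asc R.v2r, R.sr, asc R.sr, R.br, asc R.br, hw, asc hw, hw2, asc hw2, hmr, asc hmr, hgm, asc hgm, hgm',
    asc hgm', hgr, asc hgr]
    · rw [e0]
      simp only [mul_assoc, one_mul, mul_one, h.xx, asc h.xx, h.zz, asc h.zz, h.ff, asc h.ff, h.v11, asc h.v11,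
    h.v22, asc h.v22, h.ss, asc h.ss, h.bb, asc h.bb, h.ww, asc h.ww, h.w22, asc h.w22, h.w2x, asc h.w2x, h.wx,
    asc h.wx, h.v2x, asc h.v2x, h.v1x, asc h.v1x, h.bx, asc h.bx, h.sx, asc h.sx, h.fx, asc h.fx, h.zx,
    asc h.zx, h.v2w2, asc h.v2w2, h.v1w2, asc h.v1w2, h.bw2, asc h.bw2, h.sw2, asc h.sw2, h.fw2, asc h.fw2,
    h.zw2, asc h.zw2, h.v2w, asc h.v2w, h.v1w, asc h.v1w, h.bw, asc h.bw, h.sw, asc h.sw, h.fw, asc h.fw, h.zw,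
    asc h.zw, h.v1v2, asc h.v1v2, h.bv2, asc h.bv2, h.sv2, asc h.sv2, h.fv2, asc h.fv2, h.zv2, asc h.zv2,
    h.bv1, asc h.bv1, h.sv1, asc h.sv1, h.fv1, asc h.fv1, h.zv1, asc h.zv1, h.sb, asc h.sb, h.fb, asc h.fb,
    h.zb, asc h.zb, h.fs, asc h.fs, h.zs, asc h.zs, h.zf, asc h.zf, M.mw2, asc M.mw2, M.mw, asc M.mw, M.mv2,
    asc M.mv2, M.mv1, asc M.mv1, M.mb, asc M.mb, M.ms, asc M.ms, M.mf, asc M.mf, M.mz, asc M.mz, M.mm,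
    asc M.mm, M'.mw2, asc M'.mw2, M'.mw, asc M'.mw, M'.mv2, asc M'.mv2, M'.mv1, asc M'.mv1, M'.mb, asc M'.mb,
    M'.ms, asc M'.ms, M'.mf, asc M'.mf, M'.mz, asc M'.mz, M'.mm, asc M'.mm, Mg.mw2, asc Mg.mw2, Mg.mw,
    asc Mg.mw, Mg.mv2, asc Mg.mv2, Mg.mv1, asc Mg.mv1, Mg.mb, asc Mg.mb, Mg.ms, asc Mg.ms, Mg.mf, asc Mg.mf,
    Mg.mz, asc Mg.mz, Mg.mm, asc Mg.mm, hww, asc hww, R.zr, asc R.zr, R.fr, asc R.fr, R.v1r, asc R.v1r, R.v2r,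
    asc R.v2r, R.sr, asc R.sr, R.br, asc R.br, hw, asc hw, hw2, asc hw2, hmr, asc hmr, hgm, asc hgm, hgm',
    asc hgm', hgr, asc hgr]
  · have hww : w * w₂ = w₂ * (w * (s * (g * z))) := by rw [← e0]; exact k.ww2
    refine ⟨w * (w₂ * (b * f)), mul_mem k.wm (mul_mem k.w2m (k.Lm (mul_mem h.bL h.fL))), hc1, ?_, hsqe, ?_⟩
    · rcases hu' with hu' | hu' <;> rcases hpu' with hpu' | hpu' <;> rw [hpu', hu'] <;>
        simp only [mul_assoc, one_mul, mul_one, h.xx, asc h.xx, h.zz, asc h.zz, h.ff, asc h.ff, h.v11, asc h.v11,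
    h.v22, asc h.v22, h.ss, asc h.ss, h.bb, asc h.bb, h.ww, asc h.ww, h.w22, asc h.w22, h.w2x, asc h.w2x, h.wx,
    asc h.wx, h.v2x, asc h.v2x, h.v1x, asc h.v1x, h.bx, asc h.bx, h.sx, asc h.sx, h.fx, asc h.fx, h.zx,
    asc h.zx, h.v2w2, asc h.v2w2, h.v1w2, asc h.v1w2, h.bw2, asc h.bw2, h.sw2, asc h.sw2, h.fw2, asc h.fw2,
    h.zw2, asc h.zw2, h.v2w, asc h.v2w, h.v1w, asc h.v1w, h.bw, asc h.bw, h.sw, asc h.sw, h.fw, asc h.fw, h.zw,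
    asc h.zw, h.v1v2, asc h.v1v2, h.bv2, asc h.bv2, h.sv2, asc h.sv2, h.fv2, asc h.fv2, h.zv2, asc h.zv2,
    h.bv1, asc h.bv1, h.sv1, asc h.sv1, h.fv1, asc h.fv1, h.zv1, asc h.zv1, h.sb, asc h.sb, h.fb, asc h.fb,
    h.zb, asc h.zb, h.fs, asc h.fs, h.zs, asc h.zs, h.zf, asc h.zf, M.mw2, asc M.mw2, M.mw, asc M.mw, M.mv2,
    asc M.mv2, M.mv1, asc M.mv1, M.mb, asc M.mb, M.ms, asc M.ms, M.mf, asc M.mf, M.mz, asc M.mz, M.mm,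
    asc M.mm, M'.mw2, asc M'.mw2, M'.mw, asc M'.mw, M'.mv2, asc M'.mv2, M'.mv1, asc M'.mv1, M'.mb, asc M'.mb,
    M'.ms, asc M'.ms, M'.mf, asc M'.mf, M'.mz, asc M'.mz, M'.mm, asc M'.mm, Mg.mw2, asc Mg.mw2, Mg.mw,
    asc Mg.mw, Mg.mv2, asc Mg.mv2, Mg.mv1, asc Mg.mv1, Mg.mb, asc Mg.mb, Mg.ms, asc Mg.ms, Mg.mf, asc Mg.mf,
    Mg.mz, asc Mg.mz, Mg.mm, asc Mg.mm, hww, asc hww, R.zr, asc R.zr, R.fr, asc R.fr, R.v1r, asc R.v1r, R.v2r,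
    asc R.v2r, R.sr, asc R.sr, R.br, asc R.br, hw, asc hw, hw2, asc hw2, hmr, asc hmr, hgm, asc hgm, hgm',
    asc hgm', hgr, asc hgr]
    · rw [e0]
      simp only [mul_assoc, one_mul, mul_one, h.xx, asc h.xx, h.zz, asc h.zz, h.ff, asc h.ff, h.v11, asc h.v11,
    h.v22, asc h.v22, h.ss, asc h.ss, h.bb, asc h.bb, h.ww, asc h.ww, h.w22, asc h.w22, h.w2x, asc h.w2x, h.wx,
    asc h.wx, h.v2x, asc h.v2x, h.v1x, asc h.v1x, h.bx, asc h.bx, h.sx, asc h.sx, h.fx, asc h.fx, h.zx,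
    asc h.zx, h.v2w2, asc h.v2w2, h.v1w2, asc h.v1w2, h.bw2, asc h.bw2, h.sw2, asc h.sw2, h.fw2, asc h.fw2,
    h.zw2, asc h.zw2, h.v2w, asc h.v2w, h.v1w, asc h.v1w, h.bw, asc h.bw, h.sw, asc h.sw, h.fw, asc h.fw, h.zw,
    asc h.zw, h.v1v2, asc h.v1v2, h.bv2, asc h.bv2, h.sv2, asc h.sv2, h.fv2, asc h.fv2, h.zv2, asc h.zv2,
    h.bv1, asc h.bv1, h.sv1, asc h.sv1, h.fv1, asc h.fv1, h.zv1, asc h.zv1, h.sb, asc h.sb, h.fb, asc h.fb,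
    h.zb, asc h.zb, h.fs, asc h.fs, h.zs, asc h.zs, h.zf, asc h.zf, M.mw2, asc M.mw2, M.mw, asc M.mw, M.mv2,
    asc M.mv2, M.mv1, asc M.mv1, M.mb, asc M.mb, M.ms, asc M.ms, M.mf, asc M.mf, M.mz, asc M.mz, M.mm,
    asc M.mm, M'.mw2, asc M'.mw2, M'.mw, asc M'.mw, M'.mv2, asc M'.mv2, M'.mv1, asc M'.mv1, M'.mb, asc M'.mb,
    M'.ms, asc M'.ms, M'.mf, asc M'.mf, M'.mz, asc M'.mz, M'.mm, asc M'.mm, Mg.mw2, asc Mg.mw2, Mg.mw,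
    asc Mg.mw, Mg.mv2, asc Mg.mv2, Mg.mv1, asc Mg.mv1, Mg.mb, asc Mg.mb, Mg.ms, asc Mg.ms, Mg.mf, asc Mg.mf,
    Mg.mz, asc Mg.mz, Mg.mm, asc Mg.mm, hww, asc hww, R.zr, asc R.zr, R.fr, asc R.fr, R.v1r, asc R.v1r, R.v2r,
    asc R.v2r, R.sr, asc R.sr, R.br, asc R.br, hw, asc hw, hw2, asc hw2, hmr, asc hmr, hgm, asc hgm, hgm',
    asc hgm', hgr, asc hgr]

end B2

end Cfsg.Agent.OddHalf.D5.SixAut.Zero
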